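import Groth.Agent.L17.SpecQCoh
import Groth.Agent.L21.Mod.Locality
import Groth.Agent.L00.LocalData

/-!
Quasi-coherent modules are closed under extensions.
-/

set_option autoImplicit false
set_option backward.isDefEq.respectTransparency false

universe u

open CategoryTheory CategoryTheory.Limits AlgebraicGeometry

namespace Groth.L17.QCohExtension

theorem isQCoh_extension {X : Scheme.{u}} (S : ShortComplex X.Modules) (hS : S.ShortExact)
    (h1 : Coh.IsQCoh S.X₁) (h3 : Coh.IsQCoh S.X₃) : Coh.IsQCoh S.X₂ := by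
  refine Groth.L00.Local.isQCoh_of_tilde_charts _ fun x => ?_
  obtain ⟨_, ⟨V, hV, rfl⟩, hxV, -⟩ :=
    X.isBasis_affineOpens.exists_subset_of_mem_open (Set.mem_univ x) isOpen_univ
  haveI := h1
  haveI := h3
  have hR := Groth.L21.Mod.shortExact_restrict hV.fromSpec hS
  haveI : (S.map (Scheme.Modules.restrictFunctor hV.fromSpec)).X₂.IsQuasicoherent :=
    SpecQCoh.isQCoh_extension _ hR (Scheme.Modules.isQuasicoherent_restrictFunctor hV.fromSpec S.X₁)
      (Scheme.Modules.isQuasicoherent_restrictFunctor hV.fromSpec S.X₃)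
  exact ⟨_, hV.fromSpec, inferInstance,
    (moduleSpecΓFunctor (R := Γ(X, V))).obj (S.map (Scheme.Modules.restrictFunctor hV.fromSpec)).X₂,
    hV.opensRange_fromSpec.ge hxV, ⟨(Groth.L18.TildeF.counitIso (S.map (Scheme.Modules.restrictFunctor hV.fromSpec)).X₂).symm⟩⟩

end Groth.L17.QCohExtension
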