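import Groth.Agent.L17.SheafExt
import Mathlib.Topology.Sheaves.SheafCondition.UniqueGluing

universe u
open CategoryTheory CategoryTheory.Limits TopologicalSpace Opposite Abelian
noncomputable section

namespace Groth.L17

variable {X : TopCat.{u}}

/-- `U ↦ U ⊓ D`. -/
abbrev infRight (D : Opens X) : Opens X ⥤ Opens X where
  obj U := U ⊓ D
  map i := homOfLE (inf_le_inf_right D (leOfHom i))

/-- The presheaf `U ↦ F (U ⊓ D)`. -/
abbrev phiPre (D : Opens X) (F : (Opens X)ᵒᵖ ⥤ AddCommGrpCat.{u}) : (Opens X)ᵒᵖ ⥤ AddCommGrpCat.{u} :=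
  (infRight D).op ⋙ F

lemma isSheaf_phiPre (D : Opens X) (F : AbSheaf X) :
    CategoryTheory.Presheaf.IsSheaf (Opens.grothendieckTopology X) (phiPre D F.obj) := by
  refine (TopCat.Presheaf.isSheaf_iff_isSheafUniqueGluing (X := X) _).2 fun ι U sf hsf => ?_
  obtain ⟨s, hs, hu⟩ := TopCat.Sheaf.existsUnique_gluing' (⟨F.obj, F.property⟩ : TopCat.Sheaf AddCommGrpCat.{u} X)
    (fun i => U i ⊓ D) (iSup U ⊓ D) (fun i => homOfLE (inf_le_inf_right D (le_iSup U i)))
    (by rw [iSup_inf_eq]) sf
    (fun i j => by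
      have := congrArg (F.obj.map (homOfLE (show (U i ⊓ D) ⊓ (U j ⊓ D) ≤ (U i ⊓ U j) ⊓ D from
        le_of_eq (inf_inf_distrib_right _ _ _).symm)).op) (hsf i j)
      simp only [phiPre, Functor.comp_map] at this
      erw [← Functor.map_comp_apply, ← Functor.map_comp_apply] at this
      exact this)
  exact ⟨s, hs, fun t ht => hu t ht⟩

/-- The functor `F ↦ (U ↦ F (U ⊓ D))`, that is `j_* j^*` for the open subspace `D`. -/
def phi (D : Opens X) : AbSheaf X ⥤ AbSheaf X where
  obj F := ⟨phiPre D F.obj, isSheaf_phiPre D F⟩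
  map f := ⟨Functor.whiskerLeft _ f.hom⟩

instance (D : Opens X) : (phi D).Additive where

/-- The unit `F ⟶ phi D F`. -/
def phiUnit (D : Opens X) : 𝟭 (AbSheaf X) ⟶ phi D where
  app F := ⟨{
    app := fun U => F.obj.map (homOfLE inf_le_left).op
    naturality := fun U V i => by
      change F.obj.map i ≫ F.obj.map _ = F.obj.map _ ≫ F.obj.map _
      rw [← Functor.map_comp, ← Functor.map_comp]; rfl }⟩
  naturality F G f := by
    refine CategoryTheory.Sheaf.hom_ext ?_
    ext U : 2
    exact (f.hom.naturality _).symm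

lemma phi_map_app (D : Opens X) {F G : AbSheaf X} (f : F ⟶ G) (U : Opens X) :
    ((phi D).map f).hom.app (op U) = f.hom.app (op (U ⊓ D)) := rfl

lemma sheafHom_comp_apply {F G H : AbSheaf X} (f : F ⟶ G) (g : G ⟶ H) (U : Opens X)
    (x : F.obj.obj (op U)) : (f ≫ g).hom.app (op U) x = g.hom.app (op U) (f.hom.app (op U) x) := rfl

lemma app_res_eq_of_app_eq_res {F G : AbSheaf X} (g : F ⟶ G) {U V : Opens X} (h : V ≤ U) (h' : U ≤ V)
    (z : F.obj.obj (op V)) (y : G.obj.obj (op U))
    (e : g.hom.app (op V) z = G.obj.map (homOfLE h).op y) :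
    g.hom.app (op U) (F.obj.map (homOfLE h').op z) = y := by
  rw [NatTrans.naturality_apply, e, ← Functor.map_comp_apply]
  rw [show (homOfLE h).op ≫ (homOfLE h').op = 𝟙 _ from rfl]
  simp

lemma exists_lift_of_extClass_eq_zero {S : ShortComplex (AbSheaf X)} (hS : S.ShortExact) (U : Opens X)
    (h : ∀ x : HU U S.X₁ 1, x = 0) (t : S.X₃.obj.obj (op U)) :
    ∃ s : S.X₂.obj.obj (op U), S.g.hom.app (op U) s = t := by
  obtain ⟨s, hs⟩ := Ext.covariant_sequence_exact₃ _ hS ((hu₀ _ _).symm t) (zero_add 1) (h _)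
  refine ⟨hu₀ U _ s, ?_⟩
  have := congrArg (hu₀ U _) hs
  rwa [AddEquiv.apply_symm_apply, hu₀_map] at this

lemma injective_app_of_mono {F G : AbSheaf X} (f : F ⟶ G) [Mono f] (U : Opens X) :
    Function.Injective (f.hom.app (op U)) := by
  intro a b hab
  obtain ⟨a', rfl⟩ := (zEquiv U F).surjective a
  obtain ⟨b', rfl⟩ := (zEquiv U F).surjective b
  rw [← zEquiv_comp, ← zEquiv_comp] at hab
  rw [(cancel_mono f).1 ((zEquiv U G).injective hab)]

lemma mono_of_injective_app {F G : AbSheaf X} (f : F ⟶ G)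
    (h : ∀ U : Opens X, Function.Injective (f.hom.app (op U))) : Mono f :=
  ⟨fun {H} a b hab => by
    refine CategoryTheory.Sheaf.hom_ext ?_
    ext U x
    apply h U.unop
    exact ConcreteCategory.congr_hom (congr_app (congrArg (fun k => k.hom) hab) U) x⟩

lemma exact_of_sections (S : ShortComplex (AbSheaf X))
    (h : ∀ (U : Opens X) (s : S.X₂.obj.obj (op U)), S.g.hom.app (op U) s = 0 →
      ∃ t, S.f.hom.app (op U) t = s) : S.Exact := by
  refine (TopCat.Sheaf.exact_iff_stalkFunctor_map_exact S).2 fun p => ?_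
  refine (ShortComplex.ab_exact_iff _).2 fun s hs => ?_
  obtain ⟨U, hpU, t, rfl⟩ := TopCat.Presheaf.exists_germ_eq (X := X) S.X₂.obj s
  have hs' : TopCat.Presheaf.germ S.X₃.obj U p hpU (S.g.hom.app (op U) t) =
      TopCat.Presheaf.germ S.X₃.obj U p hpU 0 := by
    rw [map_zero]
    exact (TopCat.Presheaf.stalkFunctor_map_germ_apply _ _ _ _ _).symm.trans hs
  obtain ⟨W, hpW, iU, iU', hW⟩ := TopCat.Presheaf.germ_eq _ p hpU hpU _ _ hs'
  rw [map_zero] at hW
  obtain ⟨r, hr⟩ := h W (S.X₂.obj.map iU.op t) ((NatTrans.naturality_apply _ _ _).trans hW)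
  refine ⟨TopCat.Presheaf.germ S.X₁.obj W p hpW r, ?_⟩
  exact (TopCat.Presheaf.stalkFunctor_map_germ_apply _ _ _ _ _).trans
    ((congrArg _ hr).trans (TopCat.Presheaf.germ_res_apply _ _ _ _ _))

lemma sections_exact {S : ShortComplex (AbSheaf X)} (hS : S.ShortExact) {U : Opens X}
    (s : S.X₂.obj.obj (op U)) (h : S.g.hom.app (op U) s = 0) :
    ∃ t, S.f.hom.app (op U) t = s :=
  TopCat.Sheaf.sections_exact_of_left_exact (X := X) (S := S) hS.exact hS.mono_f s h

lemma huMap_comp {U : Opens X} {F G H : AbSheaf X} (f : F ⟶ G) (g : G ⟶ H) {n : ℕ} (x : HU U F n) :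
    huMap (f ≫ g) x = huMap g (huMap f x) := by simp [huMap]

/-- `phi D` applied to the injective presentation, followed by its cokernel. -/
abbrev phiSeq (D : Opens X) (F : AbSheaf X) : ShortComplex (AbSheaf X) :=
  .mk ((phi D).map (injSeq F).f) (cokernel.π _) (cokernel.condition _)

lemma phiSeq_shortExact (D : Opens X) (F : AbSheaf X) : (phiSeq D F).ShortExact where
  exact := ShortComplex.exact_of_g_is_cokernel _ (cokernelIsCokernel _)
  mono_f := mono_of_injective_app _ fun U => injective_app_of_mono (injSeq F).f (U ⊓ D)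

/-- The unit, as a map of the presentations. -/
def phiSeqMap (D : Opens X) (F : AbSheaf X) : injSeq F ⟶ phiSeq D F where
  τ₁ := (phiUnit D).app _
  τ₂ := (phiUnit D).app _
  τ₃ := cokernel.map _ _ ((phiUnit D).app _) ((phiUnit D).app _) ((phiUnit D).naturality _)
  comm₁₂ := ((phiUnit D).naturality _).symm
  comm₂₃ := (cokernel.π_desc _ _ _).symm

/-- The comparison with `phi D` of the quotient. -/
def phiComparison (D : Opens X) (F : AbSheaf X) : (phiSeq D F).X₃ ⟶ (phi D).obj (injSeq F).X₃ :=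
  cokernel.desc _ ((phi D).map (injSeq F).g)
    (by rw [← Functor.map_comp, (injSeq F).zero, Functor.map_zero])

lemma phiSeq_g_comparison (D : Opens X) (F : AbSheaf X) :
    (phiSeq D F).g ≫ phiComparison D F = (phi D).map (injSeq F).g := cokernel.π_desc _ _ _

lemma phi_map_exact (D : Opens X) (F : AbSheaf X) :
    (ShortComplex.mk ((phi D).map (injSeq F).f) ((phi D).map (injSeq F).g)
      (by rw [← Functor.map_comp, (injSeq F).zero, Functor.map_zero])).Exact :=
  exact_of_sections _ fun _ s hs => sections_exact (injSeq_shortExact F) s hs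

instance mono_phiComparison (D : Opens X) (F : AbSheaf X) : Mono (phiComparison D F) :=
  (phi_map_exact D F).mono_cokernelDesc

lemma phiSeqMap_comparison (D : Opens X) (F : AbSheaf X) :
    (phiSeqMap D F).τ₃ ≫ phiComparison D F = (phiUnit D).app _ := by
  rw [← cancel_epi (injSeq F).g, ← Category.assoc, ← (phiSeqMap D F).comm₂₃, Category.assoc,
    phiSeq_g_comparison]
  exact ((phiUnit D).naturality _).symm

lemma huMap_unit_extClass (D : Opens X) (F : AbSheaf X) {V : Opens X} {n m : ℕ}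
    (y : HU V (injSeq F).X₃ n) (h : n + 1 = m) :
    huMap ((phiUnit D).app F) (y.comp (injSeq_shortExact F).extClass h) =
      (huMap (phiSeqMap D F).τ₃ y).comp (phiSeq_shortExact D F).extClass h := by
  rw [huMap, Ext.comp_assoc_of_third_deg_zero]
  change y.comp ((injSeq_shortExact F).extClass.comp (Ext.mk₀ (phiSeqMap D F).τ₁) _) h = _
  rw [ShortComplex.ShortExact.extClass_naturality (injSeq_shortExact F) (phiSeq_shortExact D F)
    (phiSeqMap D F), ← Ext.comp_assoc_of_second_deg_zero]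

/-- `F ⟶ phi U F` is injective on the cohomology of `U`. -/
lemma eq_zero_of_huMap_phiUnit_eq_zero (U : Opens X) :
    ∀ (n : ℕ) (F : AbSheaf X) (x : HU U F n), huMap ((phiUnit U).app F) x = 0 → x = 0 := by
  intro n
  induction n with
  | zero =>
    intro F x hx
    apply (hu₀ U F).injective
    have := congrArg (hu₀ U _) hx
    rw [hu₀_map, map_zero] at this
    rw [map_zero]
    have h' : (F.obj.map (homOfLE (le_inf le_rfl le_rfl : U ≤ U ⊓ U)).op)
        (F.obj.map (homOfLE (inf_le_left : U ⊓ U ≤ U)).op (hu₀ U F x)) = 0 :=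
      (congrArg _ this).trans (map_zero _)
    rw [← Functor.map_comp_apply] at h'
    rw [show (homOfLE (inf_le_left : U ⊓ U ≤ U)).op ≫
      (homOfLE (le_inf le_rfl le_rfl : U ≤ U ⊓ U)).op = 𝟙 _ from rfl] at h'
    simpa using h'
  | succ n ih =>
    intro F x hx
    have hS := injSeq_shortExact F
    obtain ⟨y, rfl⟩ := Ext.covariant_sequence_exact₁ (hS := hS) _ x
      (Ext.eq_zero_of_injective _) rfl
    rw [huMap_unit_extClass] at hx
    obtain ⟨z, hz⟩ := Ext.covariant_sequence_exact₃ _ (phiSeq_shortExact U F) _ rfl hx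
    match n, y, z, hz, ih with
    | 0, y, z, hz, _ =>
      let s := (injSeq F).X₂.obj.map (homOfLE (le_inf le_rfl le_rfl : U ≤ U ⊓ U)).op (hu₀ U _ z)
      have key : huMap (injSeq F).g ((hu₀ U _).symm s) = y := by
        apply (hu₀ U _).injective
        rw [hu₀_map, AddEquiv.apply_symm_apply]
        have h2 := congrArg (fun w => hu₀ U _ (huMap (phiComparison U F) w)) hz
        simp only [← huMap_comp, phiSeqMap_comparison] at h2
        rw [huMap_comp] at h2
        simp only [hu₀_map] at h2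
        rw [← sheafHom_comp_apply, phiSeq_g_comparison] at h2
        exact app_res_eq_of_app_eq_res (injSeq F).g (inf_le_left : U ⊓ U ≤ U) (le_inf le_rfl le_rfl) _ _ h2
      rw [← key, huMap]
      simp [hS.comp_extClass]
    | n + 1, y, z, hz, ih =>
      have : TopCat.Presheaf.IsFlasque (X := X) (phiSeq U F).X₂.obj :=
        { epi := fun i => (AddCommGrpCat.epi_iff_surjective _).2
            (surjective_res_of_injective (inf_le_inf_right U (leOfHom i.unop)) (injSeq F).X₂) }
      rw [hu_eq_zero_of_flasque U n _ z] at hz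
      simp only [Ext.zero_comp] at hz
      rw [ih _ y]
      · simp
      · rw [← phiSeqMap_comparison, huMap_comp, show huMap (phiSeqMap U F).τ₃ y = 0 from hz.symm]
        simp [huMap]

/-- If `F` has no higher cohomology on the `W ⊓ D`, a class vanishing on `V ⊓ D` dies in `phi D F`. -/
lemma phiUnit_map_eq_zero (B : Set (Opens X)) (hB : Opens.IsBasis B) (D : Opens X) :
    ∀ (n : ℕ) (F : AbSheaf X),
      (∀ W ∈ B, ∀ i : ℕ, i < n → ∀ x : HU (W ⊓ D) F (i + 1), x = 0) →
      ∀ (V : Opens X) (x : HU V F (n + 1)), huRes (inf_le_left : V ⊓ D ≤ V) x = 0 →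
        huMap ((phiUnit D).app F) x = 0 := by
  intro n
  induction n with
  | zero =>
    intro F _ V x hx
    have hS := injSeq_shortExact F
    obtain ⟨y, rfl⟩ := Ext.covariant_sequence_exact₁ (hS := hS) _ x
      (Ext.eq_zero_of_injective _) (zero_add 1)
    obtain ⟨i, hi⟩ : ∃ i : HU (V ⊓ D) (injSeq F).X₂ 0, huMap (injSeq F).g i = huRes inf_le_left y := by
      refine Ext.covariant_sequence_exact₃ _ hS _ (zero_add 1) ?_
      rwa [huRes, ← Ext.comp_assoc (a₁₂ := 0) (a₂₃ := 1) _ _ _ (by omega) (by omega) (by omega)] at hx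
    have hky : huMap (phiSeq D F).g ((hu₀ V _).symm (hu₀ (V ⊓ D) _ i)) = huMap (phiSeqMap D F).τ₃ y := by
      apply (hu₀ V _).injective
      apply injective_app_of_mono (phiComparison D F) V
      rw [← hu₀_map, ← hu₀_map, ← huMap_comp, ← huMap_comp, phiSeqMap_comparison,
        show (phiSeq D F).g ≫ phiComparison D F = (phi D).map (injSeq F).g from cokernel.π_desc _ _ _,
        hu₀_map, hu₀_map]
      erw [AddEquiv.apply_symm_apply]
      have := congrArg (hu₀ (V ⊓ D) _) hi
      rw [hu₀_map, hu₀_res] at this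
      exact this
    rw [huMap_unit_extClass, ← hky, huMap]
    simp [(phiSeq_shortExact D F).comp_extClass]
  | succ n ih =>
    intro F hF V x hx
    have hS := injSeq_shortExact F
    obtain ⟨y, rfl⟩ := Ext.covariant_sequence_exact₁ (hS := hS) _ x
      (Ext.eq_zero_of_injective _) rfl
    have hy : huRes (inf_le_left : V ⊓ D ≤ V) y = 0 := by
      obtain ⟨z, hz⟩ := Ext.covariant_sequence_exact₃ _ hS (huRes (inf_le_left : V ⊓ D ≤ V) y)
        (n₁ := n + 1 + 1) rfl (by
          rwa [huRes, ← Ext.comp_assoc (a₁₂ := n + 1) (a₂₃ := n + 1 + 1) _ _ _ (by omega) (by omega) (by omega)] at hx)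
      rw [← hz, Ext.eq_zero_of_injective z]
      simp
    have hQ := ih (injSeq F).X₃ (fun W hW i hi z => by
      obtain ⟨w, hw⟩ := Ext.covariant_sequence_exact₃ _ hS z (n₁ := i + 1 + 1) rfl (hF W hW (i + 1) (by omega) _)
      rw [← hw, Ext.eq_zero_of_injective w]
      simp) V y hy
    have hepi : Epi ((phi D).map (injSeq F).g) := by
      refine (CategoryTheory.Sheaf.isLocallySurjective_iff_epi' (A := AddCommGrpCat.{u})
        (φ := (phi D).map (injSeq F).g)).1 ?_
      refine (TopCat.Presheaf.isLocallySurjective_iff (X := X) _).2 fun U t p hp => ?_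
      obtain ⟨W, hW, hpW, hWU⟩ := (Opens.isBasis_iff_nbhd.1 hB) hp
      let t' : (injSeq F).X₃.obj.obj (op (W ⊓ D)) :=
        (injSeq F).X₃.obj.map (homOfLE (inf_le_inf_right D hWU)).op t
      obtain ⟨s, hs⟩ := exists_lift_of_extClass_eq_zero hS (W ⊓ D) (hF W hW 0 (by omega)) t'
      exact ⟨W, hWU, ⟨s, hs⟩, hpW⟩
    have : Epi (phiComparison D F) := by
      have : Epi ((phiSeq D F).g ≫ phiComparison D F) := (phiSeq_g_comparison D F).symm ▸ hepi
      exact epi_of_epi (phiSeq D F).g _
    have : IsIso (phiComparison D F) := isIso_of_mono_of_epi _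
    rw [← phiSeqMap_comparison, huMap_comp] at hQ
    have hk : huMap (phiSeqMap D F).τ₃ y = 0 := by
      have := congrArg (huMap (inv (phiComparison D F))) hQ
      rw [← huMap_comp, IsIso.hom_inv_id] at this
      refine ((Ext.comp_mk₀_id _).symm.trans this).trans ?_
      simp [huMap]
    rw [huMap_unit_extClass, hk]
    simp

/-- Kempf's vanishing argument.  `𝒢` is a class of sheaves for which all the finite covers of
members of the basis `B` by members of `B` give resolving sequences inside `𝒢`. -/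
theorem kempf (B : Set (Opens X)) (hB : Opens.IsBasis B)
    (hcpt : ∀ U ∈ B, IsCompact (U : Set X)) (hinf : ∀ U ∈ B, ∀ V ∈ B, U ⊓ V ∈ B)
    (𝒢 : AbSheaf X → Prop)
    (hres : ∀ F, 𝒢 F → ∀ U ∈ B, ∀ (m : ℕ) (D : Fin m → Opens X), (∀ j, D j ∈ B) → U = ⨆ j, D j →
      ∃ (S : ShortComplex (AbSheaf X)) (a : F ⟶ S.X₁) (b : S.X₁ ⟶ (phi U).obj F)
        (c : ∀ j, S.X₂ ⟶ (phi (D j)).obj F),
        S.ShortExact ∧ 𝒢 S.X₃ ∧ Function.Surjective (S.g.hom.app (op U)) ∧
        a ≫ b = (phiUnit U).app F ∧ (∀ j, a ≫ S.f ≫ c j = (phiUnit (D j)).app F) ∧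
        Mono b ∧ (∀ (n : ℕ) (x : HU U S.X₂ n), (∀ j, huMap (c j) x = 0) → x = 0))
    (n : ℕ) : ∀ U ∈ B, ∀ F, 𝒢 F → ∀ x : HU U F (n + 1), x = 0 := by
  induction n using Nat.strong_induction_on with
  | _ n ih =>
    intro U hU F hF x
    have hcov : (U : Set X) ⊆ ⋃ V : {V : Opens X // V ∈ B ∧ ∃ h : V ≤ U, huRes h x = 0}, (V.1 : Set X) := by
      intro p hp
      obtain ⟨V, hVU, hpV, hV⟩ := exists_res_eq_zero x p hp
      obtain ⟨W, hW, hpW, hWV⟩ := (Opens.isBasis_iff_nbhd.1 hB) hpV
      refine Set.mem_iUnion.2 ⟨⟨W, hW, hWV.trans hVU, ?_⟩, hpW⟩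
      rw [← huRes_huRes hVU hWV, hV]
      simp [huRes]
    obtain ⟨t, ht⟩ := (hcpt U hU).elim_finite_subcover _ (fun V => V.1.2) hcov
    let e := t.equivFin.symm
    let D : Fin t.card → Opens X := fun j => (e j).1.1
    have hD : U = ⨆ j, D j := by
      refine le_antisymm (fun p hp => ?_) (iSup_le fun j => (e j).1.2.2.1)
      obtain ⟨V, hV, hpV⟩ := Set.mem_iUnion₂.1 (ht hp)
      exact Opens.mem_iSup.2 ⟨e.symm ⟨V, hV⟩, by simpa [D] using hpV⟩
    obtain ⟨S, a, b, c, hS, hQ, hsurj, hab, hac, hb, hc⟩ :=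
      hres F hF U hU _ D (fun j => (e j).1.2.1) hD
    -- the restriction of `x` to each member of the cover vanishes
    have hx2 : huMap S.f (huMap a x) = 0 := hc _ _ fun j => by
      rw [← huMap_comp, ← huMap_comp, hac]
      refine phiUnit_map_eq_zero B hB (D j) n F (fun W hW i hi z => ?_) U x ?_
      · exact ih i hi (W ⊓ D j) (hinf _ hW _ (e j).1.2.1) F hF z
      · obtain ⟨h, hh⟩ := (e j).1.2.2
        have : huRes (inf_le_left : U ⊓ D j ≤ U) x = huRes (inf_le_right : U ⊓ D j ≤ D j) (huRes h x) :=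
          (huRes_huRes h inf_le_right x).symm
        rw [this, hh]
        simp [huRes]
    have hx1 : huMap a x = 0 := by
      obtain ⟨q, hq⟩ := Ext.covariant_sequence_exact₁ (hS := hS) _ (huMap a x) hx2 rfl
      rw [← hq]
      match n, ih, q with
      | 0, _, q =>
        obtain ⟨s, hs⟩ := hsurj (hu₀ U _ q)
        obtain ⟨z, rfl⟩ := (hu₀ U _).surjective s
        rw [← hu₀_map] at hs
        obtain rfl := (hu₀ U _).injective hs
        simp [huMap, hS.comp_extClass]
      | k + 1, ih, q =>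
        rw [ih k (by omega) U hU _ hQ q]
        simp
    have hx : huMap ((phiUnit U).app F) x = 0 := by
      rw [← hab, huMap_comp, hx1]
      simp [huMap]
    -- `F → phi U F` is injective on cohomology of `U`
    exact eq_zero_of_huMap_phiUnit_eq_zero U _ F x hx

end Groth.L17
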