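import Groth.Agent.L17.SheafExt

universe u
open CategoryTheory CategoryTheory.Limits TopologicalSpace Opposite Abelian
noncomputable section

namespace Groth.L17

variable {X Y : TopCat.{u}}

lemma range_eq_extClass_ker {S : ShortComplex (AbSheaf X)} (hS : S.ShortExact) (U : Opens X)
    (s : S.X₃.obj.obj (op U)) :
    ((hu₀ U S.X₃).symm s).comp hS.extClass (zero_add 1) = 0 ↔
      s ∈ (S.g.hom.app (op U)).hom.range := by
  constructor
  · intro h
    obtain ⟨x, hx⟩ := Ext.covariant_sequence_exact₃ _ hS _ (zero_add 1) h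
    refine ⟨hu₀ U _ x, ?_⟩
    have := congrArg (hu₀ U _) hx
    rwa [AddEquiv.apply_symm_apply, hu₀_map] at this
  · rintro ⟨t, rfl⟩
    have : (hu₀ U _).symm (S.g.hom.app (op U) t) = huMap S.g ((hu₀ U _).symm t) := by
      apply (hu₀ U _).injective
      rw [hu₀_map, AddEquiv.apply_symm_apply, AddEquiv.apply_symm_apply]
    rw [this, huMap]
    simp [hS.comp_extClass]

/-- The connecting map in degree one. -/
def deltaZero {S : ShortComplex (AbSheaf X)} (hS : S.ShortExact) (U : Opens X) :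
    S.X₃.obj.obj (op U) →+ HU U S.X₁ 1 where
  toFun s := ((hu₀ U S.X₃).symm s).comp hS.extClass (zero_add 1)
  map_zero' := by simp
  map_add' a b := by simp [Ext.add_comp]

/-- The first cohomology as a cokernel on sections. -/
lemma nonempty_hu_one {S : ShortComplex (AbSheaf X)} (hS : S.ShortExact) (U : Opens X)
    (h : ∀ x : HU U S.X₂ 1, x = 0) :
    Nonempty (HU U S.X₁ 1 ≃+ S.X₃.obj.obj (op U) ⧸ (S.g.hom.app (op U)).hom.range) := by
  have hker : (deltaZero hS U).ker = (S.g.hom.app (op U)).hom.range := by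
    ext s; exact range_eq_extClass_ker hS U s
  have hsurj : Function.Surjective (deltaZero hS U) := fun x => by
    obtain ⟨y, hy⟩ := Ext.covariant_sequence_exact₁ (hS := hS) _ x (h _) (zero_add 1)
    exact ⟨hu₀ U _ y, by simpa [deltaZero] using hy⟩
  exact ⟨((QuotientAddGroup.quotientAddEquivOfEq hker.symm).trans
    (QuotientAddGroup.quotientKerEquivOfSurjective _ hsurj)).symm⟩

lemma nonempty_hu_succ {S : ShortComplex (AbSheaf X)} (hS : S.ShortExact) (U : Opens X) (n : ℕ)
    (h : ∀ x : HU U S.X₂ (n + 1), x = 0) (h' : ∀ x : HU U S.X₂ (n + 2), x = 0) :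
    Nonempty (HU U S.X₁ (n + 2) ≃+ HU U S.X₃ (n + 1)) := by
  refine ⟨(AddEquiv.ofBijective
    (AddMonoidHom.mk' (fun y : HU U S.X₃ (n + 1) => y.comp hS.extClass (rfl : n + 1 + 1 = n + 2))
      (fun a b => by simp [Ext.add_comp])) ⟨?_, ?_⟩).symm⟩
  · rw [injective_iff_map_eq_zero]
    intro y hy
    obtain ⟨x, hx⟩ := Ext.covariant_sequence_exact₃ _ hS y rfl hy
    rw [← hx, h x]
    simp
  · intro x
    obtain ⟨y, hy⟩ := Ext.covariant_sequence_exact₁ (hS := hS) _ x (h' _) rfl
    exact ⟨y, hy⟩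

lemma nonempty_quotient_equiv {A B : Type u} [AddCommGroup A] [AddCommGroup B] (e : A ≃+ B)
    (H : AddSubgroup A) (H' : AddSubgroup B) (h : H.map e.toAddMonoidHom = H') :
    Nonempty (A ⧸ H ≃+ B ⧸ H') := ⟨QuotientAddGroup.congr H H' e h⟩

/-- Comparison of cohomology along a functor which preserves flasque sheaves and is exact on the
injective presentations of a class `P` of sheaves. -/
theorem nonempty_hu_equiv (G : AbSheaf X ⥤ AbSheaf Y) [G.Additive] (U : Opens X) (V : Opens Y)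
    (η : ∀ F : AbSheaf X, F.obj.obj (op U) ≃+ (G.obj F).obj.obj (op V))
    (hη : ∀ {F F' : AbSheaf X} (f : F ⟶ F') (s : F.obj.obj (op U)),
      η F' (f.hom.app (op U) s) = (G.map f).hom.app (op V) (η F s))
    (hG : ∀ F : AbSheaf X, TopCat.Presheaf.IsFlasque (X := X) F.obj →
      TopCat.Presheaf.IsFlasque (X := Y) (G.obj F).obj)
    (P : AbSheaf X → Prop)
    (hP : ∀ F, P F → ((injSeq F).map G).ShortExact ∧ P (injSeq F).X₃) :
    ∀ (n : ℕ) (F : AbSheaf X), P F → Nonempty (HU U F n ≃+ HU V (G.obj F) n) := by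
  intro n
  induction n using Nat.strong_induction_on with
  | _ n ih =>
    intro F hF
    obtain ⟨hS', hQ⟩ := hP F hF
    have hS := injSeq_shortExact F
    have : TopCat.Presheaf.IsFlasque (X := Y) ((injSeq F).map G).X₂.obj := hG _ inferInstance
    have hI : ∀ (m : ℕ) (x : HU U (injSeq F).X₂ (m + 1)), x = 0 := fun m => hu_eq_zero_of_flasque U m _
    have hI' : ∀ (m : ℕ) (x : HU V ((injSeq F).map G).X₂ (m + 1)), x = 0 := fun m =>
      hu_eq_zero_of_flasque V m _
    match n, ih with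
    | 0, _ => exact ⟨((hu₀ U F).trans (η F)).trans (hu₀ V _).symm⟩
    | 1, _ =>
      obtain ⟨a⟩ := nonempty_hu_one hS U (hI 0)
      obtain ⟨b⟩ := nonempty_hu_one hS' V (hI' 0)
      have hr : AddSubgroup.map (η (injSeq F).X₃).toAddMonoidHom
          ((injSeq F).g.hom.app (op U)).hom.range = (((injSeq F).map G).g.hom.app (op V)).hom.range := by
        ext t
        constructor
        · rintro ⟨_, ⟨s, rfl⟩, rfl⟩
          exact ⟨η _ s, (hη _ s).symm⟩
        · rintro ⟨s, rfl⟩
          obtain ⟨s, rfl⟩ := (η _).surjective s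
          exact ⟨_, ⟨s, rfl⟩, hη _ s⟩
      obtain ⟨c⟩ := nonempty_quotient_equiv (η (injSeq F).X₃) _ _ hr
      exact ⟨a.trans (c.trans b.symm)⟩
    | m + 2, ih =>
      obtain ⟨a⟩ := nonempty_hu_succ hS U m (hI m) (hI (m + 1))
      obtain ⟨b⟩ := nonempty_hu_succ hS' V m (hI' m) (hI' (m + 1))
      obtain ⟨c⟩ := ih (m + 1) (by omega) _ hQ
      exact ⟨a.trans (c.trans b.symm)⟩

/-- Acyclicity on a family of opens passes to the quotient in the injective presentation. -/
lemma acyclic_injSeq_X₃ {F : AbSheaf X} {U : Opens X}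
    (h : ∀ (n : ℕ) (x : HU U F (n + 1)), x = 0) (n : ℕ) (x : HU U (injSeq F).X₃ (n + 1)) : x = 0 := by
  obtain ⟨w, hw⟩ := Ext.covariant_sequence_exact₃ _ (injSeq_shortExact F) x rfl (h (n + 1) _)
  rw [← hw, Ext.eq_zero_of_injective w]
  simp

end Groth.L17
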