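import Groth.Prelude.Def_Coh
import Groth.Agent.L17.Transfer
import Groth.Agent.L17.Kempf

universe u
open CategoryTheory CategoryTheory.Limits TopologicalSpace Opposite Abelian AlgebraicGeometry
noncomputable section

namespace Groth.L17

variable {X Y : Scheme.{u}}

/-- Restriction of abelian sheaves along an open immersion. -/
abbrev restrAb (j : X ⟶ Y) [IsOpenImmersion j] : CategoryTheory.Sheaf (Opens.grothendieckTopology Y) AddCommGrpCat.{u} ⥤ CategoryTheory.Sheaf (Opens.grothendieckTopology X) AddCommGrpCat.{u} :=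
  j.opensFunctor.sheafPushforwardContinuous AddCommGrpCat.{u} _ _

instance (j : X ⟶ Y) [IsOpenImmersion j] : (restrAb j).Additive where

lemma restrAb_toAb (j : X ⟶ Y) [IsOpenImmersion j] (M : Y.Modules) :
    (restrAb j).obj (Coh.toAb M) = Coh.toAb (M.restrict j) := rfl

lemma restrAb_flasque (j : X ⟶ Y) [IsOpenImmersion j] (F : CategoryTheory.Sheaf (Opens.grothendieckTopology Y) AddCommGrpCat.{u})
    (hF : TopCat.Presheaf.IsFlasque (X := Y.toTopCat) F.obj) :
    TopCat.Presheaf.IsFlasque (X := X.toTopCat) ((restrAb j).obj F).obj :=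
  { epi := fun i => hF.epi (j.opensFunctor.op.map i) }

lemma shortExact_restrAb (j : X ⟶ Y) [IsOpenImmersion j] {S : ShortComplex (CategoryTheory.Sheaf (Opens.grothendieckTopology Y) AddCommGrpCat.{u})}
    (hS : S.ShortExact) : (S.map (restrAb j)).ShortExact where
  exact := exact_of_sections _ fun U s hs => sections_exact hS (U := j ''ᵁ U) s hs
  mono_f := mono_of_injective_app _ fun U =>
    have := hS.mono_f
    injective_app_of_mono S.f (j ''ᵁ U)
  epi_g := by
    refine (CategoryTheory.Sheaf.isLocallySurjective_iff_epi' (A := AddCommGrpCat.{u})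
      (φ := (restrAb j).map S.g)).1 ?_
    refine (TopCat.Presheaf.isLocallySurjective_iff (X := X.toTopCat) _).2 fun U t p hp => ?_
    have hls : TopCat.Presheaf.IsLocallySurjective S.g.hom :=
      (CategoryTheory.Sheaf.isLocallySurjective_iff_epi' (A := AddCommGrpCat.{u}) (φ := S.g)).2 hS.epi_g
    obtain ⟨V, hVU, ⟨s, hs⟩, hpV⟩ :=
      (TopCat.Presheaf.isLocallySurjective_iff _).1 hls (j ''ᵁ U) t (j p) ⟨p, hp, rfl⟩
    have hW : j ⁻¹ᵁ V ≤ U := fun q hq => by
      obtain ⟨q', hq', e⟩ := hVU hq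
      exact j.isOpenEmbedding.injective e ▸ hq'
    have hWV : j ''ᵁ (j ⁻¹ᵁ V) ≤ V := by rintro _ ⟨q, hq, rfl⟩; exact hq
    refine ⟨j ⁻¹ᵁ V, hW, ⟨S.X₂.obj.map (homOfLE hWV).op s, ?_⟩, hpV⟩
    change S.g.hom.app (op (j ''ᵁ (j ⁻¹ᵁ V))) (S.X₂.obj.map (homOfLE hWV).op s) = _
    rw [NatTrans.naturality_apply, hs]
    change S.X₃.obj.map _ (S.X₃.obj.map _ t) = S.X₃.obj.map _ t
    exact (ConcreteCategory.congr_hom
      (S.X₃.obj.map_comp (homOfLE hVU).op (homOfLE hWV).op) t).symm.trans rfl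

/-- Cohomology of an open subscheme. -/
theorem nonempty_hu_image (j : X ⟶ Y) [IsOpenImmersion j] (V : X.Opens) (F : CategoryTheory.Sheaf (Opens.grothendieckTopology Y) AddCommGrpCat.{u}) (n : ℕ) :
    Nonempty (HU (X := Y.toTopCat) (j ''ᵁ V) F n ≃+ HU (X := X.toTopCat) V ((restrAb j).obj F) n) :=
  nonempty_hu_equiv (restrAb j) (j ''ᵁ V) V (fun F => AddEquiv.refl (F.obj.obj (op (j ''ᵁ V))))
    (fun _ _ => rfl) (restrAb_flasque j) (fun _ => True)
    (fun F _ => ⟨shortExact_restrAb j (injSeq_shortExact F), trivial⟩) n F trivial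

end Groth.L17
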