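import Mathlib.AlgebraicGeometry.Modules.Tilde

universe u
open CategoryTheory TopologicalSpace Opposite AlgebraicGeometry
noncomputable section

namespace Groth.L17.TildeLoc

variable {R : CommRingCat.{u}}

/-- Sections of `M~` as an `R`-module. -/
abbrev T (M : ModuleCat.{u} R) (U : (Spec R).Opens) : ModuleCat.{u} R :=
  (modulesSpecToSheaf.obj (tilde M)).presheaf.obj (op U)

abbrev D (g : R) : (Spec R).Opens := PrimeSpectrum.basicOpen g

/-- Restriction. -/
abbrev rs (M : ModuleCat.{u} R) {U V : (Spec R).Opens} (h : V ≤ U) : T M U ⟶ T M V :=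
  (modulesSpecToSheaf.obj (tilde M)).presheaf.map (homOfLE h).op

/-- Sections of `tilde.map l`. -/
abbrev mapT {M N : ModuleCat.{u} R} (l : M ⟶ N) (U : (Spec R).Opens) : T M U ⟶ T N U :=
  (modulesSpecToSheaf.map (tilde.map l)).1.app (op U)

abbrev to' (M : ModuleCat.{u} R) (U : (Spec R).Opens) : M ⟶ T M U := tilde.toOpen M U

lemma to'_rs (M : ModuleCat.{u} R) {U V : (Spec R).Opens} (h : V ≤ U) (m : M) :
    rs M h (to' M U m) = to' M V m :=
  congr($(tilde.toOpen_res M U V (homOfLE h)) m)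

lemma mapT_to' {M N : ModuleCat.{u} R} (l : M ⟶ N) (U : (Spec R).Opens) (m : M) :
    mapT l U (to' M U m) = to' N U (l m) :=
  congr($(tilde.toOpen_map_app l U) m)

lemma reg (M : ModuleCat.{u} R) {U : (Spec R).Opens} {r : R} (h : U ≤ D r) (n : ℕ) :
    IsSMulRegular (T M U) (r ^ n) :=
  (Scheme.Modules.isSMulRegular_of_le_basicOpen (M := tilde M) h).pow n

lemma surj_smul (M : ModuleCat.{u} R) {U : (Spec R).Opens} {r : R} (h : U ≤ D r) (n : ℕ) :
    ∀ y : T M U, ∃ x : T M U, r ^ n • x = y := by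
  have := ((Scheme.Modules.isUnit_algebraMap_end_of_le_basicOpen (M := tilde M) r h).pow n)
  rw [← map_pow, Module.End.isUnit_iff] at this
  exact this.surjective

lemma exists_eq (M : ModuleCat.{u} R) (g : R) (y : T M (D g)) :
    ∃ (n : ℕ) (m : M), g ^ n • y = to' M (D g) m := by
  obtain ⟨⟨m, ⟨_, n, rfl⟩⟩, h⟩ :=
    IsLocalizedModule.surj (Submonoid.powers g) (tilde.toOpen M (PrimeSpectrum.basicOpen g)).hom y
  exact ⟨n, m, h⟩

lemma eq_zero_iff (M : ModuleCat.{u} R) (g : R) (m : M) :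
    to' M (D g) m = 0 ↔ ∃ n : ℕ, g ^ n • m = 0 := by
  refine (IsLocalizedModule.eq_zero_iff (Submonoid.powers g)
    (tilde.toOpen M (PrimeSpectrum.basicOpen g)).hom).trans ⟨?_, ?_⟩
  · rintro ⟨⟨_, n, rfl⟩, h⟩; exact ⟨n, h⟩
  · rintro ⟨n, h⟩; exact ⟨⟨_, n, rfl⟩, h⟩

lemma mapT_injective {M N : ModuleCat.{u} R} (l : M ⟶ N) (hl : Function.Injective l) (g : R) :
    Function.Injective (mapT l (D g)) := by
  rw [injective_iff_map_eq_zero]
  intro y hy
  obtain ⟨n, m, hm⟩ := exists_eq M g y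
  have h1 : to' N (D g) (l m) = 0 := by rw [← mapT_to', ← hm, map_smul, hy, smul_zero]
  obtain ⟨k, hk⟩ := (eq_zero_iff N g _).1 h1
  have h2 : to' M (D g) m = 0 := (eq_zero_iff M g _).2 ⟨k, hl (by rw [map_smul, hk, map_zero])⟩
  exact (reg M le_rfl n).right_eq_zero_of_smul (hm.trans h2)

lemma mapT_surjective {M N : ModuleCat.{u} R} (l : M ⟶ N) (hl : Function.Surjective l) (g : R) :
    Function.Surjective (mapT l (D g)) := by
  intro y
  obtain ⟨n, x, hx⟩ := exists_eq N g y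
  obtain ⟨m, rfl⟩ := hl x
  obtain ⟨z, hz⟩ := surj_smul M (le_refl (D g)) n (to' M (D g) m)
  refine ⟨z, reg N le_rfl n ?_⟩
  change g ^ n • mapT l (D g) z = g ^ n • y
  rw [← map_smul, hz, mapT_to', hx]

lemma mapT_exact {A B C : ModuleCat.{u} R} (f : A ⟶ B) (k : B ⟶ C)
    (h : Function.Exact f k) (g : R) (y : T B (D g)) (hy : mapT k (D g) y = 0) :
    ∃ x, mapT f (D g) x = y := by
  obtain ⟨n, b, hb⟩ := exists_eq B g y
  have h1 : to' C (D g) (k b) = 0 := by rw [← mapT_to', ← hb, map_smul, hy, smul_zero]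
  obtain ⟨e, he⟩ := (eq_zero_iff C g _).1 h1
  obtain ⟨a, ha⟩ := (h (g ^ e • b)).1 (by rw [map_smul, he])
  obtain ⟨z, hz⟩ := surj_smul A (le_refl (D g)) (e + n) (to' A (D g) a)
  refine ⟨z, reg B le_rfl (e + n) ?_⟩
  change g ^ (e + n) • mapT f (D g) z = g ^ (e + n) • y
  rw [← map_smul, hz, mapT_to', ha, map_smul, ← hb, smul_smul, pow_add]

/-- The localisation of `M` at `g`, as sections over `D g`. -/
abbrev loc (M : ModuleCat.{u} R) (g : R) : ModuleCat.{u} R := T M (D g)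

lemma mapT_toOpen_bijective (M : ModuleCat.{u} R) (g k : R) (hk : D k ≤ D g) :
    Function.Bijective (mapT (to' M (D g)) (D k)) := by
  constructor
  · rw [injective_iff_map_eq_zero]
    intro y hy
    obtain ⟨n, m, hm⟩ := exists_eq M k y
    have h1 : to' (loc M g) (D k) (to' M (D g) m) = 0 := by
      rw [← mapT_to', ← hm, map_smul, hy, smul_zero]
    obtain ⟨a, ha⟩ := (eq_zero_iff (loc M g) k _).1 h1
    have h2 := congrArg (rs M hk) ha
    rw [map_smul, map_zero, to'_rs, ← hm] at h2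
    exact (reg M le_rfl n).right_eq_zero_of_smul ((reg M le_rfl a).right_eq_zero_of_smul h2)
  · intro y
    obtain ⟨i, n, hn⟩ := exists_eq (loc M g) k y
    obtain ⟨a, m, hm⟩ := exists_eq M g n
    obtain ⟨z₁, hz₁⟩ := surj_smul M (le_refl (D k)) i (to' M (D k) m)
    obtain ⟨z, hz⟩ := surj_smul M hk a z₁
    refine ⟨z, reg (loc M g) le_rfl i (reg (loc M g) hk a ?_)⟩
    change g ^ a • k ^ i • mapT (to' M (D g)) (D k) z = g ^ a • k ^ i • y
    rw [hn, smul_comm, ← map_smul, ← map_smul, hz, hz₁, mapT_to', ← hm, map_smul]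

lemma rs_loc_bijective (M : ModuleCat.{u} R) (g h k : R) (hk : D k = D h ⊓ D g) :
    Function.Bijective (rs (loc M g) (hk.le.trans inf_le_left : D k ≤ D h)) := by
  have hk1 : D k ≤ D h := hk.le.trans inf_le_left
  have hk2 : D k ≤ D g := hk.le.trans inf_le_right
  have key : D k = D (h * g) := hk.trans (PrimeSpectrum.basicOpen_mul h g).symm
  constructor
  · rw [injective_iff_map_eq_zero]
    intro y hy
    obtain ⟨n, m, hm⟩ := exists_eq (loc M g) h y
    have h1 : to' (loc M g) (D k) m = 0 := by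
      rw [← to'_rs _ hk1, ← hm, map_smul, hy, smul_zero]
    have h1' : to' (loc M g) (D (h * g)) m = 0 := by rwa [← key]
    obtain ⟨a, ha⟩ := (eq_zero_iff (loc M g) (h * g) _).1 h1'
    rw [mul_pow, mul_comm, mul_smul] at ha
    have h2 : to' (loc M g) (D h) m = 0 :=
      (eq_zero_iff _ h _).2 ⟨a, (reg M (le_refl (D g)) a).right_eq_zero_of_smul ha⟩
    exact (reg (loc M g) le_rfl n).right_eq_zero_of_smul (hm.trans h2)
  · intro y
    obtain ⟨e, n, hn⟩ : ∃ (e : ℕ) (n : loc M g), (h * g) ^ e • y = to' (loc M g) (D k) n := by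
      revert y; rw [key]; exact exists_eq _ _
    obtain ⟨n', hn'⟩ := surj_smul M (le_refl (D g)) e n
    obtain ⟨z, hz⟩ := surj_smul (loc M g) (le_refl (D h)) e (to' (loc M g) (D h) n')
    refine ⟨z, reg (loc M g) hk1 e (reg (loc M g) hk2 e ?_)⟩
    change g ^ e • h ^ e • rs (loc M g) hk1 z = g ^ e • h ^ e • y
    rw [smul_smul, smul_smul, ← mul_pow, mul_comm g h, hn, mul_pow, mul_comm, mul_smul,
      ← map_smul, hz, to'_rs, ← map_smul, hn']

end Groth.L17.TildeLoc
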