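import Groth.Prelude.Def_Coh
import Groth.Agent.L17.Kempf
import Groth.Agent.L17.TildeLoc

universe u
open CategoryTheory CategoryTheory.Limits TopologicalSpace Opposite Abelian AlgebraicGeometry
noncomputable section

namespace Groth.L17

open TildeLoc

lemma bijective_app_of_basis {X : TopCat.{u}} {B : Set (Opens X)} (hB : Opens.IsBasis B)
    {F G : AbSheaf X} (f : F ⟶ G) (h : ∀ W ∈ B, Function.Bijective (f.hom.app (op W))) : IsIso f := by
  refine TopCat.Sheaf.isIso_iff_isIso_basis (X := X) (φ := f)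
    (show Opens.IsBasis (Set.range fun W : B => W.1) by rwa [Subtype.range_coe]) fun W => ?_
  exact (ConcreteCategory.isIso_iff_bijective _).2 (h W.1 W.2)

lemma eq_zero_of_basis {X : TopCat.{u}} {B : Set (Opens X)} (hB : Opens.IsBasis B) (F : AbSheaf X)
    {U : Opens X} (s : F.obj.obj (op U))
    (h : ∀ W ∈ B, ∀ hW : W ≤ U, F.obj.map (homOfLE hW).op s = 0) : s = 0 := by
  refine TopCat.Presheaf.IsSheaf.section_ext (X := X) (F := F.obj) F.property fun x hx => ?_
  obtain ⟨W, hW, hxW, hWU⟩ := (Opens.isBasis_iff_nbhd.1 hB) hx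
  exact ⟨W, hWU, hxW, by rw [h W hW hWU, map_zero]⟩

lemma injective_app_of_basis {X : TopCat.{u}} {B : Set (Opens X)} (hB : Opens.IsBasis B)
    {F G : AbSheaf X} (f : F ⟶ G) (h : ∀ W ∈ B, Function.Injective (f.hom.app (op W))) (U : Opens X) :
    Function.Injective (f.hom.app (op U)) := by
  rw [injective_iff_map_eq_zero]
  intro s hs
  refine eq_zero_of_basis hB F s fun W hW hWU => h W hW ?_
  rw [NatTrans.naturality_apply, hs, map_zero, map_zero]

lemma exact_of_basis {X : TopCat.{u}} {B : Set (Opens X)} (hB : Opens.IsBasis B)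
    (S : ShortComplex (AbSheaf X))
    (h : ∀ U ∈ B, ∀ (s : S.X₂.obj.obj (op U)), S.g.hom.app (op U) s = 0 →
      ∃ t, S.f.hom.app (op U) t = s) : S.Exact := by
  refine (TopCat.Sheaf.exact_iff_stalkFunctor_map_exact S).2 fun p => ?_
  refine (ShortComplex.ab_exact_iff _).2 fun s hs => ?_
  obtain ⟨U, hpU, t, rfl⟩ := TopCat.Presheaf.exists_germ_eq (X := X) S.X₂.obj s
  have hs' : TopCat.Presheaf.germ S.X₃.obj U p hpU (S.g.hom.app (op U) t) =
      TopCat.Presheaf.germ S.X₃.obj U p hpU 0 := by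
    rw [map_zero]
    exact (TopCat.Presheaf.stalkFunctor_map_germ_apply _ _ _ _ _).symm.trans hs
  obtain ⟨W, hpW, iU, iU', hW⟩ := TopCat.Presheaf.germ_eq _ p hpU hpU _ _ hs'
  rw [map_zero] at hW
  obtain ⟨W', hW', hpW', hW'W⟩ := (Opens.isBasis_iff_nbhd.1 hB) hpW
  obtain ⟨r, hr⟩ := h W' hW' (S.X₂.obj.map ((homOfLE hW'W) ≫ iU).op t) (by
    rw [op_comp, Functor.map_comp_apply, NatTrans.naturality_apply, NatTrans.naturality_apply, hW, map_zero])
  refine ⟨TopCat.Presheaf.germ S.X₁.obj W' p hpW' r, ?_⟩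
  exact (TopCat.Presheaf.stalkFunctor_map_germ_apply _ _ _ _ _).trans
    ((congrArg _ hr).trans (TopCat.Presheaf.germ_res_apply _ _ _ _ _))

lemma epi_of_basis {X : TopCat.{u}} {B : Set (Opens X)} (hB : Opens.IsBasis B)
    {F G : AbSheaf X} (f : F ⟶ G) (h : ∀ W ∈ B, Function.Surjective (f.hom.app (op W))) : Epi f := by
  refine (CategoryTheory.Sheaf.isLocallySurjective_iff_epi' (A := AddCommGrpCat.{u}) (φ := f)).1 ?_
  refine (TopCat.Presheaf.isLocallySurjective_iff (X := X) _).2 fun U t p hp => ?_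
  obtain ⟨W, hW, hpW, hWU⟩ := (Opens.isBasis_iff_nbhd.1 hB) hp
  obtain ⟨s, hs⟩ := h W hW (G.obj.map (homOfLE hWU).op t)
  exact ⟨W, hWU, ⟨s, hs⟩, hpW⟩

variable {R : CommRingCat.{u}}

/-- The underlying abelian sheaf, as a functor on `X.Modules`. -/
abbrev toAbF (X : Scheme.{u}) : X.Modules ⥤ AbSheaf X.toTopCat :=
  SheafOfModules.toSheaf X.ringCatSheaf

/-- `M ↦ M~` as an abelian sheaf. -/
abbrev tildeAb (M : ModuleCat.{u} R) : AbSheaf (Spec R).toTopCat := Coh.toAb (tilde M)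

/-- `tilde` followed by the underlying abelian sheaf. -/
abbrev tildeAbF (R : CommRingCat.{u}) : ModuleCat.{u} R ⥤ AbSheaf (Spec R).toTopCat :=
  tilde.functor R ⋙ toAbF (Spec R)

abbrev tildeAbMap {M N : ModuleCat.{u} R} (l : M ⟶ N) : tildeAb M ⟶ tildeAb N :=
  (tildeAbF R).map l

/-- The basis of standard opens. -/
abbrev stdB (R : CommRingCat.{u}) : Set (Opens (Spec R).toTopCat) := Set.range fun g : R => D g

lemma stdB_isBasis : Opens.IsBasis (stdB R) := PrimeSpectrum.isBasis_basic_opens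

instance (X : Scheme.{u}) : (toAbF X).Additive := inferInstanceAs (SheafOfModules.toSheaf X.ringCatSheaf).Additive

instance : (tildeAbF R).Additive := inferInstanceAs (_ ⋙ _).Additive

lemma tildeAbMap_comp {M N P : ModuleCat.{u} R} (l : M ⟶ N) (l' : N ⟶ P) :
    tildeAbMap (l ≫ l') = tildeAbMap l ≫ tildeAbMap l' := (tildeAbF R).map_comp l l'

lemma tildeAbMap_id (M : ModuleCat.{u} R) : tildeAbMap (𝟙 M) = 𝟙 _ := (tildeAbF R).map_id M

lemma tildeAbMap_zero (M N : ModuleCat.{u} R) : tildeAbMap (0 : M ⟶ N) = 0 := (tildeAbF R).map_zero _ _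

lemma shortExact_tilde (S : ShortComplex (ModuleCat.{u} R)) (hS : S.ShortExact) :
    (ShortComplex.mk (tildeAbMap S.f) (tildeAbMap S.g)
      ((tildeAbMap_comp _ _).symm.trans ((congrArg tildeAbMap S.zero).trans (tildeAbMap_zero _ _)))).ShortExact where
  exact := exact_of_basis stdB_isBasis _ (by
    rintro _ ⟨g, rfl⟩ s hs
    exact mapT_exact S.f S.g ((ShortComplex.ShortExact.moduleCat_exact_iff_function_exact S).1 hS.exact) g s hs)
  mono_f := mono_of_injective_app _ fun U => injective_app_of_basis stdB_isBasis _ (by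
    rintro _ ⟨g, rfl⟩
    exact mapT_injective S.f ((ModuleCat.mono_iff_injective _).1 hS.mono_f) g) U
  epi_g := epi_of_basis stdB_isBasis _ (by
    rintro _ ⟨g, rfl⟩
    exact mapT_surjective S.g ((ModuleCat.epi_iff_surjective _).1 hS.epi_g) g)

lemma isIso_unit_loc (M : ModuleCat.{u} R) (g : R) :
    IsIso ((phiUnit (D g)).app (tildeAb (loc M g))) := by
  refine bijective_app_of_basis stdB_isBasis _ ?_
  rintro _ ⟨h, rfl⟩
  obtain ⟨k, hk⟩ : ∃ k, D k = D h ⊓ D g := ⟨h * g, PrimeSpectrum.basicOpen_mul h g⟩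
  have : ∀ (W : (Spec R).Opens) (hW : W ≤ D h), W = D k →
      Function.Bijective (rs (loc M g) hW) := by
    rintro W hW rfl
    exact rs_loc_bijective M g h k hk
  exact this (D h ⊓ D g) inf_le_left hk.symm

lemma isIso_phi_tildeAbMap_toOpen (M : ModuleCat.{u} R) (g : R) :
    IsIso ((phi (D g)).map (tildeAbMap (to' M (D g)))) := by
  refine bijective_app_of_basis stdB_isBasis _ ?_
  rintro _ ⟨h, rfl⟩
  have : ∀ (W : (Spec R).Opens), W = D (h * g) →
      Function.Bijective (mapT (to' M (D g)) W) := by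
    rintro W rfl
    exact mapT_toOpen_bijective M g (h * g) (PrimeSpectrum.basicOpen_mul_le_right h g)
  exact this (D h ⊓ D g) (PrimeSpectrum.basicOpen_mul h g).symm

/-- The identification of `(M_g)~` with `phi (D g) M~`. -/
def locIso (M : ModuleCat.{u} R) (g : R) : tildeAb (loc M g) ≅ (phi (D g)).obj (tildeAb M) :=
  have := isIso_unit_loc M g
  have := isIso_phi_tildeAbMap_toOpen M g
  asIso ((phiUnit (D g)).app (tildeAb (loc M g))) ≪≫
    (asIso ((phi (D g)).map (tildeAbMap (to' M (D g))))).symm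

lemma toOpen_locIso (M : ModuleCat.{u} R) (g : R) :
    tildeAbMap (to' M (D g)) ≫ (locIso M g).hom = (phiUnit (D g)).app (tildeAb M) := by
  simp only [locIso, Iso.trans_hom, asIso_hom, Iso.symm_hom, asIso_inv]
  rw [← Category.assoc, IsIso.comp_inv_eq]
  exact (phiUnit (D g)).naturality (tildeAbMap (to' M (D g)))

lemma huMap_sum {X : TopCat.{u}} {U : Opens X} {F G : AbSheaf X} {ι : Type} [Fintype ι]
    (f : ι → (F ⟶ G)) {n : ℕ} (x : HU U F n) : huMap (∑ i, f i) x = ∑ i, huMap (f i) x := by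
  rw [huMap, Ext.mk₀_sum, Ext.comp_sum]

lemma exists_pi_data {m : ℕ} (L₀ : ModuleCat.{u} R) (L : Fin m → ModuleCat.{u} R) (r : ∀ j, L₀ ⟶ L j)
    (hr : ∀ a b : L₀, (∀ j, r j a = r j b) → a = b) :
    ∃ (P : ModuleCat.{u} R) (α : L₀ ⟶ P) (pr : ∀ j, P ⟶ L j) (inc : ∀ j, L j ⟶ P),
      Function.Injective α ∧ (∀ j, α ≫ pr j = r j) ∧ (∑ j, pr j ≫ inc j) = 𝟙 P := by
  refine ⟨ModuleCat.of R (∀ j, L j), ModuleCat.ofHom (LinearMap.pi fun j => (r j).hom),
    fun j => ModuleCat.ofHom (LinearMap.proj j),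
    fun j => ModuleCat.ofHom (LinearMap.single R (fun j => (L j : Type u)) j),
    fun a b hab => hr a b fun j => congrFun hab j, fun j => rfl, ?_⟩
  ext y
  simp

/-- A tilde has no higher cohomology on standard opens. -/
theorem hu_tilde_eq_zero (M : ModuleCat.{u} R) (g : R) (n : ℕ)
    (x : HU (D g) (tildeAb M) (n + 1)) : x = 0 := by
  refine kempf (stdB R) stdB_isBasis ?_ ?_
    (fun F => ∃ M : ModuleCat.{u} R, F = tildeAb M) ?_ n (D g) ⟨g, rfl⟩ _ ⟨M, rfl⟩ x
  · rintro _ ⟨h, rfl⟩; exact PrimeSpectrum.isCompact_basicOpen h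
  · rintro _ ⟨h, rfl⟩ _ ⟨h', rfl⟩; exact ⟨h * h', PrimeSpectrum.basicOpen_mul h h'⟩
  rintro _ ⟨M, rfl⟩ _ ⟨g, rfl⟩ m Dj hDj hU
  choose h hh using hDj
  obtain rfl : Dj = fun j => D (h j) := funext fun j => (hh j).symm
  have hle : ∀ j, D (h j) ≤ D g := fun j => (le_iSup (fun j => D (h j)) j).trans hU.ge
  have hinj : ∀ a b : (loc M g : ModuleCat.{u} R), (∀ j, rs M (hle j) a = rs M (hle j) b) → a = b := by
    intro a b hab
    refine TopCat.Presheaf.IsSheaf.section_ext (X := (Spec R).toTopCat)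
      (modulesSpecToSheaf.obj (tilde M)).2 fun p hp => ?_
    have hp' : p ∈ ⨆ j, D (h j) := hU.le hp
    obtain ⟨j, hj⟩ := Opens.mem_iSup.1 hp'
    exact ⟨D (h j), hle j, hj, hab j⟩
  obtain ⟨P, α, pr, inc, hα, hαpr, hsum⟩ :=
    exists_pi_data (loc M g) (fun j => loc M (h j)) (fun j => rs M (hle j)) hinj
  let Q : ShortComplex (ModuleCat.{u} R) :=
    ShortComplex.mk α (cokernel.π α) (cokernel.condition α)
  have hQ : Q.ShortExact :=
    { exact := ShortComplex.exact_of_g_is_cokernel _ (cokernelIsCokernel _)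
      mono_f := (ModuleCat.mono_iff_injective _).2 hα }
  refine ⟨ShortComplex.mk (tildeAbMap Q.f) (tildeAbMap Q.g)
      ((tildeAbMap_comp _ _).symm.trans ((congrArg tildeAbMap Q.zero).trans (tildeAbMap_zero _ _))),
    tildeAbMap (to' M (D g)), (locIso M g).hom, fun j => tildeAbMap (pr j) ≫ (locIso M (h j)).hom,
    shortExact_tilde Q hQ, ⟨_, rfl⟩, mapT_surjective Q.g ((ModuleCat.epi_iff_surjective _).1 hQ.epi_g) g,
    toOpen_locIso M g, fun j => ?_, inferInstance, fun k x hx => ?_⟩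
  · have : to' M (D g) ≫ α ≫ pr j = to' M (D (h j)) := by
      rw [hαpr]
      exact tilde.toOpen_res M _ _ (homOfLE (hle j))
    rw [← toOpen_locIso, ← Category.assoc, ← Category.assoc]
    congr 1
    refine (Category.assoc _ _ _).trans ((congrArg _ (tildeAbMap_comp α (pr j)).symm).trans ?_)
    exact (tildeAbMap_comp _ _).symm.trans (congrArg tildeAbMap this)
  · have hz : ∀ j, huMap (tildeAbMap (pr j)) x = 0 := fun j => by
      have := congrArg (huMap (locIso M (h j)).inv) (hx j)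
      rw [← huMap_comp, Category.assoc, Iso.hom_inv_id, Category.comp_id] at this
      rw [this]
      simp [huMap]
    have hid : (∑ j, tildeAbMap (pr j ≫ inc j)) = 𝟙 _ := by
      rw [← tildeAbMap_id P, ← hsum]
      exact (map_sum (AddMonoidHom.mk' (fun l : P ⟶ P => tildeAbMap l)
        (fun a b => (tildeAbF R).map_add)) _ _).symm
    have : huMap (∑ j, tildeAbMap (pr j ≫ inc j)) x = x := by rw [hid]; exact Ext.comp_mk₀_id x
    rw [← this, huMap_sum]
    refine Finset.sum_eq_zero fun j _ => ?_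
    refine (congrArg (fun φ => huMap φ x) (tildeAbMap_comp (pr j) (inc j))).trans ?_
    rw [huMap_comp, hz j]
    simp [huMap]

/-- Serre vanishing on a spectrum. -/
theorem subsingleton_HH_spec (M : (Spec R).Modules) [M.IsQuasicoherent] (p : ℕ) :
    Subsingleton (Coh.HH (Spec R) M (p + 1)) := by
  obtain ⟨N, ⟨e⟩⟩ : ∃ N, Nonempty (tilde N ≅ M) :=
    have : IsIso M.fromTildeΓ := Scheme.Modules.isIso_fromTildeΓ_of_isQuasicoherent (R := R) M
    ⟨_, ⟨asIso M.fromTildeΓ⟩⟩
  have h0 : ∀ x : HU (⊤ : Opens (Spec R).toTopCat) (tildeAb N) (p + 1), x = 0 := by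
    rw [show (⊤ : Opens (Spec R).toTopCat) = D (1 : R) from PrimeSpectrum.basicOpen_one.symm]
    exact hu_tilde_eq_zero N 1 p
  have : Subsingleton (Sheaf.H.{u} (tildeAb N) (p + 1)) :=
    have := subsingleton_of_forall_eq 0 h0
    (hTopEquiv _ _).subsingleton
  exact @Equiv.subsingleton _ _ ((Sheaf.functorH _ (p + 1)).mapIso
    ((toAbF (Spec R)).mapIso e)).symm.addCommGroupIsoToAddEquiv.toEquiv this

end Groth.L17
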