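import Groth.Prelude.Def_Coh
import Groth.Agent.L17.SpecVanishing
import Groth.Agent.L17.OpenTransfer

universe u
open CategoryTheory CategoryTheory.Limits TopologicalSpace Opposite Abelian AlgebraicGeometry
noncomputable section

namespace Groth.L17

variable {X : Scheme.{u}}

/-- Cohomology of a module on an open, computed on the open subscheme. -/
theorem nonempty_hhon_equiv (M : X.Modules) (U : X.Opens) (n : ℕ) :
    Nonempty (Coh.HHon X M U n ≃+ HU (X := X.toTopCat) U (Coh.toAb M) n) := by
  obtain ⟨e⟩ := nonempty_hu_image U.ι (⊤ : U.toScheme.Opens) (Coh.toAb M) n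
  rw [Scheme.Hom.image_top_eq_opensRange, Scheme.Opens.opensRange_ι] at e
  exact ⟨(hTopEquiv (X := U.toScheme.toTopCat) _ n).trans e.symm⟩

/-- Quasi-coherent modules are acyclic on affine opens. -/
theorem hu_affine_eq_zero (M : X.Modules) [Coh.IsQCoh M] {U : X.Opens} (hU : IsAffineOpen U) (n : ℕ)
    (x : HU (X := X.toTopCat) U (Coh.toAb M) (n + 1)) : x = 0 := by
  obtain ⟨e⟩ := nonempty_hu_image hU.fromSpec (⊤ : (Spec Γ(X, U)).Opens) (Coh.toAb M) (n + 1)
  rw [Scheme.Hom.image_top_eq_opensRange, hU.opensRange_fromSpec] at e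
  exact (e.trans (hTopEquiv (X := (Spec Γ(X, U)).toTopCat) _ (n + 1)).symm).injective
    (@Subsingleton.elim _ (subsingleton_HH_spec (R := Γ(X, U)) (M.restrict hU.fromSpec) n) _ _)

/-- Serre vanishing on an affine scheme. -/
theorem subsingleton_HH_of_isAffine (X : Scheme.{u}) [IsAffine X] (M : X.Modules) [Coh.IsQCoh M]
    (n : ℕ) : Subsingleton (Coh.HH X M (n + 1)) :=
  have := subsingleton_of_forall_eq 0 (hu_affine_eq_zero M (isAffineOpen_top X) n)
  (hTopEquiv (X := X.toTopCat) (Coh.toAb M) (n + 1)).subsingleton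

/-- Vanishing on affine opens, in the `HHon` formulation. -/
theorem subsingleton_HHon_of_isAffineOpen (M : X.Modules) [Coh.IsQCoh M] {U : X.Opens}
    (hU : IsAffineOpen U) (n : ℕ) : Subsingleton (Coh.HHon X M U (n + 1)) := by
  obtain ⟨e⟩ := nonempty_hhon_equiv M U (n + 1)
  have := subsingleton_of_forall_eq 0 (hu_affine_eq_zero M hU n)
  exact e.subsingleton

end Groth.L17
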