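import Groth.Prelude.Def_Coh
import Groth.Agent.L17.AffineVanishing
import Groth.Agent.L10.TopCoh

universe u
open CategoryTheory CategoryTheory.Limits TopologicalSpace Opposite Abelian AlgebraicGeometry
noncomputable section

namespace Groth.L17

open Groth.L10 Groth.L10.SiteCoh

variable {X S : Scheme.{u}}

/-- A sheaf without higher cohomology on the preimages of a basis is acyclic for direct image. -/
theorem locAcyclic_of_basis {X Y : TopCat.{u}} (f : X ⟶ Y) {B : Set (Opens Y)} (hB : Opens.IsBasis B)
    (F : AbSheaf X) (h : ∀ W ∈ B, ∀ (n : ℕ) (x : HU ((Opens.map f).obj W) F (n + 1)), x = 0) :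
    LocAcyclic (Opens.grothendieckTopology Y) (Opens.map f) F := fun V n x => by
  refine ⟨⟨{ arrows := fun W g =>
              (Ext.mk₀ (fsMap (Opens.grothendieckTopology X) ((Opens.map f).map g))).comp x (zero_add (n+1)) = 0
             downward_closed := fun {W W'} g hg g' => by
              simp only [fsMap, fpMap, Functor.map_comp, Functor.whiskerRight_comp]
              rw [← Ext.mk₀_comp_mk₀_assoc, hg, Ext.comp_zero] }, fun y hy => ?_⟩, fun a => a.hf⟩
  obtain ⟨W, hW, hyW, hWV⟩ := (Opens.isBasis_iff_nbhd.1 hB) hy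
  exact ⟨W, homOfLE hWV, h W hW n _, hyW⟩

/-- Quasi-coherent modules are acyclic for the direct image along an affine morphism. -/
theorem locAcyclic_of_isAffineHom (f : X ⟶ S) [IsAffineHom f] (M : X.Modules) [Coh.IsQCoh M] :
    LocAcyclic (Opens.grothendieckTopology S) (Opens.map f.base) (Coh.toAb M) :=
  locAcyclic_of_basis (Y := S.toTopCat) f.base (B := S.affineOpens) S.isBasis_affineOpens _
    fun W hW n x => hu_affine_eq_zero M (U := f ⁻¹ᵁ W) (hW.preimage f) n x

/-- Higher direct images along an affine morphism vanish. -/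
theorem isZero_RpushAb_of_isAffineHom (f : X ⟶ S) [IsAffineHom f] (M : X.Modules) [Coh.IsQCoh M]
    (n : ℕ) : IsZero ((Coh.RpushAb f (n + 1)).obj (Coh.toAb M)) :=
  (isZero_Rpush_succ_iff _ (Opens.map f.base) (Coh.toAb M)).2 (locAcyclic_of_isAffineHom f M) n

/-- Cohomology along an affine morphism. -/
theorem nonempty_HH_push_of_isAffineHom (f : X ⟶ S) [IsAffineHom f] (M : X.Modules) [Coh.IsQCoh M]
    (n : ℕ) : Nonempty (Coh.HH X M n ≃+ Coh.HH S ((Coh.push f).obj M) n) :=
  TopCoh.nonempty_H_push (Y := S.toTopCat) f.base (Coh.toAb M) (locAcyclic_of_isAffineHom f M) n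

/-- Cohomology along a closed immersion, for every module. -/
theorem nonempty_HH_push_of_isClosedImmersion (f : X ⟶ S) [IsClosedImmersion f] (M : X.Modules)
    (n : ℕ) : Nonempty (Coh.HH X M n ≃+ Coh.HH S ((Coh.push f).obj M) n) :=
  TopCoh.nonempty_H_push (Y := S.toTopCat) f.base (Coh.toAb M)
    (TopCoh.locAcyclic_of_isClosedEmbedding f.base f.isClosedEmbedding _) n

/-- Higher direct images along a closed immersion vanish, for every module. -/
theorem isZero_RpushAb_of_isClosedImmersion (f : X ⟶ S) [IsClosedImmersion f] (M : X.Modules)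
    (n : ℕ) : IsZero ((Coh.RpushAb f (n + 1)).obj (Coh.toAb M)) :=
  (isZero_Rpush_succ_iff _ (Opens.map f.base) (Coh.toAb M)).2
    (TopCoh.locAcyclic_of_isClosedEmbedding f.base f.isClosedEmbedding _) n

end Groth.L17
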