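import Groth.Agent.L10.TopCech
import Groth.Agent.L00.ModSiteTensor
import Mathlib.Algebra.Category.ModuleCat.Presheaf.Free
import Mathlib.Algebra.Category.ModuleCat.Presheaf.Abelian
import Mathlib.Algebra.Category.ModuleCat.Presheaf.Limits
import Mathlib.Algebra.Homology.ShortComplex.ModuleCat
import Mathlib.CategoryTheory.Adjunction.Additive

/-!
For modules `F`, `G` on a small ringed site with `G` injective, the abelian sheaf underlying
`Hom_O(F, G)` is totally acyclic: its Čech complex of a map of sheaves of sets is `Hom(-, G)` of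
the Čech complex of free modules tensored with `F`, which is exact in positive degrees objectwise.
-/

set_option autoImplicit false

universe u

open CategoryTheory CategoryTheory.Limits MonoidalCategory Opposite Simplicial

namespace Groth.L17.HomAcyclic

open Groth.L10 Groth.L10.SiteFr Groth.L00.ModSiteTensor

section General

variable {A : Type*} [Category A] [Preadditive A] {T : Type u ⥤ A}

/-- Extra degeneracies give contracting homotopies of alternating sums of faces. -/
theorem homotopy_of_extra {n : ℕ} {X₂ X₁ X₀ : Type u} (δ : Fin (n+3) → (X₂ ⟶ X₁))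
    (δ' : Fin (n+2) → (X₁ ⟶ X₀)) (s : X₁ ⟶ X₂) (s' : X₀ ⟶ X₁) (h0 : s ≫ δ 0 = 𝟙 X₁)
    (hs : ∀ j, s ≫ δ (Fin.succ j) = δ' j ≫ s') :
    T.map s ≫ (∑ j : Fin (n+3), (-1 : ℤ) ^ (j : ℕ) • T.map (δ j)) +
      (∑ j : Fin (n+2), (-1 : ℤ) ^ (j : ℕ) • T.map (δ' j)) ≫ T.map s' = 𝟙 (T.obj X₁) := by
  have key : T.map s ≫ (∑ j : Fin (n+2), (-1 : ℤ) ^ (j.succ : ℕ) • T.map (δ j.succ)) =
      -((∑ j : Fin (n+2), (-1 : ℤ) ^ (j : ℕ) • T.map (δ' j)) ≫ T.map s') := by
    rw [Preadditive.comp_sum, Preadditive.sum_comp, ← Finset.sum_neg_distrib]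
    refine Finset.sum_congr rfl fun j _ => ?_
    rw [Preadditive.comp_zsmul, Preadditive.zsmul_comp, ← T.map_comp, hs, T.map_comp, Fin.val_succ, pow_succ,
      mul_neg_one, neg_smul]
  rw [Fin.sum_univ_succ, Preadditive.comp_add, key, Fin.val_zero, pow_zero, one_smul, ← T.map_comp, h0, T.map_id,
    neg_add_cancel_right]

end General

section Exact

variable {R : Type u} [Ring R]

theorem exact_of_homotopy (S : ShortComplex (ModuleCat.{u} R)) (a : S.X₂ ⟶ S.X₁) (b : S.X₃ ⟶ S.X₂)
    (h : a ≫ S.f + S.g ≫ b = 𝟙 S.X₂) : S.Exact :=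
  (ShortComplex.moduleCat_exact_iff S).2 fun x hx => ⟨a x, by
    have hx' := LinearMap.congr_fun (congrArg ModuleCat.Hom.hom h) x
    change S.f (a x) + b (S.g x) = x at hx'
    rwa [hx, map_zero, add_zero] at hx'⟩

end Exact

variable {C : Type u} [SmallCategory C] {J : GrothendieckTopology C} (O : Sheaf J CommRingCat.{u})
  (F : ModSite.Mod O)

/-- The free presheaf of modules on a sheaf of sets. -/
noncomputable abbrev freeMod : Sheaf J (Type u) ⥤ PMo O :=
  sheafToPresheaf J (Type u) ⋙ PresheafOfModules.free (O.obj ⋙ forget₂ CommRingCat RingCat)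

/-- The free presheaf of modules tensored with `F`. -/
noncomputable abbrev PT : Sheaf J (Type u) ⥤ PMo O :=
  freeMod O ⋙ MonoidalCategory.tensorRight ((preF O).obj F)

/-- Its sheafification. -/
noncomputable abbrev Φ : Sheaf J (Type u) ⥤ ModSite.Mod O := PT O F ⋙ shf O

instance shf_isLeftAdjoint : (shf O).IsLeftAdjoint := (shfAdj O).isLeftAdjoint

theorem shf_preservesFiniteLimits : PreservesFiniteLimits (shf O) :=
  inferInstanceAs (PreservesFiniteLimits (PresheafOfModules.sheafification.{u} (𝟙 (ModSite.ringSh O).obj)))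

instance shf_additive : (shf O).Additive :=
  haveI := preservesBinaryBiproducts_of_preservesBinaryCoproducts (shf O)
  Functor.additive_of_preservesBinaryBiproducts _

variable {K' K : Sheaf J (Type u)} (f : K' ⟶ K)

/-- The presheaf differential. -/
noncomputable def DP (n : ℕ) : (PT O F).obj (Nerve.N f (n+1)) ⟶ (PT O F).obj (Nerve.N f n) :=
  ∑ j : Fin (n+2), (-1 : ℤ) ^ (j : ℕ) • (PT O F).map (Nerve.δ f j)

theorem DP_comp_DP (n : ℕ) : DP O F f (n+1) ≫ DP O F f n = 0 :=
  AlgebraicTopology.AlternatingFaceMapComplex.d_squared ((Arrow.mk f).cechNerve ⋙ PT O F) n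

/-- The extra degeneracy on sections. -/
noncomputable def sV (V : Cᵒᵖ) (n : ℕ) : (Nerve.N f n).obj.obj V ⟶ (Nerve.N f (n+1)).obj.obj V :=
  ↾fun x => repEquiv V.unop _ (Nerve.s f ((repEquiv V.unop _).symm x))

theorem sV_δ_zero (V : Cᵒᵖ) (n : ℕ) : sV f V n ≫ (Nerve.δ f 0).hom.app V = 𝟙 _ :=
  ConcreteCategory.hom_ext _ _ fun x =>
    (repEquiv_comp (V := V.unop) (Nerve.s f ((repEquiv V.unop (Nerve.N f n)).symm x)) (Nerve.δ f 0)).symm.trans
      ((congrArg (repEquiv V.unop _) (Nerve.s_δ_zero f _)).trans (Equiv.apply_symm_apply _ x))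

theorem sV_δ_succ (V : Cᵒᵖ) (n : ℕ) (j : Fin (n+2)) :
    sV f V (n+1) ≫ (Nerve.δ f j.succ).hom.app V = (Nerve.δ f j).hom.app V ≫ sV f V n :=
  ConcreteCategory.hom_ext _ _ fun x => by
    refine (repEquiv_comp (V := V.unop) (Nerve.s f ((repEquiv V.unop (Nerve.N f (n+1))).symm x)) (Nerve.δ f j.succ)).symm.trans ?_
    rw [Nerve.s_δ_succ]
    refine congrArg (fun a => repEquiv V.unop _ (Nerve.s f a)) ?_
    apply (repEquiv V.unop (Nerve.N f n)).injective
    rw [repEquiv_comp]
    exact (congrArg _ ((repEquiv V.unop _).apply_symm_apply x)).trans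
      ((repEquiv V.unop (Nerve.N f n)).apply_symm_apply _).symm

/-- The value at `V`, as a functor of sets. -/
noncomputable abbrev TV (V : Cᵒᵖ) : Type u ⥤ ModuleCat.{u} (O.obj.obj V) :=
  ModuleCat.free (O.obj.obj V) ⋙ MonoidalCategory.tensorRight (show ModuleCat.{u} (O.obj.obj V) from F.val.obj V)

theorem PT_map_app {X Y : Sheaf J (Type u)} (a : X ⟶ Y) (V : Cᵒᵖ) :
    ((PT O F).map a).app V = (TV O F V).map (a.hom.app V) :=
  MonoidalCategory.tensorHom_id (C := ModuleCat.{u} (O.obj.obj V)) _ _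

theorem exact_DP (n : ℕ) :
    (ShortComplex.mk (DP O F f (n+1)) (DP O F f n) (DP_comp_DP O F f n)).Exact := by
  let R := O.obj ⋙ forget₂ CommRingCat RingCat
  rw [ShortComplex.exact_iff_isZero_homology, IsZero.iff_id_eq_zero]
  refine PresheafOfModules.hom_ext fun V => ?_
  have e := ((ShortComplex.mk (DP O F f (n+1)) (DP O F f n) (DP_comp_DP O F f n)).mapHomologyIso
    (PresheafOfModules.evaluation R V))
  refine ((ShortComplex.exact_iff_isZero_homology _).1 ?_).of_iso e.symm |>.eq_of_src _ _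
  have hd : ∀ m, (PresheafOfModules.evaluation R V).map (DP O F f m) =
      ∑ j : Fin (m+2), (-1 : ℤ) ^ (j : ℕ) • (TV O F V).map ((Nerve.δ f j).hom.app V) := fun m => by
    rw [DP, Functor.map_sum]
    refine Finset.sum_congr rfl fun j _ => ?_
    rw [Functor.map_zsmul]
    exact congrArg (((-1 : ℤ) ^ (j : ℕ)) • ·) (PT_map_app O F (Nerve.δ f j) V)
  let A₂ := (TV O F V).obj ((Nerve.N f (n+1+1)).obj.obj V)
  let A₁ := (TV O F V).obj ((Nerve.N f (n+1)).obj.obj V)
  let A₀ := (TV O F V).obj ((Nerve.N f n).obj.obj V)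
  let u₁ : A₂ ⟶ A₁ := (PresheafOfModules.evaluation R V).map (DP O F f (n+1))
  let u₀ : A₁ ⟶ A₀ := (PresheafOfModules.evaluation R V).map (DP O F f n)
  let a : A₁ ⟶ A₂ := (TV O F V).map (sV f V (n+1))
  let b : A₀ ⟶ A₁ := (TV O F V).map (sV f V n)
  have hu : a ≫ u₁ + u₀ ≫ b = 𝟙 A₁ :=
    (congrArg₂ (fun (p : A₂ ⟶ A₁) (q : A₁ ⟶ A₀) => a ≫ p + q ≫ b) (hd (n+1)) (hd n)).trans
      (homotopy_of_extra (T := TV O F V) (fun j => (Nerve.δ f j).hom.app V) (fun j => (Nerve.δ f j).hom.app V) _ _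
        (sV_δ_zero f V (n+1)) (sV_δ_succ f V n))
  exact exact_of_homotopy _ a b hu

/-- The differential of the sheafified complex. -/
noncomputable def DΦ (n : ℕ) : (Φ O F).obj (Nerve.N f (n+1)) ⟶ (Φ O F).obj (Nerve.N f n) :=
  (shf O).map (DP O F f n)

theorem DΦ_eq (n : ℕ) : DΦ O F f n = ∑ j : Fin (n+2), (-1 : ℤ) ^ (j : ℕ) • (Φ O F).map (Nerve.δ f j) := by
  rw [DΦ, DP, Functor.map_sum]
  simp only [Functor.map_zsmul]
  rfl

theorem DΦ_comp_DΦ (n : ℕ) : DΦ O F f (n+1) ≫ DΦ O F f n = 0 := by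
  rw [DΦ, DΦ, ← Functor.map_comp, DP_comp_DP, Functor.map_zero]

theorem exact_DΦ (n : ℕ) :
    (ShortComplex.mk (DΦ O F f (n+1)) (DΦ O F f n) (DΦ_comp_DΦ O F f n)).Exact := by
  have := shf_preservesFiniteLimits O
  exact (exact_DP O F f n).map (shf O)

variable [ModSite.HasSheafHom F]

instance tensorFlip_additive : ((ModSite.tensorBi O).flip.obj F).Additive :=
  haveI := preservesBinaryBiproducts_of_preservesBinaryCoproducts ((ModSite.tensorBi O).flip.obj F)
  Functor.additive_of_preservesBinaryBiproducts _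

/-- The module map attached to a map out of a free abelian sheaf. -/
noncomputable def freeFun {H : ModSite.Mod O} {X : Sheaf J (Type u)}
    (z : (fr J).obj X ⟶ ModSite.toAb H) : (freeMod O).obj X ⟶ (preF O).obj H :=
  (PresheafOfModules.freeHomEquiv (G := (preF O).obj H) (F := X.obj)).symm ((adj J).homEquiv X _ z).hom

omit [ModSite.HasSheafHom F] in
theorem freeFun_comp {H : ModSite.Mod O} {X Y : Sheaf J (Type u)} (a : X ⟶ Y)
    (z : (fr J).obj Y ⟶ ModSite.toAb H) :
    freeFun O ((fr J).map a ≫ z) = (freeMod O).map a ≫ freeFun O z := by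
  rw [freeFun, (adj J).homEquiv_naturality_left]
  have h := (PresheafOfModules.freeAdjunction (O.obj ⋙ forget₂ CommRingCat RingCat)).homEquiv_naturality_left_symm
    a.hom (Y := (preF O).obj H) ((adj J).homEquiv Y _ z).hom
  rw [PresheafOfModules.freeAdjunction_homEquiv, PresheafOfModules.freeAdjunction_homEquiv] at h
  exact h

/-- Maps out of a free abelian sheaf into an abelian sheaf underlying a module. -/
noncomputable def freeEquiv (H : ModSite.Mod O) (X : Sheaf J (Type u)) :
    ((fr J).obj X ⟶ ModSite.toAb H) ≃+ ((freeMod O).obj X ⟶ (preF O).obj H) where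
  toFun := freeFun O
  invFun w := ((adj J).homEquiv X _).symm ⟨PresheafOfModules.freeHomEquiv w⟩
  left_inv z := ((adj J).homEquiv X _).symm_apply_eq.2
    (Sheaf.hom_ext (PresheafOfModules.freeHomEquiv.apply_symm_apply _))
  right_inv w := PresheafOfModules.freeHomEquiv.symm_apply_eq.2
    (congrArg (fun q : X ⟶ (U J).obj (ModSite.toAb H) => q.hom) (((adj J).homEquiv X _).apply_symm_apply _))
  map_add' z z' := by
    apply PresheafOfModules.freeHomEquiv.injective
    rw [freeFun, Equiv.apply_symm_apply, adj_homEquiv_add]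
    refine NatTrans.ext (funext fun V => ConcreteCategory.hom_ext _ _ fun x => ?_)
    refine Eq.trans ?_ (congrArg₂ (· + ·)
      (congr(($(PresheafOfModules.freeHomEquiv.apply_symm_apply ((adj J).homEquiv X _ z).hom)).app V x)).symm
      (congr(($(PresheafOfModules.freeHomEquiv.apply_symm_apply ((adj J).homEquiv X _ z').hom)).app V x)).symm)
    rfl

/-- Maps out of the sheafification. -/
noncomputable def shfEquiv (H : ModSite.Mod O) (P : PMo O) :
    (P ⟶ (preF O).obj H) ≃+ ((shf O).obj P ⟶ H) :=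
  ((shfAdj O).homAddEquiv P H).symm

omit [ModSite.HasSheafHom F] in
theorem shfEquiv_natural (H : ModSite.Mod O) {P Q : PMo O} (a : P ⟶ Q) (w : Q ⟶ (preF O).obj H) :
    shfEquiv O H P (a ≫ w) = (shf O).map a ≫ shfEquiv O H Q w :=
  (shfAdj O).homEquiv_naturality_left_symm a w

/-- Maps into the internal hom out of a sheafification. -/
noncomputable def tensEquiv (G : ModSite.Mod O) (P : PMo O) :
    ((shf O).obj P ⟶ (ModSite.sheafHom F).obj G) ≃+ ((preTensor F).obj P ⟶ G) :=
  ((ModSite.sheafHomAdj F).homAddEquiv _ G).symm.trans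
    { toFun := fun w => (shfCompIso F).inv.app P ≫ w
      invFun := fun w => (shfCompIso F).hom.app P ≫ w
      left_inv := fun w => Iso.hom_inv_id_app_assoc (shfCompIso F) _ w
      right_inv := fun w => Iso.inv_hom_id_app_assoc (shfCompIso F) _ w
      map_add' := fun a b => Preadditive.comp_add _ _ _ _ a b }

theorem tensEquiv_natural (G : ModSite.Mod O) {P Q : PMo O} (a : P ⟶ Q)
    (w : (shf O).obj Q ⟶ (ModSite.sheafHom F).obj G) :
    tensEquiv O F G P ((shf O).map a ≫ w) = (preTensor F).map a ≫ tensEquiv O F G Q w :=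
  (congrArg (fun v => (shfCompIso F).inv.app P ≫ v)
    ((ModSite.sheafHomAdj F).homEquiv_naturality_left_symm ((shf O).map a) w)).trans
    ((shfCompIso F).inv.naturality_assoc a _).symm

/-- Maps out of a free abelian sheaf into an internal hom. -/
noncomputable def homEquivΦ (G : ModSite.Mod O) (X : Sheaf J (Type u)) :
    ((fr J).obj X ⟶ ModSite.toAb ((ModSite.sheafHom F).obj G)) ≃+ ((Φ O F).obj X ⟶ G) :=
  (freeEquiv O _ X).trans ((shfEquiv O _ _).trans (tensEquiv O F G _))

theorem homEquivΦ_natural (G : ModSite.Mod O) {X Y : Sheaf J (Type u)} (a : X ⟶ Y)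
    (z : (fr J).obj Y ⟶ ModSite.toAb ((ModSite.sheafHom F).obj G)) :
    homEquivΦ O F G X ((fr J).map a ≫ z) = (Φ O F).map a ≫ homEquivΦ O F G Y z :=
  ((congrArg (fun w => tensEquiv O F G _ (shfEquiv O _ _ w)) (freeFun_comp O a z)).trans
    (congrArg (tensEquiv O F G _) (shfEquiv_natural O _ _ _))).trans
    (tensEquiv_natural O F G ((freeMod O).map a) _)

theorem homEquivΦ_d (G : ModSite.Mod O) (n : ℕ)
    (z : (fr J).obj (Nerve.N f n) ⟶ ModSite.toAb ((ModSite.sheafHom F).obj G)) :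
    homEquivΦ O F G _ (Nerve.d f n ≫ z) = DΦ O F f n ≫ homEquivΦ O F G _ z := by
  rw [DΦ_eq, Nerve.d, Preadditive.sum_comp, map_sum, Preadditive.sum_comp]
  refine Finset.sum_congr rfl fun j _ => ?_
  rw [Preadditive.zsmul_comp, map_zsmul, Preadditive.zsmul_comp, homEquivΦ_natural]

omit K' K f in
/-- For an injective `G`, `Hom_O(F, G)` is totally acyclic. -/
theorem isTotallyAcyclic_sheafHom (G : ModSite.Mod O) [Injective G] :
    CohCx.IsTotallyAcyclic (ModSite.toAb ((ModSite.sheafHom F).obj G)) :=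
  Nerve.CechAcyclic.isTotallyAcyclic fun K' K f _ n z hz => by
    have h0 : DΦ O F f (n+1) ≫ homEquivΦ O F G _ z = 0 := by
      rw [← homEquivΦ_d, hz, map_zero]
    refine ⟨(homEquivΦ O F G _).symm ((exact_DΦ O F f n).descToInjective _ h0), ?_⟩
    apply (homEquivΦ O F G (Nerve.N f (n+1))).injective
    rw [homEquivΦ_d, AddEquiv.apply_symm_apply]
    exact (exact_DΦ O F f n).comp_descToInjective _ h0

end Groth.L17.HomAcyclic
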