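import Groth.Agent.L17.ToAbRpush
import Groth.Agent.L17.HomAcyclic
import Groth.Agent.L00.SheafHom
import Mathlib.Algebra.Homology.HomologySequence
import Mathlib.Algebra.Homology.ShortComplex.Ab
import Mathlib.CategoryTheory.Abelian.RightDerived

/-!
Injective modules are flasque; the Mayer–Vietoris sequence of the sheaves `j_* (M|_W)` and of their
higher direct images.
-/

set_option autoImplicit false
set_option backward.isDefEq.respectTransparency false

universe u

open CategoryTheory CategoryTheory.Limits AlgebraicGeometry TopologicalSpace Opposite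

namespace Groth.L17.PushMV

variable {X : Scheme.{u}}

/-- Restriction maps of an injective module are surjective. -/
theorem surjective_res_of_injective (I : X.Modules) [Injective I] {U V : X.Opens} (h : U ≤ V) :
    Function.Surjective (I.presheaf.map (homOfLE h).op) := by
  intro t
  let O := X.sheaf
  let R := O.obj ⋙ forget₂ CommRingCat RingCat
  let a : (PresheafOfModules.free R).obj (yoneda.obj U) ⟶ (PresheafOfModules.free R).obj (yoneda.obj V) :=
    (PresheafOfModules.free R).map (yoneda.map (homOfLE h))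
  let w : (PresheafOfModules.free R).obj (yoneda.obj U) ⟶ (Groth.L00.ModSiteTensor.preF O).obj I :=
    PresheafOfModules.freeHomEquiv.symm (yonedaEquiv.symm t)
  haveI : Mono a := by
    refine (PresheafOfModules.toPresheaf _).mono_of_mono_map ?_
    haveI : ∀ W, Mono (((PresheafOfModules.toPresheaf _).map a).app W) := fun W => by
      refine (AddCommGrpCat.mono_iff_injective _).2 (Finsupp.mapDomain_injective fun g g' _ => ?_)
      exact Subsingleton.elim (α := unop W ⟶ U) g g'
    exact NatTrans.mono_of_mono_app _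
  haveI : PreservesFiniteLimits (Groth.L00.ModSiteTensor.shf O) := Groth.L17.HomAcyclic.shf_preservesFiniteLimits O
  haveI : Mono ((Groth.L00.ModSiteTensor.shf O).map a) := inferInstance
  let wt : (Groth.L00.ModSiteTensor.shf O).obj ((PresheafOfModules.free R).obj (yoneda.obj U)) ⟶ I :=
    ((Groth.L00.ModSiteTensor.shfAdj O).homEquiv _ _).symm w
  let e := Injective.factorThru wt ((Groth.L00.ModSiteTensor.shf O).map a)
  let v := (Groth.L00.ModSiteTensor.shfAdj O).homEquiv _ _ e
  have hv : a ≫ v = w := by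
    rw [← Adjunction.homEquiv_naturality_left, Injective.comp_factorThru]
    exact Equiv.apply_symm_apply _ _
  refine ⟨v.app (op V) (Finsupp.single (𝟙 V) (1 : O.obj.obj (op V))), ?_⟩
  refine (PresheafOfModules.naturality_apply v (homOfLE h).op _).symm.trans ?_
  have h1 : ((PresheafOfModules.free R).obj (yoneda.obj V)).map (homOfLE h).op
      (Finsupp.single (𝟙 V) (1 : O.obj.obj (op V))) =
      a.app (op U) (Finsupp.single (𝟙 U) (1 : O.obj.obj (op U))) := by
    refine (ModuleCat.freeDesc_apply _ _).trans (Eq.trans ?_ Finsupp.mapDomain_single.symm)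
    exact congrArg (fun g : U ⟶ V => Finsupp.single g (1 : O.obj.obj (op U))) (Subsingleton.elim _ _)
  refine (congrArg (v.app (op U)) h1).trans ((ConcreteCategory.congr_hom
    (congrArg (fun k : (PresheafOfModules.free R).obj (yoneda.obj U) ⟶ _ => k.app (op U)) hv) _).trans ?_)
  refine (ModuleCat.freeDesc_apply _ _).trans ?_
  exact ConcreteCategory.congr_hom (I.presheaf.map_id (op U)) t

/-- Injective modules are flasque. -/
theorem isFlasque_of_injective (I : X.Modules) [Injective I] : TopCat.Sheaf.IsFlasque (Coh.toAb I) := by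
  refine ⟨fun {U V} i => ?_⟩
  rw [AddCommGrpCat.epi_iff_surjective]
  exact surjective_res_of_injective I (leOfHom i.unop)

/-- `j_* (M|_W)`. -/
noncomputable abbrev Γsh (W : X.Opens) : X.Modules ⥤ X.Modules :=
  Scheme.Modules.restrictFunctor W.ι ⋙ Scheme.Modules.pushforward W.ι

/-- The open `W ⊓ T`, as it occurs in the sections of `j_* (M|_W)`. -/
abbrev im (W T : X.Opens) : X.Opens := W.ι ''ᵁ (W.ι ⁻¹ᵁ T)

theorem im_eq (W T : X.Opens) : im W T = W ⊓ T :=
  (W.ι.image_preimage_eq_opensRange_inf T).trans (by rw [W.opensRange_ι])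

theorem im_mono {W W' : X.Opens} (h : W' ≤ W) (T : X.Opens) : im W' T ≤ im W T := by
  rw [im_eq, im_eq]; exact inf_le_inf_right _ h

theorem im_le (W T : X.Opens) : im W T ≤ T := by rw [im_eq]; exact inf_le_right

theorem smul_Γsh (W : X.Opens) (M : X.Modules) (T : X.Opens) (r : Γ(X, T)) (m : Γ((Γsh W).obj M, T)) :
    (show Γ(M, im W T) from r • m) = X.presheaf.map (homOfLE (im_le W T)).op r • (show Γ(M, im W T) from m) := by
  have h : (W.ι.appIso (W.ι ⁻¹ᵁ T)).inv (W.ι.app T r) = X.presheaf.map (homOfLE (im_le W T)).op r :=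
    (ConcreteCategory.congr_hom (Scheme.Hom.app_appIso_inv W.ι T) r :)
  exact congrArg (· • (show Γ(M, im W T) from m)) h

theorem tr_smul {W W' : X.Opens} (h : W' ≤ W) (M : X.Modules) (T : X.Opens) (r : Γ(X, T))
    (m : Γ((Γsh W).obj M, T)) :
    M.presheaf.map (homOfLE (im_mono h T)).op (show Γ(M, im W T) from r • m) =
      (show Γ(M, im W' T) from r • (show Γ((Γsh W').obj M, T) from
        M.presheaf.map (homOfLE (im_mono h T)).op (show Γ(M, im W T) from m))) := by
  refine (congrArg (M.presheaf.map (homOfLE (im_mono h T)).op) (smul_Γsh W M T r m)).trans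
    ((Scheme.Modules.map_smul M _ _ _).trans (Eq.trans ?_ (smul_Γsh W' M T r _).symm))
  refine congrArg (fun x : Γ(X, im W' T) => x • _) ?_
  exact (ConcreteCategory.congr_hom (X.presheaf.map_comp _ _) r).symm

/-- `j_*(M|_W) ⟶ j'_*(M|_{W'})` for `W' ≤ W`, on `M`. -/
noncomputable def trApp {W W' : X.Opens} (h : W' ≤ W) (M : X.Modules) : (Γsh W).obj M ⟶ (Γsh W').obj M :=
  (Scheme.Modules.fullyFaithfulToPresheafOfModules).preimage
    (PresheafOfModules.homMk
      { app := fun T => M.presheaf.map (homOfLE (im_mono h T.unop)).op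
        naturality := fun T T' g =>
          ((M.presheaf.map_comp (W.ι.opensFunctor.map ((TopologicalSpace.Opens.map W.ι.base).map g.unop)).op
            (homOfLE (im_mono h T'.unop)).op).symm.trans
            ((congrArg M.presheaf.map (Subsingleton.elim _ _)).trans
              (M.presheaf.map_comp (homOfLE (im_mono h T.unop)).op
                (W'.ι.opensFunctor.map ((TopologicalSpace.Opens.map W'.ι.base).map g.unop)).op))) }
      (fun T r m => tr_smul h M T.unop r m))

theorem trApp_app {W W' : X.Opens} (h : W' ≤ W) (M : X.Modules) (T : X.Opens) (m : Γ((Γsh W).obj M, T)) :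
    (trApp h M).app T m = M.presheaf.map (homOfLE (im_mono h T)).op (show Γ(M, im W T) from m) := rfl

theorem trApp_comp {W W' W'' : X.Opens} (h : W' ≤ W) (h' : W'' ≤ W') (M : X.Modules) :
    trApp h M ≫ trApp h' M = trApp (h'.trans h) M := by
  refine Scheme.Modules.hom_ext _ _ fun T => ?_
  rw [Scheme.Modules.Hom.comp_app]
  ext m
  rw [ConcreteCategory.comp_apply, trApp_app, trApp_app, trApp_app]
  exact (ConcreteCategory.congr_hom (M.presheaf.map_comp _ _) (show Γ(M, im W T) from m)).symm

/-- `j_*(-|_W) ⟶ j'_*(-|_{W'})` for `W' ≤ W`. -/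
noncomputable def tr {W W' : X.Opens} (h : W' ≤ W) : Γsh W ⟶ Γsh W' where
  app M := trApp h M
  naturality {M N} g := Scheme.Modules.hom_ext _ _ fun T => by
    ext m
    exact (NatTrans.naturality_apply g.mapPresheaf (homOfLE (im_mono h T)).op m).symm

variable (U V : X.Opens)

/-- The Mayer–Vietoris complex of `M`. -/
noncomputable def mv : X.Modules ⥤ ShortComplex X.Modules where
  obj M := ShortComplex.mk
    (biprod.lift ((tr (le_sup_left : U ≤ U ⊔ V)).app M) ((tr (le_sup_right : V ≤ U ⊔ V)).app M))
    (biprod.desc ((tr (inf_le_left : U ⊓ V ≤ U)).app M) (-(tr (inf_le_right : U ⊓ V ≤ V)).app M))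
    (by
      rw [biprod.lift_desc, Preadditive.comp_neg, ← sub_eq_add_neg, sub_eq_zero]
      exact (trApp_comp le_sup_left inf_le_left M).trans (trApp_comp le_sup_right inf_le_right M).symm)
  map {M N} g := ShortComplex.homMk ((Γsh (U ⊔ V)).map g) (biprod.map ((Γsh U).map g) ((Γsh V).map g))
    ((Γsh (U ⊓ V)).map g)
    (by
      apply biprod.hom_ext
      · simp only [Category.assoc, biprod.lift_fst, biprod.map_fst, biprod.lift_fst_assoc]
        exact (tr (le_sup_left : U ≤ U ⊔ V)).naturality g
      · simp only [Category.assoc, biprod.lift_snd, biprod.map_snd, biprod.lift_snd_assoc]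
        exact (tr (le_sup_right : V ≤ U ⊔ V)).naturality g)
    (by
      apply biprod.hom_ext'
      · simp only [biprod.inl_map_assoc, biprod.inl_desc, biprod.inl_desc_assoc]
        exact (tr (inf_le_left : U ⊓ V ≤ U)).naturality g
      · simp only [biprod.inr_map_assoc, biprod.inr_desc, biprod.inr_desc_assoc, Preadditive.comp_neg,
          Preadditive.neg_comp]
        exact congrArg Neg.neg ((tr (inf_le_right : U ⊓ V ≤ V)).naturality g))
  map_id M := by
    refine ShortComplex.hom_ext _ _ ?_ ?_ ?_
    · exact (Γsh (U ⊔ V)).map_id M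
    · apply biprod.hom_ext' <;> simp
    · exact (Γsh (U ⊓ V)).map_id M
  map_comp {M N K} g g' := by
    refine ShortComplex.hom_ext _ _ ?_ ?_ ?_
    · exact (Γsh (U ⊔ V)).map_comp g g'
    · apply biprod.hom_ext' <;> simp
    · exact (Γsh (U ⊓ V)).map_comp g g'

/-- Short exactness from sections. -/
theorem shortExact_of_sections (S : ShortComplex X.Modules)
    (h₁ : ∀ T, Function.Injective (S.f.app T))
    (h₂ : ∀ T (y : Γ(S.X₂, T)), S.g.app T y = 0 → ∃ x, S.f.app T x = y)
    (h₃ : ∀ T, Function.Surjective (S.g.app T)) : S.ShortExact := by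
  haveI : Mono S.f := ⟨fun {Z} a b hab => Scheme.Modules.hom_ext _ _ fun T => by
    ext z
    exact h₁ T (congr($(hab).app T z))⟩
  haveI : Epi S.g := ⟨fun {Z} a b hab => Scheme.Modules.hom_ext _ _ fun T => by
    ext z
    obtain ⟨y, rfl⟩ := h₃ T z
    exact congr($(hab).app T y)⟩
  haveI : (toAbShF X).PreservesHomology := inferInstance
  haveI : (toAbShF X).Faithful :=
    inferInstanceAs (SheafOfModules.toSheaf.{u} X.ringCatSheaf).Faithful
  refine ShortComplex.ShortExact.mk' ((ShortComplex.exact_map_iff_of_faithful S (toAbShF X)).1 ?_) inferInstance inferInstance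
  let P := (S.map (toAbShF X)).map (sheafToPresheaf _ AddCommGrpCat.{u})
  have hP : P.Exact := by
    rw [ShortComplex.exact_iff_isZero_homology]
    refine Functor.isZero _ fun T => ?_
    refine IsZero.of_iso ?_ (P.mapHomologyIso ((evaluation _ AddCommGrpCat.{u}).obj T)).symm
    rw [← ShortComplex.exact_iff_isZero_homology, ShortComplex.ab_exact_iff]
    exact fun y hy => h₂ T.unop y hy
  haveI : PreservesFiniteColimits (presheafToSheaf (Opens.grothendieckTopology X) AddCommGrpCat.{u}) :=
    haveI := (sheafificationAdjunction (Opens.grothendieckTopology X) AddCommGrpCat.{u}).isLeftAdjoint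
    inferInstance
  haveI : (presheafToSheaf (Opens.grothendieckTopology X) AddCommGrpCat.{u}).PreservesHomology := inferInstance
  refine (ShortComplex.exact_iff_of_iso ?_).1 (hP.map (presheafToSheaf (Opens.grothendieckTopology X) AddCommGrpCat.{u}))
  exact (S.map (toAbShF X)).mapNatIso (asIso (sheafificationAdjunction (Opens.grothendieckTopology X) AddCommGrpCat.{u}).counit)

/-- Sections of a biproduct. -/
theorem biprod_ext {A B : X.Modules} (T : X.Opens) (y : Γ(A ⊞ B, T)) :
    y = (biprod.inl : A ⟶ A ⊞ B).app T ((biprod.fst : A ⊞ B ⟶ A).app T y) +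
      (biprod.inr : B ⟶ A ⊞ B).app T ((biprod.snd : A ⊞ B ⟶ B).app T y) :=
  (congr($(biprod.total (X := A) (Y := B)).app T y)).symm

/-- Mayer–Vietoris on the sections of an injective module. -/
theorem sections_mv (I : X.Modules) [Injective I] :
    (∀ T, Function.Injective (((mv U V).obj I).f.app T)) ∧
      (∀ T (y : Γ(((mv U V).obj I).X₂, T)), ((mv U V).obj I).g.app T y = 0 →
        ∃ x, ((mv U V).obj I).f.app T x = y) ∧
      (∀ T, Function.Surjective (((mv U V).obj I).g.app T)) := by
  let F : TopCat.Sheaf Ab X.toTopCat := ⟨I.presheaf, I.isSheaf⟩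
  have hl : ∀ T (x : Γ((Γsh (U ⊔ V)).obj I, T)),
      (biprod.fst : (Γsh U).obj I ⊞ (Γsh V).obj I ⟶ _).app T (((mv U V).obj I).f.app T x) =
        I.presheaf.map (homOfLE (im_mono le_sup_left T)).op x :=
    fun T x => congr($(biprod.lift_fst ((tr (le_sup_left : U ≤ U ⊔ V)).app I) ((tr (le_sup_right : V ≤ U ⊔ V)).app I)).app T x)
  have hr : ∀ T (x : Γ((Γsh (U ⊔ V)).obj I, T)),
      (biprod.snd : (Γsh U).obj I ⊞ (Γsh V).obj I ⟶ _).app T (((mv U V).obj I).f.app T x) =
        I.presheaf.map (homOfLE (im_mono le_sup_right T)).op x :=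
    fun T x => congr($(biprod.lift_snd ((tr (le_sup_left : U ≤ U ⊔ V)).app I) ((tr (le_sup_right : V ≤ U ⊔ V)).app I)).app T x)
  have hg : ∀ T (a : Γ((Γsh U).obj I, T)) (b : Γ((Γsh V).obj I, T)),
      ((mv U V).obj I).g.app T ((biprod.inl : (Γsh U).obj I ⟶ _ ⊞ (Γsh V).obj I).app T a +
        (biprod.inr : (Γsh V).obj I ⟶ (Γsh U).obj I ⊞ _).app T b) =
      (I.presheaf.map (homOfLE (im_mono (inf_le_left : U ⊓ V ≤ U) T)).op (show Γ(I, im U T) from a) -
        I.presheaf.map (homOfLE (im_mono (inf_le_right : U ⊓ V ≤ V) T)).op (show Γ(I, im V T) from b) :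
          Γ(I, im (U ⊓ V) T)) := fun T a b => by
    rw [map_add]
    refine (congrArg₂ (· + ·) (congr($(biprod.inl_desc ((tr (inf_le_left : U ⊓ V ≤ U)).app I)
        (-(tr (inf_le_right : U ⊓ V ≤ V)).app I)).app T a))
      (congr($(biprod.inr_desc ((tr (inf_le_left : U ⊓ V ≤ U)).app I)
        (-(tr (inf_le_right : U ⊓ V ≤ V)).app I)).app T b))).trans ?_
    exact (sub_eq_add_neg _ _).symm
  have hcov : ∀ T, im (U ⊔ V) T ≤ im U T ⊔ im V T := fun T => by
    rw [im_eq, im_eq, im_eq, inf_sup_right]
  refine ⟨fun T x x' h => ?_, fun T y hy => ?_, fun T z => ?_⟩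
  · refine TopCat.Sheaf.eq_of_locally_eq₂ F (homOfLE (im_mono le_sup_left T)) (homOfLE (im_mono le_sup_right T))
      (hcov T) x x' ?_ ?_
    · exact (hl T x).symm.trans ((congrArg _ h).trans (hl T x'))
    · exact (hr T x).symm.trans ((congrArg _ h).trans (hr T x'))
  · let a : Γ(I, im U T) := (biprod.fst : (Γsh U).obj I ⊞ (Γsh V).obj I ⟶ _).app T y
    let b : Γ(I, im V T) := (biprod.snd : (Γsh U).obj I ⊞ (Γsh V).obj I ⟶ _).app T y
    have hab : I.presheaf.map (homOfLE (im_mono (inf_le_left : U ⊓ V ≤ U) T)).op a =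
        I.presheaf.map (homOfLE (im_mono (inf_le_right : U ⊓ V ≤ V) T)).op b :=
      sub_eq_zero.1 ((hg T a b).symm.trans ((congrArg _ (biprod_ext T y).symm).trans hy))
    have hinf : im U T ⊓ im V T ≤ im (U ⊓ V) T := by
      rw [im_eq, im_eq, im_eq]; exact le_inf (inf_le_inf inf_le_left inf_le_left) (inf_le_left.trans inf_le_right)
    have hcompat : TopCat.Presheaf.IsCompatible (X := X.toTopCat) I.presheaf
        (fun i : ULift.{u} Bool => if i.down then im U T else im V T)
        (fun i => match i with | ⟨true⟩ => a | ⟨false⟩ => b) := by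
      have hh := congrArg (I.presheaf.map (homOfLE hinf).op) hab
      rw [← ConcreteCategory.comp_apply, ← ConcreteCategory.comp_apply, ← Functor.map_comp, ← Functor.map_comp] at hh
      have hsym := congrArg (I.presheaf.map (homOfLE (le_inf inf_le_right inf_le_left : im V T ⊓ im U T ≤ im U T ⊓ im V T)).op) hh
      rw [← ConcreteCategory.comp_apply, ← ConcreteCategory.comp_apply, ← Functor.map_comp, ← Functor.map_comp] at hsym
      rintro ⟨⟨⟩⟩ ⟨⟨⟩⟩
      · rfl
      · exact hsym.symm
      · exact hh
      · rfl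
    obtain ⟨x, hx, -⟩ := TopCat.Sheaf.existsUnique_gluing' F
      (fun i : ULift.{u} Bool => if i.down then im U T else im V T) (im (U ⊔ V) T)
      (fun i => homOfLE (by rcases i with ⟨⟨⟩⟩; exacts [im_mono le_sup_right T, im_mono le_sup_left T]))
      (le_trans (hcov T) (sup_le (le_iSup (fun i : ULift.{u} Bool => if i.down then im U T else im V T) ⟨true⟩)
        (le_iSup (fun i : ULift.{u} Bool => if i.down then im U T else im V T) ⟨false⟩)))
      (fun i => match i with | ⟨true⟩ => a | ⟨false⟩ => b) hcompat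
    refine ⟨x, ?_⟩
    refine (biprod_ext T _).trans ((congrArg₂ (fun p q => (biprod.inl : (Γsh U).obj I ⟶ _ ⊞ (Γsh V).obj I).app T p +
      (biprod.inr : (Γsh V).obj I ⟶ (Γsh U).obj I ⊞ _).app T q) ?_ ?_).trans (biprod_ext T y).symm)
    · exact (hl T x).trans (hx ⟨true⟩)
    · exact (hr T x).trans (hx ⟨false⟩)
  · obtain ⟨a, ha⟩ := surjective_res_of_injective I (im_mono (inf_le_left : U ⊓ V ≤ U) T) z
    refine ⟨(biprod.inl : (Γsh U).obj I ⟶ _ ⊞ (Γsh V).obj I).app T a +
        (biprod.inr : (Γsh V).obj I ⟶ (Γsh U).obj I ⊞ _).app T 0, (hg T a 0).trans ?_⟩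
    rw [map_zero]
    exact (sub_zero _).trans ha

/-- Mayer–Vietoris is exact on injective modules. -/
theorem shortExact_mv (I : X.Modules) [Injective I] : ((mv U V).obj I).ShortExact :=
  shortExact_of_sections _ (sections_mv U V I).1 (sections_mv U V I).2.1 (sections_mv U V I).2.2

instance additive_Γsh (W : X.Opens) : (Γsh W).Additive :=
  haveI : (Scheme.Modules.pushforward W.ι).IsRightAdjoint :=
    (Scheme.Modules.pullbackPushforwardAdjunction W.ι).isRightAdjoint
  haveI : (Scheme.Modules.pushforward W.ι).Additive :=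
    haveI := preservesBinaryBiproducts_of_preservesBinaryProducts (Scheme.Modules.pushforward W.ι)
    Functor.additive_of_preservesBinaryBiproducts _
  haveI : (Scheme.Modules.restrictFunctor W.ι).Additive :=
    haveI := preservesBinaryBiproducts_of_preservesBinaryCoproducts (Scheme.Modules.restrictFunctor W.ι)
    Functor.additive_of_preservesBinaryBiproducts _
  inferInstanceAs (Scheme.Modules.restrictFunctor W.ι ⋙ Scheme.Modules.pushforward W.ι).Additive

instance additive_mv₂ : (mv U V ⋙ ShortComplex.π₂).Additive :=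
  ⟨fun {M N} {a b} => by
    change biprod.map ((Γsh U).map (a + b)) ((Γsh V).map (a + b)) = biprod.map _ _ + biprod.map _ _
    rw [Functor.map_add, Functor.map_add]
    apply biprod.hom_ext <;> simp [biprod.map_fst, biprod.map_snd, Preadditive.add_comp, Preadditive.comp_add]⟩

end Groth.L17.PushMV
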