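import Groth.Agent.L17.ExactThen
import Groth.Agent.L10.InjTA
import Groth.Agent.L10.ModAcyc
import Groth.Agent.L10.TopCoh
import Groth.Agent.L15.ExtSupp.Acyclic
import Groth.Prelude.Def_Coh

/-!
Higher direct images of modules and of the underlying abelian sheaves agree.
-/

set_option autoImplicit false
set_option backward.defeqAttrib.useBackward true
set_option backward.isDefEq.respectTransparency false

universe u

open CategoryTheory CategoryTheory.Limits AlgebraicGeometry TopologicalSpace

namespace Groth.L17

variable {X Y : Scheme.{u}}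

/-- The forgetful functor to abelian sheaves. -/
noncomputable abbrev toAbShF (Z : Scheme.{u}) :
    Z.Modules ⥤ Sheaf (Opens.grothendieckTopology Z) AddCommGrpCat.{u} :=
  SheafOfModules.toSheaf.{u} Z.ringCatSheaf

instance preservesFiniteColimits_toAbShF (Z : Scheme.{u}) : PreservesFiniteColimits (toAbShF Z) :=
  Groth.L15.ExtSupp.preservesFiniteColimits_toSheaf (O := Z.sheaf)

instance preservesFiniteLimits_toAbShF (Z : Scheme.{u}) : PreservesFiniteLimits (toAbShF Z) :=
  Groth.L10.ModAcyc.preservesFiniteLimits_toSheaf (O := Z.sheaf)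

instance additive_toAbShF (Z : Scheme.{u}) : (toAbShF Z).Additive := ⟨fun {M N} {a b} => rfl⟩

/-- The abelian sheaf underlying an injective module has no cohomology over any open. -/
theorem subsingleton_ext_fs_of_injective (M : X.Modules) [Injective M] (U : X.Opens) (n : ℕ) :
    Subsingleton (Abelian.Ext (Groth.L10.SiteCoh.fs (Opens.grothendieckTopology X) U) (Coh.toAb M) (n + 1)) := by
  haveI : Subsingleton (Abelian.Ext ((Groth.L10.SiteFr.fr (Opens.grothendieckTopology X)).obj
      (Groth.L10.SiteFr.rep (Opens.grothendieckTopology X) U)) (Coh.toAb M) (n + 1)) :=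
    Groth.L10.InjTA.isTotallyAcyclic (C := Opens X) X.sheaf M (Groth.L10.SiteFr.rep _ U) n
  exact (Groth.L10.SiteFr.extFsRep (J := Opens.grothendieckTopology X) U (Coh.toAb M) (n + 1)).toEquiv.subsingleton

/-- Injective modules are acyclic for direct images of abelian sheaves. -/
theorem isZero_RpushAb_of_injective (f : X ⟶ Y) (M : X.Modules) [Injective M] (q : ℕ) (hq : 0 < q) :
    IsZero ((Coh.RpushAb f q).obj (Coh.toAb M)) := by
  obtain ⟨n, rfl⟩ : ∃ n, q = n + 1 := ⟨q - 1, by omega⟩
  exact (Groth.L10.SiteCoh.isZero_Rpush_succ_iff _ (Opens.map f.base) (Coh.toAb M)).2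
    (Groth.L10.SiteCoh.locAcyclic_of_subsingleton _ _ _ fun V m =>
      subsingleton_ext_fs_of_injective M _ m) n

/-- `toAb ∘ f_* = f_* ∘ toAb`. -/
noncomputable def toAbPushIso (f : X ⟶ Y) :
    Scheme.Modules.pushforward f ⋙ toAbShF Y ≅ toAbShF X ⋙ Coh.pushAb f :=
  Iso.refl _

/-- Higher direct images commute with the forgetful functor to abelian sheaves. -/
theorem nonempty_toAb_Rpush_iso (f : X ⟶ Y) [HasInjectiveResolutions X.Modules] (M : X.Modules) (n : ℕ) :
    Nonempty (Coh.toAb ((Coh.Rpush f n).obj M) ≅ (Coh.RpushAb f n).obj (Coh.toAb M)) := by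
  letI := HasDerivedCategory.standard (Sheaf (Opens.grothendieckTopology X) AddCommGrpCat.{u})
  haveI : PreservesFiniteLimits (Coh.pushAb f) :=
    inferInstanceAs (PreservesFiniteLimits (TopCat.Sheaf.pushforward AddCommGrpCat.{u} f.base))
  haveI : (Scheme.Modules.pushforward f).Additive := 
    haveI : (Scheme.Modules.pushforward f).IsRightAdjoint :=
      (Scheme.Modules.pullbackPushforwardAdjunction f).isRightAdjoint
    haveI := preservesBinaryBiproducts_of_preservesBinaryProducts (Scheme.Modules.pushforward f)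
    Functor.additive_of_preservesBinaryBiproducts _
  haveI : (Coh.pushAb f).Additive := inferInstance
  obtain ⟨e⟩ := GrothSS.nonempty_rightDerived_exact_comp
    (toAbShF X) (Coh.pushAb f)
    (fun Q hQ q hq => isZero_RpushAb_of_injective f Q q hq) M n
  exact ⟨(Groth.L10.SiteCoh.rightDerivedCompIso (Scheme.Modules.pushforward f)
      (toAbShF Y) n M).symm ≪≫
    (Groth.L10.SiteCoh.rightDerivedCongr (toAbPushIso f) n).app M ≪≫ e⟩

end Groth.L17
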