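import Groth.Agent.L18.TildeFunctor
import Groth.Agent.L17.AffineVanishing
import Groth.Agent.L17.ToAbRpush

/-!
Quasi-coherent modules on an affine scheme are closed under extensions.
-/

set_option autoImplicit false
set_option backward.isDefEq.respectTransparency false

universe u

open CategoryTheory CategoryTheory.Limits AlgebraicGeometry TopologicalSpace Opposite

namespace Groth.L17.SpecQCoh

variable {R : CommRingCat.{u}}

theorem isQCoh_extension (S : ShortComplex (Spec R).Modules) (hS : S.ShortExact)
    (h1 : S.X₁.IsQuasicoherent) (h3 : S.X₃.IsQuasicoherent) : S.X₂.IsQuasicoherent := by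
  haveI : PreservesFiniteColimits (toAbShF (Spec R)) := inferInstance
  have hA : (S.map (toAbShF (Spec R))).ShortExact := hS.map_of_exact (toAbShF (Spec R))
  haveI : Subsingleton (Abelian.Ext.{u} (Groth.L10.SiteCoh.fs (Opens.grothendieckTopology (Spec R)) ⊤)
      (S.map (toAbShF (Spec R))).X₁ 1) :=
    subsingleton_of_forall_eq 0 fun x => hu_affine_eq_zero S.X₁ (isAffineOpen_top (Spec R)) 0 x
  have hsurj := Groth.L10.SiteCoh.surjective_sections_of_subsingleton hA (⊤ : (Spec R).Opens)
  haveI : (moduleSpecΓFunctor (R := R)).IsRightAdjoint := tilde.adjunction.isRightAdjoint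
  haveI : (moduleSpecΓFunctor (R := R)).Additive :=
    haveI := preservesBinaryBiproducts_of_preservesBinaryProducts (moduleSpecΓFunctor (R := R))
    Functor.additive_of_preservesBinaryBiproducts _
  haveI := hS.mono_f
  have hΓ : (S.map (moduleSpecΓFunctor (R := R))).ShortExact := by
    refine ShortComplex.ShortExact.mk' ?_ (inferInstanceAs (Mono ((moduleSpecΓFunctor (R := R)).map S.f)))
      ((ModuleCat.epi_iff_surjective _).2 hsurj)
    refine ShortComplex.exact_of_f_is_kernel _ ?_
    exact KernelFork.mapIsLimit _ hS.fIsKernel (moduleSpecΓFunctor (R := R))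
  haveI : PreservesFiniteLimits (tilde.functor R) := Groth.L18.TildeF.tilde_preservesFiniteLimits
  haveI : (tilde.functor R).IsLeftAdjoint := tilde.adjunction.isLeftAdjoint
  haveI : (tilde.functor R).Additive :=
    haveI := preservesBinaryBiproducts_of_preservesBinaryCoproducts (tilde.functor R)
    Functor.additive_of_preservesBinaryBiproducts _
  have hT : ((S.map (moduleSpecΓFunctor (R := R))).map (tilde.functor R)).ShortExact := hΓ.map_of_exact _
  let φ : (S.map (moduleSpecΓFunctor (R := R))).map (tilde.functor R) ⟶ S :=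
    { τ₁ := (tilde.adjunction (R := R)).counit.app S.X₁
      τ₂ := (tilde.adjunction (R := R)).counit.app S.X₂
      τ₃ := (tilde.adjunction (R := R)).counit.app S.X₃
      comm₁₂ := ((tilde.adjunction (R := R)).counit.naturality S.f).symm
      comm₂₃ := ((tilde.adjunction (R := R)).counit.naturality S.g).symm }
  haveI : IsIso φ.τ₁ := Scheme.Modules.isIso_fromTildeΓ_of_isQuasicoherent S.X₁
  haveI : IsIso φ.τ₃ := Scheme.Modules.isIso_fromTildeΓ_of_isQuasicoherent S.X₃
  haveI := ShortComplex.isIso₂_of_shortExact_of_isIso₁₃ φ hT hS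
  exact Groth.L18.TildeF.isQCoh_of_iso (asIso φ.τ₂) (Groth.L18.TildeF.isQCoh_tilde _)

/-- Biproducts of quasi-coherent modules on an affine scheme. -/
theorem isQCoh_biprod {M N : (Spec R).Modules} (hM : M.IsQuasicoherent) (hN : N.IsQuasicoherent) :
    (M ⊞ N).IsQuasicoherent :=
  isQCoh_extension (ShortComplex.mk (biprod.inl : M ⟶ M ⊞ N) biprod.snd (by simp))
    (ShortComplex.Splitting.ofHasBinaryBiproduct M N).shortExact hM hN

end Groth.L17.SpecQCoh
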