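import Groth.Agent.L17.DerivedMV
import Groth.Agent.L17.SpecQCoh
import Groth.Agent.L16.QcqsPush
import Mathlib.AlgebraicGeometry.Morphisms.QuasiSeparated
import Mathlib.AlgebraicGeometry.Morphisms.Affine

/-!
Higher direct images along quasi-compact quasi-separated morphisms are quasi-coherent.
-/

set_option autoImplicit false
set_option backward.isDefEq.respectTransparency false

universe u

open CategoryTheory CategoryTheory.Limits AlgebraicGeometry TopologicalSpace Opposite

namespace Groth.L17.PushQCoh

open Groth.L17.PushMV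

variable {X S : Scheme.{u}}

theorem hasInjectiveResolutions (Z : Scheme.{u}) : HasInjectiveResolutions Z.Modules :=
  haveI := Groth.L00.Tensor.grothendieckAbelian_modules Z
  inferInstance

theorem additive_push (f : X ⟶ S) : (Scheme.Modules.pushforward f).Additive :=
  haveI : (Scheme.Modules.pushforward f).IsRightAdjoint :=
    (Scheme.Modules.pullbackPushforwardAdjunction f).isRightAdjoint
  haveI := preservesBinaryBiproducts_of_preservesBinaryProducts (Scheme.Modules.pushforward f)
  Functor.additive_of_preservesBinaryBiproducts _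

attribute [local instance] additive_push

/-- A module is zero when its underlying abelian sheaf is. -/
theorem isZero_of_toAb {M : X.Modules} (h : IsZero (Coh.toAb M)) : IsZero M := by
  haveI : (toAbShF X).Faithful := inferInstanceAs (SheafOfModules.toSheaf.{u} X.ringCatSheaf).Faithful
  rw [IsZero.iff_id_eq_zero]
  exact (toAbShF X).map_injective (((toAbShF X).map_id M).trans ((h.eq_of_src (𝟙 _) 0).trans ((toAbShF X).map_zero _ _).symm))

/-- Modules with flasque underlying sheaf are acyclic for direct images. -/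
theorem isZero_Rpush_of_flasque (f : X ⟶ S) [HasInjectiveResolutions X.Modules] (N : X.Modules)
    (hN : TopCat.Sheaf.IsFlasque (Coh.toAb N)) (q : ℕ) : IsZero ((Coh.Rpush f (q + 1)).obj N) := by
  obtain ⟨e⟩ := Groth.L17.nonempty_toAb_Rpush_iso f N (q + 1)
  refine isZero_of_toAb (IsZero.of_iso ?_ e)
  exact Groth.L10.TopCoh.isZero_Rpush_flasque (Y := S.toTopCat) f.base (Coh.toAb N) hN q

variable {X' : Scheme.{u}}

theorem isFlasque_restrict (ι : X' ⟶ X) [IsOpenImmersion ι] (I : X.Modules) [Injective I] :
    TopCat.Sheaf.IsFlasque (Coh.toAb (I.restrict ι)) := by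
  refine ⟨fun {U V} i => ?_⟩
  rw [AddCommGrpCat.epi_iff_surjective]
  exact PushMV.surjective_res_of_injective I (Scheme.Hom.image_mono ι (leOfHom i.unop))

/-- Derived functors of `M ↦ g_*(M|_{X'})`. -/
theorem nonempty_rightDerived_restrict_push (ι : X' ⟶ X) [IsOpenImmersion ι] (g : X' ⟶ S)
    [HasInjectiveResolutions X.Modules] [HasInjectiveResolutions X'.Modules] (M : X.Modules) (n : ℕ) :
    haveI : (Scheme.Modules.restrictFunctor ι).Additive :=
      haveI := preservesBinaryBiproducts_of_preservesBinaryCoproducts (Scheme.Modules.restrictFunctor ι)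
      Functor.additive_of_preservesBinaryBiproducts _
    Nonempty (((Scheme.Modules.restrictFunctor ι ⋙ Scheme.Modules.pushforward g).rightDerived n).obj M ≅
      (Coh.Rpush g n).obj (M.restrict ι)) := by
  haveI : (Scheme.Modules.restrictFunctor ι).Additive :=
    haveI := preservesBinaryBiproducts_of_preservesBinaryCoproducts (Scheme.Modules.restrictFunctor ι)
    Functor.additive_of_preservesBinaryBiproducts _
  haveI : EnoughInjectives X'.Modules :=
    haveI := Groth.L00.Tensor.grothendieckAbelian_modules X'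
    inferInstance
  haveI : (Scheme.Modules.pushforward g).IsRightAdjoint :=
    (Scheme.Modules.pullbackPushforwardAdjunction g).isRightAdjoint
  letI := HasDerivedCategory.standard X'.Modules
  exact GrothSS.nonempty_rightDerived_exact_comp (Scheme.Modules.restrictFunctor ι) (Scheme.Modules.pushforward g)
    (fun Q hQ q hq => by
      obtain ⟨k, rfl⟩ : ∃ k, q = k + 1 := ⟨q - 1, by omega⟩
      exact isZero_Rpush_of_flasque g (Q.restrict ι) (isFlasque_restrict ι Q) k) M n

/-- Quasi-coherence, as an object property. -/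
def QC (S : Scheme.{u}) : ObjectProperty S.Modules := fun N => SheafOfModules.IsQuasicoherent N

instance (S : Scheme.{u}) : (QC S).IsClosedUnderIsomorphisms :=
  ⟨fun e h => (SheafOfModules.isQuasicoherent S.ringCatSheaf).prop_of_iso e h⟩

section Affine

variable {R : CommRingCat.{u}} (f : X ⟶ Spec R) [QuasiCompact f] [QuasiSeparated f]
  [HasInjectiveResolutions X.Modules] (M : X.Modules) [Coh.IsQCoh M]

/-- The property to be proved by induction on opens. -/
def P (W : X.Opens) : Prop :=
  ∀ n, (((Γsh W ⋙ Scheme.Modules.pushforward f).rightDerived n).obj M).IsQuasicoherent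

theorem qcoh_rightDerived_Γsh_zero {W : X.Opens} (hW : IsCompact (W : Set X)) :
    (((Γsh W ⋙ Scheme.Modules.pushforward f).rightDerived 0).obj M).IsQuasicoherent := by
  haveI : CompactSpace W := isCompact_iff_compactSpace.1 hW
  haveI : CompactSpace (W : Scheme.{u}) := ‹CompactSpace W›
  haveI : QuasiCompact (W.ι ≫ f) := (HasAffineProperty.iff_of_isAffine (P := @QuasiCompact)).2 ‹_›
  haveI : QuasiSeparated (W.ι ≫ f) := inferInstance
  haveI : Coh.IsQCoh (M.restrict W.ι) := Scheme.Modules.isQuasicoherent_restrictFunctor W.ι M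
  haveI : (Scheme.Modules.pushforward f).IsRightAdjoint :=
    (Scheme.Modules.pullbackPushforwardAdjunction f).isRightAdjoint
  haveI : (Scheme.Modules.pushforward W.ι).IsRightAdjoint :=
    (Scheme.Modules.pullbackPushforwardAdjunction W.ι).isRightAdjoint
  haveI : PreservesFiniteLimits (Γsh W) := inferInstance
  haveI : PreservesFiniteLimits (Γsh W ⋙ Scheme.Modules.pushforward f) := inferInstance
  exact Groth.L18.TildeF.isQCoh_of_iso
    (((Γsh W ⋙ Scheme.Modules.pushforward f).rightDerivedZeroIsoSelf).app M ≪≫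
      (Scheme.Modules.pushforwardComp W.ι f).app (M.restrict W.ι)).symm
    (Groth.L16.QcqsPush.isQCoh_push (M.restrict W.ι) (W.ι ≫ f))

theorem isQCoh_of_isZero {N : (Spec R).Modules} (h : IsZero N) : N.IsQuasicoherent :=
  Groth.L18.TildeF.isQCoh_of_iso
    (IsZero.iso (Functor.map_isZero (tilde.functor R) (ModuleCat.isZero_of_subsingleton (ModuleCat.of R PUnit.{u+1}))) h)
    (Groth.L18.TildeF.isQCoh_tilde _)

theorem P_affine {W : X.Opens} (hW : IsAffineOpen W) : P f M W := fun n => by
  cases n with
  | zero => exact qcoh_rightDerived_Γsh_zero f M hW.isCompact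
  | succ k =>
    haveI : IsAffine (W : Scheme.{u}) := hW
    haveI : IsAffineHom (W.ι ≫ f) := isAffineHom_of_isAffine _
    haveI : Coh.IsQCoh (M.restrict W.ι) := Scheme.Modules.isQuasicoherent_restrictFunctor W.ι M
    haveI := hasInjectiveResolutions (W : Scheme.{u})
    haveI : (Scheme.Modules.restrictFunctor W.ι).Additive :=
      haveI := preservesBinaryBiproducts_of_preservesBinaryCoproducts (Scheme.Modules.restrictFunctor W.ι)
      Functor.additive_of_preservesBinaryBiproducts _
    obtain ⟨e⟩ := nonempty_rightDerived_restrict_push W.ι (W.ι ≫ f) M (k + 1)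
    obtain ⟨e'⟩ := Groth.L17.nonempty_toAb_Rpush_iso (W.ι ≫ f) (M.restrict W.ι) (k + 1)
    have h0 : IsZero ((Coh.Rpush (W.ι ≫ f) (k + 1)).obj (M.restrict W.ι)) :=
      isZero_of_toAb (IsZero.of_iso (Groth.L17.isZero_RpushAb_of_isAffineHom _ _ k) e')
    let c : Γsh W ⋙ Scheme.Modules.pushforward f ≅
        Scheme.Modules.restrictFunctor W.ι ⋙ Scheme.Modules.pushforward (W.ι ≫ f) :=
      Functor.associator _ _ _ ≪≫ Functor.isoWhiskerLeft _ (Scheme.Modules.pushforwardComp W.ι f)
    exact isQCoh_of_isZero (IsZero.of_iso h0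
      ((Groth.L10.SiteCoh.rightDerivedCongr c (k + 1)).app M ≪≫ e))

omit [QuasiCompact f] [QuasiSeparated f] [HasInjectiveResolutions X.Modules] in
theorem shortExact_push_mv (U V : X.Opens) (I : X.Modules) [Injective I] :
    (((mv U V).obj I).map (Scheme.Modules.pushforward f)).ShortExact := by
  obtain ⟨h1, h2, h3⟩ := sections_mv U V I
  have hf : ∀ {A B : X.Modules} (k : A ⟶ B) (T : (Spec R).Opens),
      ((Scheme.Modules.pushforward f).map k).app T = k.app (f ⁻¹ᵁ T) := fun k T => rfl
  refine PushMV.shortExact_of_sections _ (fun T => ?_) (fun T y hy => ?_) (fun T => ?_)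
  · rw [ShortComplex.map_f, hf]; exact h1 (f ⁻¹ᵁ T)
  · obtain ⟨x, hx⟩ := h2 (f ⁻¹ᵁ T) y hy
    exact ⟨x, hx⟩
  · rw [ShortComplex.map_g, hf]; exact h3 (f ⁻¹ᵁ T)

theorem P_sup {U V : X.Opens} (hcU : IsCompact ((U ⊔ V : X.Opens) : Set X)) (hU : P f M U) (hV : P f M V)
    (hUV : P f M (U ⊓ V)) : P f M (U ⊔ V) := fun n => by
  cases n with
  | zero => exact qcoh_rightDerived_Γsh_zero f M hcU
  | succ k =>
    let push := Scheme.Modules.pushforward f
    haveI : (mv U V ⋙ ShortComplex.π₂ ⋙ push).Additive :=
      inferInstanceAs ((mv U V ⋙ ShortComplex.π₂) ⋙ push).Additive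
    have hmid : ∀ j, (((mv U V ⋙ ShortComplex.π₂ ⋙ push).rightDerived j).obj M).IsQuasicoherent := fun j =>
      DerivedMV.prop_rightDerived_biprod
        (G₁ := Γsh U ⋙ push) (G₂ := mv U V ⋙ ShortComplex.π₂ ⋙ push) (G₃ := Γsh V ⋙ push)
        { app := fun N => push.map (biprod.inl : (Γsh U).obj N ⟶ (Γsh U).obj N ⊞ (Γsh V).obj N)
          naturality := fun {A B} g => by
            change push.map ((Γsh U).map g) ≫ push.map biprod.inl = push.map biprod.inl ≫ push.map (biprod.map _ _)
            rw [← Functor.map_comp, ← Functor.map_comp, biprod.inl_map] }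
        { app := fun N => push.map (biprod.fst : (Γsh U).obj N ⊞ (Γsh V).obj N ⟶ (Γsh U).obj N)
          naturality := fun {A B} g => by
            change push.map (biprod.map _ _) ≫ push.map biprod.fst = push.map biprod.fst ≫ push.map ((Γsh U).map g)
            rw [← Functor.map_comp, ← Functor.map_comp, biprod.map_fst] }
        { app := fun N => push.map (biprod.inr : (Γsh V).obj N ⟶ (Γsh U).obj N ⊞ (Γsh V).obj N)
          naturality := fun {A B} g => by
            change push.map ((Γsh V).map g) ≫ push.map biprod.inr = push.map biprod.inr ≫ push.map (biprod.map _ _)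
            rw [← Functor.map_comp, ← Functor.map_comp, biprod.inr_map] }
        { app := fun N => push.map (biprod.snd : (Γsh U).obj N ⊞ (Γsh V).obj N ⟶ (Γsh V).obj N)
          naturality := fun {A B} g => by
            change push.map (biprod.map _ _) ≫ push.map biprod.snd = push.map biprod.snd ≫ push.map ((Γsh V).map g)
            rw [← Functor.map_comp, ← Functor.map_comp, biprod.map_snd] }
        (fun N => by
          change push.map _ ≫ push.map _ = _
          rw [← Functor.map_comp, biprod.inl_fst, CategoryTheory.Functor.map_id]; rfl)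
        (fun N => by
          change push.map _ ≫ push.map _ = _
          rw [← Functor.map_comp, biprod.inr_snd, CategoryTheory.Functor.map_id]; rfl)
        (fun N => by
          change push.map _ ≫ push.map _ = _
          rw [← Functor.map_comp, biprod.inl_snd, Functor.map_zero])
        (fun N => by
          change push.map _ ≫ push.map _ = _
          rw [← Functor.map_comp, biprod.inr_fst, Functor.map_zero])
        (fun N => by
          change push.map _ ≫ push.map _ + push.map _ ≫ push.map _ = _
          rw [← Functor.map_comp, ← Functor.map_comp, ← Functor.map_add, biprod.total]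
          exact CategoryTheory.Functor.map_id push _)
        (QC (Spec R)) SpecQCoh.isQCoh_biprod M j (hU j) (hV j)
    let φ : Γsh (U ⊔ V) ⋙ push ⟶ mv U V ⋙ ShortComplex.π₂ ⋙ push :=
      { app := fun N => push.map ((mv U V).obj N).f
        naturality := fun {A B} g => by
          change push.map ((mv U V).map g).τ₁ ≫ push.map _ = push.map _ ≫ push.map ((mv U V).map g).τ₂
          rw [← Functor.map_comp, ← Functor.map_comp, ((mv U V).map g).comm₁₂] }
    let ψ : mv U V ⋙ ShortComplex.π₂ ⋙ push ⟶ Γsh (U ⊓ V) ⋙ push :=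
      { app := fun N => push.map ((mv U V).obj N).g
        naturality := fun {A B} g => by
          change push.map ((mv U V).map g).τ₂ ≫ push.map _ = push.map _ ≫ push.map ((mv U V).map g).τ₃
          rw [← Functor.map_comp, ← Functor.map_comp, ((mv U V).map g).comm₂₃] }
    exact DerivedMV.prop_rightDerived_succ φ ψ
      (by
        refine NatTrans.ext (funext fun N => ?_)
        change push.map _ ≫ push.map _ = 0
        rw [← Functor.map_comp, ((mv U V).obj N).zero, Functor.map_zero])
      (fun I hI => shortExact_push_mv f U V I)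
      (QC (Spec R))
      (fun g h1 h2 => @Groth.L18.TildeF.isQCoh_kernel _ _ _ h1 h2 g)
      (fun g h1 h2 => @Groth.L18.TildeF.isQCoh_cokernel _ _ _ h1 h2 g)
      SpecQCoh.isQCoh_extension M k (hmid k) (hUV k) (hmid (k + 1)) (hUV (k + 1))

/-- Finite unions of basic opens inside an affine open. -/
theorem P_of_le_affine {U W : X.Opens} (hU : IsAffineOpen U) (hWU : W ≤ U) (hW : IsCompact (W : Set X)) :
    P f M W := by
  classical
  have key : ∀ (k : ℕ) (t : Finset Γ(X, U)), t.card ≤ k → P f M (t.sup fun g => X.basicOpen g) := by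
    intro k
    induction k with
    | zero =>
      intro t ht
      rw [Finset.card_eq_zero.1 (Nat.le_zero.1 ht), Finset.sup_empty]
      exact P_affine f M (isAffineOpen_bot X)
    | succ k ih =>
      intro t ht
      rcases t.eq_empty_or_nonempty with rfl | ⟨g, hg⟩
      · exact ih ∅ (Nat.zero_le _)
      have hcard : (t.erase g).card ≤ k := by
        rw [Finset.card_erase_of_mem hg]; omega
      rw [← Finset.insert_erase hg, Finset.sup_insert, sup_comm]
      refine P_sup f M ?_ (ih _ hcard) (P_affine f M (hU.basicOpen g)) ?_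
      · refine IsCompact.union ?_ (hU.basicOpen g).isCompact
        have : ∀ s : Finset Γ(X, U), IsCompact ((s.sup fun g => X.basicOpen g : X.Opens) : Set X) := fun s => by
          induction s using Finset.induction_on with
          | empty => simpa using isCompact_empty
          | insert a s _ hs =>
            rw [Finset.sup_insert]
            exact (hU.basicOpen a).isCompact.union hs
        exact this _
      · have he : ((t.erase g).sup fun g => X.basicOpen g) ⊓ X.basicOpen g =
            ((t.erase g).image (g * ·)).sup fun g => X.basicOpen g := by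
          rw [Finset.sup_image, Finset.sup_inf_distrib_right]
          exact Finset.sup_congr rfl fun a _ => by rw [Function.comp_apply, Scheme.basicOpen_mul, inf_comm]
        rw [he]
        exact ih _ (Finset.card_image_le.trans hcard)
  have hW' : ∃ t : Finset Γ(X, U), W = t.sup fun g => X.basicOpen g := by
    have hloc : ∀ x : W, ∃ g : Γ(X, U), X.basicOpen g ≤ W ∧ x.1 ∈ X.basicOpen g := fun x =>
      hU.exists_basicOpen_le x (hWU x.2)
    choose g hgW hxg using hloc
    obtain ⟨T, hT⟩ := hW.elim_finite_subcover (fun x : W => (X.basicOpen (g x) : Set X))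
      (fun x => (X.basicOpen (g x)).2) (fun x hx => Set.mem_iUnion.2 ⟨⟨x, hx⟩, hxg ⟨x, hx⟩⟩)
    refine ⟨T.image g, le_antisymm (fun x hx => ?_) (Finset.sup_le fun a ha => ?_)⟩
    · obtain ⟨y, hy, hxy⟩ := Set.mem_iUnion₂.1 (hT hx)
      exact Finset.le_sup (f := fun a => X.basicOpen a) (Finset.mem_image_of_mem g hy) hxy
    · obtain ⟨y, _, rfl⟩ := Finset.mem_image.1 ha
      exact hgW y
  obtain ⟨t, rfl⟩ := hW'
  exact key t.card t le_rfl

theorem P_compact (W : X.Opens) (hW : IsCompact (W : Set X)) : P f M W := by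
  haveI : QuasiSeparatedSpace X := quasiSeparatedSpace_of_quasiSeparated f
  refine compact_open_induction_on W hW (P_affine f M (isAffineOpen_bot X)) fun W' hW' U hP => ?_
  refine P_sup f M (IsCompact.union hW' U.2.isCompact) hP (P_affine f M U.2) ?_
  exact P_of_le_affine f M U.2 inf_le_right
    (QuasiSeparatedSpace.inter_isCompact _ _ W'.isOpen hW' U.1.isOpen U.2.isCompact)

/-- Higher direct images to an affine scheme are quasi-coherent. -/
theorem isQCoh_Rpush_spec (n : ℕ) : ((Coh.Rpush f n).obj M).IsQuasicoherent := by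
  haveI : CompactSpace X := QuasiCompact.compactSpace_of_compactSpace f
  have h := P_compact f M ⊤ isCompact_univ n
  haveI : IsIso (Scheme.Modules.restrictAdjunction (⊤ : X.Opens).ι).unit := by
    rw [NatTrans.isIso_iff_isIso_app]
    intro N
    haveI : IsIso ((Scheme.Modules.toPresheaf X).map
        ((Scheme.Modules.restrictAdjunction (⊤ : X.Opens).ι).unit.app N)) := by
      haveI : ∀ U, IsIso (((Scheme.Modules.toPresheaf X).map
          ((Scheme.Modules.restrictAdjunction (⊤ : X.Opens).ι).unit.app N)).app U) := fun U => by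
        change IsIso (((Scheme.Modules.restrictAdjunction (⊤ : X.Opens).ι).unit.app N).app U.unop)
        rw [Scheme.Modules.restrictAdjunction_unit_app_app]
        have e : PushMV.im (⊤ : X.Opens) U.unop = U.unop := (PushMV.im_eq _ _).trans (top_inf_eq _)
        rw [show (homOfLE (PushMV.im_le (⊤ : X.Opens) U.unop) : PushMV.im (⊤ : X.Opens) U.unop ⟶ U.unop) = eqToHom e
          from Subsingleton.elim _ _]
        infer_instance
      exact NatIso.isIso_of_isIso_app _
    exact isIso_of_reflects_iso _ (Scheme.Modules.toPresheaf X)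
  refine Groth.L18.TildeF.isQCoh_of_iso ((Groth.L10.SiteCoh.rightDerivedCongr ?_ n).app M) h
  exact Functor.isoWhiskerRight ((asIso (Scheme.Modules.restrictAdjunction (⊤ : X.Opens).ι).unit).symm) _ ≪≫
    Functor.leftUnitor _

end Affine

section General

variable (f : X ⟶ S) {T : Scheme.{u}} (j : T ⟶ S) [IsOpenImmersion j] (ι : X' ⟶ X) [IsOpenImmersion ι]
  (g : X' ⟶ T) (w : g ≫ j = ι ≫ f)

theorem image_eq (hr : f ⁻¹ᵁ j.opensRange ≤ ι.opensRange) (w : g ≫ j = ι ≫ f) (V : T.Opens) :
    ι ''ᵁ (g ⁻¹ᵁ V) = f ⁻¹ᵁ (j ''ᵁ V) := by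
  conv_lhs => rw [← j.preimage_image_eq V, ← Scheme.Hom.comp_preimage, w, Scheme.Hom.comp_preimage,
    ι.image_preimage_eq_opensRange_inf]
  exact inf_eq_right.2 ((f.preimage_mono (j.image_le_opensRange V)).trans hr)

theorem scalar_eq (hr : f ⁻¹ᵁ j.opensRange ≤ ι.opensRange) (w : g ≫ j = ι ≫ f) (V : T.Opens) :
    (j.appIso V).inv ≫ f.app (j ''ᵁ V) ≫ X.presheaf.map (homOfLE (image_eq f j ι g hr w V).le).op =
      g.app V ≫ (ι.appIso (g ⁻¹ᵁ V)).inv := by
  have e : g ⁻¹ᵁ V ≤ ι ⁻¹ᵁ (f ⁻¹ᵁ (j ''ᵁ V)) := by
    rw [← image_eq f j ι g hr w V, ι.preimage_image_eq]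
  have e' : g ⁻¹ᵁ V ≤ (g ≫ j) ⁻¹ᵁ (j ''ᵁ V) := by
    rw [Scheme.Hom.comp_preimage, j.preimage_image_eq]
  rw [Iso.eq_comp_inv, Category.assoc, Category.assoc, Iso.inv_comp_eq, Scheme.Hom.appIso_hom',
    Scheme.Hom.map_appLE, Scheme.Hom.appIso_hom', Scheme.Hom.app_eq_appLE, Scheme.Hom.app_eq_appLE,
    Scheme.Hom.appLE_comp_appLE, Scheme.Hom.appLE_comp_appLE]
  simp only [w]

/-- Sections of a direct image over an open of an open subscheme. -/
noncomputable def bcApp (hr : f ⁻¹ᵁ j.opensRange ≤ ι.opensRange) (w : g ≫ j = ι ≫ f) (M : X.Modules) :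
    ((Scheme.Modules.pushforward f).obj M).restrict j ⟶ (Scheme.Modules.pushforward g).obj (M.restrict ι) :=
  (Scheme.Modules.fullyFaithfulToPresheafOfModules).preimage
    (PresheafOfModules.homMk
      { app := fun V => M.presheaf.map (homOfLE (image_eq f j ι g hr w V.unop).le).op
        naturality := fun V V' k =>
          ((M.presheaf.map_comp ((TopologicalSpace.Opens.map f.base).map (j.opensFunctor.map k.unop)).op
            (homOfLE (image_eq f j ι g hr w V'.unop).le).op).symm.trans
            ((congrArg M.presheaf.map (Subsingleton.elim _ _)).trans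
              (M.presheaf.map_comp (homOfLE (image_eq f j ι g hr w V.unop).le).op
                (ι.opensFunctor.map ((TopologicalSpace.Opens.map g.base).map k.unop)).op))) }
      (fun V r m => bc_smul hr w M V.unop r m))
where
  bc_smul (hr : f ⁻¹ᵁ j.opensRange ≤ ι.opensRange) (w : g ≫ j = ι ≫ f) (M : X.Modules) (V : T.Opens)
      (r : Γ(T, V)) (m : Γ(((Scheme.Modules.pushforward f).obj M).restrict j, V)) :
      M.presheaf.map (homOfLE (image_eq f j ι g hr w V).le).op
          (show Γ(M, f ⁻¹ᵁ (j ''ᵁ V)) from r • m) =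
        (show Γ(M, ι ''ᵁ (g ⁻¹ᵁ V)) from r • (show Γ((Scheme.Modules.pushforward g).obj (M.restrict ι), V) from
          M.presheaf.map (homOfLE (image_eq f j ι g hr w V).le).op (show Γ(M, f ⁻¹ᵁ (j ''ᵁ V)) from m))) := by
    refine (Scheme.Modules.map_smul M _ ((f.app (j ''ᵁ V)) ((j.appIso V).inv r)) _).trans ?_
    refine congrArg (fun x : Γ(X, ι ''ᵁ (g ⁻¹ᵁ V)) => x • _) ?_
    exact ConcreteCategory.congr_hom (scalar_eq f j ι g hr w V) r

theorem isIso_bcApp (hr : f ⁻¹ᵁ j.opensRange ≤ ι.opensRange) (w : g ≫ j = ι ≫ f) (M : X.Modules) :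
    IsIso (bcApp f j ι g hr w M) := by
  haveI : IsIso ((Scheme.Modules.toPresheaf T).map (bcApp f j ι g hr w M)) := by
    haveI : ∀ V, IsIso (((Scheme.Modules.toPresheaf T).map (bcApp f j ι g hr w M)).app V) := fun V => by
      change IsIso (M.presheaf.map (homOfLE (image_eq f j ι g hr w V.unop).le).op)
      rw [show homOfLE (image_eq f j ι g hr w V.unop).le = eqToHom (image_eq f j ι g hr w V.unop) from
        Subsingleton.elim _ _]
      infer_instance
    exact NatIso.isIso_of_isIso_app _
  exact isIso_of_reflects_iso _ (Scheme.Modules.toPresheaf T)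

/-- Direct images commute with restriction to opens of the target. -/
noncomputable def pushRestrictIso (hr : f ⁻¹ᵁ j.opensRange ≤ ι.opensRange) (w : g ≫ j = ι ≫ f) :
    Scheme.Modules.pushforward f ⋙ Scheme.Modules.restrictFunctor j ≅
      Scheme.Modules.restrictFunctor ι ⋙ Scheme.Modules.pushforward g :=
  NatIso.ofComponents (fun M => @asIso _ _ _ _ (bcApp f j ι g hr w M) (isIso_bcApp f j ι g hr w M))
    fun {M N} k => Scheme.Modules.hom_ext _ _ fun V => by
      ext m
      exact (NatTrans.naturality_apply k.mapPresheaf (homOfLE (image_eq f j ι g hr w V).le).op m).symm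

theorem nonempty_Rpush_restrict_iso [HasInjectiveResolutions X.Modules] [HasInjectiveResolutions X'.Modules]
    (hr : f ⁻¹ᵁ j.opensRange ≤ ι.opensRange) (w : g ≫ j = ι ≫ f) (M : X.Modules) (n : ℕ) :
    Nonempty (((Coh.Rpush f n).obj M).restrict j ≅ (Coh.Rpush g n).obj (M.restrict ι)) := by
  haveI : (Scheme.Modules.restrictFunctor j).Additive :=
    haveI := preservesBinaryBiproducts_of_preservesBinaryCoproducts (Scheme.Modules.restrictFunctor j)
    Functor.additive_of_preservesBinaryBiproducts _
  haveI : (Scheme.Modules.restrictFunctor ι).Additive :=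
    haveI := preservesBinaryBiproducts_of_preservesBinaryCoproducts (Scheme.Modules.restrictFunctor ι)
    Functor.additive_of_preservesBinaryBiproducts _
  obtain ⟨e⟩ := nonempty_rightDerived_restrict_push ι g M n
  exact ⟨(Groth.L10.SiteCoh.rightDerivedCompIso (Scheme.Modules.pushforward f)
      (Scheme.Modules.restrictFunctor j) n M).symm ≪≫
    (Groth.L10.SiteCoh.rightDerivedCongr (pushRestrictIso f j ι g hr w) n).app M ≪≫ e⟩

/-- Higher direct images of quasi-coherent modules along qcqs morphisms are quasi-coherent. -/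
theorem isQCoh_Rpush [QuasiCompact f] [QuasiSeparated f] [HasInjectiveResolutions X.Modules]
    (M : X.Modules) [Coh.IsQCoh M] (n : ℕ) : Coh.IsQCoh ((Coh.Rpush f n).obj M) := by
  refine Groth.L00.Local.isQCoh_of_tilde_charts _ fun y => ?_
  obtain ⟨_, ⟨V, hV, rfl⟩, hyV, -⟩ :=
    S.isBasis_affineOpens.exists_subset_of_mem_open (Set.mem_univ y) isOpen_univ
  let g : ↑(f ⁻¹ᵁ V) ⟶ Spec Γ(S, V) := (f ∣_ V) ≫ hV.isoSpec.hom
  have w : g ≫ hV.fromSpec = (f ⁻¹ᵁ V).ι ≫ f := by
    simp [g, IsAffineOpen.isoSpec_hom_fromSpec, morphismRestrict_ι]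
  haveI := hasInjectiveResolutions (f ⁻¹ᵁ V : Scheme.{u})
  haveI : Coh.IsQCoh (M.restrict (f ⁻¹ᵁ V).ι) := Scheme.Modules.isQuasicoherent_restrictFunctor _ M
  obtain ⟨e⟩ := nonempty_Rpush_restrict_iso f hV.fromSpec (f ⁻¹ᵁ V).ι g
    (by rw [hV.opensRange_fromSpec, Scheme.Opens.opensRange_ι]) w M n
  haveI := isQCoh_Rpush_spec g (M.restrict (f ⁻¹ᵁ V).ι) n
  exact ⟨_, hV.fromSpec, inferInstance,
    (moduleSpecΓFunctor (R := Γ(S, V))).obj ((Coh.Rpush g n).obj (M.restrict (f ⁻¹ᵁ V).ι)),
    hV.opensRange_fromSpec.ge hyV, ⟨e ≪≫ (Groth.L18.TildeF.counitIso _).symm⟩⟩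

end General

end Groth.L17.PushQCoh
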