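import Mathlib.Topology.Sheaves.Flasque
import Mathlib.CategoryTheory.Sites.SheafCohomology.Basic
import Mathlib.CategoryTheory.Abelian.GrothendieckCategory.HasExt
import Mathlib.CategoryTheory.Abelian.GrothendieckAxioms.Sheaf
import Mathlib.Algebra.Category.Grp.AB
import Mathlib.Algebra.Category.Grp.Ulift
import Mathlib.CategoryTheory.Adjunction.Whiskering
import Mathlib.Algebra.Homology.DerivedCategory.Ext.ExactSequences
import Mathlib.Algebra.FreeAbelianGroup.Finsupp
import Mathlib.Algebra.Category.Grp.ForgetCorepresentable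
import Groth.Prelude.Def_SiteColimFix

universe u
open CategoryTheory CategoryTheory.Limits TopologicalSpace Opposite Abelian
noncomputable section

namespace Groth.L17

variable {X : TopCat.{u}}

/-- A named instance, so that nested instance proofs stay syntactically equal. -/
instance (priority := high) hasSheafifyOpens (X : TopCat.{u}) :
    HasSheafify (Opens.grothendieckTopology X) AddCommGrpCat.{u} := inferInstance

abbrev AbSheaf (X : TopCat.{u}) := CategoryTheory.Sheaf (Opens.grothendieckTopology X) AddCommGrpCat.{u}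

instance : IsGrothendieckAbelian.{u} (AbSheaf X) :=
  Sheaf.isGrothendieckAbelian_of_essentiallySmall _ _

abbrev zFree (U : Opens X) : AbSheaf X :=
  (presheafToSheaf _ _).obj (yoneda.obj U ⋙ AddCommGrpCat.free)

def zEquiv (U : Opens X) (F : AbSheaf X) : (zFree U ⟶ F) ≃ F.obj.obj (op U) :=
  ((sheafificationAdjunction _ _).homEquiv _ _).trans
    (((AddCommGrpCat.adj.whiskerRight (Opens X)ᵒᵖ).homEquiv (yoneda.obj U) F.obj).trans yonedaEquiv)

abbrev res (U : Opens X) (F : AbSheaf X) {V : Opens X} (h : V ≤ U) := F.obj.map (homOfLE h).op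

abbrev zMap {U V : Opens X} (h : V ≤ U) : zFree V ⟶ zFree U :=
  (presheafToSheaf _ _).map (Functor.whiskerRight (yoneda.map (homOfLE h)) AddCommGrpCat.free)

lemma zEquiv_comp (U : Opens X) {F G : AbSheaf X} (f : zFree U ⟶ F) (g : F ⟶ G) :
    zEquiv U G (f ≫ g) = g.hom.app (op U) (zEquiv U F f) := by
  simp only [zEquiv, Equiv.trans_apply]
  rw [Adjunction.homEquiv_naturality_right]
  erw [Adjunction.homEquiv_naturality_right]
  rfl

lemma zEquiv_zMap {U V : Opens X} (h : V ≤ U) {F : AbSheaf X} (f : zFree U ⟶ F) :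
    zEquiv V F (zMap h ≫ f) = F.obj.map (homOfLE h).op (zEquiv U F f) := by
  simp only [zEquiv, Equiv.trans_apply]
  erw [Adjunction.homEquiv_naturality_left]
  erw [Adjunction.homEquiv_naturality_left]
  exact (yonedaEquiv_naturality _ _).symm

lemma zEquiv_add (U : Opens X) {F : AbSheaf X} (f g : zFree U ⟶ F) :
    zEquiv U F (f + g) = zEquiv U F f + zEquiv U F g := rfl

def zAddEquiv (U : Opens X) (F : AbSheaf X) : (zFree U ⟶ F) ≃+ F.obj.obj (op U) :=
  { zEquiv U F with map_add' := zEquiv_add U }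

instance (priority := high) hasExtAbSheaf (X : TopCat.{u}) : HasExt.{u} (AbSheaf X) := inferInstance

/-- Ext^n from the free sheaf on `U`: the cohomology of `U`. -/
abbrev HU (U : Opens X) (F : AbSheaf X) (n : ℕ) := Ext.{u} (zFree U) F n

def hu₀ (U : Opens X) (F : AbSheaf X) : HU U F 0 ≃+ F.obj.obj (op U) :=
  Ext.addEquiv₀.trans (zAddEquiv U F)

abbrev huMap {U : Opens X} {F G : AbSheaf X} (f : F ⟶ G) {n : ℕ} (x : HU U F n) : HU U G n :=
  x.comp (Ext.mk₀ f) (add_zero n)

abbrev huRes {U V : Opens X} (h : V ≤ U) {F : AbSheaf X} {n : ℕ} (x : HU U F n) : HU V F n :=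
  (Ext.mk₀ (zMap h)).comp x (zero_add n)

lemma hu₀_mk₀ (U : Opens X) {F : AbSheaf X} (f : zFree U ⟶ F) :
    hu₀ U F (Ext.mk₀ f) = zEquiv U F f := by
  simp only [hu₀, AddEquiv.trans_apply]
  exact congrArg (zEquiv U F) (Ext.addEquiv₀.apply_symm_apply f)

lemma hu₀_map {U : Opens X} {F G : AbSheaf X} (g : F ⟶ G) (x : HU U F 0) :
    hu₀ U G (huMap g x) = g.hom.app (op U) (hu₀ U F x) := by
  obtain ⟨f, rfl⟩ := (Ext.mk₀_bijective _ _).2 x
  simp [huMap, hu₀_mk₀, zEquiv_comp]

lemma hu₀_res {U V : Opens X} (h : V ≤ U) {F : AbSheaf X} (x : HU U F 0) :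
    hu₀ V F (huRes h x) = F.obj.map (homOfLE h).op (hu₀ U F x) := by
  obtain ⟨f, rfl⟩ := (Ext.mk₀_bijective _ _).2 x
  simp [huRes, hu₀_mk₀, zEquiv_zMap]

lemma huRes_map {U V : Opens X} (h : V ≤ U) {F G : AbSheaf X} (g : F ⟶ G) {n : ℕ} (x : HU U F n) :
    huRes h (huMap g x) = huMap g (huRes h x) := by
  simp [huRes, huMap]

lemma huRes_huRes {U V W : Opens X} (h : V ≤ U) (h' : W ≤ V) {F : AbSheaf X} {n : ℕ}
    (x : HU U F n) : huRes h' (huRes h x) = huRes (h'.trans h) x := by
  have : zMap h' ≫ zMap h = zMap (h'.trans h) := by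
    rw [← Functor.map_comp, ← Functor.whiskerRight_comp, ← Functor.map_comp]; rfl
  simp [huRes, ← this]

section FlasqueAcyclic

lemma freeAbelianGroup_map_injective {α β : Type u} {f : α → β} (hf : Function.Injective f) :
    Function.Injective (FreeAbelianGroup.map f) := by
  have : (FreeAbelianGroup.toFinsupp (X := β)).comp (FreeAbelianGroup.map f) =
      (Finsupp.mapDomain.addMonoidHom f).comp (FreeAbelianGroup.toFinsupp (X := α)) := by
    ext a; simp
  intro a b hab
  refine (FreeAbelianGroup.equivFinsupp α).injective (Finsupp.mapDomain_injective hf ?_)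
  exact (DFunLike.congr_fun this a).symm.trans ((congrArg FreeAbelianGroup.toFinsupp hab).trans (DFunLike.congr_fun this b))

instance mono_zMap {U V : Opens X} (h : V ≤ U) : Mono (zMap h) := by
  have : Mono (homOfLE h) := ⟨fun _ _ _ => Subsingleton.elim _ _⟩
  have : Mono (Functor.whiskerRight (yoneda.map (homOfLE h)) AddCommGrpCat.free) := by
    rw [NatTrans.mono_iff_mono_app]
    intro W
    rw [AddCommGrpCat.mono_iff_injective]
    have hinj : Function.Injective ((yoneda.map (homOfLE h)).app W) := by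
      intro a b _
      exact @Subsingleton.elim (W.unop ⟶ V) _ a b
    exact freeAbelianGroup_map_injective hinj
  infer_instance

lemma surjective_res_of_injective {U V : Opens X} (h : V ≤ U) (I : AbSheaf X) [Injective I] :
    Function.Surjective (I.obj.map (homOfLE h).op) := by
  intro s
  obtain ⟨f, rfl⟩ := (zEquiv V I).surjective s
  exact ⟨zEquiv U I (Injective.factorThru f (zMap h)),
    by rw [← zEquiv_zMap, Injective.comp_factorThru]⟩

instance isFlasque_of_injective (I : AbSheaf X) [Injective I] :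
    TopCat.Presheaf.IsFlasque (X := X) I.obj where
  epi {U V} i := by
    rw [AddCommGrpCat.epi_iff_surjective]
    exact surjective_res_of_injective (leOfHom i.unop) I

lemma surjective_app_of_shortExact_of_flasque {S : ShortComplex (AbSheaf X)} (hS : S.ShortExact)
    [h1 : TopCat.Presheaf.IsFlasque (X := X) S.X₁.obj] (U : Opens X) :
    Function.Surjective (S.g.hom.app (op U)) := by
  rw [← AddCommGrpCat.epi_iff_surjective]
  exact TopCat.Sheaf.IsFlasque.epi_of_shortExact (X := X) (S := S) hS (U := U)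

end FlasqueAcyclic

/-- The injective presentation sequence of a sheaf. -/
abbrev injSeq (F : AbSheaf X) : ShortComplex (AbSheaf X) :=
  ShortComplex.mk (Injective.ι F) (cokernel.π _) (cokernel.condition _)

lemma injSeq_shortExact (F : AbSheaf X) : (injSeq F).ShortExact where
  exact := ShortComplex.exact_of_g_is_cokernel _ (cokernelIsCokernel _)

lemma hu_eq_zero_of_flasque (U : Opens X) :
    ∀ (n : ℕ) (F : AbSheaf X) [TopCat.Presheaf.IsFlasque (X := X) F.obj] (x : HU U F (n + 1)), x = 0 := by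
  intro n
  induction n with
  | zero =>
    intro F _ x
    obtain ⟨y, hy⟩ := Ext.covariant_sequence_exact₁ (hS := injSeq_shortExact F) _ x
      (Ext.eq_zero_of_injective _) (zero_add 1)
    obtain ⟨s, hs⟩ := surjective_app_of_shortExact_of_flasque (injSeq_shortExact F) U (hu₀ U _ y)
    obtain ⟨z, rfl⟩ := (hu₀ U _).surjective s
    rw [← hu₀_map] at hs
    obtain rfl := (hu₀ U _).injective hs
    rw [← hy, huMap]
    simp [(injSeq_shortExact F).comp_extClass]
  | succ n ih =>
    intro F _ x
    obtain ⟨y, hy⟩ := Ext.covariant_sequence_exact₁ (hS := injSeq_shortExact F) _ x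
      (Ext.eq_zero_of_injective _) rfl
    have : TopCat.Presheaf.IsFlasque (X := X) (injSeq F).X₃.obj :=
      TopCat.Sheaf.IsFlasque.of_shortExact_of_isFlasque₁₂ (X := X) (injSeq_shortExact F)
    rw [← hy, ih _ y]
    simp

lemma exists_res_eq_zero {U : Opens X} :
    ∀ {n : ℕ} {F : AbSheaf X} (x : HU U F (n + 1)) (p : X), p ∈ U →
      ∃ (V : Opens X) (h : V ≤ U), p ∈ V ∧ huRes h x = 0 := by
  intro n F x p hp
  induction n generalizing F with
  | zero =>
    obtain ⟨y, hy⟩ := Ext.covariant_sequence_exact₁ (hS := injSeq_shortExact F) _ x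
      (Ext.eq_zero_of_injective _) (zero_add 1)
    have hls : TopCat.Presheaf.IsLocallySurjective (injSeq F).g.hom :=
      (CategoryTheory.Sheaf.isLocallySurjective_iff_epi' (A := AddCommGrpCat.{u}) (φ := (injSeq F).g)).2
        (injSeq_shortExact F).epi_g
    obtain ⟨V, h, ⟨s, hs⟩, hV⟩ := (TopCat.Presheaf.isLocallySurjective_iff _).1 hls U (hu₀ U _ y) p hp
    refine ⟨V, h, hV, ?_⟩
    obtain ⟨z, rfl⟩ := (hu₀ V _).surjective s
    rw [← hu₀_map] at hs
    have hs' : huMap (injSeq F).g z = huRes h y := (hu₀ V _).injective (hs.trans (hu₀_res h y).symm)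
    rw [← hy]
    rw [huRes, ← Ext.comp_assoc_of_second_deg_zero]
    · rw [show (Ext.mk₀ (zMap h)).comp y (zero_add 0) = huRes h y from rfl, ← hs', huMap]
      simp [(injSeq_shortExact F).comp_extClass]
  | succ n ih =>
    obtain ⟨y, hy⟩ := Ext.covariant_sequence_exact₁ (hS := injSeq_shortExact F) _ x
      (Ext.eq_zero_of_injective _) rfl
    obtain ⟨V, h, hV, hy0⟩ := ih y
    refine ⟨V, h, hV, ?_⟩
    rw [← hy, huRes, ← Ext.comp_assoc (a₁₂ := n + 1) (a₂₃ := n + 2) _ _ _ (by omega) (by omega) (by omega)]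
    rw [show (Ext.mk₀ (zMap h)).comp y _ = huRes h y from rfl, hy0]
    simp

/-- Global sections of a sheaf as maps from the constant sheaf. -/
def cEquiv (F : AbSheaf X) :
    ((constantSheaf (Opens.grothendieckTopology X) AddCommGrpCat.{u}).obj
      (AddCommGrpCat.of (ULift ℤ)) ⟶ F) ≃ F.obj.obj (op ⊤) :=
  (((constantSheafAdj (Opens.grothendieckTopology X) AddCommGrpCat.{u}
      isTerminalTop).homAddEquiv _ F).trans (AddCommGrpCat.uliftZMultiplesAddEquiv _)).toEquiv

lemma cEquiv_comp {F G : AbSheaf X} (f : (constantSheaf (Opens.grothendieckTopology X) AddCommGrpCat.{u}).obj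
      (AddCommGrpCat.of (ULift ℤ)) ⟶ F) (g : F ⟶ G) :
    cEquiv G (f ≫ g) = g.hom.app (op ⊤) (cEquiv F f) := by
  simp only [cEquiv, AddEquiv.toEquiv_eq_coe, EquivLike.coe_coe, AddEquiv.trans_apply,
    Adjunction.homAddEquiv_apply, Adjunction.homEquiv_naturality_right]
  rfl

/-- The free sheaf on the whole space is the constant sheaf `ℤ`. -/
def zFreeTopIso : zFree (X := X) ⊤ ≅
    (constantSheaf (Opens.grothendieckTopology X) AddCommGrpCat.{u}).obj (AddCommGrpCat.of (ULift ℤ)) where
  hom := (zEquiv ⊤ _).symm (cEquiv _ (𝟙 _))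
  inv := (cEquiv _).symm (zEquiv ⊤ _ (𝟙 _))
  hom_inv_id := (zEquiv ⊤ _).injective (by
    rw [zEquiv_comp, Equiv.apply_symm_apply, ← cEquiv_comp, Category.id_comp, Equiv.apply_symm_apply])
  inv_hom_id := (cEquiv _).injective (by
    rw [cEquiv_comp, Equiv.apply_symm_apply, ← zEquiv_comp, Category.id_comp, Equiv.apply_symm_apply])

/-- The cohomology of the whole space. -/
def hTopEquiv (F : AbSheaf X) (n : ℕ) : Sheaf.H.{u} F n ≃+ HU ⊤ F n where
  toFun x := (Ext.mk₀ (zFreeTopIso (X := X)).hom).comp x (zero_add n)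
  invFun x := (Ext.mk₀ (zFreeTopIso (X := X)).inv).comp x (zero_add n)
  left_inv x := by simp
  right_inv x := by simp
  map_add' x y := Ext.comp_add _ _ _ _

lemma subsingleton_H_of_flasque (F : AbSheaf X) [TopCat.Presheaf.IsFlasque (X := X) F.obj] (n : ℕ) :
    Subsingleton (Sheaf.H F (n + 1)) :=
  have : Subsingleton (HU ⊤ F (n + 1)) := subsingleton_of_forall_eq 0 (hu_eq_zero_of_flasque ⊤ n F)
  (hTopEquiv F _).subsingleton

end Groth.L17
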