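import Groth.Agent.L00.PullStalk
import Groth.Agent.L00.StalkFunctor
import Groth.Agent.L00.TensorMod
import Groth.Agent.L00.TensorColim
import Groth.Agent.L21.Modules
import Groth.Agent.L00.SheafHom
import Mathlib.AlgebraicGeometry.Morphisms.ClosedImmersion

/-!
For a closed immersion `f : X ⟶ Y`: the natural projection formula
`N ⊗ f_* A ≅ f_* (f^* N ⊗ A)`, the counit `f^* f_* M ≅ M`, and `f_*` preserves colimits.
-/

set_option autoImplicit false
set_option backward.isDefEq.respectTransparency false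
set_option backward.isDefEq.respectTransparency.types false

universe u

open CategoryTheory CategoryTheory.Limits MonoidalCategory AlgebraicGeometry Opposite TopologicalSpace TensorProduct

namespace Groth.L17.ClosedPush

open Groth.L00.Tensor Groth.L00.StalkTensor Groth.L00.PullStalk Groth.L00.Sky

variable {X Y : Scheme.{u}} (f : X ⟶ Y)

/-- The comparison of stalks of a pushforward, additively. -/
noncomputable def c₀ (M : X.Modules) (x : X) :
    St (pre ((Scheme.Modules.pushforward f).obj M)) (f x) →+ St (pre M) x :=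
  (TopCat.Presheaf.stalkPushforward AddCommGrpCat.{u} f.base M.presheaf x).hom

theorem c₀_germ (M : X.Modules) (x : X) {V : Y.Opens} (hx : f x ∈ V)
    (m : (pre ((Scheme.Modules.pushforward f).obj M)).obj (op V)) :
    c₀ f M x (germ (pre ((Scheme.Modules.pushforward f).obj M)) (f x) hx m) =
      germ (pre M) x (show x ∈ f ⁻¹ᵁ V from hx) m :=
  congrArg (fun k => (ConcreteCategory.hom k) m)
    (TopCat.Presheaf.stalkPushforward_germ AddCommGrpCat.{u} f.base M.presheaf V x hx)

theorem c₀_smul (M : X.Modules) (x : X) (r : Y.presheaf.stalk (f x))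
    (p : St (pre ((Scheme.Modules.pushforward f).obj M)) (f x)) :
    c₀ f M x (r • p) = (φ f x r : X.presheaf.stalk x) • c₀ f M x p := by
  obtain ⟨U, hU, m, rfl⟩ := exists_germ (pre ((Scheme.Modules.pushforward f).obj M)) (f x) p
  obtain ⟨V, hV, a, rfl⟩ := TopCat.Presheaf.exists_germ_eq (F := Y.presheaf) (x := f x) r
  let iU : U ⊓ V ⟶ U := homOfLE inf_le_left
  let iV : U ⊓ V ⟶ V := homOfLE inf_le_right
  have hW : f x ∈ U ⊓ V := ⟨hU, hV⟩
  rw [← germ_rs (pre ((Scheme.Modules.pushforward f).obj M)) (f x) iU hW m,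
    ← TopCat.Presheaf.germ_res_apply Y.presheaf iV (f x) hW a, ← germ_smul', c₀_germ, c₀_germ]
  refine (congrArg (germ (pre M) x _) (push_smul f M (U ⊓ V) _ _)).trans ?_
  refine (germ_smul' (pre M) x _ _ _).trans ?_
  exact congrArg (· • _) (Scheme.Hom.germ_stalkMap_apply f (U ⊓ V) x hW _).symm

/-- The comparison of stalks of a pushforward. -/
noncomputable def cHom (M : X.Modules) (x : X) :
    (Groth.L00.Stk.F Y (f x)).obj ((Scheme.Modules.pushforward f).obj M) ⟶
      (ModuleCat.restrictScalars (φ f x)).obj ((Groth.L00.Stk.F X x).obj M) :=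
  ModuleCat.ofHom (X := (Groth.L00.Stk.F Y (f x)).obj ((Scheme.Modules.pushforward f).obj M))
    (Y := (ModuleCat.restrictScalars (φ f x)).obj ((Groth.L00.Stk.F X x).obj M))
    { toFun := c₀ f M x
      map_add' := map_add _
      map_smul' := c₀_smul f M x }

theorem stk_map_germ {Z : Scheme.{u}} {M N : Z.Modules} (ψ : M ⟶ N) (z : Z) {U : Z.Opens} (hz : z ∈ U)
    (m : (pre M).obj (op U)) :
    (Groth.L00.Stk.F Z z).map ψ (germ (pre M) z hz m) = germ (pre N) z hz (ψ.app U m) :=
  DerSch.stalkFunctor_map_germ z ψ U hz m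

/-- Sheafification, adjoint to the forgetful functor. -/
noncomputable def shAdj (Z : Scheme.{u}) : shf Z ⊣ preF Z :=
  PresheafOfModules.sheafificationAdjunction (𝟙 Z.ringCatSheaf.obj)

theorem shAdj_unit {Z : Scheme.{u}} (P : PX Z) : (shAdj Z).unit.app P = Groth.L00.Tensor.unit P := rfl

theorem tensorMap_unit {Z : Scheme.{u}} {M M' N N' : Z.Modules} (a : M ⟶ M') (b : N ⟶ N') (U : Z.Opens)
    (m : (pre M).obj (op U)) (n : (pre N).obj (op U)) :
    (tensorMap a b).app U ((Groth.L00.Tensor.unit (pre M ⊗ pre N)).app (op U) (m ⊗ₜ[Z.sheaf.obj.obj (op U)] n)) =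
      (Groth.L00.Tensor.unit (pre M' ⊗ pre N')).app (op U) (a.app U m ⊗ₜ[Z.sheaf.obj.obj (op U)] b.app U n) := by
  let h : pre M ⊗ pre N ⟶ pre M' ⊗ pre N' := (preF Z).map a ⊗ₘ (preF Z).map b
  have hn : h ≫ Groth.L00.Tensor.unit (pre M' ⊗ pre N') =
      Groth.L00.Tensor.unit (pre M ⊗ pre N) ≫ (preF Z).map ((shf Z).map h) :=
    (shAdj Z).unit.naturality h
  exact (congrArg (fun k : pre M ⊗ pre N ⟶ pre (CohB1.tensorMod M' N') =>
    k.app (op U) (m ⊗ₜ[Z.sheaf.obj.obj (op U)] n)) hn).symm

variable [IsClosedImmersion f]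

theorem c₀_bijective (M : X.Modules) (x : X) : Function.Bijective (c₀ f M x) := by
  haveI := TopCat.Presheaf.stalkPushforward.stalkPushforward_iso_of_isInducing AddCommGrpCat.{u}
    f.isClosedEmbedding.isInducing M.presheaf x
  exact ConcreteCategory.bijective_of_isIso
    (TopCat.Presheaf.stalkPushforward AddCommGrpCat.{u} f.base M.presheaf x)

/-- The stalk of a pushforward along a closed immersion, at a point of the source. -/
noncomputable def cIso (M : X.Modules) (x : X) :
    (Groth.L00.Stk.F Y (f x)).obj ((Scheme.Modules.pushforward f).obj M) ≅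
      (ModuleCat.restrictScalars (φ f x)).obj ((Groth.L00.Stk.F X x).obj M) :=
  haveI : IsIso (cHom f M x) := (ConcreteCategory.isIso_iff_bijective _).2 (c₀_bijective f M x)
  asIso (cHom f M x)

/-- Stalks of a pushforward vanish away from the closed subscheme. -/
theorem subsingleton_stalk_push (M : X.Modules) {p : Y} (hp : p ∉ Set.range f) :
    Subsingleton (St (pre ((Scheme.Modules.pushforward f).obj M)) p) := by
  refine ⟨fun a b => ?_⟩
  suffices h : ∀ a : St (pre ((Scheme.Modules.pushforward f).obj M)) p, a = 0 by rw [h a, h b]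
  intro a
  obtain ⟨V, hV, m, rfl⟩ := exists_germ _ p a
  let W : Y.Opens := V ⊓ ⟨(Set.range f)ᶜ, f.isClosedEmbedding.isClosed_range.isOpen_compl⟩
  have hW : p ∈ W := ⟨hV, hp⟩
  have he : f ⁻¹ᵁ W = ⊥ := by
    ext y
    exact ⟨fun h => absurd ⟨y, rfl⟩ h.2, fun h => h.elim⟩
  rw [← germ_rs (pre ((Scheme.Modules.pushforward f).obj M)) p (homOfLE inf_le_left : W ⟶ V) hW m]
  haveI : Subsingleton (M.presheaf.obj (op (f ⁻¹ᵁ W))) := by
    rw [he]
    exact AddCommGrpCat.subsingleton_of_isZero
      (TopCat.Sheaf.isTerminalOfEmpty ⟨M.presheaf, M.isSheaf⟩).isZero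
  exact (congrArg (germ _ p hW) (Subsingleton.elim (α := M.presheaf.obj (op (f ⁻¹ᵁ W))) _ 0)).trans (map_zero _)

omit [IsClosedImmersion f] in
/-- The stalk of the unit of `f^* ⊣ f_*` is `n ↦ 1 ⊗ n`. -/
theorem stalkIso_unit_germ (N : Y.Modules) (x : X) {V : Y.Opens} (hx : f x ∈ V) (n : (pre N).obj (op V)) :
    ((stalkIso f x).hom.app N) (germ (pre ((Scheme.Modules.pullback f).obj N)) x (show x ∈ f ⁻¹ᵁ V from hx)
        (((Scheme.Modules.pullbackPushforwardAdjunction f).unit.app N).app V n)) =
      (ModuleCat.extendRestrictScalarsAdj (φ f x)).unit.app ((Groth.L00.Stk.F Y (f x)).obj N)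
        (germ (pre N) (f x) hx n) := by
  have h := Adjunction.unit_leftAdjointUniq_hom_app
    ((Scheme.Modules.pullbackPushforwardAdjunction f).comp (Groth.L00.Sky.adj x))
    (((Groth.L00.Sky.adj (f x)).comp (ModuleCat.extendRestrictScalarsAdj (φ f x))).ofNatIsoRight (pushSkyIso f x).symm) N
  let u := ((Groth.L00.Sky.adj (f x)).comp (ModuleCat.extendRestrictScalarsAdj (φ f x))).unit.app N
  have hR : (((Groth.L00.Sky.adj (f x)).comp (ModuleCat.extendRestrictScalarsAdj (φ f x))).ofNatIsoRight
      (pushSkyIso f x).symm).unit.app N = u ≫ (pushSkyIso f x).inv.app _ := by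
    simp [u]
  have h' := congrArg (· ≫ (pushSkyIso f x).hom.app _) (h.trans hR)
  have hc : (u ≫ (pushSkyIso f x).inv.app _) ≫ (pushSkyIso f x).hom.app _ = u :=
    (Category.assoc _ _ _).trans ((congrArg (u ≫ ·) (Iso.inv_hom_id_app (pushSkyIso f x) _)).trans (Category.comp_id u))
  have h2 := congrArg (fun ψ => (Scheme.Modules.Hom.app ψ V) n) (h'.trans hc)
  have h3 := congrFun h2 ⟨hx⟩
  exact h3

/-- The composite stalk map of the unit. -/
theorem stalkIso_unit (N : Y.Modules) (x : X) (q : St (pre N) (f x)) :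
    ((stalkIso f x).hom.app N) (c₀ f _ x ((Groth.L00.Stk.F Y (f x)).map ((Scheme.Modules.pullbackPushforwardAdjunction f).unit.app N) q)) =
      (ModuleCat.extendRestrictScalarsAdj (φ f x)).unit.app ((Groth.L00.Stk.F Y (f x)).obj N) q := by
  obtain ⟨V, hV, n, rfl⟩ := exists_germ (pre N) (f x) q
  refine (congrArg ((stalkIso f x).hom.app N) ((congrArg (c₀ f _ x)
    (stk_map_germ ((Scheme.Modules.pullbackPushforwardAdjunction f).unit.app N) (f x) hV n)).trans
      (c₀_germ f _ x hV _))).trans ?_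
  exact stalkIso_unit_germ f N x hV n

section Mu

variable (M A : X.Modules)

omit [IsClosedImmersion f] in
/-- Pairing of sections. -/
noncomputable def μSec (V : Y.Opens) :
    (pre ((Scheme.Modules.pushforward f).obj M) ⊗ pre ((Scheme.Modules.pushforward f).obj A)).obj (op V) ⟶
      (pre ((Scheme.Modules.pushforward f).obj (CohB1.tensorMod M A))).obj (op V) :=
  ModuleCat.MonoidalCategory.tensorLift
    (fun m a => (Groth.L00.Tensor.unit (pre M ⊗ pre A)).app (op (f ⁻¹ᵁ V))
      (m ⊗ₜ[X.sheaf.obj.obj (op (f ⁻¹ᵁ V))] a))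
    (fun m m' a => (congrArg _ (TensorProduct.add_tmul _ _ _)).trans (map_add _ _ _))
    (fun r m a => ((congrArg _ (TensorProduct.smul_tmul' (R := X.sheaf.obj.obj (op (f ⁻¹ᵁ V)))
      (R' := X.sheaf.obj.obj (op (f ⁻¹ᵁ V))) (f.app V r) _ _).symm).trans
        (((Groth.L00.Tensor.unit (pre M ⊗ pre A)).app (op (f ⁻¹ᵁ V))).hom.map_smul (f.app V r) _)))
    (fun m a a' => (congrArg _ (TensorProduct.tmul_add _ _ _)).trans (map_add _ _ _))
    (fun r m a => ((congrArg _ (TensorProduct.tmul_smul (R := X.sheaf.obj.obj (op (f ⁻¹ᵁ V)))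
      (R' := X.sheaf.obj.obj (op (f ⁻¹ᵁ V))) (f.app V r) _ _)).trans
        (((Groth.L00.Tensor.unit (pre M ⊗ pre A)).app (op (f ⁻¹ᵁ V))).hom.map_smul (f.app V r) _)))

omit [IsClosedImmersion f] in
/-- Pairing, on presheaves. -/
noncomputable def μPre : pre ((Scheme.Modules.pushforward f).obj M) ⊗ pre ((Scheme.Modules.pushforward f).obj A) ⟶
    pre ((Scheme.Modules.pushforward f).obj (CohB1.tensorMod M A)) where
  app V := μSec f M A V.unop
  naturality {V W} i := ModuleCat.MonoidalCategory.tensor_ext fun m a => by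
    exact (PresheafOfModules.naturality_apply (Groth.L00.Tensor.unit (pre M ⊗ pre A))
      ((Opens.map f.base).map i.unop).op (m ⊗ₜ[X.sheaf.obj.obj (op (f ⁻¹ᵁ V.unop))] a))

omit [IsClosedImmersion f] in
/-- `f_* M ⊗ f_* A ⟶ f_* (M ⊗ A)`. -/
noncomputable def μ : CohB1.tensorMod ((Scheme.Modules.pushforward f).obj M) ((Scheme.Modules.pushforward f).obj A) ⟶
    (Scheme.Modules.pushforward f).obj (CohB1.tensorMod M A) :=
  ((shAdj Y).homEquiv _ _).symm (μPre f M A)

omit [IsClosedImmersion f] in
theorem μ_unit (V : Y.Opens) (m : (pre ((Scheme.Modules.pushforward f).obj M)).obj (op V))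
    (a : (pre ((Scheme.Modules.pushforward f).obj A)).obj (op V)) :
    (μ f M A).app V ((Groth.L00.Tensor.unit (pre ((Scheme.Modules.pushforward f).obj M) ⊗
        pre ((Scheme.Modules.pushforward f).obj A))).app (op V) (m ⊗ₜ[Y.sheaf.obj.obj (op V)] a)) =
      (Groth.L00.Tensor.unit (pre M ⊗ pre A)).app (op (f ⁻¹ᵁ V)) (m ⊗ₜ[X.sheaf.obj.obj (op (f ⁻¹ᵁ V))] a) := by
  have h : Groth.L00.Tensor.unit (pre ((Scheme.Modules.pushforward f).obj M) ⊗ pre ((Scheme.Modules.pushforward f).obj A)) ≫
      (preF Y).map (μ f M A) = μPre f M A :=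
    by
    have h0 := ((shAdj Y).homEquiv (pre ((Scheme.Modules.pushforward f).obj M) ⊗ pre ((Scheme.Modules.pushforward f).obj A))
      ((Scheme.Modules.pushforward f).obj (CohB1.tensorMod M A))).apply_symm_apply (μPre f M A)
    rw [Adjunction.homEquiv_unit, shAdj_unit] at h0
    exact h0
  exact congrArg (fun ψ : pre ((Scheme.Modules.pushforward f).obj M) ⊗ pre ((Scheme.Modules.pushforward f).obj A) ⟶
      pre ((Scheme.Modules.pushforward f).obj (CohB1.tensorMod M A)) =>
    ψ.app (op V) (m ⊗ₜ[Y.sheaf.obj.obj (op V)] a)) h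

end Mu

variable (A : X.Modules)

/-- `N ⊗ f_* A ⟶ f_* (f^* N ⊗ A)`. -/
noncomputable def θ (N : Y.Modules) : CohB1.tensorMod N ((Scheme.Modules.pushforward f).obj A) ⟶
    (Scheme.Modules.pushforward f).obj (CohB1.tensorMod ((Scheme.Modules.pullback f).obj N) A) :=
  tensorMap ((Scheme.Modules.pullbackPushforwardAdjunction f).unit.app N) (𝟙 _) ≫ μ f _ A

omit [IsClosedImmersion f] in
theorem θ_natural {N N' : Y.Modules} (g : N ⟶ N') :
    tensorMap g (𝟙 ((Scheme.Modules.pushforward f).obj A)) ≫ θ f A N' =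
      θ f A N ≫ (Scheme.Modules.pushforward f).map (tensorMap ((Scheme.Modules.pullback f).map g) (𝟙 A)) := by
  have hμ : ∀ {M M' : X.Modules} (h : M ⟶ M'),
      tensorMap ((Scheme.Modules.pushforward f).map h) (𝟙 ((Scheme.Modules.pushforward f).obj A)) ≫ μ f M' A =
        μ f M A ≫ (Scheme.Modules.pushforward f).map (tensorMap h (𝟙 A)) := fun {M M'} h => by
    refine ((shAdj Y).homEquiv
      (pre ((Scheme.Modules.pushforward f).obj M) ⊗ pre ((Scheme.Modules.pushforward f).obj A)) _).injective ?_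
    refine ((shAdj Y).homEquiv_unit ..).trans (Eq.trans ?_ ((shAdj Y).homEquiv_unit ..).symm)
    refine PresheafOfModules.hom_ext fun V => ModuleCat.MonoidalCategory.tensor_ext fun m a => ?_
    exact ((congrArg ((μ f M' A).app V.unop) (tensorMap_unit _ _ V.unop m a)).trans
      (μ_unit f M' A V.unop _ _)).trans (((congrArg (((Scheme.Modules.pushforward f).map (tensorMap h (𝟙 A))).app V.unop)
        (μ_unit f M A V.unop m a)).trans (tensorMap_unit h (𝟙 A) (f ⁻¹ᵁ V.unop) m a)).symm)
  rw [θ, θ, ← Category.assoc, ← tensorMap_comp, Category.assoc, ← hμ, ← Category.assoc, ← tensorMap_comp]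
  exact congrArg₂ (fun a b => tensorMap a b ≫ μ f _ A) ((Scheme.Modules.pullbackPushforwardAdjunction f).unit.naturality g) rfl

omit [IsClosedImmersion f] in
theorem θ_app (N : Y.Modules) (V : Y.Opens) (n : (pre N).obj (op V))
    (m : (pre ((Scheme.Modules.pushforward f).obj A)).obj (op V)) :
    (θ f A N).app V ((Groth.L00.Tensor.unit (pre N ⊗ pre ((Scheme.Modules.pushforward f).obj A))).app (op V)
        (n ⊗ₜ[Y.sheaf.obj.obj (op V)] m)) =
      (Groth.L00.Tensor.unit (pre ((Scheme.Modules.pullback f).obj N) ⊗ pre A)).app (op (f ⁻¹ᵁ V))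
        ((((Scheme.Modules.pullbackPushforwardAdjunction f).unit.app N).app V n) ⊗ₜ[X.sheaf.obj.obj (op (f ⁻¹ᵁ V))] m) :=
  by
  let M := (Scheme.Modules.pullback f).obj N
  let a : N ⟶ (Scheme.Modules.pushforward f).obj M := (Scheme.Modules.pullbackPushforwardAdjunction f).unit.app N
  rw [θ, Scheme.Modules.Hom.comp_app]
  change (μ f M A).app V ((tensorMap a (𝟙 ((Scheme.Modules.pushforward f).obj A))).app V _) = _
  rw [tensorMap_unit a (𝟙 ((Scheme.Modules.pushforward f).obj A)) V n m]
  exact μ_unit f M A V (a.app V n) m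

/-- The comparison `N_p ⊗ (f_* A)_p ≅ (f^* N)_x ⊗ A_x`, for `p = f x`. -/
noncomputable def Ψ (N : Y.Modules) (x : X) :
    (Groth.L00.Stk.F Y (f x)).obj N ⊗ (Groth.L00.Stk.F Y (f x)).obj ((Scheme.Modules.pushforward f).obj A) ≅
      (ModuleCat.restrictScalars (φ f x)).obj
        ((Groth.L00.Stk.F X x).obj ((Scheme.Modules.pullback f).obj N) ⊗ (Groth.L00.Stk.F X x).obj A) :=
  MonoidalCategory.whiskerLeftIso _ (cIso f A x) ≪≫
    Groth.L00.BaseChangeTensor.βIso (φ f x) ((Groth.L00.Stk.F Y (f x)).obj N) ((Groth.L00.Stk.F X x).obj A) ≪≫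
    (ModuleCat.restrictScalars (φ f x)).mapIso
      (MonoidalCategory.whiskerRightIso ((stalkIso f x).app N).symm ((Groth.L00.Stk.F X x).obj A))

theorem Ψ_tmul (N : Y.Modules) (x : X) (q : St (pre N) (f x))
    (a : St (pre ((Scheme.Modules.pushforward f).obj A)) (f x)) :
    (Ψ f A N x).hom (q ⊗ₜ[Y.presheaf.stalk (f x)] a) =
      ((stalkIso f x).inv.app N ((ModuleCat.extendRestrictScalarsAdj (φ f x)).unit.app
        ((Groth.L00.Stk.F Y (f x)).obj N) q)) ⊗ₜ[X.presheaf.stalk x] c₀ f A x a := rfl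

theorem Ψ_tmul' (N : Y.Modules) (x : X) (q : St (pre N) (f x))
    (a : St (pre ((Scheme.Modules.pushforward f).obj A)) (f x)) :
    (Ψ f A N x).hom (q ⊗ₜ[Y.presheaf.stalk (f x)] a) =
      (c₀ f _ x ((Groth.L00.Stk.F Y (f x)).map ((Scheme.Modules.pullbackPushforwardAdjunction f).unit.app N) q))
        ⊗ₜ[X.presheaf.stalk x] c₀ f A x a := by
  rw [Ψ_tmul, ← stalkIso_unit f N x q]
  exact congrArg (· ⊗ₜ[X.presheaf.stalk x] c₀ f A x a)
    (ConcreteCategory.congr_hom ((stalkIso f x).app N).hom_inv_id _)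

theorem θ_stalk (N : Y.Modules) (x : X)
    (t : St (pre N) (f x) ⊗[Y.presheaf.stalk (f x)] St (pre ((Scheme.Modules.pushforward f).obj A)) (f x)) :
    c₀ f _ x ((Groth.L00.Stk.F Y (f x)).map (θ f A N)
        (Groth.L00.Stk.τfun (f x) N ((Scheme.Modules.pushforward f).obj A) t)) =
      Groth.L00.Stk.τfun x ((Scheme.Modules.pullback f).obj N) A ((Ψ f A N x).hom t) := by
  induction t using TensorProduct.induction_on with
  | zero => simp only [map_zero]
  | add a b ha hb =>
    simp only [map_add, ha, hb]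
  | tmul q a =>
    obtain ⟨V, hV, n, m, rfl, rfl⟩ := exists_pair (pre N) (pre ((Scheme.Modules.pushforward f).obj A)) (f x) q a
    refine ((congrArg (c₀ f _ x) ((congrArg ((Groth.L00.Stk.F Y (f x)).map (θ f A N))
      (Groth.L00.Stk.τfun_tmul (f x) N ((Scheme.Modules.pushforward f).obj A) hV n m)).trans
      (stk_map_germ (θ f A N) (f x) hV _))).trans (c₀_germ f _ x hV _)).trans ?_
    refine Eq.trans ?_ (congrArg (Groth.L00.Stk.τfun x ((Scheme.Modules.pullback f).obj N) A)
      ((Ψ_tmul' f A N x _ _).trans (congrArg₂ (· ⊗ₜ[X.presheaf.stalk x] ·)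
        ((congrArg (c₀ f _ x) (stk_map_germ ((Scheme.Modules.pullbackPushforwardAdjunction f).unit.app N) (f x) hV n)).trans
          (c₀_germ f _ x hV _)) (c₀_germ f A x hV m)))).symm
    refine Eq.trans ?_ (Groth.L00.Stk.τfun_tmul x _ A (show x ∈ f ⁻¹ᵁ V from hV) _ _).symm
    exact congrArg (germ _ x _) (θ_app f A N V n m)

theorem θ_stalk_bijective (N : Y.Modules) (p : Y) :
    Function.Bijective ((Groth.L00.Stk.F Y p).map (θ f A N)) := by
  by_cases hp : p ∈ Set.range f
  · obtain ⟨x, rfl⟩ := hp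
    have hΨ : Function.Bijective (Ψ f A N x).hom := ConcreteCategory.bijective_of_isIso _
    have h : Function.Bijective (c₀ f _ x ∘ ((Groth.L00.Stk.F Y (f x)).map (θ f A N)) ∘
        Groth.L00.Stk.τfun (f x) N ((Scheme.Modules.pushforward f).obj A)) := by
      rw [show (c₀ f _ x ∘ ((Groth.L00.Stk.F Y (f x)).map (θ f A N)) ∘ _) = _ from funext (θ_stalk f A N x)]
      exact (Groth.L00.Stk.τfun_bijective x _ A).comp hΨ
    rw [(c₀_bijective f _ x).of_comp_iff'] at h
    rwa [Function.Bijective.of_comp_iff _ (Groth.L00.Stk.τfun_bijective (f x) N _)] at h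
  · haveI := subsingleton_stalk_push f A hp
    haveI : Subsingleton (St (pre N) p ⊗[Y.presheaf.stalk p] St (pre ((Scheme.Modules.pushforward f).obj A)) p) :=
      subsingleton_of_forall_eq 0 fun t => by
        induction t using TensorProduct.induction_on with
        | zero => rfl
        | tmul a b => rw [Subsingleton.elim b 0, TensorProduct.tmul_zero]
        | add a b ha hb => rw [ha, hb, add_zero]
    haveI : Subsingleton ((Groth.L00.Stk.F Y p).obj (CohB1.tensorMod N ((Scheme.Modules.pushforward f).obj A))) :=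
      (Groth.L00.Stk.τfun_bijective p N _).2.subsingleton
    haveI : Subsingleton ((Groth.L00.Stk.F Y p).obj ((Scheme.Modules.pushforward f).obj
        (CohB1.tensorMod ((Scheme.Modules.pullback f).obj N) A))) := subsingleton_stalk_push f _ hp
    exact ⟨fun a b _ => Subsingleton.elim a b, fun b => ⟨0, Subsingleton.elim _ _⟩⟩

theorem isIso_θ (N : Y.Modules) : IsIso (θ f A N) :=
  (Groth.L21.Mod.isIso_iff_stalk_bijective _).2 (θ_stalk_bijective f A N)

/-- The projection formula of a closed immersion, natural in the module on the target. -/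
noncomputable def thetaIso :
    tensorRightF ((Scheme.Modules.pushforward f).obj A) ≅
      Scheme.Modules.pullback f ⋙ tensorRightF A ⋙ Scheme.Modules.pushforward f :=
  NatIso.ofComponents (fun N => haveI := isIso_θ f A N; asIso (θ f A N)) (fun g => θ_natural f A g)

theorem φ_surjective (x : X) : Function.Surjective (φ f x) := f.stalkMap_surjective x

theorem unit_extend_surjective (x : X) (M : ModuleCat.{u} (Y.presheaf.stalk (f x))) :
    Function.Surjective ((ModuleCat.extendRestrictScalarsAdj (φ f x)).unit.app M) := by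
  letI := (φ f x).toAlgebra
  exact TensorProduct.mk_surjective (Y.presheaf.stalk (f x)) M (X.presheaf.stalk x) (φ_surjective f x)

/-- The counit of `f^* ⊣ f_*` on stalks. -/
theorem counit_stalk_bijective (M : X.Modules) (x : X) :
    Function.Bijective ((Groth.L00.Stk.F X x).map
      ((Scheme.Modules.pullbackPushforwardAdjunction f).counit.app M)) := by
  let adj := Scheme.Modules.pullbackPushforwardAdjunction f
  let P := (Scheme.Modules.pushforward f).obj M
  let e : St (pre P) (f x) → (Groth.L00.Stk.F X x).obj ((Scheme.Modules.pullback f).obj P) :=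
    fun q => c₀ f _ x ((Groth.L00.Stk.F Y (f x)).map (adj.unit.app P) q)
  have he : Function.Surjective e := by
    intro z
    obtain ⟨q, hq⟩ := unit_extend_surjective f x _ ((stalkIso f x).hom.app P z)
    refine ⟨q, ?_⟩
    apply (ConcreteCategory.bijective_of_isIso ((stalkIso f x).hom.app P)).1
    exact (stalkIso_unit f P x q).trans hq
  have hc : ∀ q, (Groth.L00.Stk.F X x).map (adj.counit.app M) (e q) = c₀ f M x q := by
    intro q
    obtain ⟨V, hV, n, rfl⟩ := exists_germ (pre P) (f x) q
    refine (congrArg ((Groth.L00.Stk.F X x).map (adj.counit.app M)) ((congrArg (c₀ f _ x)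
      (stk_map_germ (adj.unit.app P) (f x) hV n)).trans (c₀_germ f _ x hV _))).trans ?_
    refine ((stk_map_germ (adj.counit.app M) x _ _).trans ?_).trans (c₀_germ f M x hV n).symm
    refine congrArg (germ (pre M) x _) ?_
    exact congrArg (fun k : P ⟶ P => k.app V n) (adj.right_triangle_components M)
  constructor
  · intro a b h
    obtain ⟨q, rfl⟩ := he a
    obtain ⟨r, rfl⟩ := he b
    rw [hc, hc] at h
    rw [(c₀_bijective f M x).1 h]
  · intro z
    obtain ⟨q, rfl⟩ := (c₀_bijective f M x).2 z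
    exact ⟨e q, hc q⟩

theorem isIso_counit : IsIso (Scheme.Modules.pullbackPushforwardAdjunction f).counit := by
  rw [NatTrans.isIso_iff_isIso_app]
  exact fun M => (Groth.L21.Mod.isIso_iff_stalk_bijective _).2 (counit_stalk_bijective f M)

/-- Direct image along a closed immersion preserves colimits. -/
theorem preservesColimits_push : PreservesColimitsOfSize.{u, u} (Scheme.Modules.pushforward f) := by
  let e : tensorRightF ((Scheme.Modules.pushforward f).obj (Coh.structureModule X)) ≅
      Scheme.Modules.pullback f ⋙ Scheme.Modules.pushforward f :=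
    thetaIso f (Coh.structureModule X) ≪≫ Functor.isoWhiskerLeft _ (Functor.isoWhiskerRight
      (NatIso.ofComponents (fun N => tensorUnitRight N) (fun {N N'} g => ?_) :
        tensorRightF (Coh.structureModule X) ≅ 𝟭 _) _) ≪≫
      Functor.isoWhiskerLeft _ (Functor.leftUnitor _)
  · haveI := isIso_counit f
    haveI : PreservesColimitsOfSize.{u, u} (Scheme.Modules.pullback f ⋙ Scheme.Modules.pushforward f) :=
      preservesColimits_of_natIso e
    exact ⟨fun {J} _ => ⟨fun {K} =>
      Groth.L00.Tensor.preservesColimit_of_reflective (Scheme.Modules.pullbackPushforwardAdjunction f)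
        (Scheme.Modules.pushforward f) K⟩⟩
  · refine ((Category.assoc _ _ _).symm.trans ?_).trans (Category.assoc _ _ _).symm
    have h1 : tensorMap g (𝟙 (Coh.structureModule X)) ≫ (shf X).map (ρ_ (pre N')).hom =
        (shf X).map (ρ_ (pre N)).hom ≫ (shf X).map ((preF X).map g) := by
      rw [tensorMap, ← Functor.map_comp, ← Functor.map_comp]
      refine congrArg (shf X).map ?_
      refine ((congrArg (fun k => ((preF X).map g ⊗ₘ k) ≫ (ρ_ (pre N')).hom) ((preF X).map_id _)).trans ?_)
      exact (congrArg (· ≫ (ρ_ (pre N')).hom) (MonoidalCategory.tensorHom_id _ _)).trans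
        (MonoidalCategory.rightUnitor_naturality ((preF X).map g))
    refine ((congrArg (· ≫ (counitIso N').hom) h1).trans ?_)
    refine (Category.assoc _ _ _).trans ?_
    exact congrArg ((shf X).map (ρ_ (pre N)).hom ≫ ·)
      ((shAdj X).counit.naturality g)

/-- Direct image along a closed immersion is a left adjoint. -/
theorem isLeftAdjoint_push : (Scheme.Modules.pushforward f).IsLeftAdjoint := by
  haveI := Groth.L00.Tensor.grothendieckAbelian_modules X
  haveI : WellPowered.{u} X.Modules := IsGrothendieckAbelian.wellPowered _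
  haveI : WellPowered.{u} (X.Modules)ᵒᵖ := CategoryTheory.Abelian.wellPowered_opposite
  haveI := preservesColimits_push f
  exact isLeftAdjoint_of_preservesColimits_of_isSeparating (isSeparator_separator X.Modules) _

end Groth.L17.ClosedPush
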