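import Groth.Prelude.Def_CohB1
import Groth.Agent.L17.AffineVanishing
import Groth.Agent.L10.CechNerves

universe u
open CategoryTheory CategoryTheory.Limits TopologicalSpace Opposite Abelian AlgebraicGeometry
noncomputable section

namespace Groth.L17

open Groth.L10 Groth.L10.SiteCoh

variable {X : Scheme.{u}}

/-- Čech cohomology of a family with affine intersections computes cohomology of its union. -/
theorem nonempty_cechH_equiv {ι : Type u} (U : ι → X.Opens) (M : X.Modules) [Coh.IsQCoh M]
    (hU : ∀ (n : ℕ) (a : Fin (n + 1) → ι), IsAffineOpen (⨅ k, U (a k))) (p : ℕ) :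
    Nonempty (↑(CohB1.cechH U M p) ≃+ HU (X := X.toTopCat) (⨆ i, U i) (Coh.toAb M) p) :=
  Cech.nonempty_homology_addEquiv (Cech.isNerve_opens (X := X.toTopCat) U)
    (Cech.cover_opens (X := X.toTopCat) U) (Coh.toAb M)
    (fun n a q => (Cech.tup_eq_iInf (X := X.toTopCat) U a).symm ▸
      subsingleton_of_forall_eq 0 (hu_affine_eq_zero M (hU n a) q)) p

/-- A finite intersection indexed by a tuple is one indexed by a finset. -/
lemma isAffineOpen_iInf_of_finset {ι : Type u} {U : ι → X.Opens}
    (hU : ∀ s : Finset ι, s.Nonempty → IsAffineOpen (⨅ i ∈ s, U i)) (n : ℕ) (a : Fin (n + 1) → ι) :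
    IsAffineOpen (⨅ k, U (a k)) := by
  classical
  have h := hU (Finset.univ.image a) (Finset.univ_nonempty.image a)
  have e : (⨅ i ∈ Finset.univ.image a, U i) = ⨅ k, U (a k) := by
    refine le_antisymm (le_iInf fun k => iInf₂_le (a k) (Finset.mem_image_of_mem a (Finset.mem_univ k))) (le_iInf₂ fun i hi => ?_)
    obtain ⟨k, -, rfl⟩ := Finset.mem_image.1 hi
    exact iInf_le (fun k => U (a k)) k
  rwa [e] at h

end Groth.L17
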