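import Mathlib.Algebra.Homology.Embedding.ExtendHomology
import Mathlib.CategoryTheory.Abelian.RightDerived
import Mathlib.CategoryTheory.Abelian.Injective.Extend
import Mathlib.Algebra.Homology.HomotopyCategory.Acyclic
import Mathlib.Algebra.Homology.Embedding.CochainComplex

/-!
Additive functors and `extend`.
-/

set_option autoImplicit false

universe v u v' u'

open CategoryTheory CategoryTheory.Limits

namespace Groth.L17.GrothSS

variable {C : Type u} [Category.{v} C] [Abelian C] {D : Type u'} [Category.{v'} D] [Abelian D]
  (S : C ⥤ D) [S.Additive]

variable {ι ι' : Type*} {c : ComplexShape ι} {c' : ComplexShape ι'} (K : HomologicalComplex C c)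

open HomologicalComplex in
/-- Components of `S(extend K) ≅ extend (S K)`. -/
noncomputable def mapExtendX :
    ∀ o : Option ι, S.obj (extend.X K o) ≅ extend.X ((S.mapHomologicalComplex c).obj K) o
  | some _ => Iso.refl _
  | none => (S.map_isZero (extend.isZero_X K rfl)).iso (extend.isZero_X _ rfl)

open HomologicalComplex in
theorem mapExtendX_d : ∀ o o' : Option ι,
    (mapExtendX S K o).hom ≫ extend.d ((S.mapHomologicalComplex c).obj K) o o' =
      S.map (extend.d K o o') ≫ (mapExtendX S K o').hom
  | some _, some _ => (Category.id_comp _).trans (Category.comp_id _).symm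
  | none, _ => (S.map_isZero (extend.isZero_X K rfl)).eq_of_src _ _
  | some _, none => (extend.isZero_X _ rfl).eq_of_tgt _ _

/-- Additive functors commute with `extend`. -/
noncomputable def mapExtendIso (e : c.Embedding c') :
    (S.mapHomologicalComplex c').obj (K.extend e) ≅
      ((S.mapHomologicalComplex c).obj K).extend e :=
  HomologicalComplex.Hom.isoOfComponents (fun i => mapExtendX S K (e.r i))
    (fun i j _ => mapExtendX_d S K (e.r i) (e.r j))

/-- `S` applied to an injective resolution computes the right derived functors. -/
noncomputable def homologyMapCochainIso [HasInjectiveResolutions C] {X : C}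
    (R : InjectiveResolution X) (n : ℕ) :
    ((S.mapHomologicalComplex (.up ℤ)).obj R.cochainComplex).homology (n : ℤ) ≅
      (S.rightDerived n).obj X :=
  (HomologicalComplex.homologyFunctor D (.up ℤ) (n : ℤ)).mapIso
      (mapExtendIso S R.cocomplex ComplexShape.embeddingUpNat) ≪≫
    HomologicalComplex.extendHomologyIso _ ComplexShape.embeddingUpNat rfl ≪≫
    (R.isoRightDerivedObj S n).symm

end Groth.L17.GrothSS
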