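import Groth.Agent.L17.FinLocBases
import Groth.Agent.L17.ClosedPush
import Mathlib.RingTheory.TensorProduct.Free

/-!
Bases of sections and bases of stalks; bases of pullbacks.
-/

set_option autoImplicit false
set_option backward.isDefEq.respectTransparency false

universe u

open CategoryTheory CategoryTheory.Limits AlgebraicGeometry Opposite TopologicalSpace TensorProduct

namespace Groth.L17.PullBasis

open Groth.L00.Tensor Groth.L00.StalkTensor Groth.L00.PullStalk

variable {X : Scheme.{u}} (M : X.Modules) {W : X.Opens} {n : ℕ} (s : Fin n → (pre M).obj (op W))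

theorem germ_sum' (P : PX X) (x : X) {V : X.Opens} (hx : x ∈ V) (r : Fin n → X.presheaf.obj (op V))
    (t : Fin n → P.obj (op V)) :
    germ P x hx (∑ i, r i • t i) = ∑ i, X.presheaf.germ V x hx (r i) • germ P x hx (t i) :=
  (map_sum _ _ _).trans (Finset.sum_congr rfl fun i _ => germ_smul' P x hx (r i) (t i))

theorem germ_res_sum (x : X) {V : X.Opens} (hx : x ∈ V) (i : V ⟶ W) (r : Fin n → X.presheaf.obj (op V)) :
    germ (pre M) x hx (∑ j, r j • rs (pre M) i.op (s j)) =
      ∑ j, X.presheaf.germ V x hx (r j) • germ (pre M) x (i.le hx) (s j) :=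
  (germ_sum' (pre M) x hx r _).trans (Finset.sum_congr rfl fun j _ =>
    congrArg (_ • ·) (germ_rs (pre M) x i hx (s j)))

/-- Germs of a basis form a basis. -/
theorem bijective_stalk (hs : LocBases.IsBasis (O := X.sheaf) M s) (x : X) (hx : x ∈ W) :
    Function.Bijective fun a : Fin n → X.presheaf.stalk x => ∑ j, a j • germ (pre M) x hx (s j) := by
  have inj : ∀ a : Fin n → X.presheaf.stalk x, (∑ j, a j • germ (pre M) x hx (s j)) = 0 → a = 0 := fun a ha => by
    choose V hV r hr using fun j => TopCat.Presheaf.exists_germ_eq (F := X.presheaf) (x := x) (a j)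
    let V₀ : X.Opens := W ⊓ ⟨⋂ j, (V j : Set X), isOpen_iInter_of_finite fun j => (V j).isOpen⟩
    have hV₀ : x ∈ V₀ := ⟨hx, Set.mem_iInter.2 hV⟩
    let ι₀ : V₀ ⟶ W := homOfLE inf_le_left
    have hle : ∀ j, V₀ ≤ V j := fun j => le_trans inf_le_right (fun y hy => Set.mem_iInter.1 hy j)
    let r' : Fin n → X.presheaf.obj (op V₀) := fun j => X.presheaf.map (homOfLE (hle j)).op (r j)
    have hr' : ∀ j, X.presheaf.germ V₀ x hV₀ (r' j) = a j := fun j =>
      (TopCat.Presheaf.germ_res_apply _ _ _ _ _).trans (hr j)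
    have h0 : germ (pre M) x hV₀ (∑ j, r' j • rs (pre M) ι₀.op (s j)) = germ (pre M) x hV₀ 0 := by
      rw [germ_res_sum, map_zero]
      simpa only [hr'] using ha
    obtain ⟨V₁, hV₁, i₁, i₁', h1⟩ := germ_eq (pre M) x hV₀ hV₀ h0
    have h2 : (fun j => X.presheaf.map i₁.op (r' j)) = (0 : Fin n → X.presheaf.obj (op V₁)) := by
      refine (hs V₁ (i₁ ≫ ι₀)).1 ?_
      refine Eq.trans ?_ ((h1.trans (map_zero ((pre M).map i₁'.op).hom)).trans
        (Finset.sum_eq_zero fun j _ => zero_smul _ _).symm)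
      refine Eq.trans ?_ (LocBases.res_sum (O := X.sheaf) (pre M) i₁ Finset.univ _).symm
      exact Finset.sum_congr rfl fun j _ => ((LocBases.res_smul (O := X.sheaf) (pre M) i₁ _ _).trans
        (congrArg (_ • ·) (LocBases.res_comp (O := X.sheaf) (pre M) i₁ ι₀ (s j)))).symm
    funext j
    rw [← hr' j, ← TopCat.Presheaf.germ_res_apply X.presheaf i₁ x hV₁ (r' j), congrFun h2 j]
    exact map_zero _
  refine ⟨fun a b h => sub_eq_zero.1 (inj (a - b) ?_), fun p => ?_⟩
  · simp only [Pi.sub_apply, sub_smul, Finset.sum_sub_distrib]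
    exact sub_eq_zero.2 h
  · obtain ⟨U, hU, m, rfl⟩ := exists_germ (pre M) x p
    let i : U ⊓ W ⟶ W := homOfLE inf_le_right
    have hUW : x ∈ U ⊓ W := ⟨hU, hx⟩
    obtain ⟨r, hr⟩ := (hs (U ⊓ W) i).2 (rs (pre M) (homOfLE inf_le_left : U ⊓ W ⟶ U).op m)
    refine ⟨fun j => X.presheaf.germ (U ⊓ W) x hUW (r j), ?_⟩
    refine ((germ_res_sum M s x hUW i r).symm.trans ?_).trans
      (germ_rs (pre M) x (homOfLE inf_le_left : U ⊓ W ⟶ U) hUW m)
    exact congrArg (germ (pre M) x _) hr

/-- Sections whose germs form bases form a basis. -/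
theorem isBasis_of_stalk (h : ∀ (x : X) (hx : x ∈ W),
    Function.Bijective fun a : Fin n → X.presheaf.stalk x => ∑ j, a j • germ (pre M) x hx (s j)) :
    LocBases.IsBasis (O := X.sheaf) M s := fun V g => by
  have hinj : ∀ (V : X.Opens) (g : V ⟶ W) (r r' : Fin n → X.presheaf.obj (op V)),
      ∑ j, r j • rs (pre M) g.op (s j) = ∑ j, r' j • rs (pre M) g.op (s j) → r = r' := fun V g r r' e => by
    funext j
    refine TopCat.Presheaf.section_ext X.sheaf V _ _ fun x hx => ?_
    have e2 : (fun j => X.presheaf.germ V x hx (r j)) = fun j => X.presheaf.germ V x hx (r' j) :=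
      (h x (g.le hx)).1
        (((germ_res_sum M s x hx g r).symm.trans (congrArg (germ (pre M) x hx) e)).trans (germ_res_sum M s x hx g r'))
    exact congrFun e2 j
  refine ⟨fun r r' e => hinj V g r r' e, fun e => ?_⟩
  have hloc : ∀ x : V, ∃ (U : X.Opens) (_ : x.1 ∈ U) (i : U ⟶ V) (r : Fin n → X.presheaf.obj (op U)),
      ∑ j, r j • rs (pre M) (i ≫ g).op (s j) = rs (pre M) i.op e := fun x => by
    obtain ⟨a, ha⟩ := (h x.1 (g.le x.2)).2 (germ (pre M) x.1 x.2 e)
    choose U hU r hr using fun j => TopCat.Presheaf.exists_germ_eq (F := X.presheaf) (x := x.1) (a j)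
    let V₀ : X.Opens := V ⊓ ⟨⋂ j, (U j : Set X), isOpen_iInter_of_finite fun j => (U j).isOpen⟩
    have hV₀ : x.1 ∈ V₀ := ⟨x.2, Set.mem_iInter.2 hU⟩
    let i₀ : V₀ ⟶ V := homOfLE inf_le_left
    have hle : ∀ j, V₀ ≤ U j := fun j => le_trans inf_le_right (fun y hy => Set.mem_iInter.1 hy j)
    let r' : Fin n → X.presheaf.obj (op V₀) := fun j => X.presheaf.map (homOfLE (hle j)).op (r j)
    have h0 : germ (pre M) x.1 hV₀ (∑ j, r' j • rs (pre M) (i₀ ≫ g).op (s j)) =
        germ (pre M) x.1 hV₀ (rs (pre M) i₀.op e) := by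
      rw [germ_res_sum, germ_rs]
      refine Eq.trans ?_ ha
      exact Finset.sum_congr rfl fun j _ => congrArg (· • _)
        ((TopCat.Presheaf.germ_res_apply _ _ _ _ _).trans (hr j))
    obtain ⟨V₁, hV₁, i₁, i₁', h1⟩ := germ_eq (pre M) x.1 hV₀ hV₀ h0
    refine ⟨V₁, hV₁, i₁ ≫ i₀, fun j => X.presheaf.map i₁.op (r' j), ?_⟩
    refine Eq.trans ?_ ((h1.trans (congrArg (fun k => rs (pre M) k (rs (pre M) i₀.op e)) ?_)).trans
      (LocBases.res_comp (O := X.sheaf) (pre M) i₁ i₀ e))
    · refine Eq.trans ?_ (LocBases.res_sum (O := X.sheaf) (pre M) i₁ Finset.univ _).symm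
      exact Finset.sum_congr rfl fun j _ => ((LocBases.res_smul (O := X.sheaf) (pre M) i₁ _ _).trans
        (congrArg (_ • ·) (LocBases.res_comp (O := X.sheaf) (pre M) i₁ (i₀ ≫ g) (s j)))).symm
    · exact congrArg Quiver.Hom.op (Subsingleton.elim i₁' i₁)
  choose U hxU i r hr using hloc
  have compat : ∀ j, TopCat.Presheaf.IsCompatible X.presheaf U fun x => r x j := fun j x y => by
    refine congrFun (hinj (U x ⊓ U y) (homOfLE inf_le_left ≫ i x ≫ g)
      (fun j => X.presheaf.map (homOfLE inf_le_left).op (r x j))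
      (fun j => X.presheaf.map (homOfLE inf_le_right).op (r y j)) ?_) j
    have key : ∀ (z : V) (k : U x ⊓ U y ⟶ U z),
        ∑ j, X.presheaf.map k.op (r z j) • rs (pre M) (k ≫ i z ≫ g).op (s j) = rs (pre M) (k ≫ i z).op e :=
      fun z k => by
        refine Eq.trans ?_ ((congrArg (rs (pre M) k.op) (hr z)).trans
          (LocBases.res_comp (O := X.sheaf) (pre M) k (i z) e))
        refine Eq.trans ?_ (LocBases.res_sum (O := X.sheaf) (pre M) k Finset.univ _).symm
        exact Finset.sum_congr rfl fun j _ => ((LocBases.res_smul (O := X.sheaf) (pre M) k _ _).trans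
          (congrArg (_ • ·) (LocBases.res_comp (O := X.sheaf) (pre M) k (i z ≫ g) (s j)))).symm
    exact (key x (homOfLE inf_le_left)).trans (key y (homOfLE inf_le_right)).symm
  have hcov : V ≤ iSup U := fun y hy => TopologicalSpace.Opens.mem_iSup.2 ⟨⟨y, hy⟩, hxU ⟨y, hy⟩⟩
  choose R hR _ using fun j => X.sheaf.existsUnique_gluing' U V i hcov (fun x => r x j) (compat j)
  refine ⟨R, ?_⟩
  refine TopCat.Sheaf.eq_of_locally_eq' ⟨M.presheaf, M.isSheaf⟩ U V i hcov
    (∑ j, R j • rs (pre M) g.op (s j) : Γ(M, V)) e fun x => ?_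
  refine ((LocBases.res_sum (O := X.sheaf) (pre M) (i x) Finset.univ _).trans
    (Finset.sum_congr rfl fun j _ => ?_)).trans (hr x)
  exact (LocBases.res_smul (O := X.sheaf) (pre M) (i x) _ _).trans
    (congrArg₂ (· • ·) (hR j x) (LocBases.res_comp (O := X.sheaf) (pre M) (i x) g (s j)))

section Pull

/-- `x ↦ 1 ⊗ x`. -/
noncomputable def oneTmul {R S : CommRingCat.{u}} (φ : R ⟶ S) (N : ModuleCat.{u} R) (x : N) :
    (ModuleCat.extendScalars φ.hom).obj N :=
  ((ModuleCat.extendRestrictScalarsAdj φ.hom).unit.app N) x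

/-- Extension of scalars of a basis. -/
theorem bijective_extend {R S : CommRingCat.{u}} (φ : R ⟶ S) (N : ModuleCat.{u} R) (e : Fin n → N)
    (he : Function.Bijective fun a : Fin n → R => ∑ j, a j • e j) :
    Function.Bijective fun a : Fin n → S =>
      ∑ j, a j • oneTmul φ N (e j) := by
  letI : Algebra R S := φ.hom.toAlgebra
  let b : Module.Basis (Fin n) R N := Module.Basis.ofEquivFun
    (LinearEquiv.ofBijective (Fintype.linearCombination R e) he).symm
  have hb : ∀ j, b j = e j := fun j => by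
    simp [b, Fintype.linearCombination_apply_single]
  let c := Algebra.TensorProduct.basis S b
  have : (fun a : Fin n → S => ∑ j, a j • oneTmul φ N (e j)) = c.equivFun.symm := by
    funext a
    refine Eq.trans ?_ (c.equivFun_symm_apply a).symm
    refine Finset.sum_congr rfl fun j _ => congrArg (a j • ·) ?_
    exact (congrArg ((1 : S) ⊗ₜ[R] ·) (hb j).symm).trans (Algebra.TensorProduct.basis_apply b j).symm
  rw [this]
  exact c.equivFun.symm.bijective

variable {Y : Scheme.{u}} (f : X ⟶ Y) (N : Y.Modules) {V : Y.Opens} (t : Fin n → (pre N).obj (op V))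

/-- The pullback of a basis is a basis. -/
theorem isBasis_pullback (ht : LocBases.IsBasis (O := Y.sheaf) N t) :
    LocBases.IsBasis (O := X.sheaf) ((Scheme.Modules.pullback f).obj N) (W := f ⁻¹ᵁ V)
      fun j => ((Scheme.Modules.pullbackPushforwardAdjunction f).unit.app N).app V (t j) := by
  refine isBasis_of_stalk ((Scheme.Modules.pullback f).obj N) (W := f ⁻¹ᵁ V) _ fun x hx => ?_
  have h := bijective_extend (f.stalkMap x) ((Groth.L00.Stk.F Y (f x)).obj N) (fun j => germ (pre N) (f x) hx (t j))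
    (bijective_stalk N t ht (f x) hx)
  let σ := ((stalkIso f x).hom.app N).hom
  have hσ : Function.Bijective σ := ConcreteCategory.bijective_of_isIso ((stalkIso f x).hom.app N)
  refine (Function.Bijective.of_comp_iff' hσ _).1 ?_
  refine Eq.mp (congrArg Function.Bijective ?_) h
  funext a
  refine Eq.trans ?_ (map_sum σ _ _).symm
  exact Finset.sum_congr rfl fun j _ => ((σ.map_smul (a j) _).trans
    (congrArg (a j • ·) (ClosedPush.stalkIso_unit_germ f N x hx (t j)))).symm

end Pull

end Groth.L17.PullBasis
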