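import Groth.Agent.L17.SheafExt
import Mathlib.CategoryTheory.Sites.MayerVietorisSquare
import Mathlib.Topology.Sheaves.MayerVietoris

universe u
open CategoryTheory CategoryTheory.Limits TopologicalSpace Opposite Abelian
noncomputable section

namespace Groth.L17

variable {X : TopCat.{u}}

/-- A class on `U ⊔ V` vanishing on `U` and on `V` is zero if `H^(n)(U ⊓ V) = 0`. -/
theorem hu_sup_eq_zero {U V : Opens X} {F : AbSheaf X} {n : ℕ}
    (h : ∀ y : HU (U ⊓ V) F n, y = 0) (x : HU (U ⊔ V) F (n + 1))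
    (hU : huRes (le_sup_left : U ≤ U ⊔ V) x = 0) (hV : huRes (le_sup_right : V ≤ U ⊔ V) x = 0) :
    x = 0 := by
  let S := Opens.mayerVietorisSquare U V
  obtain ⟨y, hy⟩ := Ext.contravariant_sequence_exact₃ (hS := S.shortComplex_shortExact) (Y := F) x (by
    apply Ext.biprod_ext
    · refine (Ext.mk₀_comp_mk₀_assoc _ _ _).trans (Eq.trans ?_ (Ext.comp_zero _ _ _ _ _).symm)
      refine Eq.trans ?_ hU
      congr 2
      exact biprod.inl_desc _ _
    · refine (Ext.mk₀_comp_mk₀_assoc _ _ _).trans (Eq.trans ?_ (Ext.comp_zero _ _ _ _ _).symm)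
      refine Eq.trans ?_ hV
      congr 2
      exact biprod.inr_desc _ _) (Nat.add_comm 1 n)
  rw [← hy]
  exact (congrArg (fun z => S.shortComplex_shortExact.extClass.comp z (Nat.add_comm 1 n)) (h y)).trans
    (Ext.comp_zero _ _ _ _ _)

/-- Two vanishing pieces glue. -/
theorem hu_sup_vanish {U V : Opens X} {F : AbSheaf X} {n : ℕ}
    (h : ∀ y : HU (U ⊓ V) F n, y = 0) (hU : ∀ y : HU U F (n + 1), y = 0)
    (hV : ∀ y : HU V F (n + 1), y = 0) (x : HU (U ⊔ V) F (n + 1)) : x = 0 :=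
  hu_sup_eq_zero h x (hU _) (hV _)

lemma zFree_bot_isZero : IsZero (zFree (X := X) ⊥) := by
  rw [IsZero.iff_id_eq_zero]
  apply (zEquiv ⊥ _).injective
  refine TopCat.Presheaf.IsSheaf.section_ext (X := X) (zFree (X := X) ⊥).property fun x hx => ?_
  exact hx.elim

lemma hu_bot_eq_zero {F : AbSheaf X} {n : ℕ} (x : HU (⊥ : Opens X) F n) : x = 0 := by
  have h := (Ext.mk₀_id_comp x).symm
  rw [zFree_bot_isZero.eq_of_src (𝟙 _) 0, Ext.mk₀_zero, Ext.zero_comp] at h
  exact h

end Groth.L17
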