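import Groth.Agent.L17.AffineVanishing
import Groth.Agent.L17.MayerVietoris
import Mathlib.AlgebraicGeometry.Morphisms.QuasiSeparated

universe u
open CategoryTheory CategoryTheory.Limits TopologicalSpace Opposite Abelian AlgebraicGeometry
noncomputable section

namespace Groth.L17

variable {X : Scheme.{u}}

/-- `k` affine opens, all of whose nonempty finite intersections are affine: `H^n(⨆, M) = 0`, `n ≥ k`. -/
theorem hu_iSup_eq_zero (M : X.Modules) [Coh.IsQCoh M] :
    ∀ (k : ℕ) (U : Fin k → X.Opens), (∀ s : Finset (Fin k), s.Nonempty → IsAffineOpen (s.inf U)) →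
      ∀ n, k ≤ n → ∀ x : HU (X := X.toTopCat) (⨆ i, U i) (Coh.toAb M) n, x = 0 := by
  intro k
  induction k with
  | zero =>
    intro U _ n _
    rw [show (⨆ i, U i) = ⊥ from iSup_of_empty U]
    exact hu_bot_eq_zero (X := X.toTopCat)
  | succ k ih =>
    intro U hU n hn
    obtain ⟨m, rfl⟩ : ∃ m, n = m + 1 := ⟨n - 1, by omega⟩
    let V : Fin k → X.Opens := fun i => U i.castSucc
    let W : Fin k → X.Opens := fun i => U i.castSucc ⊓ U (Fin.last k)
    have hV : ∀ s : Finset (Fin k), s.Nonempty → IsAffineOpen (s.inf V) := fun s hs => by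
      have := hU (s.map Fin.castSuccEmb) (hs.map)
      rwa [Finset.inf_map] at this
    have hW : ∀ s : Finset (Fin k), s.Nonempty → IsAffineOpen (s.inf W) := fun s hs => by
      have := hU (insert (Fin.last k) (s.map Fin.castSuccEmb)) (Finset.insert_nonempty _ _)
      rw [Finset.inf_insert, Finset.inf_map] at this
      have e : s.inf W = U (Fin.last k) ⊓ s.inf V := by
        refine le_antisymm (le_inf ?_ (Finset.inf_mono_fun fun i _ => inf_le_left)) ?_
        · obtain ⟨i, hi⟩ := hs
          exact (Finset.inf_le hi).trans inf_le_right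
        · exact Finset.le_inf fun i hi => le_inf (inf_le_right.trans (Finset.inf_le hi)) inf_le_left
      rw [e]
      exact this
    have key : (⨆ i, U i) = (⨆ i, V i) ⊔ U (Fin.last k) := by
      refine le_antisymm (iSup_le fun i => ?_) (sup_le (iSup_le fun i => le_iSup U _) (le_iSup U _))
      induction i using Fin.lastCases with
      | last => exact le_sup_right
      | cast j => exact (le_iSup V j).trans le_sup_left
    rw [key]
    refine hu_sup_vanish (X := X.toTopCat) ?_ (ih V hV (m + 1) (by omega)) ?_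
    · rw [iSup_inf_eq]
      exact ih W hW m (by omega)
    · have := hU {Fin.last k} (Finset.singleton_nonempty _)
      rw [Finset.inf_singleton] at this
      exact hu_affine_eq_zero M this m

/-- Vanishing above the number of affines in a cover, when intersections of affines are affine. -/
theorem subsingleton_HH_of_affine_cover (t : ℕ) (U : Fin t → X.Opens) (hcov : ⨆ i, U i = ⊤)
    (hU : ∀ s : Finset (Fin t), s.Nonempty → IsAffineOpen (s.inf U))
    (M : X.Modules) [Coh.IsQCoh M] (n : ℕ) (hn : t ≤ n) : Subsingleton (Coh.HH X M n) := by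
  have h := hu_iSup_eq_zero M t U hU n hn
  rw [hcov] at h
  have := subsingleton_of_forall_eq 0 h
  exact (hTopEquiv (X := X.toTopCat) (Coh.toAb M) n).subsingleton

/-- A quasi-compact open inside an affine open has bounded cohomological dimension. -/
theorem exists_bound_of_le_affine {V : X.Opens} (hV : IsAffineOpen V) {W : X.Opens}
    (hW : IsCompact (W : Set X)) (hWV : W ≤ V) :
    ∃ d : ℕ, ∀ (M : X.Modules) [Coh.IsQCoh M] (n : ℕ), d ≤ n →
      ∀ x : HU (X := X.toTopCat) W (Coh.toAb M) n, x = 0 := by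
  have hcov : (W : Set X) ⊆ ⋃ f : {f : Γ(X, V) // X.basicOpen f ≤ W}, (X.basicOpen f.1 : Set X) := by
    intro p hp
    obtain ⟨f, hf, hpf⟩ := hV.exists_basicOpen_le ⟨p, hp⟩ (hWV hp)
    exact Set.mem_iUnion.2 ⟨⟨f, hf⟩, hpf⟩
  obtain ⟨t, ht⟩ := hW.elim_finite_subcover (fun f : {f : Γ(X, V) // X.basicOpen f ≤ W} => (X.basicOpen f.1 : Set X))
    (fun f => (X.basicOpen f.1).isOpen) hcov
  let e := t.equivFin.symm
  let U : Fin t.card → X.Opens := fun i => X.basicOpen (e i).1.1
  have hU : ⨆ i, U i = W := by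
    refine le_antisymm (iSup_le fun i => (e i).1.2) fun p hp => ?_
    obtain ⟨f, hf, hpf⟩ := Set.mem_iUnion₂.1 (ht hp)
    exact Opens.mem_iSup.2 ⟨e.symm ⟨f, hf⟩, by simpa [U] using hpf⟩
  refine ⟨t.card, fun M _ n hn => hU ▸ hu_iSup_eq_zero M _ U (fun s hs => ?_) n hn⟩
  suffices ∃ g : Γ(X, V), s.inf U = X.basicOpen g by
    obtain ⟨g, hg⟩ := this
    exact hg ▸ hV.basicOpen g
  induction hs using Finset.Nonempty.cons_induction with
  | singleton a => exact ⟨_, Finset.inf_singleton⟩
  | cons a s _ _ ih =>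
    obtain ⟨g, hg⟩ := ih
    exact ⟨(e a).1.1 * g, by rw [Finset.inf_cons, hg, Scheme.basicOpen_mul]⟩

/-- A quasi-compact quasi-separated scheme has bounded cohomological dimension. -/
theorem exists_bound_qcqs [QuasiSeparatedSpace X] (U : X.Opens) (hU : IsCompact (U : Set X)) :
    ∃ d : ℕ, ∀ (M : X.Modules) [Coh.IsQCoh M] (n : ℕ), d ≤ n →
      ∀ x : HU (X := X.toTopCat) U (Coh.toAb M) n, x = 0 := by
  refine compact_open_induction_on U hU ?_ ?_
  · exact ⟨0, fun M _ n _ => hu_bot_eq_zero (X := X.toTopCat)⟩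
  · intro S hS V ⟨d, hd⟩
    obtain ⟨e, he⟩ := exists_bound_of_le_affine V.2 (W := S ⊓ V.1)
      (QuasiSeparatedSpace.inter_isCompact _ _ S.2 hS V.1.2 V.2.isCompact) inf_le_right
    refine ⟨d + e + 2, fun M _ n hn => ?_⟩
    obtain ⟨m, rfl⟩ : ∃ m, n = m + 1 := ⟨n - 1, by omega⟩
    exact hu_sup_vanish (X := X.toTopCat) (he M m (by omega)) (hd M (m + 1) (by omega))
      (hu_affine_eq_zero M V.2 m)

end Groth.L17
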