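import Groth.Agent.L17.CohSections
import Groth.Agent.L16.ProperFinite
import Groth.Agent.L16.CohKernel
import Groth.Agent.L18.TildeFunctor

/-!
Higher direct images of coherent modules along proper morphisms are coherent.
-/

set_option autoImplicit false
set_option backward.isDefEq.respectTransparency false

universe u

open CategoryTheory CategoryTheory.Limits AlgebraicGeometry TopologicalSpace Opposite

noncomputable section

namespace Groth.L17.ProperCoh

attribute [local instance] PushQCoh.additive_push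

/-- Proper over a Noetherian affine base. -/
theorem finite_Γ_Rpush_spec {R : CommRingCat.{u}} [IsNoetherianRing R] {X : Scheme.{u}} (g : X ⟶ Spec R)
    [IsProper g] [HasInjectiveResolutions X.Modules] (M : X.Modules) (hM : Coh.IsCoh M) (n : ℕ) :
    Module.Finite R ((moduleSpecΓFunctor (R := R)).obj ((Coh.Rpush g n).obj M)) := by
  letI : X.Over (Spec (CommRingCat.of R)) := ⟨g⟩
  haveI : IsProper (X ↘ Spec (CommRingCat.of R)) := inferInstanceAs (IsProper g)
  haveI := Groth.L16.ProperFinite.finite_HH R hM n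
  haveI : Coh.IsQCoh M := hM.1
  let hE := Groth.L10.SiteCoh.hEquiv (Groth.L10.TopCoh.topTerminal X.toTopCat) (Coh.toAb M) n
  let e : Coh.HH X M n ≃ₗ[R] ↑((moduleSpecΓFunctor (R := R)).obj ((Coh.Rpush g n).obj M)) :=
    { hE.trans (CohSections.equiv g (isAffineOpen_top (Spec R)) M n) with
      map_smul' := fun r x => by
        have h := CohSections.equiv_smul g (isAffineOpen_top (Spec R)) M ((Scheme.ΓSpecIso R).inv r) n (hE x)
        exact (congrArg _ (Groth.L10.SiteCoh.hEquiv_map _ (Coh.smulAb M _) n x)).trans h }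
  exact Module.Finite.equiv e

/-- Sections of higher direct images over an affine base are cohomology. -/
theorem nonempty_Γ_Rpush_equiv {R : CommRingCat.{u}} {X : Scheme.{u}} (g : X ⟶ Spec R)
    [QuasiCompact g] [QuasiSeparated g]
    [HasInjectiveResolutions X.Modules] (M : X.Modules) [Coh.IsQCoh M] (n : ℕ) :
    letI : Module R (Coh.HH X M n) := Module.compHom _ (Coh.toGlobal (A := R) g)
    Nonempty (Coh.HH X M n ≃ₗ[R] ↑((moduleSpecΓFunctor (R := R)).obj ((Coh.Rpush g n).obj M))) := by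
  letI : Module R (Coh.HH X M n) := Module.compHom _ (Coh.toGlobal (A := R) g)
  let hE := Groth.L10.SiteCoh.hEquiv (Groth.L10.TopCoh.topTerminal X.toTopCat) (Coh.toAb M) n
  exact ⟨{ hE.trans (CohSections.equiv g (isAffineOpen_top (Spec R)) M n) with
      map_smul' := fun r x => by
        have h := CohSections.equiv_smul g (isAffineOpen_top (Spec R)) M ((Scheme.ΓSpecIso R).inv r) n (hE x)
        exact (congrArg _ (Groth.L10.SiteCoh.hEquiv_map _ (Coh.smulAb M _) n x)).trans h }⟩

/-- Higher direct images of coherent modules along proper morphisms to locally Noetherian schemes are coherent. -/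
theorem isCoh_Rpush {X S : Scheme.{u}} (f : X ⟶ S) [IsProper f] [IsLocallyNoetherian S]
    [HasInjectiveResolutions X.Modules] (M : X.Modules) (hM : Coh.IsCoh M) (n : ℕ) :
    Coh.IsCoh ((Coh.Rpush f n).obj M) := by
  refine Groth.L16.CohKernel.isCoh_of_tilde_charts _ fun y => ?_
  obtain ⟨_, ⟨V, hV, rfl⟩, hyV, -⟩ :=
    S.isBasis_affineOpens.exists_subset_of_mem_open (Set.mem_univ y) isOpen_univ
  haveI : IsNoetherianRing Γ(S, V) := IsLocallyNoetherian.component_noetherian ⟨V, hV⟩
  let g : ↑(f ⁻¹ᵁ V) ⟶ Spec Γ(S, V) := (f ∣_ V) ≫ hV.isoSpec.hom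
  have w : g ≫ hV.fromSpec = (f ⁻¹ᵁ V).ι ≫ f := by
    simp [g, IsAffineOpen.isoSpec_hom_fromSpec, morphismRestrict_ι]
  haveI := PushQCoh.hasInjectiveResolutions (f ⁻¹ᵁ V : Scheme.{u})
  haveI : Coh.IsQCoh M := hM.1
  have hMr : Coh.IsCoh (M.restrict (f ⁻¹ᵁ V).ι) :=
    ⟨Scheme.Modules.isQuasicoherent_restrictFunctor _ M, Groth.L16.CohKernel.isFT_restrict _ M hM.2⟩
  haveI : IsProper g := inferInstanceAs (IsProper ((f ∣_ V) ≫ hV.isoSpec.hom))
  haveI : Coh.IsQCoh (M.restrict (f ⁻¹ᵁ V).ι) := hMr.1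
  obtain ⟨e⟩ := PushQCoh.nonempty_Rpush_restrict_iso f hV.fromSpec (f ⁻¹ᵁ V).ι g
    (by rw [hV.opensRange_fromSpec, Scheme.Opens.opensRange_ι]) w M n
  haveI := PushQCoh.isQCoh_Rpush g (M.restrict (f ⁻¹ᵁ V).ι) n
  exact ⟨_, hV.fromSpec, inferInstance,
    (moduleSpecΓFunctor (R := Γ(S, V))).obj ((Coh.Rpush g n).obj (M.restrict (f ⁻¹ᵁ V).ι)),
    hV.opensRange_fromSpec.ge hyV, finite_Γ_Rpush_spec g _ hMr n, ⟨e ≪≫ (Groth.L18.TildeF.counitIso _).symm⟩⟩

end Groth.L17.ProperCoh
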