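import Groth.Agent.L17.Duality
import Groth.Agent.L17.PullBasis
import Groth.Agent.L29.LocFree
import Mathlib.LinearAlgebra.TensorProduct.Basis

/-!
The projection formula for finite locally free modules along an arbitrary morphism.
-/

set_option autoImplicit false
set_option backward.isDefEq.respectTransparency false

universe u

open CategoryTheory CategoryTheory.Limits AlgebraicGeometry Opposite MonoidalCategory TensorProduct TopologicalSpace

namespace Groth.L17.ProjFormula

open Groth.L00.Tensor Groth.L17.ChangeRings

variable {X Y : Scheme.{u}}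

/-- Coordinates of a tensor product along a basis of the left factor. -/
theorem bijective_coords {W : X.Opens} {n : ℕ} (M A : X.Modules) (t : Fin n → (pre M).obj (op W))
    (ht : LocBases.IsBasis (O := X.sheaf) M t) :
    Function.Bijective fun a : Fin n → LocBases.Sec (O := X.sheaf) (pre A) W =>
      ∑ i, LocBases.tm (O := X.sheaf) (P := pre M) (Q := pre A) (t i) (a i) := by
  let R := X.sheaf.obj.obj (op W)
  let eM := LocBases.basisEquiv (O := X.sheaf) (F := M) ht (𝟙 W)
  let b : Module.Basis (Fin n) R (LocBases.Sec (O := X.sheaf) (pre M) W) := Module.Basis.ofEquivFun eM.symm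
  have hb : ∀ i, b i = t i := fun i => by
    simp only [b, Module.Basis.coe_ofEquivFun, LinearEquiv.symm_symm]
    exact (LocBases.lc_single (O := X.sheaf) _ i).trans (LocBases.res_id _ _)
  let E := (TensorProduct.equivFinsuppOfBasisLeft (N := LocBases.Sec (O := X.sheaf) (pre A) W) b).trans
    (Finsupp.linearEquivFunOnFinite R _ (Fin n))
  have : (fun a : Fin n → LocBases.Sec (O := X.sheaf) (pre A) W =>
      ∑ i, LocBases.tm (O := X.sheaf) (P := pre M) (Q := pre A) (t i) (a i)) = E.symm := by
    funext a
    refine Eq.trans ?_ (TensorProduct.equivFinsuppOfBasisLeft_symm_apply b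
      ((Finsupp.linearEquivFunOnFinite R _ (Fin n)).symm a)).symm
    rw [Finsupp.sum_fintype _ _ (fun i => TensorProduct.tmul_zero _ _)]
    refine Finset.sum_congr rfl fun i _ => ?_
    rw [hb i]
    rfl
  rw [this]
  exact E.symm.bijective

/-- A map to a sheaf which becomes an isomorphism detects bijectivity of the unit. -/
theorem bijective_unit_app {P : PX X} {S : X.Modules} (a : P ⟶ pre S) (ha : IsIso ((shf X).map a))
    {W : X.Opens} (hW : Function.Bijective (a.app (op W))) :
    Function.Bijective ((Groth.L00.Tensor.unit P).app (op W)) := by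
  let c := ((ClosedPush.shAdj X).homEquiv P S).symm a
  haveI : IsIso (ClosedPush.shAdj X).counit :=
    inferInstanceAs (IsIso (PresheafOfModules.sheafificationAdjunction (𝟙 X.ringCatSheaf.obj)).counit)
  haveI : IsIso c := by
    simp only [c, Adjunction.homEquiv_counit]
    exact IsIso.comp_isIso
  have h : Groth.L00.Tensor.unit P ≫ (preF X).map c = a := by
    have h0 := ((ClosedPush.shAdj X).homEquiv P S).apply_symm_apply a
    rw [Adjunction.homEquiv_unit, ClosedPush.shAdj_unit] at h0
    exact h0
  haveI : IsIso (((preF X).map c).app (op W)) :=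
    inferInstanceAs (IsIso ((PresheafOfModules.evaluation _ (op W)).map ((preF X).map c)))
  refine (Function.Bijective.of_comp_iff' (ConcreteCategory.bijective_of_isIso (((preF X).map c).app (op W))) _).1 ?_
  exact Eq.mp (congrArg Function.Bijective (congrArg (fun k : P ⟶ pre S => ⇑(k.app (op W))) h.symm)) hW

/-- The tensor product of presheaves with a module with a basis is a sheaf there. -/
theorem bijective_unit_tensor {W : X.Opens} {n : ℕ} (M A : X.Modules) (hM : FlatMod.IsFinLocFree M)
    (t : Fin n → (pre M).obj (op W)) (ht : LocBases.IsBasis (O := X.sheaf) M t) :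
    Function.Bijective ((Groth.L00.Tensor.unit (pre M ⊗ pre A)).app (op W)) := by
  haveI := Duality.hasSheafHom M
  let D := (LocBases.G (O := X.sheaf) M).obj (LocBases.one X.sheaf)
  haveI : ModSite.HasSheafHom (O := X.sheaf) D := Groth.L00.ModSiteTensor.hasSheafHom D
  let a := (β_ (pre M) (pre A)).hom ≫ pre A ◁ LocBases.ηp (O := X.sheaf) M ≫ LocBases.θp (O := X.sheaf) D A
  have key : ∀ {W : X.Opens} {n : ℕ} (t : Fin n → (pre M).obj (op W)),
      LocBases.IsBasis (O := X.sheaf) M t → Function.Bijective (a.app (op W)) := fun {W n} t ht => by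
    haveI : IsIso ((LocBases.ηp (O := X.sheaf) M).app (op W)) :=
      (ConcreteCategory.isIso_iff_bijective _).2 (LocBases.bijective_ηp_app M ht)
    haveI : IsIso ((LocBases.θp (O := X.sheaf) D A).app (op W)) :=
      (ConcreteCategory.isIso_iff_bijective _).2 (LocBases.bijective_θp_app (LocBases.isBasis_dualBasis ht) A)
    haveI : IsIso ((β_ (pre M) (pre A)).hom.app (op W)) :=
      inferInstanceAs (IsIso ((PresheafOfModules.evaluation _ (op W)).map (β_ (pre M) (pre A)).hom))
    haveI : IsIso ((pre A ◁ LocBases.ηp (O := X.sheaf) M).app (op W)) :=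
      inferInstanceAs (IsIso (MonoidalCategoryStruct.tensorHom
        (C := ModuleCat.{u} (X.sheaf.obj.obj (op W))) (𝟙 _) ((LocBases.ηp (O := X.sheaf) M).app (op W))))
    exact ((ConcreteCategory.bijective_of_isIso ((LocBases.θp (O := X.sheaf) D A).app (op W))).comp
      ((ConcreteCategory.bijective_of_isIso ((pre A ◁ LocBases.ηp (O := X.sheaf) M).app (op W))).comp
      (ConcreteCategory.bijective_of_isIso ((β_ (pre M) (pre A)).hom.app (op W)))))
  refine bijective_unit_app a (LocBases.isIso_shf_map_of_cover (O := X.sheaf) a fun V => ?_) (key t ht)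
  obtain ⟨S, hS, h⟩ := FinLocBases.hasLocBases hM V
  refine ⟨S, hS, fun W' g hg => ?_⟩
  obtain ⟨m, t', ht'⟩ := h W' g hg
  exact key t' ht'

variable (f : X ⟶ Y) (N : Y.Modules) (A : X.Modules)

/-- The projection morphism is an isomorphism for a finite locally free module. -/
theorem isIso_θ (hN : FlatMod.IsFinLocFree N) : IsIso (ClosedPush.θ f A N) := by
  let P := pre N ⊗ pre ((Scheme.Modules.pushforward f).obj A)
  let p : P ⟶ pre ((Scheme.Modules.pushforward f).obj (CohB1.tensorMod ((Scheme.Modules.pullback f).obj N) A)) :=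
    Groth.L00.Tensor.unit P ≫ (preF Y).map (ClosedPush.θ f A N)
  have hp : IsIso ((shf Y).map p) := LocBases.isIso_shf_map_of_cover (O := Y.sheaf) p fun V => by
    obtain ⟨S, hS, h⟩ := FinLocBases.hasLocBases hN V
    refine ⟨S, hS, fun W g hg => ?_⟩
    obtain ⟨n, t, ht⟩ := h W g hg
    refine (Function.Bijective.of_comp_iff _ (bijective_coords N ((Scheme.Modules.pushforward f).obj A) t ht)).1 ?_
    let t' := fun j => ((Scheme.Modules.pullbackPushforwardAdjunction f).unit.app N).app W (t j)
    have ht' : LocBases.IsBasis (O := X.sheaf) ((Scheme.Modules.pullback f).obj N) (W := f ⁻¹ᵁ W) t' :=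
      PullBasis.isBasis_pullback f N t ht
    refine Eq.mp (congrArg Function.Bijective ?_)
      ((bijective_unit_tensor _ A (Groth.L29.LocFree.pullback f hN) t' ht').comp
        (bijective_coords ((Scheme.Modules.pullback f).obj N) A t' ht'))
    funext a
    refine ((map_sum _ _ _).trans ?_).trans (map_sum _ _ _).symm
    exact Finset.sum_congr rfl fun i _ => (ClosedPush.θ_app f A N W (t i) (a i)).symm
  haveI : IsIso (ClosedPush.shAdj Y).counit :=
    inferInstanceAs (IsIso (PresheafOfModules.sheafificationAdjunction (𝟙 Y.ringCatSheaf.obj)).counit)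
  have h : ClosedPush.θ f A N = ((ClosedPush.shAdj Y).homEquiv P
      ((Scheme.Modules.pushforward f).obj (CohB1.tensorMod ((Scheme.Modules.pullback f).obj N) A))).symm p := by
    refine (Equiv.eq_symm_apply ((ClosedPush.shAdj Y).homEquiv P
      ((Scheme.Modules.pushforward f).obj (CohB1.tensorMod ((Scheme.Modules.pullback f).obj N) A)))).2 ?_
    exact (ClosedPush.shAdj Y).homEquiv_unit P _ (ClosedPush.θ f A N)
  rw [h, Adjunction.homEquiv_counit]
  exact IsIso.comp_isIso

theorem θ_natural_right {A A' : X.Modules} (h : A ⟶ A') :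
    tensorMap (𝟙 N) ((Scheme.Modules.pushforward f).map h) ≫ ClosedPush.θ f A' N =
      ClosedPush.θ f A N ≫ (Scheme.Modules.pushforward f).map (tensorMap (𝟙 ((Scheme.Modules.pullback f).obj N)) h) := by
  let M := (Scheme.Modules.pullback f).obj N
  have hμ : tensorMap (𝟙 ((Scheme.Modules.pushforward f).obj M)) ((Scheme.Modules.pushforward f).map h) ≫
      ClosedPush.μ f M A' =
      ClosedPush.μ f M A ≫ (Scheme.Modules.pushforward f).map (tensorMap (𝟙 M) h) := by
    refine ((ClosedPush.shAdj Y).homEquiv
      (pre ((Scheme.Modules.pushforward f).obj M) ⊗ pre ((Scheme.Modules.pushforward f).obj A)) _).injective ?_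
    refine ((ClosedPush.shAdj Y).homEquiv_unit ..).trans (Eq.trans ?_ ((ClosedPush.shAdj Y).homEquiv_unit ..).symm)
    refine PresheafOfModules.hom_ext fun V => ModuleCat.MonoidalCategory.tensor_ext fun m a => ?_
    exact ((congrArg ((ClosedPush.μ f M A').app V.unop) (ClosedPush.tensorMap_unit _ _ V.unop m a)).trans
      (ClosedPush.μ_unit f M A' V.unop _ _)).trans
      (((congrArg (((Scheme.Modules.pushforward f).map (tensorMap (𝟙 M) h)).app V.unop)
        (ClosedPush.μ_unit f M A V.unop m a)).trans (ClosedPush.tensorMap_unit (𝟙 M) h (f ⁻¹ᵁ V.unop) m a)).symm)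
  rw [ClosedPush.θ, ClosedPush.θ, ← Category.assoc, ← tensorMap_comp, Category.assoc, ← hμ, ← Category.assoc,
    ← tensorMap_comp]
  simp only [Category.id_comp, Category.comp_id]
  exact congrArg (fun k => tensorMap k ((Scheme.Modules.pushforward f).map h) ≫ ClosedPush.μ f M A')
    (Category.comp_id ((Scheme.Modules.pullbackPushforwardAdjunction f).unit.app N)).symm

/-- `N ⊗ f_* - ≅ f_* (f^* N ⊗ -)`. -/
noncomputable def projIso (hN : FlatMod.IsFinLocFree N) :
    Scheme.Modules.pushforward f ⋙ tensorLeftF N ≅
      tensorLeftF ((Scheme.Modules.pullback f).obj N) ⋙ Scheme.Modules.pushforward f :=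
  NatIso.ofComponents (fun A => @asIso _ _ _ _ (ClosedPush.θ f A N) (isIso_θ f N A hN))
    fun h => θ_natural_right f N h

/-- The projection formula for higher direct images. -/
theorem nonempty_Rpush_iso [HasInjectiveResolutions X.Modules] (hN : FlatMod.IsFinLocFree N) (q : ℕ) :
    Nonempty (CohB1.tensorMod N ((Coh.Rpush f q).obj A) ≅
      (Coh.Rpush f q).obj (CohB1.tensorMod ((Scheme.Modules.pullback f).obj N) A)) := by
  let E := (Scheme.Modules.pullback f).obj N
  have hE : FlatMod.IsFinLocFree E := Groth.L29.LocFree.pullback f hN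
  haveI := Duality.hasSheafHom N
  haveI := Duality.hasSheafHom E
  have hexact : ∀ {Z : Scheme.{u}} (M : Z.Modules) [ModSite.HasSheafHom (O := Z.sheaf) M],
      FlatMod.IsFinLocFree M → PreservesFiniteLimits (tensorLeftF M) ∧ PreservesFiniteColimits (tensorLeftF M) :=
    fun {Z} M _ hM => by
      haveI : (tensorRightF M).IsRightAdjoint := (Duality.dualAdj M hM).isRightAdjoint
      haveI : PreservesColimitsOfSize.{u, u} (tensorLeftF M) := preservesColimits_of_natIso (tensorFlipIso M)
      haveI : (tensorLeftF M).IsRightAdjoint := Functor.isRightAdjoint_of_iso (tensorFlipIso M)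
      exact ⟨inferInstance, inferInstance⟩
  obtain ⟨h1, h2⟩ := hexact N hN
  obtain ⟨h3, h4⟩ := hexact E hE
  haveI : (tensorLeftF N).Additive :=
    haveI := preservesBinaryBiproducts_of_preservesBinaryProducts (tensorLeftF N)
    Functor.additive_of_preservesBinaryBiproducts _
  haveI : (tensorLeftF E).Additive :=
    haveI := preservesBinaryBiproducts_of_preservesBinaryProducts (tensorLeftF E)
    Functor.additive_of_preservesBinaryBiproducts _
  haveI : (Scheme.Modules.pushforward f).IsRightAdjoint :=
    (Scheme.Modules.pullbackPushforwardAdjunction f).isRightAdjoint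
  haveI : (Scheme.Modules.pushforward f).Additive :=
    haveI := preservesBinaryBiproducts_of_preservesBinaryProducts (Scheme.Modules.pushforward f)
    Functor.additive_of_preservesBinaryBiproducts _
  haveI : EnoughInjectives X.Modules :=
    haveI := grothendieckAbelian_modules X
    inferInstance
  letI := HasDerivedCategory.standard X.Modules
  obtain ⟨e⟩ := GrothSS.nonempty_rightDerived_exact_comp (tensorLeftF E) (Scheme.Modules.pushforward f)
    (fun Q hQ r hr => by
      obtain ⟨k, rfl⟩ : ∃ k, r = k + 1 := ⟨r - 1, by omega⟩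
      haveI := Duality.injective_tensorRight E hE Q
      haveI : Injective ((tensorLeftF E).obj Q) := Injective.of_iso ((tensorFlipIso E).app Q) inferInstance
      exact (Scheme.Modules.pushforward f).isZero_rightDerived_obj_injective_succ k _) A q
  exact ⟨(Groth.L10.SiteCoh.rightDerivedCompIso (Scheme.Modules.pushforward f) (tensorLeftF N) q A).symm ≪≫
    (Groth.L10.SiteCoh.rightDerivedCongr (projIso f N hN) q).app A ≪≫ e⟩

end Groth.L17.ProjFormula
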