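import Groth.Agent.L17.QCohExtension
import Groth.Agent.L16.CohClosedPush
import Groth.Agent.L16.CohSupport
import Mathlib.Algebra.Category.ModuleCat.Sheaf.Limits
import Mathlib.RingTheory.Noetherian.Defs

/-!
Coherent modules on a locally Noetherian scheme are closed under extensions.
-/

set_option autoImplicit false
set_option backward.isDefEq.respectTransparency false
set_option linter.style.haveILetI false

universe u

open CategoryTheory CategoryTheory.Limits AlgebraicGeometry TopologicalSpace Opposite

namespace Groth.L17.CohClass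

variable {X : Scheme.{u}} [IsLocallyNoetherian X]

/-- Extensions of coherent modules are coherent. -/
theorem isCoh_of_shortExact (S : ShortComplex X.Modules) (hS : S.ShortExact) (h₁ : Coh.IsCoh S.X₁)
    (h₃ : Coh.IsCoh S.X₃) : Coh.IsCoh S.X₂ := by
  haveI : Coh.IsQCoh S.X₁ := h₁.1
  haveI : Coh.IsQCoh S.X₃ := h₃.1
  haveI : Coh.IsQCoh S.X₂ := Groth.L17.QCohExtension.isQCoh_extension S hS h₁.1 h₃.1
  refine Groth.L16.CohClosedPush.isCoh_of_finite_sections _ fun x => ?_
  obtain ⟨_, ⟨V, hV, rfl⟩, hxV, -⟩ :=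
    X.isBasis_affineOpens.exists_subset_of_mem_open (Set.mem_univ x) isOpen_univ
  haveI : IsNoetherianRing Γ(X, V) := IsLocallyNoetherian.component_noetherian ⟨V, hV⟩
  haveI : Module.Finite Γ(X, V) Γ(S.X₁, V) := Groth.L20.ModStalk.finite_sections _ h₁ hV
  haveI : Module.Finite Γ(X, V) Γ(S.X₃, V) := Groth.L20.ModStalk.finite_sections _ h₃ hV
  refine ⟨V, hxV, hV, ?_⟩
  let f : Γ(S.X₁, V) →ₗ[Γ(X, V)] Γ(S.X₂, V) :=
    { toFun := fun a => S.f.app V a
      map_add' := fun a b => map_add (S.f.app V).hom a b
      map_smul' := fun r a => Scheme.Modules.Hom.app_smul S.f r a }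
  let g : Γ(S.X₂, V) →ₗ[Γ(X, V)] Γ(S.X₃, V) :=
    { toFun := fun a => S.g.app V a
      map_add' := fun a b => map_add (S.g.app V).hom a b
      map_smul' := fun r a => Scheme.Modules.Hom.app_smul S.g r a }
  haveI : Mono S.f := hS.mono_f
  haveI : PreservesLimitsOfSize.{0, 0} (SheafOfModules.evaluation X.ringCatSheaf (op V)) :=
    ⟨fun {J} _ => inferInstance⟩
  haveI : (SheafOfModules.evaluation X.ringCatSheaf (op V)).Additive := ⟨fun {M N} {a b} => rfl⟩
  have hex : (S.map (SheafOfModules.evaluation X.ringCatSheaf (op V))).Exact :=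
    ShortComplex.exact_of_f_is_kernel (S.map (SheafOfModules.evaluation X.ringCatSheaf (op V)))
      ((isLimitMapConeForkEquiv' (SheafOfModules.evaluation X.ringCatSheaf (op V)) S.zero)
        (isLimitOfPreserves _ hS.exact.fIsKernel))
  have h : LinearMap.range f = LinearMap.ker g := by
    refine le_antisymm ?_ fun b hb => (ShortComplex.moduleCat_exact_iff _).1 hex b hb
    rintro _ ⟨a, rfl⟩
    exact ConcreteCategory.congr_hom (S.map (SheafOfModules.evaluation X.ringCatSheaf (op V))).zero a
  haveI := isNoetherian_of_range_eq_ker f g h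
  infer_instance

end Groth.L17.CohClass
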