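import Groth.Agent.L17.AcyclicMap

/-!
Existence of the Grothendieck spectral sequence of a composite of functors, as a biregular spectral
sequence with abutment.
-/

set_option autoImplicit false

universe w v u v' u' v'' u''

open CategoryTheory CategoryTheory.Limits
open scoped ZeroObject

namespace Groth.L17.GrothSS

variable {C : Type u'} [Category.{v'} C] [Abelian C] [HasInjectiveResolutions C]
  {C' : Type u} [Category.{v} C'] [Abelian C'] [HasInjectiveResolutions C'] [EnoughInjectives C']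
  [HasDerivedCategory.{w} C']
  {C'' : Type u''} [Category.{v''} C''] [Abelian C'']
  (T : C ⥤ C') [T.Additive] (S : C' ⥤ C'') [S.Additive]

/-- `T` applied to an injective resolution, in `D⁺(C')`. -/
noncomputable def TCx {A : C} (I : InjectiveResolution A) : CochainComplex.Plus C' :=
  ⟨(T.mapHomologicalComplex (.up ℤ)).obj I.cochainComplex, 0, inferInstance⟩

omit [HasInjectiveResolutions C] [HasInjectiveResolutions C'] [EnoughInjectives C'] in
theorem isGE_TCx {A : C} (I : InjectiveResolution A) :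
    (DerivedCategory.Plus.Q.obj (TCx T I)).IsGE 0 := by
  rw [← DerivedCategory.Plus.isGE_ι_obj_iff]
  exact inferInstanceAs ((DerivedCategory.Q.obj
    ((T.mapHomologicalComplex (.up ℤ)).obj I.cochainComplex)).IsGE 0)

/-- The cohomology of `T I` is `R T A`. -/
noncomputable def homologyTCxIso {A : C} (I : InjectiveResolution A) (q : ℕ) :
    (DerivedCategory.Plus.homologyFunctor C' (q : ℤ)).obj (DerivedCategory.Plus.Q.obj (TCx T I)) ≅
      (T.rightDerived q).obj A :=
  (DerivedCategory.homologyFunctorFactors C' (q : ℤ)).app _ ≪≫ homologyMapCochainIso T I q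

variable [PreservesFiniteLimits S]

/-- `R S` of `T I` computes `R (T ⋙ S) A`. -/
theorem nonempty_hhTCxIso {A : C} (I : InjectiveResolution A)
    (hT : ∀ Q : C, Injective Q → ∀ q : ℕ, 0 < q → IsZero ((S.rightDerived q).obj (T.obj Q)))
    (n : ℕ) :
    Nonempty ((HH S (n : ℤ)).obj (DerivedCategory.Plus.Q.obj (TCx T I)) ≅
      ((T ⋙ S).rightDerived n).obj A) := by
  have hG : CochainComplex.IsStrictlyGE ((T.mapHomologicalComplex (.up ℤ)).obj I.cochainComplex) 0 :=
    inferInstance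
  have : (TCx T I).obj.IsStrictlyGE 0 := hG
  obtain ⟨L, hL, i, hi⟩ := CochainComplex.Plus.exists_quasiIso_injective (TCx T I) 0
  have hq : QuasiIso i.hom := hi
  let L' : CochainComplex C' ℤ := ((InjectiveObject.ι C').mapHomologicalComplex (.up ℤ)).obj L.obj
  let f : (T.mapHomologicalComplex (.up ℤ)).obj I.cochainComplex ⟶ L' := i.hom
  have hf : QuasiIso f := hq
  have hIL : ∀ k, Injective (L'.X k) := fun k =>
    inferInstanceAs (Injective (L.obj.X k).obj)
  have hA : ∀ k, RAcyclic S (((T.mapHomologicalComplex (.up ℤ)).obj I.cochainComplex).X k) :=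
    fun k => hT (I.cochainComplex.X k) inferInstance
  have hB : ∀ k, RAcyclic S (L'.X k) := fun k q hq => by
    obtain ⟨j, rfl⟩ : ∃ j, q = j + 1 := ⟨q - 1, by omega⟩
    have := hIL k
    exact S.isZero_rightDerived_obj_injective_succ j _
  have hL' : L'.IsStrictlyGE 0 := inferInstance
  have hS := quasiIso_map S f 0 0 hA hB
  let e : DerivedCategory.Q.obj ((T.mapHomologicalComplex (.up ℤ)).obj I.cochainComplex) ≅
      DerivedCategory.Q.obj L' := asIso (DerivedCategory.Q.map f)
  let e' : DerivedCategory.Plus.Q.obj (TCx T I) ≅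
      DerivedCategory.Plus.Q.obj ⟨L', 0, hL'⟩ := DerivedCategory.Plus.ι.preimageIso e
  exact ⟨(HH S (n : ℤ)).mapIso e' ≪≫ hhInjIso S L' ⟨0, hL'⟩ hIL n ≪≫
    (asIso (HomologicalComplex.homologyMap ((S.mapHomologicalComplex (.up ℤ)).map f) (n : ℤ))).symm
      ≪≫ homologyMapCochainIso (T ⋙ S) I n⟩

/-- General form: any family of objects isomorphic to the expected ones. -/
theorem exists_spectralSequence_of_iso
    (hT : ∀ Q : C, Injective Q → ∀ q : ℕ, 0 < q → IsZero ((S.rightDerived q).obj (T.obj Q)))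
    (A : C) (H : ℤ → C'') (P : ℤ → ℤ → C'')
    (hH : ∀ n : ℕ, Nonempty (H (n : ℤ) ≅ ((T ⋙ S).rightDerived n).obj A))
    (hH₀ : ∀ n : ℤ, n < 0 → IsZero (H n))
    (hP : ∀ p q : ℕ, Nonempty ((S.rightDerived p).obj ((T.rightDerived q).obj A) ≅ P (p : ℤ) (q : ℤ)))
    (hP₀ : ∀ p q : ℤ, ¬ (0 ≤ p ∧ 0 ≤ q) → IsZero (P p q)) :
    ∃ (E : E₂CohomologicalSpectralSequence C'') (a : SpSeq.Abutment E H),
      (∀ n, a.IsFinite n) ∧ SpSeq.IsBounded E ∧
      ∀ p q : ℤ, Nonempty ((E.page 2 le_rfl).X (p, q) ≅ P p q) := by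
  let I := injectiveResolution A
  let X := DerivedCategory.Plus.Q.obj (TCx T I)
  have hX : X.IsGE 0 := isGE_TCx T I
  have η : ∀ n : ℤ, Nonempty (H n ≅ (HH S n).obj X) := by
    intro n
    by_cases hn : 0 ≤ n
    · lift n to ℕ using hn
      obtain ⟨e⟩ := nonempty_hhTCxIso T S I hT n
      exact ⟨(hH n).some ≪≫ e.symm⟩
    · exact ⟨(hH₀ n (by omega)).iso (isZero_HH_of_isGE S X 0 n (by omega))⟩
  obtain ⟨a, ha⟩ := SpecObj.exists_abutment (fun n => (η n).some ≪≫ topIso S X n)
    (isLowBounded S X 0) (isHighBounded S X)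
  refine ⟨(specObj S X).E₂SpectralSequence, a, ha, isBounded S X 0, fun p q => ?_⟩
  obtain ⟨e⟩ := nonempty_slice_iso S X (p + q) q
  let e₁ := SpecObj.pageTwoIso (Y := specObj S X) p q ≪≫ e ≪≫
    hhSingleShiftIso S _ q (p + q) p (by omega)
  by_cases hq : 0 ≤ q
  · by_cases hp : 0 ≤ p
    · lift q to ℕ using hq
      lift p to ℕ using hp
      exact ⟨e₁ ≪≫ hhSingleZeroIso S _ p ≪≫
        (S.rightDerived p).mapIso (homologyTCxIso T I q) ≪≫ (hP p q).some⟩
    · exact ⟨e₁ ≪≫ (isZero_HH_of_isGE S _ 0 p (by omega)).iso (hP₀ p q (fun h => hp h.1))⟩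
  · refine ⟨e₁ ≪≫ IsZero.iso ?_ (hP₀ p q (fun h => hq h.2))⟩
    exact (HH S p).map_isZero ((DerivedCategory.Plus.singleFunctor C' 0).map_isZero
      (DerivedCategory.Plus.isZero_homology_of_isGE X 0 q (by omega)))

/-- The Grothendieck spectral sequence. -/
theorem exists_spectralSequence
    (hT : ∀ Q : C, Injective Q → ∀ q : ℕ, 0 < q → IsZero ((S.rightDerived q).obj (T.obj Q)))
    (A : C) :
    ∃ (E : E₂CohomologicalSpectralSequence C'')
      (a : SpSeq.Abutment E
        (fun n : ℤ => if 0 ≤ n then ((T ⋙ S).rightDerived n.toNat).obj A else 0)),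
      (∀ n, a.IsFinite n) ∧ SpSeq.IsBounded E ∧
      ∀ p q : ℤ, Nonempty ((E.page 2 le_rfl).X (p, q) ≅
        (if 0 ≤ p ∧ 0 ≤ q then
          (S.rightDerived p.toNat).obj ((T.rightDerived q.toNat).obj A) else 0)) :=
  exists_spectralSequence_of_iso T S hT A _ _
    (fun n => ⟨eqToIso (by simp)⟩)
    (fun n hn => by rw [if_neg (by omega)]; exact isZero_zero C'')
    (fun p q => ⟨eqToIso (by simp)⟩)
    (fun p q h => by rw [if_neg h]; exact isZero_zero C'')

end Groth.L17.GrothSS
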