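import Groth.Agent.L17.AcyclicCx
import Mathlib.CategoryTheory.Abelian.Injective.Ext
import Mathlib.CategoryTheory.Preadditive.Yoneda.Limits
import Mathlib.Algebra.Category.Grp.Abelian

/-!
`Ext M - n` is the `n`-th right derived functor of `Hom(M, -)`.
-/

set_option autoImplicit false

universe v u

open CategoryTheory CategoryTheory.Limits CochainComplex.HomComplex Opposite

namespace Groth.L17.GrothSS

variable {C : Type u} [Category.{v} C] [Abelian C]

/-- `Hom(M, -)` with values in abelian groups. -/
abbrev homFun (M : C) : C ⥤ AddCommGrpCat.{v} := preadditiveCoyoneda.obj (op M)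

/-- The `Hom` complex out of a single complex. -/
noncomputable def homComplexIso (M : C) (K : CochainComplex C ℤ) :
    CochainComplex.HomComplex ((CochainComplex.singleFunctor C 0).obj M) K ≅
      ((homFun M).mapHomologicalComplex (.up ℤ)).obj K :=
  HomologicalComplex.Hom.isoOfComponents
    (fun n => AddEquiv.toAddCommGrpIso (Cochain.fromSingleEquiv (zero_add n)))
    (fun i j _ => by
      ext (α : Cochain ((CochainComplex.singleFunctor C 0).obj M) K i)
      obtain ⟨f, rfl⟩ := Cochain.fromSingleMk_surjective α i (zero_add i)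
      change Cochain.fromSingleEquiv (zero_add i) (Cochain.fromSingleMk f (zero_add i)) ≫ K.d i j =
        Cochain.fromSingleEquiv (zero_add j) (δ i j (Cochain.fromSingleMk f (zero_add i)))
      rw [Cochain.δ_fromSingleMk f (zero_add i) j j (zero_add j),
        Cochain.fromSingleEquiv_fromSingleMk, Cochain.fromSingleEquiv_fromSingleMk])

variable [HasInjectiveResolutions C] [HasExt.{v} C]

/-- `R^n Hom(M, -) Y = Ext^n(M, Y)`. -/
theorem nonempty_rightDerived_homFun (M Y : C) (n : ℕ) :
    Nonempty (((homFun M).rightDerived n).obj Y ≅ AddCommGrpCat.of (Abelian.Ext.{v} M Y n)) :=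
  ⟨(homologyMapCochainIso (homFun M) (injectiveResolution Y) n).symm ≪≫
    (HomologicalComplex.homologyFunctor AddCommGrpCat.{v} (.up ℤ) (n : ℤ)).mapIso
      (homComplexIso M (injectiveResolution Y).cochainComplex).symm ≪≫
    AddEquiv.toAddCommGrpIso ((homologyAddEquiv _ _ _).trans
      (injectiveResolution Y).extAddEquivCohomologyClass.symm)⟩

end Groth.L17.GrothSS
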