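import Groth.Agent.L17.ClosedPush
import Groth.Agent.L17.GrothSS
import Groth.Agent.L17.HomDerived
import Groth.Agent.L10.SiteRightDerived
import Groth.Agent.L29.DCoh.Flat
import Groth.Prelude.Def_ModSite2
import Groth.Prelude.Def_SpSeq
import Mathlib.CategoryTheory.Abelian.GrothendieckCategory.EnoughInjectives

/-!
Change of rings along a closed immersion `ι : X ⟶ P`: the right adjoint of `M ↦ ι_* (E ⊗ M)` and
the two change-of-rings Ext spectral sequences.
-/

set_option autoImplicit false

universe u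

open CategoryTheory CategoryTheory.Limits MonoidalCategory AlgebraicGeometry Opposite

namespace Groth.L17.ChangeRings

open Groth.L00.Tensor

variable {X : Scheme.{u}}

/-- `- ⊗ N` is the site-level tensor product. -/
noncomputable def tensorRightBiIso (N : X.Modules) :
    tensorRightF N ≅ (ModSite.tensorBi X.sheaf).flip.obj N :=
  NatIso.ofComponents (fun M => Iso.refl _) (fun {M M'} g => by
    refine (Category.comp_id _).trans (Eq.trans ?_ (Category.id_comp _).symm)
    refine congrArg (shf X).map ?_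
    exact (congrArg (fun k => (preF X).map g ⊗ₘ k) ((preF X).map_id N)).trans (MonoidalCategory.tensorHom_id _ _))

/-- Exchange of the factors. -/
noncomputable def perm (P Q R : PX X) : P ⊗ (Q ⊗ R) ≅ Q ⊗ (P ⊗ R) :=
  (α_ P Q R).symm ≪≫ MonoidalCategory.whiskerRightIso (β_ P Q) R ≪≫ α_ Q P R

theorem perm_natural (P R : PX X) {Q Q' : PX X} (g : Q ⟶ Q') :
    P ◁ (g ▷ R) ≫ (perm P Q' R).hom = (perm P Q R).hom ≫ g ▷ (P ⊗ R) := by
  simp only [perm, Iso.trans_hom, Iso.symm_hom, MonoidalCategory.whiskerRightIso_hom, Category.assoc]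
  rw [MonoidalCategory.associator_inv_naturality_middle_assoc,
    ← MonoidalCategory.comp_whiskerRight_assoc, BraidedCategory.braiding_naturality_right,
    MonoidalCategory.comp_whiskerRight_assoc, MonoidalCategory.associator_naturality_left]

/-- The raw triple tensor product. -/
noncomputable def raw (E F : X.Modules) : X.Modules ⥤ X.Modules :=
  preF X ⋙ MonoidalCategory.tensorRight (pre F) ⋙ MonoidalCategory.tensorLeft (pre E) ⋙ shf X

theorem tensorRightF_map (N : X.Modules) {M M' : X.Modules} (g : M ⟶ M') :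
    (tensorRightF N).map g = (shf X).map ((preF X).map g ▷ pre N) :=
  congrArg (shf X).map
    ((congrArg (fun k => (preF X).map g ⊗ₘ k) ((preF X).map_id N)).trans (MonoidalCategory.tensorHom_id _ _))

theorem tensorLeftF_map (N : X.Modules) {M M' : X.Modules} (g : M ⟶ M') :
    (tensorLeftF N).map g = (shf X).map (pre N ◁ (preF X).map g) :=
  congrArg (shf X).map
    ((congrArg (fun k => k ⊗ₘ (preF X).map g) ((preF X).map_id N)).trans (MonoidalCategory.id_tensorHom _ _))

/-- Sheafifying the inner product. -/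
noncomputable def rawIsoLeft (E F : X.Modules) : raw E F ≅ tensorRightF F ⋙ tensorLeftF E :=
  NatIso.ofComponents
    (fun M => (shfTensorRight (pre E) (pre M ⊗ pre F)).symm)
    (fun {M M'} g => by
      refine Eq.trans ?_ (congrArg (fun k => (shf X).map (pre E ◁ Groth.L00.Tensor.unit (pre M ⊗ pre F)) ≫ k)
        (((congrArg (tensorLeftF E).map (tensorRightF_map F g)).trans (tensorLeftF_map E _)).symm))
      refine ((shf X).map_comp _ _).symm.trans ((congrArg (shf X).map ?_).trans ((shf X).map_comp _ _))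
      refine (MonoidalCategory.whiskerLeft_comp _ _ _).symm.trans ((congrArg (pre E ◁ ·) ?_).trans
        (MonoidalCategory.whiskerLeft_comp _ _ _))
      exact (PresheafOfModules.sheafificationAdjunction (𝟙 X.ringCatSheaf.obj)).unit.naturality
        ((preF X).map g ▷ pre F))

/-- Collecting `E ⊗ F`. -/
noncomputable def rawIsoRight (E F : X.Modules) : raw E F ≅ tensorRightF (CohB1.tensorMod E F) :=
  NatIso.ofComponents
    (fun M => (shf X).mapIso (perm (pre E) (pre M) (pre F)) ≪≫ (shfTensorRight (pre M) (pre E ⊗ pre F)).symm)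
    (fun {M M'} g => by
      refine Eq.trans ?_ (congrArg (fun k => ((shf X).map (perm (pre E) (pre M) (pre F)).hom ≫
        (shf X).map (pre M ◁ Groth.L00.Tensor.unit (pre E ⊗ pre F))) ≫ k) (tensorRightF_map _ g).symm)
      refine ((Category.assoc _ _ _).symm.trans ?_).trans (Category.assoc _ _ _).symm
      refine (congrArg (· ≫ (shf X).map (pre M' ◁ Groth.L00.Tensor.unit (pre E ⊗ pre F)))
        (((shf X).map_comp _ _).symm.trans ((congrArg (shf X).map (perm_natural (pre E) (pre F) ((preF X).map g))).trans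
          ((shf X).map_comp _ _)))).trans ?_
      refine (Category.assoc _ _ _).trans (congrArg ((shf X).map (perm (pre E) (pre M) (pre F)).hom ≫ ·) ?_)
      exact ((shf X).map_comp _ _).symm.trans ((congrArg (shf X).map
        (MonoidalCategory.whisker_exchange _ _).symm).trans ((shf X).map_comp _ _)))

/-- `E ⊗ (- ⊗ F) ≅ - ⊗ (E ⊗ F)`. -/
noncomputable def tripleIso (E F : X.Modules) :
    tensorRightF F ⋙ tensorLeftF E ≅ tensorRightF (CohB1.tensorMod E F) :=
  (rawIsoLeft E F).symm ≪≫ rawIsoRight E F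

/-- Tensoring with a flat module keeps monomorphisms. -/
theorem preservesMono_tensorLeftF {E : X.Modules} (hE : FlatMod.IsFlat E) :
    (tensorLeftF E).PreservesMonomorphisms := ⟨fun {M N} g _ => by
  refine (Groth.L21.Mod.mono_iff_stalk_injective _).2 fun x => ?_
  have hg : Function.Injective ((Groth.L00.Stk.F X x).map g).hom :=
    (Groth.L21.Mod.mono_iff_stalk_injective g).1 inferInstance x
  have hF : Module.Flat (X.presheaf.stalk x) ((Groth.L00.Stk.F X x).obj E) := hE x
  have h1 : Function.Injective (TensorProduct.map ((Groth.L00.Stk.F X x).map (𝟙 E)).hom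
      ((Groth.L00.Stk.F X x).map g).hom) := by
    rw [CategoryTheory.Functor.map_id]
    exact Module.Flat.lTensor_preserves_injective_linearMap (M := (Groth.L00.Stk.F X x).obj E)
      ((Groth.L00.Stk.F X x).map g).hom hg
  have h2 := Groth.L00.Stk.τ_natural x (𝟙 E) g
  intro a b hab
  obtain ⟨a, rfl⟩ := (ConcreteCategory.bijective_of_isIso (Groth.L00.Stk.τ x E M).hom).2 a
  obtain ⟨b, rfl⟩ := (ConcreteCategory.bijective_of_isIso (Groth.L00.Stk.τ x E M).hom).2 b
  refine congrArg _ (h1 ((ConcreteCategory.bijective_of_isIso (Groth.L00.Stk.τ x E N).hom).1 ?_))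
  exact ((ConcreteCategory.congr_hom h2 a).trans hab).trans (ConcreteCategory.congr_hom h2 b).symm⟩

variable {P : Scheme.{u}} (ι : X ⟶ P) (E : X.Modules)

/-- `M ↦ ι_* (E ⊗ M)`. -/
noncomputable abbrev L : X.Modules ⥤ P.Modules := tensorLeftF E ⋙ Scheme.Modules.pushforward ι

variable [IsClosedImmersion ι]

instance isLeftAdjoint_L : (L ι E).IsLeftAdjoint := by
  haveI := grothendieckAbelian_modules X
  haveI : WellPowered.{u} X.Modules := IsGrothendieckAbelian.wellPowered _
  haveI : WellPowered.{u} (X.Modules)ᵒᵖ := CategoryTheory.Abelian.wellPowered_opposite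
  haveI := ClosedPush.preservesColimits_push ι
  haveI : PreservesColimitsOfSize.{u, u} (L ι E) := comp_preservesColimits _ _
  exact isLeftAdjoint_of_preservesColimits_of_isSeparating (isSeparator_separator X.Modules) _

/-- Its right adjoint. -/
noncomputable abbrev R : P.Modules ⥤ X.Modules := (L ι E).rightAdjoint

/-- The adjunction. -/
noncomputable abbrev adjR : L ι E ⊣ R ι E := Adjunction.ofIsLeftAdjoint _

instance additive_R : (R ι E).Additive :=
  haveI : (R ι E).IsRightAdjoint := (adjR ι E).isRightAdjoint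
  haveI := preservesBinaryBiproducts_of_preservesBinaryProducts (R ι E)
  Functor.additive_of_preservesBinaryBiproducts _

instance additive_push : (Scheme.Modules.pushforward ι).Additive :=
  haveI : (Scheme.Modules.pushforward ι).IsRightAdjoint :=
    (Scheme.Modules.pullbackPushforwardAdjunction ι).isRightAdjoint
  haveI := preservesBinaryBiproducts_of_preservesBinaryProducts (Scheme.Modules.pushforward ι)
  Functor.additive_of_preservesBinaryBiproducts _

/-- The internal hom, as a functor on `Z.Modules`. -/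
noncomputable abbrev homMod {Z : Scheme.{u}} (F : Z.Modules) [ModSite.HasSheafHom (O := Z.sheaf) F] :
    Z.Modules ⥤ Z.Modules := ModSite.sheafHom (O := Z.sheaf) F

instance additive_homMod {Z : Scheme.{u}} (F : Z.Modules) [ModSite.HasSheafHom (O := Z.sheaf) F] :
    (homMod F).Additive :=
  ModSite.sheafHom_additive Z.sheaf F

instance preservesLimits_homMod {Z : Scheme.{u}} (F : Z.Modules) [ModSite.HasSheafHom (O := Z.sheaf) F] :
    PreservesFiniteLimits (homMod F) :=
  haveI : (homMod F).IsRightAdjoint := (ModSite.sheafHomAdj (O := Z.sheaf) F).isRightAdjoint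
  inferInstance

theorem injective_R {E : X.Modules} (hE : FlatMod.IsFlat E) (Q : P.Modules) (hQ : Injective Q) :
    Injective ((R ι E).obj Q) := by
  haveI := preservesMono_tensorLeftF hE
  haveI : (Scheme.Modules.pushforward ι).IsRightAdjoint :=
    (Scheme.Modules.pullbackPushforwardAdjunction ι).isRightAdjoint
  haveI : (L ι E).PreservesMonomorphisms := inferInstance
  exact Injective.injective_of_adjoint (adjR ι E) Q

/-- `pullback ⋙ L ≅ - ⊗ ι_* E`. -/
noncomputable def pullLIso :
    Scheme.Modules.pullback ι ⋙ L ι E ≅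
      (ModSite.tensorBi P.sheaf).flip.obj ((Scheme.Modules.pushforward ι).obj E) :=
  Functor.isoWhiskerLeft _ (Functor.isoWhiskerRight (tensorFlipIso E).symm _) ≪≫
    (ClosedPush.thetaIso ι E).symm ≪≫ tensorRightBiIso _

/-- `ι_* R ≅ Hom(ι_* E, -)`. -/
noncomputable def pushRIso [ModSite.HasSheafHom (O := P.sheaf) ((Scheme.Modules.pushforward ι).obj E)] :
    R ι E ⋙ Scheme.Modules.pushforward ι ≅ homMod ((Scheme.Modules.pushforward ι).obj E) :=
  (((Scheme.Modules.pullbackPushforwardAdjunction ι).comp (adjR ι E)).ofNatIsoLeft (pullLIso ι E)).rightAdjointUniq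
    (ModSite.sheafHomAdj (O := P.sheaf) ((Scheme.Modules.pushforward ι).obj E))

/-- `ι_* Hom(F, R -) ≅ Hom(ι_* (E ⊗ F), -)`. -/
noncomputable def pushHomRIso (F : X.Modules) [ModSite.HasSheafHom (O := X.sheaf) F]
    [ModSite.HasSheafHom (O := P.sheaf) ((Scheme.Modules.pushforward ι).obj (CohB1.tensorMod E F))] :
    R ι E ⋙ (homMod F ⋙ Scheme.Modules.pushforward ι) ≅
      homMod ((Scheme.Modules.pushforward ι).obj (CohB1.tensorMod E F)) :=
  let a := ((Scheme.Modules.pullbackPushforwardAdjunction ι).comp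
    (((ModSite.sheafHomAdj (O := X.sheaf) F).ofNatIsoLeft (tensorRightBiIso F).symm).comp (adjR ι E)))
  let e : Scheme.Modules.pullback ι ⋙ tensorRightF F ⋙ L ι E ≅
      (ModSite.tensorBi P.sheaf).flip.obj ((Scheme.Modules.pushforward ι).obj (CohB1.tensorMod E F)) :=
    Functor.isoWhiskerLeft _ ((Functor.associator _ _ _).symm ≪≫
      Functor.isoWhiskerRight (tripleIso E F) (Scheme.Modules.pushforward ι)) ≪≫
      (ClosedPush.thetaIso ι (CohB1.tensorMod E F)).symm ≪≫ tensorRightBiIso _
  (Functor.associator _ _ _).symm ≪≫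
    (a.ofNatIsoLeft e).rightAdjointUniq
      (ModSite.sheafHomAdj (O := P.sheaf) ((Scheme.Modules.pushforward ι).obj (CohB1.tensorMod E F)))

variable [HasInjectiveResolutions P.Modules]

/-- The derived functors of `R` are the modules descending `Ext^q(ι_* E, -)`. -/
theorem nonempty_rightDerived_R [ModSite.HasSheafHom (O := P.sheaf) ((Scheme.Modules.pushforward ι).obj E)]
    [HasInjectiveResolutions (ModSite.Mod P.sheaf)] (G : P.Modules) (q : ℕ) (M : X.Modules)
    (hM : Nonempty ((Scheme.Modules.pushforward ι).obj M ≅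
      (ModSite.extSh (O := P.sheaf) ((Scheme.Modules.pushforward ι).obj E) q).obj G)) :
    Nonempty (((R ι E).rightDerived q).obj G ≅ M) := by
  obtain ⟨e⟩ := hM
  haveI := ClosedPush.isIso_counit ι
  haveI : (Scheme.Modules.pushforward ι).IsRightAdjoint :=
    (Scheme.Modules.pullbackPushforwardAdjunction ι).isRightAdjoint
  haveI := ClosedPush.isLeftAdjoint_push ι
  haveI : PreservesFiniteLimits (Scheme.Modules.pushforward ι) := inferInstance
  haveI : PreservesFiniteColimits (Scheme.Modules.pushforward ι) := inferInstance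
  refine ⟨(Scheme.Modules.pullbackPushforwardAdjunction ι).fullyFaithfulROfIsIsoCounit.preimageIso
    ((Groth.L10.SiteCoh.rightDerivedCompIso (R ι E) (Scheme.Modules.pushforward ι) q G).symm ≪≫ ?_ ≪≫ e.symm)⟩
  exact (Groth.L10.SiteCoh.rightDerivedCongr (pushRIso ι E) q).app G

/-- Change of rings for global Ext. -/
theorem exists_ext_spectralSequence (hE : FlatMod.IsFinLocFree E) (F : X.Modules) (G : P.Modules)
    [ModSite.HasSheafHom (O := P.sheaf) ((Scheme.Modules.pushforward ι).obj E)]
    [HasInjectiveResolutions (ModSite.Mod P.sheaf)]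
    [HasExt.{u} X.Modules] [HasExt.{u} P.Modules]
    (M : ℕ → X.Modules)
    (hM : ∀ q : ℕ, Nonempty ((Scheme.Modules.pushforward ι).obj (M q) ≅
      (ModSite.extSh (O := P.sheaf) ((Scheme.Modules.pushforward ι).obj E) q).obj G))
    (H : ℤ → AddCommGrpCat.{u}) (Pg : ℤ → ℤ → AddCommGrpCat.{u})
    (hH : ∀ n : ℕ, Nonempty (H (n : ℤ) ≅
      AddCommGrpCat.of (Abelian.Ext ((Scheme.Modules.pushforward ι).obj (CohB1.tensorMod E F)) G n)))
    (hH₀ : ∀ n : ℤ, n < 0 → IsZero (H n))
    (hP : ∀ p q : ℕ, Nonempty (AddCommGrpCat.of (Abelian.Ext F (M q) p) ≅ Pg (p : ℤ) (q : ℤ)))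
    (hP₀ : ∀ p q : ℤ, ¬ (0 ≤ p ∧ 0 ≤ q) → IsZero (Pg p q)) :
    ∃ (ES : E₂CohomologicalSpectralSequence AddCommGrpCat.{u}) (a : SpSeq.Abutment ES H),
      (∀ n, a.IsFinite n) ∧ SpSeq.IsBounded ES ∧
      ∀ p q : ℤ, Nonempty ((ES.page 2 le_rfl).X (p, q) ≅ Pg p q) := by
  haveI := grothendieckAbelian_modules X
  haveI : EnoughInjectives X.Modules := inferInstance
  haveI : HasInjectiveResolutions X.Modules := inferInstance
  letI := HasDerivedCategory.standard X.Modules
  let eHom : R ι E ⋙ GrothSS.homFun F ≅ GrothSS.homFun ((L ι E).obj F) :=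
    haveI := (adjR ι E).left_adjoint_additive
    NatIso.ofComponents (fun N => AddEquiv.toAddCommGrpIso ((adjR ι E).homAddEquiv F N).symm)
      fun {N N'} g => by
        ext φ
        exact (adjR ι E).homEquiv_naturality_right_symm φ g
  refine GrothSS.exists_spectralSequence_of_iso (R ι E) (GrothSS.homFun F) (fun Q hQ q hq => ?_) G H Pg
    (fun n => ?_) hH₀ (fun p q => ?_) hP₀
  · obtain ⟨j, rfl⟩ : ∃ j, q = j + 1 := ⟨q - 1, by omega⟩
    haveI := injective_R ι (Groth.L29.DC.isFlat_of_isFinLocFree hE) Q hQ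
    exact (GrothSS.homFun F).isZero_rightDerived_obj_injective_succ j _
  · obtain ⟨e⟩ := GrothSS.nonempty_rightDerived_homFun ((Scheme.Modules.pushforward ι).obj (CohB1.tensorMod E F)) G n
    exact ⟨(hH n).some ≪≫ e.symm ≪≫ (Groth.L10.SiteCoh.rightDerivedCongr eHom.symm n).app G⟩
  · obtain ⟨e⟩ := GrothSS.nonempty_rightDerived_homFun F (M q) p
    exact ⟨((GrothSS.homFun F).rightDerived p).mapIso (nonempty_rightDerived_R ι E G q (M q) (hM q)).some ≪≫
      e ≪≫ (hP p q).some⟩

/-- Change of rings for Ext sheaves. -/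
theorem exists_extSh_spectralSequence (hE : FlatMod.IsFinLocFree E) (F : X.Modules) (G : P.Modules)
    [ModSite.HasSheafHom (O := P.sheaf) ((Scheme.Modules.pushforward ι).obj E)]
    [ModSite.HasSheafHom (O := P.sheaf) ((Scheme.Modules.pushforward ι).obj (CohB1.tensorMod E F))]
    [HasInjectiveResolutions (ModSite.Mod P.sheaf)]
    [ModSite.HasSheafHom (O := X.sheaf) F] [HasInjectiveResolutions (ModSite.Mod X.sheaf)]
    (M : ℕ → X.Modules)
    (hM : ∀ q : ℕ, Nonempty ((Scheme.Modules.pushforward ι).obj (M q) ≅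
      (ModSite.extSh (O := P.sheaf) ((Scheme.Modules.pushforward ι).obj E) q).obj G))
    (H : ℤ → P.Modules) (Pg : ℤ → ℤ → P.Modules)
    (hH : ∀ n : ℕ, Nonempty (H (n : ℤ) ≅
      (ModSite.extSh (O := P.sheaf) ((Scheme.Modules.pushforward ι).obj (CohB1.tensorMod E F)) n).obj G))
    (hH₀ : ∀ n : ℤ, n < 0 → IsZero (H n))
    (hP : ∀ p q : ℕ, Nonempty ((Scheme.Modules.pushforward ι).obj ((ModSite.extSh (O := X.sheaf) F p).obj (M q)) ≅
      Pg (p : ℤ) (q : ℤ)))
    (hP₀ : ∀ p q : ℤ, ¬ (0 ≤ p ∧ 0 ≤ q) → IsZero (Pg p q)) :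
    ∃ (ES : E₂CohomologicalSpectralSequence P.Modules) (a : SpSeq.Abutment ES H),
      (∀ n, a.IsFinite n) ∧ SpSeq.IsBounded ES ∧
      ∀ p q : ℤ, Nonempty ((ES.page 2 le_rfl).X (p, q) ≅ Pg p q) := by
  haveI := grothendieckAbelian_modules X
  haveI : EnoughInjectives X.Modules := inferInstance
  haveI : HasInjectiveResolutions X.Modules := inferInstance
  letI := HasDerivedCategory.standard X.Modules
  haveI := ClosedPush.isLeftAdjoint_push ι
  haveI : (Scheme.Modules.pushforward ι).IsRightAdjoint :=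
    (Scheme.Modules.pullbackPushforwardAdjunction ι).isRightAdjoint
  haveI : PreservesFiniteLimits (Scheme.Modules.pushforward ι) := inferInstance
  haveI : PreservesFiniteColimits (Scheme.Modules.pushforward ι) := inferInstance
  haveI : (ModSite.sheafHom (O := X.sheaf) F).IsRightAdjoint := (ModSite.sheafHomAdj (O := X.sheaf) F).isRightAdjoint
  let S : X.Modules ⥤ P.Modules := homMod F ⋙ Scheme.Modules.pushforward ι
  haveI : S.Additive := inferInstance
  haveI : PreservesFiniteLimits S := comp_preservesFiniteLimits _ _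
  refine GrothSS.exists_spectralSequence_of_iso (R ι E) S (fun Q hQ q hq => ?_) G H Pg
    (fun n => ?_) hH₀ (fun p q => ?_) hP₀
  · obtain ⟨j, rfl⟩ : ∃ j, q = j + 1 := ⟨q - 1, by omega⟩
    haveI := injective_R ι (Groth.L29.DC.isFlat_of_isFinLocFree hE) Q hQ
    exact S.isZero_rightDerived_obj_injective_succ j _
  · exact ⟨(hH n).some ≪≫ (Groth.L10.SiteCoh.rightDerivedCongr (pushHomRIso ι E F).symm n).app G⟩
  · exact ⟨(S.rightDerived p).mapIso (nonempty_rightDerived_R ι E G q (M q) (hM q)).some ≪≫
      Groth.L10.SiteCoh.rightDerivedCompIso (homMod F) (Scheme.Modules.pushforward ι) p (M q) ≪≫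
      (hP p q).some⟩

end Groth.L17.ChangeRings
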