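import Groth.Agent.L17.CohSections
import Groth.Agent.L16.CohLinear
import Groth.Agent.L18.KerReduced
import Groth.Agent.L19.ConormalAffine
import Groth.Agent.L20.Strat.Stratification
import Groth.Agent.L16.Devissage
import Mathlib.AlgebraicGeometry.Morphisms.Affine
import Mathlib.AlgebraicGeometry.Morphisms.ClosedImmersion
import Mathlib.Algebra.Category.ModuleCat.Sheaf.PullbackFree

/-!
Serre's criterion of affineness.
-/

set_option autoImplicit false
set_option backward.defeqAttrib.useBackward true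
set_option backward.isDefEq.respectTransparency false

universe u

open CategoryTheory CategoryTheory.Limits AlgebraicGeometry TopologicalSpace Opposite CategoryTheory.Abelian
open Groth.L10.SiteCoh

noncomputable section

namespace Groth.L17.Serre

variable {X : Scheme.{u}}

instance : (toAbShF X).Faithful := inferInstanceAs (SheafOfModules.toSheaf.{u} X.ringCatSheaf).Faithful

/-- The structure module to the direct image of the structure module. -/
def toPushUnit {T : Scheme.{u}} (i : T ⟶ X) :
    Coh.structureModule X ⟶ (Coh.push i).obj (Coh.structureModule T) :=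
  SheafOfModules.unitToPushforwardObjUnit i.toRingCatSheafHom

theorem toPushUnit_app {T : Scheme.{u}} (i : T ⟶ X) (V : X.Opens) (r : Γ(X, V)) :
    (toPushUnit i).val.app (op V) r = i.app V r := rfl

/-- Surjectivity near every point gives an epimorphism. -/
theorem epi_of_locally_surjective {M N : X.Modules} (φ : M ⟶ N)
    (h : ∀ (U : X.Opens) (x : X), x ∈ U → ∀ t : Γ(N, U), ∃ (V : X.Opens) (hV : V ≤ U), x ∈ V ∧
      ∃ s : Γ(M, V), φ.val.app (op V) s = N.presheaf.map (homOfLE hV).op t) : Epi φ := by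
  haveI : Epi ((toAbShF X).map φ) := by
    rw [← CategoryTheory.Sheaf.isLocallySurjective_iff_epi']
    refine (TopCat.Presheaf.isLocallySurjective_iff (X := X.toTopCat) ((toAbShF X).map φ).hom).2 fun U t x hx => ?_
    obtain ⟨V, hV, hxV, s, hs⟩ := h U x hx t
    exact ⟨V, hV, ⟨s, hs⟩, hxV⟩
  exact (toAbShF X).epi_of_epi_map ‹_›

/-- Finite powers of the structure module are quasi-coherent. -/
theorem isQCoh_pi (n : ℕ) : Coh.IsQCoh (∏ᶜ fun _ : Fin n => Coh.structureModule X) := by
  haveI := Groth.L19.Conormal.isQCoh_structureModule X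
  refine Groth.L00.Local.isQCoh_of_tilde_charts _ fun x => ?_
  obtain ⟨_, ⟨U, hU, rfl⟩, hxU, -⟩ :=
    X.isBasis_affineOpens.exists_subset_of_mem_open (Set.mem_univ x) isOpen_univ
  let j := hU.fromSpec
  obtain ⟨N, ⟨e⟩⟩ := Groth.L00.Local.exists_tilde_iso_restrict j (Coh.structureModule X)
  haveI : PreservesFiniteLimits (tilde.functor Γ(X, U)) := Groth.L18.TildeF.tilde_preservesFiniteLimits
  exact ⟨_, j, inferInstance, ∏ᶜ fun _ : Fin n => N, hU.opensRange_fromSpec.ge hxU,
    ⟨PreservesProduct.iso (Scheme.Modules.restrictFunctor j) _ ≪≫ Pi.mapIso (fun _ => e) ≪≫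
      (PreservesProduct.iso (tilde.functor Γ(X, U)) _).symm⟩⟩

/-- Finite products of quasi-coherent modules are quasi-coherent. -/
theorem isQCoh_piObj {ι : Type u} [Finite ι] (M : ι → X.Modules) (hM : ∀ i, Coh.IsQCoh (M i)) :
    Coh.IsQCoh (∏ᶜ M) := by
  refine Groth.L00.Local.isQCoh_of_tilde_charts _ fun x => ?_
  obtain ⟨_, ⟨U, hU, rfl⟩, hxU, -⟩ :=
    X.isBasis_affineOpens.exists_subset_of_mem_open (Set.mem_univ x) isOpen_univ
  let j := hU.fromSpec
  have hN := fun i => @Groth.L00.Local.exists_tilde_iso_restrict X Γ(X, U) j _ (M i) (hM i)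
  choose N e using hN
  haveI : PreservesFiniteLimits (tilde.functor Γ(X, U)) := Groth.L18.TildeF.tilde_preservesFiniteLimits
  exact ⟨_, j, inferInstance, ∏ᶜ N, hU.opensRange_fromSpec.ge hxU,
    ⟨PreservesProduct.iso (Scheme.Modules.restrictFunctor j) _ ≪≫ Pi.mapIso (fun i => (e i).some) ≪≫
      (PreservesProduct.iso (tilde.functor Γ(X, U)) _).symm⟩⟩

/-- Cohomology of a finite product vanishes if that of the factors does. -/
theorem subsingleton_HH_piObj {ι : Type u} [Finite ι] (M : ι → X.Modules) (n : ℕ)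
    (h : ∀ i, Subsingleton (Coh.HH X (M i) n)) : Subsingleton (Coh.HH X (∏ᶜ M) n) := by
  classical
  cases nonempty_fintype ι
  let δ : ∀ i, M i ⟶ ∏ᶜ M := fun i =>
    Pi.lift fun k => if hk : i = k then eqToHom (congrArg M hk) else 0
  have hid : ∑ i, Pi.π M i ≫ δ i = 𝟙 (∏ᶜ M) := by
    refine Pi.hom_ext _ _ fun k => ?_
    simp only [Preadditive.sum_comp, Category.assoc, Category.id_comp, δ, Pi.lift_π]
    rw [Finset.sum_eq_single k (fun i _ hi => by rw [dif_neg hi, comp_zero])
      (fun hk => absurd (Finset.mem_univ k) hk)]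
    simp
  refine subsingleton_of_forall_eq 0 fun x => ?_
  rw [← Groth.L16.CohLinear.hmap_id n x, Groth.L16.CohLinear.hmap_apply, ← hid, Groth.L16.CohLinear.tm,
    Functor.map_sum]
  rw [Groth.L16.CohLinear.hMap_sum]
  refine Finset.sum_eq_zero fun i _ => ?_
  rw [Functor.map_comp, Sheaf.H.map_comp_apply]
  haveI := h i
  rw [Subsingleton.elim (α := Coh.HH X (M i) n) (Sheaf.H.map ((Groth.L16.CohLinear.tF X).map (Pi.π M i)) n x) 0,
    map_zero]

/-- Epimorphisms with quasi-coherent kernel of vanishing `H¹` are surjective on global sections. -/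
theorem surjective_top {M N : X.Modules} (φ : M ⟶ N) [Epi φ]
    (h : Subsingleton (Coh.HH X (kernel φ) 1)) :
    Function.Surjective (φ.val.app (op ⊤)).hom := by
  have hS : (ShortComplex.mk (kernel.ι φ) φ (kernel.condition φ)).ShortExact :=
    { exact := ShortComplex.exact_kernel φ }
  have hA := hS.map_of_exact (toAbShF X)
  haveI : Subsingleton (Ext (fs (Opens.grothendieckTopology X) ⊤)
      ((ShortComplex.mk (kernel.ι φ) φ (kernel.condition φ)).map (toAbShF X)).X₁ 1) :=
    (hEquiv (Groth.L10.TopCoh.topTerminal X.toTopCat) (Coh.toAb (kernel φ)) 1).symm.toEquiv.subsingleton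
  exact surjective_sections_of_subsingleton hA (⊤ : X.Opens)

/-- Vanishing of `H¹` in an extension. -/
theorem subsingleton_of_shortExact {S : ShortComplex X.Modules} (hS : S.ShortExact)
    (h₁ : Subsingleton (Coh.HH X S.X₁ 1)) (h₃ : Subsingleton (Coh.HH X S.X₃ 1)) :
    Subsingleton (Coh.HH X S.X₂ 1) := by
  refine subsingleton_of_forall_eq 0 fun x => ?_
  obtain ⟨y, hy⟩ := (Groth.L16.CohLinear.exact_hmap_hmap hS 1 x).1 (Subsingleton.elim _ _)
  rw [← hy, Subsingleton.elim y 0, map_zero]

/-- Vanishing on ideals gives vanishing on submodules of finite free modules. -/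
theorem subsingleton_of_sub_pi
    (h : ∀ (I : X.Modules) (i : I ⟶ Coh.structureModule X), Mono i →
      Coh.IsQCoh I → Subsingleton (Coh.HH X I 1)) :
    ∀ (n : ℕ) (K : X.Modules) (j : K ⟶ ∏ᶜ fun _ : Fin n => Coh.structureModule X), Mono j →
      Coh.IsQCoh K → Subsingleton (Coh.HH X K 1)
  | 0, K, j, hj, hK => by
    have hz : IsZero K := by
      rw [IsZero.iff_id_eq_zero, ← cancel_mono j]
      exact limit.hom_ext fun i => i.as.elim0
    exact h K 0 (Preadditive.mono_of_cancel_zero _ fun g _ => hz.eq_of_tgt _ _) hK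
  | n + 1, K, j, hj, hK => by
    haveI := hj
    haveI := hK
    haveI := Groth.L19.Conormal.isQCoh_structureModule X
    let a : K ⟶ Coh.structureModule X := j ≫ Pi.π _ 0
    haveI : Coh.IsQCoh (kernel a) := Groth.L20.Strat.isQCoh_kernel a
    refine subsingleton_of_shortExact (Groth.L16.Devissage.shortExact_kernel_image a) ?_ ?_
    · refine subsingleton_of_sub_pi h n (kernel a)
        (Pi.lift fun i => kernel.ι a ≫ j ≫ Pi.π _ i.succ) ?_ inferInstance
      refine Preadditive.mono_of_cancel_zero _ fun {P} g hg => ?_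
      rw [← cancel_mono (kernel.ι a), ← cancel_mono j, zero_comp, zero_comp]
      refine Pi.hom_ext _ _ fun i => ?_
      rw [zero_comp]
      refine Fin.cases ?_ (fun i' => ?_) i
      · simp only [Category.assoc]
        rw [show kernel.ι a ≫ j ≫ Pi.π _ 0 = 0 from kernel.condition a, comp_zero]
      · have := congrArg (· ≫ Pi.π _ i') hg
        simpa using this
    · haveI : Coh.IsQCoh (cokernel a) := Groth.L16.Devissage.isQCoh_cokernel a
      exact h _ (Abelian.image.ι a) inferInstance (Groth.L20.Strat.isQCoh_kernel (cokernel.π a))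

/-- Serre's criterion: surjectivity onto global sections along epimorphisms from finite free modules
with kernels having no `H¹`. -/
theorem isAffine_of_surjective [CompactSpace X]
    (hc : ∀ (T : Scheme.{u}) (i : T ⟶ X), IsClosedImmersion i → Function.Surjective (i.app ⊤))
    (hf : ∀ (n : ℕ) (φ : (∏ᶜ fun _ : Fin n => Coh.structureModule X) ⟶ Coh.structureModule X), Epi φ →
      Function.Surjective (φ.val.app (op ⊤)).hom) : IsAffine X := by
  classical
  -- functions with affine non-vanishing locus around closed points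
  have hpt : ∀ x : X, IsClosed ({x} : Set X) → ∃ f : Γ(X, ⊤), IsAffineOpen (X.basicOpen f) ∧ x ∈ X.basicOpen f := by
    intro x hx
    obtain ⟨_, ⟨U, hU, rfl⟩, hxU, -⟩ :=
      X.isBasis_affineOpens.exists_subset_of_mem_open (Set.mem_univ x) isOpen_univ
    let Z : Closeds X := ⟨(U : Set X)ᶜ ∪ {x}, U.2.isClosed_compl.union hx⟩
    let I := Scheme.IdealSheafData.vanishingIdeal Z
    let i := I.subschemeι
    have hr : Set.range i = (U : Set X)ᶜ ∪ {x} := by
      rw [Scheme.IdealSheafData.range_subschemeι, Groth.L18.support_vanishingIdeal]; rfl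
    let A : I.subscheme.Opens := i ⁻¹ᵁ U
    let B : I.subscheme.Opens := ⟨(i ⁻¹' {x})ᶜ, (hx.preimage i.continuous).isOpen_compl⟩
    have hAB : A ⊓ B = ⊥ := by
      rw [eq_bot_iff]
      rintro z ⟨hzA, hzB⟩
      rcases hr.le ⟨z, rfl⟩ with h' | h'
      · exact h' hzA
      · exact hzB h'
    have hcov : ∀ z : I.subscheme, z ∈ A ∨ z ∈ B := fun z => by
      by_cases h' : i z = x
      · left; show i z ∈ U; rw [h']; exact hxU
      · right; exact h'
    -- the function which is 1 at x and 0 elsewhere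
    obtain ⟨e, heA, heB⟩ : ∃ e : Γ(I.subscheme, ⊤),
        I.subscheme.presheaf.map (homOfLE le_top).op e = (1 : Γ(I.subscheme, A)) ∧
        I.subscheme.presheaf.map (homOfLE le_top).op e = (0 : Γ(I.subscheme, B)) := by
      let W : Bool → I.subscheme.Opens := fun b => if b then A else B
      let s : ∀ b, Γ(I.subscheme, W b) := fun b => if b then 1 else 0
      obtain ⟨e, he, -⟩ := I.subscheme.sheaf.existsUnique_gluing' W ⊤ (fun b => homOfLE le_top)
        (fun z _ => by
          rcases hcov z with h' | h'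
          · exact Opens.mem_iSup.2 ⟨true, h'⟩
          · exact Opens.mem_iSup.2 ⟨false, h'⟩)
        s (fun b b' => by
          cases b <;> cases b'
          · rfl
          · have h' : Subsingleton Γ(I.subscheme, W false ⊓ W true) := by
              rw [show W false ⊓ W true = ⊥ from (inf_comm _ _).trans hAB]
              exact CommRingCat.subsingleton_of_isTerminal I.subscheme.sheaf.isTerminalOfEmpty
            exact @Subsingleton.elim _ h' _ _
          · have h' : Subsingleton Γ(I.subscheme, W true ⊓ W false) := by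
              rw [show W true ⊓ W false = ⊥ from hAB]
              exact CommRingCat.subsingleton_of_isTerminal I.subscheme.sheaf.isTerminalOfEmpty
            exact @Subsingleton.elim _ h' _ _
          · rfl)
      exact ⟨e, he true, he false⟩
    obtain ⟨f, hfe⟩ := hc _ i inferInstance e
    have hxf : x ∈ X.basicOpen f := by
      obtain ⟨z, hz⟩ := hr.ge (Or.inr rfl : x ∈ (U : Set X)ᶜ ∪ {x})
      rw [← hz]
      show z ∈ i ⁻¹ᵁ X.basicOpen f
      rw [Scheme.preimage_basicOpen]
      show z ∈ I.subscheme.basicOpen ((i.app ⊤) f)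
      rw [hfe, I.subscheme.mem_basicOpen_top, ← I.subscheme.presheaf.germ_res_apply (homOfLE le_top)
        z (show z ∈ A by show i z ∈ U; rw [hz]; exact hxU) e, heA, map_one]
      exact isUnit_one
    have hfU : X.basicOpen f ≤ U := by
      intro y hy
      by_contra hyU
      obtain ⟨z, rfl⟩ := hr.ge (Or.inl hyU : y ∈ (U : Set X)ᶜ ∪ {x})
      have hzB : z ∈ B := fun h' => hyU (by rw [show i z = x from h']; exact hxU)
      have h' : z ∈ I.subscheme.basicOpen ((i.app ⊤) f) := by
        rw [← Scheme.preimage_basicOpen]; exact hy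
      rw [hfe, I.subscheme.mem_basicOpen_top, ← I.subscheme.presheaf.germ_res_apply (homOfLE le_top)
        z hzB e, heB, map_zero] at h'
      exact not_isUnit_zero h'
    refine ⟨f, ?_, hxf⟩
    have : X.basicOpen (X.presheaf.map (homOfLE (le_top : U ≤ ⊤)).op f) = X.basicOpen f := by
      rw [X.basicOpen_res]; exact inf_eq_right.2 hfU
    rw [← this]
    exact hU.basicOpen _
  -- they cover
  let G : Set Γ(X, ⊤) := {f | IsAffineOpen (X.basicOpen f)}
  obtain ⟨t, ht⟩ : ∃ t : Finset G, (Set.univ : Set X) ⊆ ⋃ f ∈ t, (X.basicOpen f.1 : Set X) := by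
    refine isCompact_univ.elim_finite_subcover (fun f : G => (X.basicOpen f.1 : Set X))
      (fun f => (X.basicOpen f.1).2) fun y _ => ?_
    by_contra hy
    obtain ⟨x, hxy, hx⟩ := IsClosed.exists_closed_singleton (S := closure {y}) isClosed_closure
      ⟨y, subset_closure rfl⟩
    obtain ⟨f, hf₁, hf₂⟩ := hpt x hx
    exact hy (Set.mem_iUnion.2 ⟨⟨f, hf₁⟩,
      (specializes_iff_mem_closure.2 hxy).mem_open (X.basicOpen f).2 hf₂⟩)
  let g : Fin t.card → Γ(X, ⊤) := fun k => (t.equivFin.symm k).1.1
  refine isAffine_of_isAffineOpen_basicOpen (Set.range g) ?_ (by rintro _ ⟨k, rfl⟩; exact (t.equivFin.symm k).1.2)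
  let φ : (∏ᶜ fun _ : Fin t.card => Coh.structureModule X) ⟶ Coh.structureModule X :=
    ∑ k, Pi.π _ k ≫ (CohSections.smulM (g k)).app (Coh.structureModule X)
  have hι : ∀ k, (Pi.lift fun l => if l = k then 𝟙 (Coh.structureModule X) else 0) ≫ φ =
      (CohSections.smulM (g k)).app (Coh.structureModule X) := by
    intro k
    simp [φ, Preadditive.comp_sum]
    rw [Finset.sum_eq_single k (fun l _ hl => by simp [hl]) (fun h' => absurd (Finset.mem_univ k) h')]
    simp
  haveI hφ : Epi φ := by
    refine epi_of_locally_surjective φ fun U x hx s => ?_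
    obtain ⟨f, hft, hxf⟩ := Set.mem_iUnion₂.1 (ht (Set.mem_univ x))
    let k := t.equivFin ⟨f, hft⟩
    have hgk : g k = f.1 := by simp [g, k]
    have hu : IsUnit (X.presheaf.map (homOfLE (le_top : U ⊓ X.basicOpen f.1 ≤ ⊤)).op f.1) := by
      have h1 := (X.toRingedSpace.isUnit_res_basicOpen f.1).map
        (X.presheaf.map (homOfLE (inf_le_right : U ⊓ X.basicOpen f.1 ≤ X.basicOpen f.1)).op).hom
      have e : X.presheaf.map (homOfLE (le_top : U ⊓ X.basicOpen f.1 ≤ ⊤)).op f.1 =
          X.presheaf.map (homOfLE (inf_le_right : U ⊓ X.basicOpen f.1 ≤ X.basicOpen f.1)).op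
            (X.presheaf.map (homOfLE (le_top : X.basicOpen f.1 ≤ ⊤)).op f.1) :=
        congr($(X.presheaf.map_comp (homOfLE (le_top : X.basicOpen f.1 ≤ ⊤)).op
          (homOfLE (inf_le_right : U ⊓ X.basicOpen f.1 ≤ X.basicOpen f.1)).op) f.1)
      exact (congrArg IsUnit e).mpr h1
    let s' : Γ(X, U ⊓ X.basicOpen f.1) := X.presheaf.map (homOfLE inf_le_left).op s
    refine ⟨U ⊓ X.basicOpen f.1, inf_le_left, ⟨hx, hxf⟩,
      (Pi.lift fun l => if l = k then 𝟙 (Coh.structureModule X) else 0).val.app (op _)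
        (((hu.unit⁻¹ : _) : Γ(X, U ⊓ X.basicOpen f.1)) * s'), ?_⟩
    refine (congr($(hι k).val.app (op _) _)).trans ?_
    show X.presheaf.map (homOfLE le_top).op (g k) * (((hu.unit⁻¹ : _) : Γ(X, U ⊓ X.basicOpen f.1)) * s') = s'
    rw [hgk, ← mul_assoc, IsUnit.mul_val_inv, one_mul]
  obtain ⟨s, hs⟩ := hf _ φ hφ (1 : Γ(X, ⊤))
  rw [Ideal.eq_top_iff_one, ← hs]
  have hsum : (φ.val.app (op ⊤)).hom s = ∑ k, g k *
      (show Γ(X, ⊤) from ((Pi.π _ k : (∏ᶜ fun _ : Fin t.card => Coh.structureModule X) ⟶ _).val.app (op ⊤)).hom s) := by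
    have h' : (toAbShF X).map φ = ∑ k, (toAbShF X).map (Pi.π _ k) ≫ Coh.smulAb (Coh.structureModule X) (g k) := by
      simp only [φ, Functor.map_sum, Functor.map_comp]
      rfl
    let ev : (Coh.toAb (∏ᶜ fun _ : Fin t.card => Coh.structureModule X) ⟶ Coh.toAb (Coh.structureModule X)) →+
        Γ(X, ⊤) :=
      AddMonoidHom.mk' (fun ψ => ψ.hom.app (op ⊤) s) (fun _ _ => rfl)
    have h'' := congrArg ev h'
    rw [map_sum] at h''
    refine h''.trans (Finset.sum_congr rfl fun k _ => ?_)
    exact congrArg (· * _) (congr($(X.presheaf.map_id (op ⊤)) (g k)))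
  rw [hsum]
  exact Ideal.sum_mem _ fun k _ => Ideal.mul_mem_right _ _ (Ideal.subset_span ⟨k, rfl⟩)

/-- Serre's criterion with ideals. -/
theorem isAffine_of_H1 [CompactSpace X]
    (h : ∀ (I : X.Modules) (i : I ⟶ Coh.structureModule X), Mono i →
      Coh.IsQCoh I → Subsingleton (Coh.HH X I 1)) : IsAffine X := by
  haveI := Groth.L19.Conormal.isQCoh_structureModule X
  refine isAffine_of_surjective (fun T i hi => ?_) (fun n φ hφ => ?_)
  · haveI := hi
    haveI := Groth.L19.Conormal.isQCoh_structureModule T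
    haveI : Coh.IsQCoh ((Coh.push i).obj (Coh.structureModule T)) := Groth.L16.QcqsPush.isQCoh_push _ i
    haveI : Epi (toPushUnit i) := epi_of_locally_surjective _ fun U x hx t => by
      obtain ⟨_, ⟨V, hV, rfl⟩, hxV, hVU⟩ :=
        X.isBasis_affineOpens.exists_subset_of_mem_open (show x ∈ (U : Set X) from hx) U.2
      obtain ⟨s, hs⟩ := i.app_surjective V hV
        ((show Γ(T, i ⁻¹ᵁ V) from ((Coh.push i).obj (Coh.structureModule T)).presheaf.map (homOfLE hVU).op t))
      exact ⟨V, hVU, hxV, s, hs⟩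
    exact fun y => surjective_top (toPushUnit i) (h _ (kernel.ι _) inferInstance (Groth.L20.Strat.isQCoh_kernel _)) y
  · haveI := hφ
    haveI := isQCoh_pi (X := X) n
    exact surjective_top φ (subsingleton_of_sub_pi h n _ (kernel.ι φ) inferInstance
      (Groth.L20.Strat.isQCoh_kernel φ))

end Groth.L17.Serre
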