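import Groth.Agent.L17.ClosedPush
import Groth.Agent.L16.CohClosedPush
import Groth.Agent.L20.ModStalk
import Groth.Prelude.Def_ClSub2
import Mathlib.AlgebraicGeometry.IdealSheaf.Functorial
import Mathlib.RingTheory.Ideal.Maps
import Mathlib.LinearAlgebra.TensorProduct.RightExactness

/-!
The unit `G ⟶ i_* i^* G` of a closed immersion is an isomorphism exactly when the ideal of `i` kills
the quasi-coherent module `G`; the annihilator ideal of a quasi-coherent module of finite type.
-/

set_option autoImplicit false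
set_option backward.isDefEq.respectTransparency false
set_option backward.isDefEq.respectTransparency.types false
set_option linter.style.haveILetI false

universe u

open CategoryTheory CategoryTheory.Limits AlgebraicGeometry Opposite TopologicalSpace TensorProduct

noncomputable section

namespace Groth.L17.KilledUnit

open Groth.L00.Tensor Groth.L00.StalkTensor Groth.L00.PullStalk Groth.L00.Sky
open Groth.L18.Frame (rs ro rs_rs rs_smul)

/-- A module killed by the kernel of a surjection does not change under extension of scalars. -/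
theorem injective_mk_one {R S M : Type u} [CommRing R] [CommRing S] [Algebra R S] [AddCommGroup M] [Module R M]
    (hs : Function.Surjective (algebraMap R S)) (hk : ∀ r ∈ RingHom.ker (algebraMap R S), ∀ m : M, r • m = 0) :
    Function.Injective (TensorProduct.mk R S M 1) := by
  rw [← LinearMap.ker_eq_bot, LinearMap.ker_eq_bot']
  intro m hm
  let K : Submodule R R := RingHom.ker (algebraMap R S)
  have hex : Function.Exact K.subtype (Algebra.linearMap R S) := fun r => by
    constructor
    · exact fun h => ⟨⟨r, h⟩, rfl⟩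
    · rintro ⟨k, rfl⟩; exact k.2
  have hex' := rTensor_exact M hex hs
  have h0 : (Algebra.linearMap R S).rTensor M ((1 : R) ⊗ₜ[R] m) = 0 := by
    rw [LinearMap.rTensor_tmul, Algebra.linearMap_apply, map_one]
    exact hm
  obtain ⟨w, hw⟩ := (hex' _).1 h0
  have hz : ∀ w : K ⊗[R] M, TensorProduct.lid R M (K.subtype.rTensor M w) = 0 := fun w => by
    induction w using TensorProduct.induction_on with
    | zero => simp
    | tmul k m => simpa using hk k.1 k.2 m
    | add a b ha hb => simp only [map_add, ha, hb, add_zero]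
  have := hz w
  rw [hw, TensorProduct.lid_tmul, one_smul] at this
  exact this

variable {Z X : Scheme.{u}} (i : Z ⟶ X)

theorem germ_smul₀ (G : X.Modules) {U : X.Opens} {x : X} (hx : x ∈ U) (a : Γ(X, U))
    (m : (pre G).obj (op U)) :
    germ (pre G) x hx (a • m) = (X.presheaf.germ U x hx a : X.presheaf.stalk x) • germ (pre G) x hx m :=
  germ_smul' (pre G) x hx a m

variable [IsClosedImmersion i]

/-- If the unit is injective on all sections, the ideal kills the module. -/
theorem killed_of_isIso (G : X.Modules)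
    (h : IsIso ((Scheme.Modules.pullbackPushforwardAdjunction i).unit.app G)) :
    ClSub.KilledByIdeal i.ker G := by
  intro U a ha m
  let η := (Scheme.Modules.pullbackPushforwardAdjunction i).unit.app G
  have hinj : Function.Injective (η.app U.1) :=
    (ConcreteCategory.bijective_of_isIso (η.app U.1)).1
  apply hinj
  refine (Scheme.Modules.Hom.app_smul η a m).trans ?_
  rw [map_zero]
  refine (push_smul i _ U.1 a _).trans ?_
  rw [Scheme.Hom.ker_apply, RingHom.mem_ker] at ha
  exact (congrArg (fun b : Γ(Z, i ⁻¹ᵁ U.1) => b • (show Γ((Scheme.Modules.pullback i).obj G, i ⁻¹ᵁ U.1) from η.app U.1 m)) ha).trans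
    (zero_smul Γ(Z, i ⁻¹ᵁ U.1) _)

/-- The kernel of the map of local rings kills the stalk. -/
theorem smul_eq_zero_of_killed (G : X.Modules) [Coh.IsQCoh G] (hk : ClSub.KilledByIdeal i.ker G) (z : Z)
    (r : X.presheaf.stalk (i z)) (hr : φ i z r = (0 : Z.presheaf.stalk z)) (q : St (pre G) (i z)) :
    r • q = 0 := by
  obtain ⟨_, ⟨U, hU, rfl⟩, hxU, -⟩ :=
    X.isBasis_affineOpens.exists_subset_of_mem_open (Set.mem_univ (i z)) isOpen_univ
  letI := X.presheaf.algebra_section_stalk ⟨i z, hxU⟩
  haveI := hU.isLocalization_stalk ⟨i z, hxU⟩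
  have hzU : z ∈ i ⁻¹ᵁ U := hxU
  have hV : IsAffineOpen (i ⁻¹ᵁ U) := hU.preimage i
  letI := Z.presheaf.algebra_section_stalk ⟨z, hzU⟩
  haveI := hV.isLocalization_stalk ⟨z, hzU⟩
  obtain ⟨⟨a, t⟩, hat⟩ := IsLocalization.surj (hU.primeIdealOf ⟨i z, hxU⟩).asIdeal.primeCompl r
  have hφa : algebraMap Γ(Z, i ⁻¹ᵁ U) (Z.presheaf.stalk z) (i.app U a) = 0 := by
    refine (Scheme.Hom.germ_stalkMap_apply i U z hxU a).symm.trans ?_
    show φ i z (algebraMap Γ(X, U) (X.presheaf.stalk (i z)) a) = (0 : Z.presheaf.stalk z)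
    rw [← hat, map_mul, hr, zero_mul]
  obtain ⟨c, hc⟩ := (IsLocalization.map_eq_zero_iff (hV.primeIdealOf ⟨z, hzU⟩).asIdeal.primeCompl
    (Z.presheaf.stalk z) (i.app U a)).1 hφa
  obtain ⟨b, hb⟩ := i.app_surjective U hU c.1
  have hbu : IsUnit (X.presheaf.germ U (i z) hxU b) := by
    refine isUnit_of_map_unit (i.stalkMap z).hom _ ?_
    rw [show (i.stalkMap z).hom (X.presheaf.germ U (i z) hxU b) = Z.presheaf.germ (i ⁻¹ᵁ U) z hzU (i.app U b) from
      Scheme.Hom.germ_stalkMap_apply i U z hxU b, hb]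
    exact IsLocalization.map_units (Z.presheaf.stalk z) c
  have hba : b * a ∈ i.ker.ideal ⟨U, hU⟩ := by
    rw [Scheme.Hom.ker_apply, RingHom.mem_ker, map_mul]
    exact (congrArg (· * _) hb).trans hc
  letI := Groth.L20.ModStalk.stalkModule G hxU
  haveI := Groth.L20.ModStalk.isLocalizedModule_germ G hU hxU
  obtain ⟨⟨m, s⟩, hs⟩ := IsLocalizedModule.surj (hU.primeIdealOf ⟨i z, hxU⟩).asIdeal.primeCompl
    (Groth.L20.ModStalk.germₗ G hxU) q
  have hs' : (X.presheaf.germ U (i z) hxU s : X.presheaf.stalk (i z)) • q = germ (pre G) (i z) hxU m := hs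
  have ht : IsUnit (X.presheaf.germ U (i z) hxU t.1) := IsLocalization.map_units (X.presheaf.stalk (i z)) t
  have hsu : IsUnit (X.presheaf.germ U (i z) hxU s.1) := IsLocalization.map_units (X.presheaf.stalk (i z)) s
  rw [← hbu.smul_eq_zero, ← ht.smul_eq_zero, ← hsu.smul_eq_zero]
  simp only [smul_smul]
  have hat' : r * X.presheaf.germ U (i z) hxU t.1 = X.presheaf.germ U (i z) hxU a := hat
  rw [show X.presheaf.germ U (i z) hxU s.1 * (X.presheaf.germ U (i z) hxU t.1 * (X.presheaf.germ U (i z) hxU b * r))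
      = X.presheaf.germ U (i z) hxU (b * a) * X.presheaf.germ U (i z) hxU s.1 by
    rw [map_mul, ← hat']; ring]
  rw [← smul_smul]
  refine (congrArg _ hs').trans ?_
  refine (germ_smul₀ G hxU (b * a) m).symm.trans ?_
  exact (congrArg (germ (pre G) (i z) hxU) (hk ⟨U, hU⟩ _ hba m)).trans (map_zero _)

/-- Away from the closed subscheme the killed module has zero stalks. -/
theorem subsingleton_stalk_of_killed (G : X.Modules) [Coh.IsQCoh G] (hk : ClSub.KilledByIdeal i.ker G) {x : X}
    (hx : x ∉ Set.range i) : Subsingleton (St (pre G) x) := by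
  obtain ⟨_, ⟨U, hU, rfl⟩, hxU, -⟩ :=
    X.isBasis_affineOpens.exists_subset_of_mem_open (Set.mem_univ x) isOpen_univ
  have hs : x ∉ i.ker.support := by
    intro h
    apply hx
    rw [← i.isClosedEmbedding.isClosed_range.closure_eq]
    have h' : x ∈ (i.ker.support : Set X) := h
    rw [Scheme.Hom.support_ker] at h'
    exact h'
  rw [Scheme.IdealSheafData.mem_support_iff_of_mem (U := ⟨U, hU⟩) hxU, Scheme.mem_zeroLocus_iff] at hs
  push Not at hs
  obtain ⟨a, ha, hxa⟩ := hs
  refine subsingleton_of_forall_eq 0 fun q => ?_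
  letI := Groth.L20.ModStalk.stalkModule G hxU
  haveI := Groth.L20.ModStalk.isLocalizedModule_germ G hU hxU
  obtain ⟨⟨m, s⟩, hs⟩ := IsLocalizedModule.surj (hU.primeIdealOf ⟨x, hxU⟩).asIdeal.primeCompl
    (Groth.L20.ModStalk.germₗ G hxU) q
  have hau : IsUnit (X.presheaf.germ U x hxU a) := (X.mem_basicOpen a x hxU).1 hxa
  letI := X.presheaf.algebra_section_stalk ⟨x, hxU⟩
  haveI := hU.isLocalization_stalk ⟨x, hxU⟩
  have hsu : IsUnit (X.presheaf.germ U x hxU s.1) := IsLocalization.map_units (X.presheaf.stalk x) s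
  rw [← hsu.smul_eq_zero, ← hau.smul_eq_zero]
  refine (congrArg _ (show (X.presheaf.germ U x hxU s : X.presheaf.stalk x) • q = germ (pre G) x hxU m from hs)).trans ?_
  refine (germ_smul₀ G hxU a m).symm.trans ?_
  exact (congrArg (germ (pre G) x hxU) (hk ⟨U, hU⟩ a ha m)).trans (map_zero _)

/-- A killed quasi-coherent module comes from the closed subscheme. -/
theorem isIso_of_killed (G : X.Modules) [Coh.IsQCoh G] (hk : ClSub.KilledByIdeal i.ker G) :
    IsIso ((Scheme.Modules.pullbackPushforwardAdjunction i).unit.app G) := by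
  refine (Groth.L21.Mod.isIso_iff_stalk_bijective _).2 fun x => ?_
  by_cases hx : x ∈ Set.range i
  · obtain ⟨z, rfl⟩ := hx
    let η := (Groth.L00.Stk.F X (i z)).map ((Scheme.Modules.pullbackPushforwardAdjunction i).unit.app G)
    let u := (ModuleCat.extendRestrictScalarsAdj (φ i z)).unit.app ((Groth.L00.Stk.F X (i z)).obj G)
    let e : St (pre ((Scheme.Modules.pushforward i).obj ((Scheme.Modules.pullback i).obj G))) (i z) → _ :=
      fun p => ((stalkIso i z).hom.app G) (ClosedPush.c₀ i _ z p)
    have he : Function.Bijective e :=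
      (ConcreteCategory.bijective_of_isIso ((stalkIso i z).hom.app G)).comp (ClosedPush.c₀_bijective i _ z)
    have hu : Function.Bijective u := by
      refine ⟨?_, ClosedPush.unit_extend_surjective i z _⟩
      letI := (φ i z).toAlgebra
      exact injective_mk_one (R := X.presheaf.stalk (i z)) (S := Z.presheaf.stalk z)
        (M := ((Groth.L00.Stk.F X (i z)).obj G)) (ClosedPush.φ_surjective i z)
        (fun r hr m => smul_eq_zero_of_killed i G hk z r hr m)
    have h : Function.Bijective (e ∘ η) := by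
      rw [show (e ∘ η) = ⇑u from funext fun q => ClosedPush.stalkIso_unit i G z q]
      exact hu
    exact (he.of_comp_iff' _).1 h
  · have h1 : Subsingleton ((Groth.L00.Stk.F X x).obj G) := subsingleton_stalk_of_killed i G hk hx
    have h2 : Subsingleton ((Groth.L00.Stk.F X x).obj
        ((Scheme.Modules.pushforward i).obj ((Scheme.Modules.pullback i).obj G))) :=
      ClosedPush.subsingleton_stalk_push i _ hx
    exact ⟨fun a b _ => @Subsingleton.elim _ h1 a b, fun b => ⟨(0 : (Groth.L00.Stk.F X x).obj G), @Subsingleton.elim _ h2 _ _⟩⟩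

/-- The pullback of a killed quasi-coherent module is quasi-coherent. -/
theorem isQCoh_pullback_of_killed (G : X.Modules) [Coh.IsQCoh G] (hk : ClSub.KilledByIdeal i.ker G) :
    Coh.IsQCoh ((Scheme.Modules.pullback i).obj G) := by
  haveI := isIso_of_killed i G hk
  haveI : Coh.IsQCoh ((Coh.push i).obj ((Scheme.Modules.pullback i).obj G)) :=
    (SheafOfModules.isQuasicoherent X.ringCatSheaf).prop_of_iso
      (asIso ((Scheme.Modules.pullbackPushforwardAdjunction i).unit.app G)) ‹_›
  exact Groth.L16.CohClosedPush.isQCoh_of_push i _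

/-- The pullback of a killed module of finite type is of finite type. -/
theorem isCoh_pullback_of_killed (G : X.Modules) (hG : Coh.IsCoh G) (hk : ClSub.KilledByIdeal i.ker G) :
    Coh.IsCoh ((Scheme.Modules.pullback i).obj G) := by
  haveI : Coh.IsQCoh G := hG.1
  haveI := isIso_of_killed i G hk
  haveI := isQCoh_pullback_of_killed i G hk
  refine Groth.L16.CohClosedPush.isCoh_of_finite_sections _ fun z => ?_
  obtain ⟨_, ⟨V, hV, rfl⟩, hzV, -⟩ :=
    X.isBasis_affineOpens.exists_subset_of_mem_open (Set.mem_univ (i z)) isOpen_univ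
  refine ⟨i ⁻¹ᵁ V, hzV, hV.preimage i, ?_⟩
  haveI : Module.Finite Γ(X, V) Γ(G, V) := Groth.L20.ModStalk.finite_sections G hG hV
  let η := (Scheme.Modules.pullbackPushforwardAdjunction i).unit.app G
  obtain ⟨s, hs⟩ := Module.Finite.fg_top (R := Γ(X, V)) (M := Γ(G, V))
  classical
  let N := (Scheme.Modules.pullback i).obj G
  let F : Γ(G, V) → Γ(N, i ⁻¹ᵁ V) := fun m => η.app V m
  refine ⟨⟨s.image F, top_le_iff.1 fun m _ => ?_⟩⟩
  rw [Finset.coe_image]
  obtain ⟨n, rfl⟩ : ∃ n, F n = m := (ConcreteCategory.bijective_of_isIso (η.app V)).2 m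
  have hn : n ∈ Submodule.span Γ(X, V) (s : Set Γ(G, V)) := hs ▸ Submodule.mem_top
  refine Submodule.span_induction (p := fun n _ => F n ∈ Submodule.span Γ(Z, i ⁻¹ᵁ V) (F '' s))
    (fun w hw => Submodule.subset_span ⟨w, hw, rfl⟩)
    ((congrArg (· ∈ _) (show F 0 = 0 from map_zero (η.app V).hom)).mpr (Submodule.zero_mem _)) (fun a b _ _ ha hb => ?_)
    (fun a w _ hw => ?_) hn
  · rw [show F (a + b) = F a + F b from map_add (η.app V).hom a b]
    exact Submodule.add_mem _ ha hb
  · rw [show F (a • w) = i.app V a • F w from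
      (Scheme.Modules.Hom.app_smul η a w).trans (push_smul i N V a _)]
    exact Submodule.smul_mem _ _ hw

section Annihilator

variable (F : X.Modules)

omit [IsClosedImmersion i] in
theorem exists_annihilator_not_mem {hF : Coh.IsCoh F} {U : X.affineOpens} {x : X} (hx : x ∈ U.1)
    (h : Subsingleton (F.presheaf.stalk x)) :
    ∃ a ∈ Module.annihilator Γ(X, U.1) Γ(F, U.1), x ∈ X.basicOpen a := by
  haveI : Coh.IsQCoh F := hF.1
  haveI : Module.Finite Γ(X, U.1) Γ(F, U.1) := Groth.L20.ModStalk.finite_sections F hF U.2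
  letI := Groth.L20.ModStalk.stalkModule F hx
  haveI := Groth.L20.ModStalk.isLocalizedModule_germ F U.2 hx
  letI := X.presheaf.algebra_section_stalk ⟨x, hx⟩
  haveI := U.2.isLocalization_stalk ⟨x, hx⟩
  obtain ⟨s, hs⟩ := Module.Finite.fg_top (R := Γ(X, U.1)) (M := Γ(F, U.1))
  have hall : ∀ m, ∃ t : (U.2.primeIdealOf ⟨x, hx⟩).asIdeal.primeCompl, t • m = (0 : Γ(F, U.1)) := fun m =>
    (IsLocalizedModule.eq_zero_iff _ (Groth.L20.ModStalk.germₗ F hx)).1 (Subsingleton.elim _ _)
  choose t ht using hall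
  classical
  let a : (U.2.primeIdealOf ⟨x, hx⟩).asIdeal.primeCompl := ∏ m ∈ s, t m
  have ha : (a : Γ(X, U.1)) ∈ Module.annihilator Γ(X, U.1) Γ(F, U.1) := by
    rw [← Submodule.annihilator_top, ← hs, Submodule.mem_annihilator_span]
    rintro ⟨m, hm⟩
    obtain ⟨c, hc⟩ := Finset.dvd_prod_of_mem t hm
    show a • m = 0
    rw [show a = c * t m from hc.trans (mul_comm _ _), mul_smul, ht, smul_zero]
  exact ⟨a.1, ha, (X.mem_basicOpen _ x hx).2 (IsLocalization.map_units (X.presheaf.stalk x) a)⟩

omit [IsClosedImmersion i] in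
theorem subsingleton_of_annihilator [Coh.IsQCoh F] {U : X.affineOpens} {x : X} (hx : x ∈ U.1)
    {a : Γ(X, U.1)} (ha : a ∈ Module.annihilator Γ(X, U.1) Γ(F, U.1)) (hxa : x ∈ X.basicOpen a) :
    Subsingleton (F.presheaf.stalk x) := by
  letI := Groth.L20.ModStalk.stalkModule F hx
  haveI := Groth.L20.ModStalk.isLocalizedModule_germ F U.2 hx
  letI := X.presheaf.algebra_section_stalk ⟨x, hx⟩
  haveI := U.2.isLocalization_stalk ⟨x, hx⟩
  refine subsingleton_of_forall_eq 0 fun q => ?_
  obtain ⟨⟨m, s⟩, hs⟩ := IsLocalizedModule.surj (U.2.primeIdealOf ⟨x, hx⟩).asIdeal.primeCompl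
    (Groth.L20.ModStalk.germₗ F hx) q
  have hau : IsUnit (X.presheaf.germ U.1 x hx a) := (X.mem_basicOpen a x hx).1 hxa
  have hsu : IsUnit (X.presheaf.germ U.1 x hx s.1) := IsLocalization.map_units (X.presheaf.stalk x) s
  rw [← hsu.smul_eq_zero, ← hau.smul_eq_zero]
  refine (congrArg _ (show (X.presheaf.germ U.1 x hx s : X.presheaf.stalk x) • q =
    Groth.L20.ModStalk.germₗ F hx m from hs)).trans ?_
  refine (Groth.L20.ModStalk.germ_smul F hx a m).symm.trans ?_
  rw [Module.mem_annihilator.1 ha m]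
  exact map_zero _

omit [IsClosedImmersion i] in
theorem map_annihilator (hF : Coh.IsCoh F) (U : X.affineOpens) (g : Γ(X, U.1)) :
    (Module.annihilator Γ(X, U.1) Γ(F, U.1)).map (X.presheaf.map (homOfLE <| X.basicOpen_le g).op).hom =
      Module.annihilator Γ(X, X.basicOpen g) Γ(F, X.basicOpen g) := by
  haveI : Coh.IsQCoh F := hF.1
  letI : Algebra Γ(X, U.1) Γ(X, X.basicOpen g) := (X.presheaf.map (homOfLE (X.basicOpen_le g)).op).hom.toAlgebra
  letI := Module.compHom Γ(F, X.basicOpen g) (X.presheaf.map (homOfLE (X.basicOpen_le g)).op).hom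
  haveI : IsScalarTower Γ(X, U.1) Γ(X, X.basicOpen g) Γ(F, X.basicOpen g) :=
    IsScalarTower.of_algebraMap_smul fun _ _ => rfl
  haveI : IsLocalization.Away g Γ(X, X.basicOpen g) := U.2.isLocalization_basicOpen g
  haveI : Module.Finite Γ(X, U.1) Γ(F, U.1) := Groth.L20.ModStalk.finite_sections F hF U.2
  haveI := Groth.L20.ModStalk.isLocalizedModule_res F U.2 g
  let r : Γ(F, U.1) →ₗ[Γ(X, U.1)] Γ(F, X.basicOpen g) :=
    { toFun := fun s => rs F (X.basicOpen_le g) s
      map_add' := fun a b => map_add _ a b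
      map_smul' := fun a s => rs_smul F (X.basicOpen_le g) a s }
  haveI : IsLocalizedModule (Submonoid.powers g) r := Groth.L20.ModStalk.isLocalizedModule_res F U.2 g
  refine le_antisymm (Ideal.map_le_iff_le_comap.2 fun a ha => ?_) fun b hb => ?_
  · rw [Ideal.mem_comap, Module.mem_annihilator]
    intro y
    obtain ⟨⟨m, s⟩, hs⟩ := IsLocalizedModule.surj (Submonoid.powers g) r y
    have hsu : IsUnit (algebraMap Γ(X, U.1) Γ(X, X.basicOpen g) s.1) := IsLocalization.map_units _ s
    rw [← hsu.smul_eq_zero, smul_comm, algebraMap_smul,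
      show (s.1 : Γ(X, U.1)) • y = r m from hs]
    show (a • r m : Γ(F, X.basicOpen g)) = 0
    rw [← map_smul, Module.mem_annihilator.1 ha m, map_zero]
  · obtain ⟨⟨a, s⟩, hab⟩ := IsLocalization.surj (Submonoid.powers g) b
    have hall : ∀ m, ∃ t : Submonoid.powers g, t • (a • m) = (0 : Γ(F, U.1)) := fun m => by
      refine (IsLocalizedModule.eq_zero_iff (Submonoid.powers g) r).1 ?_
      rw [map_smul, ← algebraMap_smul Γ(X, X.basicOpen g) a (r m), ← hab, mul_comm, mul_smul,
        Module.mem_annihilator.1 hb, smul_zero]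
    choose t ht using hall
    obtain ⟨S, hS⟩ := Module.Finite.fg_top (R := Γ(X, U.1)) (M := Γ(F, U.1))
    classical
    let T : Submonoid.powers g := ∏ m ∈ S, t m
    have hT : (T : Γ(X, U.1)) * a ∈ Module.annihilator Γ(X, U.1) Γ(F, U.1) := by
      rw [← Submodule.annihilator_top, ← hS, Submodule.mem_annihilator_span]
      rintro ⟨m, hm⟩
      obtain ⟨c, hc⟩ := Finset.dvd_prod_of_mem t hm
      rw [mul_smul]
      show T • (a • m) = 0
      rw [show T = c * t m from hc.trans (mul_comm _ _), mul_smul, ht, smul_zero]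
    have hu : IsUnit (algebraMap Γ(X, U.1) Γ(X, X.basicOpen g) ((T : Γ(X, U.1)) * s.1)) := by
      rw [map_mul]; exact (IsLocalization.map_units _ T).mul (IsLocalization.map_units _ s)
    refine (Ideal.unit_mul_mem_iff_mem _ hu).1 ?_
    rw [map_mul, mul_assoc, mul_comm _ b, hab, ← map_mul]
    exact Ideal.mem_map_of_mem _ hT

omit [IsClosedImmersion i] in
theorem mem_support_iff_zeroLocus (hF : Coh.IsCoh F) (U : X.affineOpens) (x : X) (hx : x ∈ U.1) :
    x ∈ CohB1.support F ↔ x ∈ X.zeroLocus (U := U.1) (Module.annihilator Γ(X, U.1) Γ(F, U.1)) := by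
  haveI : Coh.IsQCoh F := hF.1
  rw [Scheme.mem_zeroLocus_iff]
  refine ⟨fun h a ha hxa => h (subsingleton_of_annihilator F hx ha hxa), fun h hsub => ?_⟩
  obtain ⟨a, ha, hxa⟩ := exists_annihilator_not_mem (hF := hF) F hx hsub
  exact h a ha hxa

/-- The annihilator ideal sheaf, with support the support of the module. -/
def annIdeal (hF : Coh.IsCoh F) : X.IdealSheafData :=
  Scheme.IdealSheafData.mkOfMemSupportIff (fun U => Module.annihilator Γ(X, U.1) Γ(F, U.1))
    (fun U g => map_annihilator F hF U g) (CohB1.support F)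
    (fun U x hx => mem_support_iff_zeroLocus F hF U x hx)

omit [IsClosedImmersion i] in
theorem killed_annIdeal (hF : Coh.IsCoh F) : ClSub.KilledByIdeal (annIdeal F hF) F :=
  fun _ _ ha m => Module.mem_annihilator.1 ha m

omit [IsClosedImmersion i] in
theorem killed_subschemeι {J : X.IdealSheafData} (h : ClSub.KilledByIdeal J F) :
    ClSub.KilledByIdeal J.subschemeι.ker F := by
  rw [Scheme.IdealSheafData.ker_subschemeι]
  exact h

omit [IsClosedImmersion i] in
theorem le_annIdeal (hF : Coh.IsCoh F) {J : X.IdealSheafData} (h : ClSub.KilledByIdeal J F) :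
    J ≤ annIdeal F hF :=
  fun U a ha => Module.mem_annihilator.2 fun m => h U a ha m

end Annihilator

end Groth.L17.KilledUnit

namespace Groth.L17.KilledUnit

/-- Isomorphic modules have the same support. -/
theorem support_congr {X : Scheme.{u}} {M N : X.Modules} (e : M ≅ N) : CohB1.support M = CohB1.support N :=
  Set.ext fun x => not_congr ((Groth.L00.Stk.F X x).mapIso e).toLinearEquiv.toEquiv.subsingleton_congr

end Groth.L17.KilledUnit
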