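import Groth.Agent.L02.Quot.RankLocus
import Groth.Agent.L20.SeeNormal.Sheaf
import Groth.Prelude.Def_FSch3
import Mathlib.RingTheory.Filtration
import Mathlib.RingTheory.AdicCompletion.Basic

/-!
# Local freeness detected on infinitesimal thickenings over a complete base
-/

set_option autoImplicit false
set_option linter.style.haveILetI false
set_option backward.isDefEq.respectTransparency false

universe u

open CategoryTheory CategoryTheory.Limits AlgebraicGeometry TopologicalSpace

noncomputable section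

namespace Groth.L17.ComplLocFree

/-- Points of `Spec A` containing `I` lie in the support of `idealSpec A I`. -/
theorem mem_support_idealSpec {A : Type u} [CommRing A] (I : Ideal A) (p : Spec (CommRingCat.of A))
    (h : I ≤ p.asIdeal) : p ∈ (FSch.idealSpec A I).support := by
  rw [← SetLike.mem_coe, FSch.idealSpec, Scheme.Hom.support_ker]
  refine subset_closure ?_
  show p ∈ Set.range (PrimeSpectrum.comap (Ideal.Quotient.mk I))
  rw [range_comap_of_surjective _ _ Ideal.Quotient.mk_surjective, Ideal.mk_ker]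
  exact h

/-- Over an `I`-adically complete base every point of a universally closed scheme specializes to a
point of the closed subscheme cut out by `I`. -/
theorem exists_specializes_support {A : Type u} [CommRing A] (I : Ideal A) [IsAdicComplete I A]
    {X : Scheme.{u}} (f : X ⟶ Spec (CommRingCat.of A)) [UniversallyClosed f] (x : X) :
    ∃ z, x ⤳ z ∧ z ∈ ((FSch.idealSpec A I).comap f).support := by
  obtain ⟨m, hm, hle⟩ := Ideal.exists_le_maximal (f x).asIdeal (f x).2.ne_top
  let p : Spec (CommRingCat.of A) := ⟨m, hm.isPrime⟩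
  have hp : p ∈ closure {f x} :=
    specializes_iff_mem_closure.1 ((PrimeSpectrum.le_iff_specializes (f x) p).1 hle)
  have hc : IsClosed (f '' closure {x}) := f.isClosedMap _ isClosed_closure
  obtain ⟨z, hz, hzp⟩ := closure_minimal
    ((Set.singleton_subset_iff (s := f '' closure {x})).2 ⟨x, subset_closure rfl, rfl⟩) hc hp
  refine ⟨z, specializes_iff_mem_closure.2 hz, ?_⟩
  rw [Scheme.IdealSheafData.support_comap]
  show f z ∈ (FSch.idealSpec A I).support
  rw [hzp]
  exact mem_support_idealSpec I p ((IsAdicComplete.le_jacobson_bot I).trans (sInf_le ⟨bot_le, hm⟩))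

variable {X : Scheme.{u}}

theorem sI_le_maximalIdeal {J : X.IdealSheafData} {z : X} (hz : z ∈ J.support) :
    Groth.L20.SeeNormal.sI J z ≤ IsLocalRing.maximalIdeal (X.presheaf.stalk z) := by
  obtain ⟨_, ⟨U, hU, rfl⟩, hzU, -⟩ :=
    X.isBasis_affineOpens.exists_subset_of_mem_open (Set.mem_univ z) isOpen_univ
  have hz' := (J.mem_support_iff_of_mem (U := ⟨U, hU⟩) hzU).1 hz
  rw [Scheme.mem_zeroLocus_iff] at hz'
  rw [Groth.L20.SeeNormal.sI_eq J ⟨U, hU⟩ hzU, Ideal.map_le_iff_le_comap]
  intro s hs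
  have h2 := hz' s hs
  rw [Scheme.mem_basicOpen _ _ _ hzU] at h2
  exact h2

/-- An ideal sheaf in all powers of `J` has trivial stalks along the support of `J`. -/
theorem sI_eq_bot_of_le_pow [IsLocallyNoetherian X] {F J : X.IdealSheafData}
    (h : ∀ n : ℕ, F ≤ J ^ (n + 1)) {z : X} (hz : z ∈ J.support) :
    Groth.L20.SeeNormal.sI F z = ⊥ := by
  obtain ⟨_, ⟨U, hU, rfl⟩, hzU, -⟩ :=
    X.isBasis_affineOpens.exists_subset_of_mem_open (Set.mem_univ z) isOpen_univ
  rw [eq_bot_iff, ← Ideal.iInf_pow_eq_bot_of_isLocalRing (Groth.L20.SeeNormal.sI J z)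
    (fun e => (IsLocalRing.maximalIdeal.isMaximal (X.presheaf.stalk z)).ne_top
      (top_le_iff.1 (e.symm.le.trans (sI_le_maximalIdeal hz))))]
  refine le_iInf fun n => le_trans ?_ (Ideal.pow_le_pow_right (Nat.le_succ n))
  rw [Groth.L20.SeeNormal.sI_eq F ⟨U, hU⟩ hzU, Groth.L20.SeeNormal.sI_eq J ⟨U, hU⟩ hzU, ← Ideal.map_pow]
  refine Ideal.map_mono ?_
  have h2 := h n ⟨U, hU⟩
  rwa [Scheme.IdealSheafData.ideal_pow, Pi.pow_apply] at h2

theorem sI_bot (x : X) : Groth.L20.SeeNormal.sI (⊥ : X.IdealSheafData) x = ⊥ := by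
  obtain ⟨_, ⟨U, hU, rfl⟩, hxU, -⟩ :=
    X.isBasis_affineOpens.exists_subset_of_mem_open (Set.mem_univ x) isOpen_univ
  rw [Groth.L20.SeeNormal.sI_eq _ ⟨U, hU⟩ hxU, Scheme.IdealSheafData.ideal_bot, Pi.bot_apply,
    Ideal.map_bot]

theorem sI_eq_bot_of_specializes {F : X.IdealSheafData} {x z : X} (hxz : x ⤳ z)
    (h : Groth.L20.SeeNormal.sI F z = ⊥) : Groth.L20.SeeNormal.sI F x = ⊥ := by
  obtain ⟨_, ⟨U, hU, rfl⟩, hzU, -⟩ :=
    X.isBasis_affineOpens.exists_subset_of_mem_open (Set.mem_univ z) isOpen_univ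
  have hxU : x ∈ U := hxz.mem_open U.2 hzU
  rw [Groth.L20.SeeNormal.sI_eq F ⟨U, hU⟩ hzU] at h
  rw [Groth.L20.SeeNormal.sI_eq F ⟨U, hU⟩ hxU, ← X.presheaf.germ_stalkSpecializes hzU hxz,
    CommRingCat.hom_comp, ← Ideal.map_map, h, Ideal.map_bot]

theorem isFinLocFreeOfRank_of_thickenings {A : Type u} [CommRing A] [IsNoetherianRing A]
    (I : Ideal A) [IsAdicComplete I A] (f : X ⟶ Spec (CommRingCat.of A)) [IsProper f]
    (M : X.Modules) (hM : Coh.IsCoh M) (r : ℕ)
    (h : ∀ n : ℕ, FlatMod.IsFinLocFreeOfRank r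
      ((Scheme.Modules.pullback (FSch.completionToX X ((FSch.idealSpec A I).comap f) n)).obj M)) :
    FlatMod.IsFinLocFreeOfRank r M := by
  haveI : IsLocallyNoetherian X := LocallyOfFiniteType.isLocallyNoetherian f
  set J := (FSch.idealSpec A I).comap f with hJ
  have hn := fun n => (Groth.L02.Quot.isFinLocFreeOfRank_iff_fitt _
    (Groth.L16.AffineBC.isCoh_pullback _ hM) r).1 (h n)
  have key : ∀ (n k : ℕ), Fitt.sheafIdeal ((Scheme.Modules.pullback
      (FSch.completionToX X J n)).obj M) k = (Fitt.sheafIdeal M k).comap (J ^ (n + 1)).subschemeι :=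
    fun n k => Groth.L02.Quot.sheafIdeal_pullback _ M hM (Groth.L16.AffineBC.isCoh_pullback _ hM) k
  rw [Groth.L02.Quot.isFinLocFreeOfRank_iff_fitt M hM r]
  refine ⟨fun k hk => Groth.L20.SeeNormal.ext_sI fun x => ?_, fun x hx => ?_⟩
  · have hle : ∀ n : ℕ, Fitt.sheafIdeal M k ≤ J ^ (n + 1) := fun n => by
      have h3 : (Fitt.sheafIdeal M k).comap (J ^ (n + 1)).subschemeι = ⊥ :=
        (key n k).symm.trans ((hn n).1 k hk)
      rw [← le_bot_iff, ← Scheme.IdealSheafData.le_map_iff_comap_le,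
        Scheme.IdealSheafData.map_bot, Scheme.IdealSheafData.ker_subschemeι] at h3
      exact h3
    obtain ⟨z, hxz, hz⟩ := exists_specializes_support I f x
    rw [sI_bot]
    exact sI_eq_bot_of_specializes hxz (sI_eq_bot_of_le_pow hle hz)
  · obtain ⟨z, hxz, hz⟩ := exists_specializes_support I f x
    have hzF : z ∈ (Fitt.sheafIdeal M r).support :=
      hxz.mem_closed (Fitt.sheafIdeal M r).support.isClosed hx
    have hz1 : z ∈ (J ^ (0 + 1)).support := by
      rw [Scheme.IdealSheafData.support_pow_succ]; exact hz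
    rw [← SetLike.mem_coe, ← Scheme.IdealSheafData.range_subschemeι] at hz1
    obtain ⟨t, ht⟩ := hz1
    apply (hn 0).2 t
    rw [key, Scheme.IdealSheafData.support_comap]
    show (J ^ (0 + 1)).subschemeι t ∈ (Fitt.sheafIdeal M r).support
    rw [ht]
    exact hzF

end Groth.L17.ComplLocFree
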