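import Groth.Agent.L00.RDerLES
import Mathlib.Algebra.Homology.ShortComplex.PreservesHomology
import Mathlib.CategoryTheory.Abelian.RightDerived

/-!
A left exact functor commutes with the cohomology of a complex of acyclic objects with acyclic
cohomology; degeneration of the composite derived functor.
-/

set_option autoImplicit false
set_option backward.isDefEq.respectTransparency false

universe v u v' u' v'' u''

open CategoryTheory CategoryTheory.Limits

namespace Groth.L17.AcyclicHomology

variable {D : Type u} [Category.{v} D] [Abelian D] [EnoughInjectives D]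
  {E : Type u'} [Category.{v'} E] [Abelian E] (T : D ⥤ E) [T.Additive]

/-- Acyclic objects. -/
def Acyclic (X : D) : Prop := ∀ q : ℕ, IsZero ((T.rightDerived (q + 1)).obj X)

theorem acyclic_of_iso {X Y : D} (e : X ≅ Y) (h : Acyclic T X) : Acyclic T Y := fun q =>
  (h q).of_iso ((T.rightDerived (q + 1)).mapIso e.symm)

variable {S : ShortComplex D} (hS : S.ShortExact)

include hS in
theorem acyclic_X₂ (h₁ : Acyclic T S.X₁) (h₃ : Acyclic T S.X₃) : Acyclic T S.X₂ := fun q => by
  letI := HasDerivedCategory.standard D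
  exact (Groth.L00.RDerLES.exact₂ T hS (q + 1)).isZero_of_both_zeros ((h₁ q).eq_of_src _ _) ((h₃ q).eq_of_tgt _ _)

include hS in
theorem acyclic_X₃ (h₁ : Acyclic T S.X₁) (h₂ : Acyclic T S.X₂) : Acyclic T S.X₃ := fun q => by
  letI := HasDerivedCategory.standard D
  haveI := Groth.L00.RDerLES.epi_map_g T hS (q + 1) (h₁ (q + 1))
  exact IsZero.of_epi ((T.rightDerived (q + 1)).map S.g) (h₂ q)

include hS in
theorem epi_map [PreservesFiniteLimits T] (h₁ : Acyclic T S.X₁) : Epi (T.map S.g) := by
  letI := HasDerivedCategory.standard D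
  haveI := Groth.L00.RDerLES.epi_map_g T hS 0 (h₁ 0)
  have h : T.map S.g =
      T.rightDerivedZeroIsoSelf.inv.app S.X₂ ≫ (T.rightDerived 0).map S.g ≫ T.rightDerivedZeroIsoSelf.hom.app S.X₃ := by
    rw [T.rightDerivedZeroIsoSelf.hom.naturality, Iso.inv_hom_id_app_assoc]
  rw [h]
  infer_instance

variable (K : CochainComplex D ℕ)

/-- The cocycles. -/
noncomputable abbrev Z (n : ℕ) : D := kernel (K.d n (n + 1))

/-- The map onto the coboundaries. -/
noncomputable abbrev t (n : ℕ) : K.X n ⟶ Z K (n + 1) := kernel.lift (K.d (n + 1) (n + 1 + 1)) (K.d n (n + 1)) (K.d_comp_d _ _ _)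

omit [EnoughInjectives D] in
theorem ι_t (n : ℕ) : kernel.ι (K.d n (n + 1)) ≫ t K n = 0 := by
  rw [← cancel_mono (kernel.ι _), Category.assoc, kernel.lift_ι, kernel.condition, zero_comp]

/-- The coboundaries. -/
noncomputable abbrev m (n : ℕ) : cokernel (kernel.ι (K.d n (n + 1))) ⟶ Z K (n + 1) :=
  cokernel.desc _ (t K n) (ι_t K n)

omit [EnoughInjectives D] in
theorem mono_m (n : ℕ) : Mono (m K n) := by
  have h : (ShortComplex.mk (kernel.ι (K.d n (n + 1))) (K.d n (n + 1)) (kernel.condition _)).Exact :=
    ShortComplex.exact_of_f_is_kernel _ (kernelIsKernel _)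
  have e : m K n ≫ kernel.ι (K.d (n + 1) (n + 1 + 1)) =
      cokernel.desc _ (K.d n (n + 1)) (kernel.condition _) := by
    rw [← cancel_epi (cokernel.π (kernel.ι (K.d n (n + 1))))]
    simp [m, t]
  haveI : Mono (m K n ≫ kernel.ι (K.d (n + 1) (n + 1 + 1))) := by
    rw [e]; exact h.mono_cokernelDesc
  exact mono_of_mono _ (kernel.ι (K.d (n + 1) (n + 1 + 1)))

omit [EnoughInjectives D] in
theorem shortExact₁ (n : ℕ) : (ShortComplex.mk (kernel.ι (K.d n (n + 1)))
    (cokernel.π (kernel.ι (K.d n (n + 1)))) (cokernel.condition _)).ShortExact :=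
  ShortComplex.ShortExact.mk' (ShortComplex.exact_of_g_is_cokernel _ (cokernelIsCokernel _))
    (inferInstanceAs (Mono (kernel.ι (K.d n (n + 1))))) (inferInstanceAs (Epi (cokernel.π _)))

omit [EnoughInjectives D] in
theorem shortExact₂ (n : ℕ) : (ShortComplex.mk (m K n) (cokernel.π (t K n))
    (by rw [← cancel_epi (cokernel.π (kernel.ι (K.d n (n + 1))))]; simp [m])).ShortExact := by
  haveI := mono_m K n
  refine ShortComplex.ShortExact.mk' ?_ inferInstance (inferInstanceAs (Epi (cokernel.π _)))
  exact (ShortComplex.exact_iff_of_epi_of_isIso_of_mono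
    (S₁ := ShortComplex.mk (t K n) (cokernel.π (t K n)) (cokernel.condition _))
    (S₂ := ShortComplex.mk (m K n) (cokernel.π (t K n))
      (by rw [← cancel_epi (cokernel.π (kernel.ι (K.d n (n + 1))))]; simp [m]))
    { τ₁ := cokernel.π (kernel.ι (K.d n (n + 1))), τ₂ := 𝟙 _, τ₃ := 𝟙 _
      comm₁₂ := by simp [m], comm₂₃ := by simp }).1
    (ShortComplex.exact_of_g_is_cokernel _ (cokernelIsCokernel _))

/-- The homology in positive degrees. -/
noncomputable def lhd (n : ℕ) : (K.sc' n (n + 1) (n + 1 + 1)).LeftHomologyData :=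
  ShortComplex.LeftHomologyData.ofHasKernelOfHasCokernel _

/-- The homology in positive degrees, as a cokernel. -/
noncomputable def homologyIso (n : ℕ) : K.homology (n + 1) ≅ cokernel (t K n) :=
  K.homologyIsoSc' n (n + 1) (n + 1 + 1) (by simp) (by simp) ≪≫ (lhd K n).homologyIso

omit [EnoughInjectives D] in
theorem nonempty_homology_zero_iso : Nonempty (K.homology 0 ≅ Z K 0) :=
  haveI := K.isIso_homologyπ 0 0 (by simp) (K.shape _ _ (by simp))
  ⟨(asIso (K.homologyπ 0)).symm ≪≫ IsLimit.conePointUniqueUpToIso (K.cyclesIsKernel 0 1 (by simp)) (limit.isLimit (parallelPair (K.d 0 1) 0))⟩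

theorem acyclic_Z (hX : ∀ n, Acyclic T (K.X n)) (hH : ∀ n, Acyclic T (K.homology n)) :
    ∀ n, Acyclic T (Z K n)
  | 0 => acyclic_of_iso T (nonempty_homology_zero_iso K).some (hH 0)
  | n + 1 => acyclic_X₂ T (shortExact₂ K n)
      (acyclic_X₃ T (shortExact₁ K n) (acyclic_Z hX hH n) (hX n))
      (acyclic_of_iso T (homologyIso K n) (hH (n + 1)))

omit [EnoughInjectives D] in
theorem isPreservedBy_of_exact [PreservesFiniteLimits T] {S : ShortComplex D} (h : S.LeftHomologyData)
    (hex : ∀ w : T.map h.f' ≫ T.map h.π = 0, (ShortComplex.mk (T.map h.f') (T.map h.π) w).Exact)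
    (hepi : Epi (T.map h.π)) : T.PreservesLeftHomologyOf S := by
  have w : T.map h.f' ≫ T.map h.π = 0 := by rw [← T.map_comp, h.f'_π, T.map_zero]
  haveI := hepi
  haveI : h.IsPreservedBy T :=
    { g := inferInstance
      f' := preservesColimit_of_preserves_colimit_cocone h.hπ'
        ((CokernelCofork.isColimitMapCoconeEquiv (CokernelCofork.ofπ h.π h.f'_π) T).symm (hex w).gIsCokernel) }
  exact Functor.PreservesLeftHomologyOf.mk' T h

theorem preservesLeftHomologyOf_sc [PreservesFiniteLimits T] (hX : ∀ n, Acyclic T (K.X n))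
    (hH : ∀ n, Acyclic T (K.homology n)) (n : ℕ) : T.PreservesLeftHomologyOf (K.sc n) := by
  cases n with
  | zero => exact T.preservesLeftHomology_of_zero_f _ (K.shape _ _ (by simp))
  | succ n =>
    have hB := acyclic_X₃ T (shortExact₁ K n) (acyclic_Z T K hX hH n) (hX n)
    haveI h1 : Epi (T.map (cokernel.π (kernel.ι (K.d n (n + 1))))) :=
      epi_map T (shortExact₁ K n) (acyclic_Z T K hX hH n)
    have hepi : Epi (T.map (cokernel.π (t K n))) := epi_map T (shortExact₂ K n) hB
    have hm : ((ShortComplex.mk (m K n) (cokernel.π (t K n))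
        (by rw [← cancel_epi (cokernel.π (kernel.ι (K.d n (n + 1))))]; simp [m])).map T).Exact :=
      ShortComplex.exact_of_f_is_kernel _ (KernelFork.mapIsLimit _ (shortExact₂ K n).fIsKernel T)
    have hP : T.PreservesLeftHomologyOf (K.sc' n (n + 1) (n + 1 + 1)) := isPreservedBy_of_exact T (lhd K n) (fun w => by
      refine (ShortComplex.exact_iff_of_epi_of_isIso_of_mono
        (S₁ := ShortComplex.mk _ _ w)
        (S₂ := (ShortComplex.mk (m K n) (cokernel.π (t K n))
          (by rw [← cancel_epi (cokernel.π (kernel.ι (K.d n (n + 1))))]; simp [m])).map T)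
        { τ₁ := T.map (cokernel.π (kernel.ι (K.d n (n + 1)))), τ₂ := 𝟙 _, τ₃ := 𝟙 _
          comm₁₂ := ?_, comm₂₃ := ?_ }).2 hm
      · simp only [ShortComplex.map_f, Category.comp_id, ← T.map_comp, m, cokernel.π_desc]
        rfl
      · simp only [ShortComplex.map_g, Category.comp_id, Category.id_comp]
        rfl) hepi
    have key : ∀ i k, n = i → n + 1 + 1 = k → T.PreservesLeftHomologyOf (K.sc' i (n + 1) k) := by
      rintro i k rfl rfl; assumption
    exact key _ _ (by simp) (by simp)

/-- `T` commutes with homology. -/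
noncomputable def homIso [PreservesFiniteLimits T] (hX : ∀ n, Acyclic T (K.X n))
    (hH : ∀ n, Acyclic T (K.homology n)) (n : ℕ) :
    ((T.mapHomologicalComplex _).obj K).homology n ≅ T.obj (K.homology n) :=
  haveI := preservesLeftHomologyOf_sc T K hX hH n
  (K.sc n).mapHomologyIso T

theorem homIso_naturality [PreservesFiniteLimits T] {K L : CochainComplex D ℕ}
    (hX : ∀ n, Acyclic T (K.X n)) (hH : ∀ n, Acyclic T (K.homology n))
    (hX' : ∀ n, Acyclic T (L.X n)) (hH' : ∀ n, Acyclic T (L.homology n)) (φ : K ⟶ L) (n : ℕ) :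
    HomologicalComplex.homologyMap ((T.mapHomologicalComplex _).map φ) n ≫ (homIso T L hX' hH' n).hom =
      (homIso T K hX hH n).hom ≫ T.map (HomologicalComplex.homologyMap φ n) :=
  haveI := preservesLeftHomologyOf_sc T K hX hH n
  haveI := preservesLeftHomologyOf_sc T L hX' hH' n
  ShortComplex.mapHomologyIso_hom_naturality ((HomologicalComplex.shortComplexFunctor D _ n).map φ) T

section Comp

variable {C : Type u''} [Category.{v''} C] [Abelian C] [HasInjectiveResolutions C]
  (A : C ⥤ D) [A.Additive] [PreservesFiniteLimits T]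
  (hA : ∀ I : C, Injective I → Acyclic T (A.obj I))

/-- `A` applied to the chosen resolution. -/
noncomputable abbrev cxA (M : C) : CochainComplex D ℕ :=
  (A.mapHomologicalComplex _).obj (injectiveResolution M).cocomplex

include hA in
theorem acyclic_cxA (M : C) (k : ℕ) : Acyclic T ((cxA A M).X k) :=
  hA _ ((injectiveResolution M).injective k)

theorem acyclic_homology_cxA (M : C) (hM : ∀ q, Acyclic T ((A.rightDerived q).obj M)) (k : ℕ) :
    Acyclic T ((cxA A M).homology k) :=
  acyclic_of_iso T ((injectiveResolution M).isoRightDerivedObj A k) (hM k)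

/-- Degeneration: `R^n (A ⋙ T) = T ∘ R^n A` when the `R^q A M` are acyclic. -/
noncomputable def compIso (M : C) (hM : ∀ q, Acyclic T ((A.rightDerived q).obj M)) (n : ℕ) :
    ((A ⋙ T).rightDerived n).obj M ≅ T.obj ((A.rightDerived n).obj M) :=
  (injectiveResolution M).isoRightDerivedObj (A ⋙ T) n ≪≫
    homIso T (cxA A M) (acyclic_cxA T A hA M) (acyclic_homology_cxA T A M hM) n ≪≫
      T.mapIso ((injectiveResolution M).isoRightDerivedObj A n).symm

theorem compIso_naturality {M M' : C} (g : M ⟶ M') (hM : ∀ q, Acyclic T ((A.rightDerived q).obj M))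
    (hM' : ∀ q, Acyclic T ((A.rightDerived q).obj M')) (n : ℕ) :
    ((A ⋙ T).rightDerived n).map g ≫ (compIso T A hA M' hM' n).hom =
      (compIso T A hA M hM n).hom ≫ T.map ((A.rightDerived n).map g) := by
  let φ := InjectiveResolution.desc g (injectiveResolution M') (injectiveResolution M)
  have comm : (injectiveResolution M).ι.f 0 ≫ φ.f 0 = g ≫ (injectiveResolution M').ι.f 0 := by
    simp [φ]
  have e1 := InjectiveResolution.isoRightDerivedObj_hom_naturality g (injectiveResolution M)
    (injectiveResolution M') φ comm (A ⋙ T) n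
  have e2 := InjectiveResolution.isoRightDerivedObj_inv_naturality g (injectiveResolution M)
    (injectiveResolution M') φ comm A n
  have e3 := homIso_naturality T (acyclic_cxA T A hA M) (acyclic_homology_cxA T A M hM)
    (acyclic_cxA T A hA M') (acyclic_homology_cxA T A M' hM') ((A.mapHomologicalComplex _).map φ) n
  simp only [compIso, Iso.trans_hom, Functor.mapIso_hom, Iso.symm_hom]
  simp only [Functor.comp_map, HomologicalComplex.homologyFunctor_map] at e1 e2
  erw [reassoc_of% e1, reassoc_of% e3]
  rw [Category.assoc, Category.assoc, ← Functor.map_comp, ← Functor.map_comp]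
  congr 3
  exact e2.symm

end Comp

section Endo

variable {C : Type u''} [Category.{v''} C] [Abelian C] [HasInjectiveResolutions C]
  {D' : Type u} [Category.{v} D'] [Abelian D']

/-- Homology commutes with an endomorphism of the identity functor. -/
theorem homologyMap_endo (ν : 𝟭 D' ⟶ 𝟭 D') {K : CochainComplex D' ℕ} (φ : K ⟶ K)
    (hφ : ∀ i, φ.f i = ν.app (K.X i)) (n : ℕ) :
    HomologicalComplex.homologyMap φ n = ν.app (K.homology n) := by
  have h : HomologicalComplex.cyclesMap φ n = ν.app (K.cycles n) := by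
    rw [← cancel_mono (K.iCycles n), HomologicalComplex.cyclesMap_i, hφ]
    exact ν.naturality (K.iCycles n)
  rw [← cancel_epi (K.homologyπ n), HomologicalComplex.homologyπ_naturality, h]
  exact (ν.naturality (K.homologyπ n)).symm

/-- Right derived functors of a functor intertwining endomorphisms of the identity. -/
theorem rightDerived_map_endo (A : C ⥤ D') [A.Additive] (μ : 𝟭 C ⟶ 𝟭 C) (ν : 𝟭 D' ⟶ 𝟭 D')
    (h : ∀ X, A.map (μ.app X) = ν.app (A.obj X)) (M : C) (n : ℕ) :
    (A.rightDerived n).map (μ.app M) = ν.app ((A.rightDerived n).obj M) := by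
  let R := injectiveResolution M
  let φ : R.cocomplex ⟶ R.cocomplex :=
    { f := fun i => μ.app (R.cocomplex.X i)
      comm' := fun i j _ => (μ.naturality (R.cocomplex.d i j)).symm }
  have comm : R.ι.f 0 ≫ φ.f 0 = μ.app M ≫ R.ι.f 0 := μ.naturality (R.ι.f 0)
  have e1 := InjectiveResolution.isoRightDerivedObj_hom_naturality (μ.app M) R R φ comm A n
  rw [← cancel_mono (R.isoRightDerivedObj A n).hom]
  refine e1.trans ?_
  simp only [Functor.comp_map, HomologicalComplex.homologyFunctor_map]
  erw [homologyMap_endo ν ((A.mapHomologicalComplex _).map φ) (fun i => h _) n]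
  exact ν.naturality (R.isoRightDerivedObj A n).hom

end Endo

end Groth.L17.AcyclicHomology
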