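import Groth.Agent.L17.ExtExact
import Groth.Agent.L17.AffineVanishing
import Groth.Agent.L17.PushQCoh
import Mathlib.CategoryTheory.Preadditive.Yoneda.Limits

/-!
Cohomology over preimages as sections of higher direct images, compatibly with module morphisms and
global functions.
-/

set_option autoImplicit false
set_option backward.defeqAttrib.useBackward true
set_option backward.isDefEq.respectTransparency false

universe u

open CategoryTheory CategoryTheory.Limits AlgebraicGeometry TopologicalSpace Opposite CategoryTheory.Abelian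
open Groth.L10.SiteCoh

noncomputable section

namespace Groth.L17.CohSections

variable {X S : Scheme.{u}}

/-- The free abelian sheaf on an open. -/
abbrev fsU (U : X.Opens) : Sheaf (Opens.grothendieckTopology X) AddCommGrpCat.{u} :=
  fs (Opens.grothendieckTopology X) U

/-- Sections over `U`, as maps from the free sheaf on `U`. -/
abbrev secF (U : X.Opens) : X.Modules ⥤ AddCommGrpCat.{u} :=
  toAbShF X ⋙ preadditiveCoyoneda.obj (op (fsU U))

instance additive_secF (U : X.Opens) : (secF U).Additive where

instance preservesFiniteLimits_secF (U : X.Opens) : PreservesFiniteLimits (secF U) :=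
  comp_preservesFiniteLimits _ _

/-- Cohomology over `U` is the derived functor of sections over `U`. -/
def equivH [HasInjectiveResolutions X.Modules] (U : X.Opens) (M : X.Modules) (n : ℕ) :
    (((secF U).rightDerived n).obj M : Type u) ≃+ Ext (fsU U) (Coh.toAb M) n :=
  ExtExact.equiv (toAbShF X) (fsU U) (fun I hI k => Groth.L17.subsingleton_ext_fs_of_injective I U k) M n

theorem equivH_naturality [HasInjectiveResolutions X.Modules] (U : X.Opens) {M M' : X.Modules} (g : M ⟶ M')
    (n : ℕ) (x : ((secF U).rightDerived n).obj M) :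
    equivH U M' n (((secF U).rightDerived n).map g x) =
      (equivH U M n x).comp (Ext.mk₀ ((toAbShF X).map g)) (add_zero n) :=
  ExtExact.equiv_naturality (toAbShF X) (fsU U) _ g n x

variable (f : X ⟶ S)

attribute [local instance] PushQCoh.additive_push PushQCoh.hasInjectiveResolutions

/-- Sections over `V` of the direct image are sections over the preimage. -/
def pushSecIso (V : S.Opens) :
    Scheme.Modules.pushforward f ⋙ secF V ≅ secF (f ⁻¹ᵁ V) :=
  NatIso.ofComponents
    (fun M => AddEquiv.toAddCommGrpIso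
      ((secEquiv (Opens.grothendieckTopology S) V (Coh.toAb ((Scheme.Modules.pushforward f).obj M))).trans
        (secEquiv (Opens.grothendieckTopology X) (f ⁻¹ᵁ V) (Coh.toAb M)).symm))
    (fun {M N} φ => by
      ext g
      apply (secEquiv (Opens.grothendieckTopology X) (f ⁻¹ᵁ V) (Coh.toAb N)).injective
      change secEquiv (Opens.grothendieckTopology X) (f ⁻¹ᵁ V) (Coh.toAb N)
          ((secEquiv (Opens.grothendieckTopology X) (f ⁻¹ᵁ V) (Coh.toAb N)).symm
            (secEquiv (Opens.grothendieckTopology S) V (Coh.toAb ((Scheme.Modules.pushforward f).obj N))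
              (g ≫ (toAbShF S).map ((Scheme.Modules.pushforward f).map φ)))) =
        secEquiv (Opens.grothendieckTopology X) (f ⁻¹ᵁ V) (Coh.toAb N)
          ((secEquiv (Opens.grothendieckTopology X) (f ⁻¹ᵁ V) (Coh.toAb M)).symm
            (secEquiv (Opens.grothendieckTopology S) V (Coh.toAb ((Scheme.Modules.pushforward f).obj M)) g) ≫
            (toAbShF X).map φ)
      rw [AddEquiv.apply_symm_apply, secEquiv_comp, secEquiv_comp, AddEquiv.apply_symm_apply]
      rfl)

instance enoughInjectives_modules (Z : Scheme.{u}) : EnoughInjectives Z.Modules :=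
  haveI := Groth.L00.Tensor.grothendieckAbelian_modules Z
  inferInstance

theorem acyclic_secF (V : S.Opens) (N : S.Modules)
    (h : ∀ m, Subsingleton (Ext (fsU V) (Coh.toAb N) (m + 1))) : AcyclicHomology.Acyclic (secF V) N :=
  fun q => by
    haveI := h q
    haveI : Subsingleton (((secF V).rightDerived (q + 1)).obj N) := (equivH V N (q + 1)).toEquiv.subsingleton
    exact AddCommGrpCat.isZero_of_subsingleton _

theorem acyclic_push_injective (V : S.Opens) (I : X.Modules) [Injective I] :
    AcyclicHomology.Acyclic (secF V) ((Scheme.Modules.pushforward f).obj I) :=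
  acyclic_secF V _ fun m => Groth.L10.TopCoh.subsingleton_ext_of_flasque (X := S.toTopCat) _
    ⟨fun {U W} i => (PushMV.isFlasque_of_injective I).1 ((Opens.map f.base).op.map i)⟩ V m

/-- Multiplication by a global function, on modules. -/
def smulM (r : Coh.Γtop X) : 𝟭 X.Modules ⟶ 𝟭 X.Modules where
  app M := (SheafOfModules.fullyFaithfulForget _).preimage (PresheafOfModules.homMk (Coh.smulAb M r).hom
    (fun U a m => by
      change Coh.resTop X U r • (a • m) = a • (Coh.resTop X U r • m)
      rw [smul_smul, smul_smul]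
      exact congrArg (· • m) (mul_comm (show Γ(X, U.unop) from Coh.resTop X U r) a)))
  naturality M N g := by
    haveI : (toAbShF X).Faithful := inferInstanceAs (SheafOfModules.toSheaf.{u} X.ringCatSheaf).Faithful
    apply (toAbShF X).map_injective
    ext U m
    exact ((g.val.app U).hom.map_smul (Coh.resTop X U r) m).symm

theorem toAb_smulM (r : Coh.Γtop X) (M : X.Modules) : (toAbShF X).map ((smulM r).app M) = Coh.smulAb M r := rfl

theorem push_smulM (r : Coh.Γtop S) (M : X.Modules) :
    (Scheme.Modules.pushforward f).map ((smulM (f.appTop r)).app M) =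
      (smulM r).app ((Scheme.Modules.pushforward f).obj M) := by
  haveI : (toAbShF S).Faithful := inferInstanceAs (SheafOfModules.toSheaf.{u} S.ringCatSheaf).Faithful
  apply (toAbShF S).map_injective
  ext U m
  change (show Γ(X, f ⁻¹ᵁ U.unop) from Coh.resTop X (op (f ⁻¹ᵁ U.unop)) (f.appTop r)) • (show Γ(M, f ⁻¹ᵁ U.unop) from m) =
    (show Γ(X, f ⁻¹ᵁ U.unop) from f.app U.unop (Coh.resTop S U r)) • (show Γ(M, f ⁻¹ᵁ U.unop) from m)
  refine congrArg (fun x : Γ(X, f ⁻¹ᵁ U.unop) => x • (show Γ(M, f ⁻¹ᵁ U.unop) from m)) ?_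
  exact (ConcreteCategory.congr_hom (f.naturality (homOfLE (le_top (a := U.unop))).op) r).symm

variable [QuasiCompact f] [QuasiSeparated f] {V : S.Opens} (hV : IsAffineOpen V)

include hV in
theorem acyclic_Rpush (M : X.Modules) [Coh.IsQCoh M] (q : ℕ) :
    AcyclicHomology.Acyclic (secF V) (((Scheme.Modules.pushforward f).rightDerived q).obj M) := by
  refine acyclic_secF V _ fun m => ?_
  haveI := PushQCoh.isQCoh_Rpush f M q
  exact subsingleton_of_forall_eq 0 (Groth.L17.hu_affine_eq_zero ((Coh.Rpush f q).obj M) hV m)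

/-- `H^n(f⁻¹ V, M)` as the sections of `R^n f_* M` over `V` affine, as derived functors. -/
def secIso (M : X.Modules) [Coh.IsQCoh M] (n : ℕ) :
    ((secF (f ⁻¹ᵁ V)).rightDerived n).obj M ≅ (secF V).obj (((Scheme.Modules.pushforward f).rightDerived n).obj M) :=
  (rightDerivedCongr (pushSecIso f V) n).symm.app M ≪≫
    AcyclicHomology.compIso (secF V) (Scheme.Modules.pushforward f) (fun I _ => acyclic_push_injective f V I) M
      (acyclic_Rpush f hV M) n

/-- `H^n(f⁻¹ V, M) = Γ(V, R^n f_* M)` for `V` affine. -/
def equiv (M : X.Modules) [Coh.IsQCoh M] (n : ℕ) :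
    Ext (fsU (f ⁻¹ᵁ V)) (Coh.toAb M) n ≃+ ↑((Coh.toAb ((Coh.Rpush f n).obj M)).obj.obj (op V)) :=
  (equivH (f ⁻¹ᵁ V) M n).symm.trans ((secIso f hV M n).addCommGroupIsoToAddEquiv.trans
    (secEquiv (Opens.grothendieckTopology S) V _))

theorem equiv_naturality {M N : X.Modules} [Coh.IsQCoh M] [Coh.IsQCoh N] (g : M ⟶ N) (n : ℕ)
    (x : Ext (fsU (f ⁻¹ᵁ V)) (Coh.toAb M) n) :
    equiv f hV N n (x.comp (Ext.mk₀ ((toAbShF X).map g)) (add_zero n)) =
      ((toAbShF S).map ((Coh.Rpush f n).map g)).hom.app (op V) (equiv f hV M n x) := by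
  obtain ⟨y, rfl⟩ := (equivH (f ⁻¹ᵁ V) M n).surjective x
  rw [← equivH_naturality]
  simp only [equiv, AddEquiv.trans_apply, AddEquiv.symm_apply_apply]
  have h1 : ((secF (f ⁻¹ᵁ V)).rightDerived n).map g ≫ (secIso f hV N n).hom =
      (secIso f hV M n).hom ≫ (secF V).map (((Scheme.Modules.pushforward f).rightDerived n).map g) := by
    simp only [secIso, Iso.trans_hom, Iso.app_hom, Iso.symm_hom, Category.assoc]
    rw [NatTrans.naturality_assoc, AcyclicHomology.compIso_naturality]
  refine (congrArg _ (ConcreteCategory.congr_hom h1 y)).trans ?_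
  exact secEquiv_comp _ _

/-- The identification is linear over the global functions of the base. -/
theorem equiv_smul (M : X.Modules) [Coh.IsQCoh M] (r : Coh.Γtop S) (n : ℕ)
    (x : Ext (fsU (f ⁻¹ᵁ V)) (Coh.toAb M) n) :
    equiv f hV M n (x.comp (Ext.mk₀ (Coh.smulAb M (f.appTop r))) (add_zero n)) =
      (Coh.smulAb ((Coh.Rpush f n).obj M) r).hom.app (op V) (equiv f hV M n x) := by
  have h := equiv_naturality f hV (M := M) (N := M) ((smulM (f.appTop r)).app M) n x
  rw [toAb_smulM] at h
  refine h.trans ?_
  have h2 := AcyclicHomology.rightDerived_map_endo (Scheme.Modules.pushforward f) (smulM (f.appTop r)) (smulM r)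
    (push_smulM f r) M n
  erw [h2]
  rfl

end Groth.L17.CohSections
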