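import Groth.Prelude.Def_ClSub2
import Groth.Agent.L19.SurjClosed
import Mathlib.AlgebraicGeometry.Morphisms.Proper
import Mathlib.AlgebraicGeometry.Morphisms.Finite
import Mathlib.AlgebraicGeometry.IdealSheaf.Functorial

/-!
Closed subsets proper over a base.
-/

set_option autoImplicit false
set_option backward.isDefEq.respectTransparency false

universe u

open CategoryTheory CategoryTheory.Limits AlgebraicGeometry TopologicalSpace

noncomputable section

namespace Groth.L17.ProperOver

variable {X Y S : Scheme.{u}}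

theorem range_ι (Z : Closeds X) : Set.range (Scheme.IdealSheafData.vanishingIdeal Z).subschemeι = (Z : Set X) :=
  (Scheme.IdealSheafData.range_subschemeι _).trans (Scheme.IdealSheafData.coe_support_vanishingIdeal Z)

/-- A morphism factors through a closed immersion surjecting onto ... : descent of properness along a
surjective universally closed morphism. -/
theorem isProper_of_surjective {W T : Scheme.{u}} (π : W ⟶ T) (q : T ⟶ S) [Surjective π]
    [UniversallyClosed π] [IsProper (π ≫ q)] [LocallyOfFiniteType q] : IsProper q := by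
  haveI : UniversallyClosed q := UniversallyClosed.of_comp_surjective π q
  haveI : IsSeparated q := Groth.L19.isSeparated_of_surjective_universallyClosed π q
  exact {}

/-- A closed immersion whose range lies in the image of something proper is proper. -/
theorem isProper_of_range_subset (f : X ⟶ S) [LocallyOfFiniteType f] {W T : Scheme.{u}} (g : W ⟶ X)
    [UniversallyClosed g] [IsProper (g ≫ f)] (i : T ⟶ X) [IsClosedImmersion i]
    (h : Set.range i ⊆ Set.range g) : IsProper (i ≫ f) := by
  let π := pullback.snd g i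
  haveI : Surjective π := by
    rw [surjective_iff, ← Set.range_eq_univ, Scheme.Pullback.range_snd, Set.eq_univ_iff_forall]
    exact fun t => h ⟨t, rfl⟩
  haveI : IsProper (π ≫ i ≫ f) := by
    rw [← pullback.condition_assoc]
    infer_instance
  exact isProper_of_surjective π (i ≫ f)

/-- The image of something proper is proper. -/
theorem isProperOver_range (f : X ⟶ S) [LocallyOfFiniteType f] {W : Scheme.{u}} (g : W ⟶ X)
    [UniversallyClosed g] [IsProper (g ≫ f)] : ClSub.IsProperOver f (Set.range g) :=
  ⟨g.isClosedMap.isClosed_range, isProper_of_range_subset f g _ (range_ι _).le⟩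

/-- Closed subschemes supported in a proper subset are proper. -/
theorem isProper_of_isProperOver {f : X ⟶ S} [LocallyOfFiniteType f] {Z : Set X}
    (hZ : ClSub.IsProperOver f Z) {T : Scheme.{u}} (i : T ⟶ X) [IsClosedImmersion i]
    (h : Set.range i ⊆ Z) : IsProper (i ≫ f) := by
  obtain ⟨hc, hp⟩ := hZ
  haveI := hp
  exact isProper_of_range_subset f (Scheme.IdealSheafData.vanishingIdeal ⟨Z, hc⟩).subschemeι i
    (h.trans (range_ι ⟨Z, hc⟩).ge)

theorem isProperOver_mono {f : X ⟶ S} [LocallyOfFiniteType f] {Z Z' : Set X}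
    (hZ : ClSub.IsProperOver f Z) (hc : IsClosed Z') (h : Z' ⊆ Z) : ClSub.IsProperOver f Z' :=
  ⟨hc, isProper_of_isProperOver hZ _ ((range_ι ⟨Z', hc⟩).le.trans h)⟩

theorem isProperOver_empty (f : X ⟶ S) [LocallyOfFiniteType f] : ClSub.IsProperOver f (∅ : Set X) := by
  haveI : IsProper (Scheme.emptyTo S) := {}
  haveI : UniversallyClosed (Scheme.emptyTo X) := inferInstance
  haveI : IsProper (Scheme.emptyTo X ≫ f) := by
    rw [show Scheme.emptyTo X ≫ f = Scheme.emptyTo S from isInitialOfIsEmpty.hom_ext _ _]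
    infer_instance
  have := isProperOver_range f (Scheme.emptyTo X)
  rwa [Set.range_eq_empty] at this

theorem isProperOver_union {f : X ⟶ S} [LocallyOfFiniteType f] {Z Z' : Set X}
    (hZ : ClSub.IsProperOver f Z) (hZ' : ClSub.IsProperOver f Z') : ClSub.IsProperOver f (Z ∪ Z') := by
  obtain ⟨hc, hp⟩ := hZ
  obtain ⟨hc', hp'⟩ := hZ'
  let i := (Scheme.IdealSheafData.vanishingIdeal ⟨Z, hc⟩).subschemeι
  let i' := (Scheme.IdealSheafData.vanishingIdeal ⟨Z', hc'⟩).subschemeι
  haveI : IsProper (coprod.map (i ≫ f) (i' ≫ f)) :=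
    IsZariskiLocalAtTarget.coprodMap (P := @IsProper) _ _ hp hp'
  haveI : IsProper (coprod.desc i i' ≫ f) := by
    rw [show coprod.desc i i' ≫ f = coprod.map (i ≫ f) (i' ≫ f) ≫ coprod.desc (𝟙 S) (𝟙 S) by simp]
    infer_instance
  have := isProperOver_range f (coprod.desc i i')
  have e : Set.range (coprod.desc i i') = Z ∪ Z' := by
    apply le_antisymm
    · rintro _ ⟨y, rfl⟩
      obtain ⟨z | z, rfl⟩ := (coprodMk _ _).surjective y
      · rw [coprodMk_inl, ← Scheme.Hom.comp_apply, coprod.inl_desc]
        exact Or.inl ((range_ι ⟨Z, hc⟩).le ⟨z, rfl⟩)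
      · rw [coprodMk_inr, ← Scheme.Hom.comp_apply, coprod.inr_desc]
        exact Or.inr ((range_ι ⟨Z', hc'⟩).le ⟨z, rfl⟩)
    · rintro x (hx | hx)
      · obtain ⟨z, hz⟩ := (range_ι ⟨Z, hc⟩).ge hx
        refine ⟨(coprod.inl : _ ⟶ _ ⨿ (Scheme.IdealSheafData.vanishingIdeal ⟨Z', hc'⟩).subscheme) z, ?_⟩
        rw [← Scheme.Hom.comp_apply, coprod.inl_desc]
        exact hz
      · obtain ⟨z, hz⟩ := (range_ι ⟨Z', hc'⟩).ge hx
        refine ⟨(coprod.inr : _ ⟶ (Scheme.IdealSheafData.vanishingIdeal ⟨Z, hc⟩).subscheme ⨿ _) z, ?_⟩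
        rw [← Scheme.Hom.comp_apply, coprod.inr_desc]
        exact hz
  rwa [e] at this

theorem isProperOver_iUnion {f : X ⟶ S} [LocallyOfFiniteType f] {ι : Type*} [Finite ι] (Z : ι → Set X)
    (hZ : ∀ i, ClSub.IsProperOver f (Z i)) : ClSub.IsProperOver f (⋃ i, Z i) := by
  classical
  cases nonempty_fintype ι
  have : ∀ s : Finset ι, ClSub.IsProperOver f (⋃ i ∈ s, Z i) := fun s => by
    induction s using Finset.induction_on with
    | empty => simpa using isProperOver_empty f
    | insert a s _ ih =>
      rw [Finset.set_biUnion_insert]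
      exact isProperOver_union (hZ a) ih
  simpa using this Finset.univ

end Groth.L17.ProperOver
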