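import Groth.Agent.L17.LocBases
import Groth.Agent.L00.SheafHom
import Groth.Prelude.Def_FlatMod2

/-!
Finite locally free modules on a scheme have bases locally.
-/

set_option autoImplicit false
set_option backward.isDefEq.respectTransparency false

universe u

open CategoryTheory CategoryTheory.Limits AlgebraicGeometry Opposite TopologicalSpace

namespace Groth.L17.FinLocBases

open Groth.L17.LocBases Groth.L00.ModSiteTensor

variable {X : Scheme.{u}}

/-- The sections `x` of a sum. -/
theorem app_sum {M N : X.Modules} {ι : Type} (t : Finset ι) (f : ι → (M ⟶ N)) (V : X.Opens) (x : Γ(M, V)) :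
    (∑ i ∈ t, f i).app V x = ∑ i ∈ t, (f i).app V x := by
  classical
  induction t using Finset.induction_on with
  | empty => simp
  | insert a t ha ih =>
    rw [Finset.sum_insert ha, Finset.sum_insert ha, ← ih]
    rfl

/-- Splitting data of the free module. -/
theorem exists_split (n : ℕ) {M : X.Modules} (e : M ≅ FlatMod.freeMod X n) :
    ∃ (a : Fin n → (Coh.structureModule X ⟶ M)) (b : Fin n → (M ⟶ Coh.structureModule X)),
      (∀ i j, a i ≫ b j = if i = j then 𝟙 _ else 0) ∧ ∑ i, b i ≫ a i = 𝟙 M := by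
  let π : Fin n → (FlatMod.freeMod X n ⟶ Coh.structureModule X) := fun j =>
    Sigma.desc fun i => if i = j then 𝟙 _ else 0
  refine ⟨fun i => Sigma.ι (fun _ : Fin n => Coh.structureModule X) i ≫ e.inv, fun j => e.hom ≫ π j,
    fun i j => ?_, ?_⟩
  · rw [Category.assoc, e.inv_hom_id_assoc, Sigma.ι_desc]
  · have h : ∑ i, π i ≫ Sigma.ι (fun _ : Fin n => Coh.structureModule X) i = 𝟙 (FlatMod.freeMod X n) := by
      refine Sigma.hom_ext _ _ fun k => ?_
      rw [Preadditive.comp_sum, Category.comp_id, Finset.sum_eq_single k]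
      · simp [π]
      · intro i _ hi
        simp [π, Ne.symm hi]
      · exact fun hk => (hk (Finset.mem_univ k)).elim
    simp only [Category.assoc, ← Preadditive.comp_sum]
    rw [show (∑ i, π i ≫ Sigma.ι (fun _ : Fin n => Coh.structureModule X) i ≫ e.inv) = e.inv by
      simp only [← Category.assoc, ← Preadditive.sum_comp, h, Category.id_comp]]
    exact e.hom_inv_id

/-- Sections of a split module are linear combinations. -/
theorem bijective_lc {M : X.Modules} {n : ℕ} (a : Fin n → (Coh.structureModule X ⟶ M))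
    (b : Fin n → (M ⟶ Coh.structureModule X)) (hab : ∀ i j, a i ≫ b j = if i = j then 𝟙 _ else 0)
    (hba : ∑ i, b i ≫ a i = 𝟙 M) (V : X.Opens) :
    Function.Bijective fun r : Fin n → Γ(X, V) =>
      ∑ i, r i • M.presheaf.map (homOfLE (le_top (a := V))).op ((a i).app ⊤ (1 : Γ(X, ⊤))) := by
  have ha : ∀ i (r : Γ(X, V)), (a i).app V r =
      r • M.presheaf.map (homOfLE (le_top (a := V))).op ((a i).app ⊤ (1 : Γ(X, ⊤))) := fun i r => by
    let one' : Γ(Coh.structureModule X, V) := (1 : Γ(X, V))
    have h1 : (a i).app V (r • one') = r • (a i).app V one' := Scheme.Modules.Hom.app_smul _ r one'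
    have h2 : r • one' = r := mul_one r
    have h3 : M.presheaf.map (homOfLE (le_top (a := V))).op ((a i).app ⊤ (1 : Γ(X, ⊤))) = (a i).app V one' :=
      (PresheafOfModules.naturality_apply (a i).val (homOfLE (le_top (a := V))).op (1 : Γ(X, ⊤))).symm.trans
        (congrArg ((a i).app V) (map_one (X.presheaf.map (homOfLE (le_top (a := V))).op).hom))
    exact ((congrArg ((a i).app V) h2).symm.trans h1).trans (congrArg (r • ·) h3.symm)
  simp only [← ha]
  refine ⟨fun r r' h => funext fun j => ?_, fun x => ⟨fun i => (b i).app V x, ?_⟩⟩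
  · have key : ∀ r : Fin n → Γ(X, V), (b j).app V (∑ i, (a i).app V (r i)) = r j := fun r => by
      rw [map_sum, Finset.sum_eq_single j]
      · exact (congr($(hab j j).app V (r j))).trans (by rw [if_pos rfl]; rfl)
      · intro i _ hi
        exact (congr($(hab i j).app V (r i))).trans (by rw [if_neg hi]; rfl)
      · exact fun hj => (hj (Finset.mem_univ j)).elim
    rw [← key r, ← key r']
    exact congrArg ((b j).app V) h
  · refine Eq.trans ?_ (congr($(hba).app V x))
    exact (app_sum Finset.univ (fun i => b i ≫ a i) V x).symm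

theorem exists_isBasis (M : X.Modules) {U : X.Opens} {n : ℕ} (e : M.restrict U.ι ≅ FlatMod.freeMod (↑U) n) :
    ∃ s : Fin n → Sec ((preF X.sheaf).obj M) (U.ι ''ᵁ ⊤), IsBasis (O := X.sheaf) M s := by
  obtain ⟨a, b, hab, hba⟩ := exists_split n e
  refine ⟨fun i => (a i).app ⊤ (1 : Γ(↑U, ⊤)), fun W' g => ?_⟩
  obtain ⟨V, rfl⟩ : ∃ V : (↑U : Scheme.{u}).Opens, U.ι ''ᵁ V = W' := by
    refine ⟨U.ι ⁻¹ᵁ W', ?_⟩
    rw [Scheme.Hom.image_preimage_eq_opensRange_inf]
    refine inf_eq_right.2 (le_trans (leOfHom g) ?_)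
    exact (Scheme.Hom.image_top_eq_opensRange U.ι).le
  let ee := (U.ι.appIso V).commRingCatIsoToRingEquiv
  refine (Function.Bijective.of_comp_iff _
    (Equiv.piCongrRight fun _ : Fin n => ee.symm.toEquiv).bijective).1 ?_
  have h := bijective_lc a b hab hba V
  refine Eq.mp (congrArg Function.Bijective ?_) h
  funext r
  refine Finset.sum_congr rfl fun i _ => ?_
  rfl

/-- Finite locally free modules have bases locally. -/
theorem hasLocBases {M : X.Modules} (hM : FlatMod.IsFinLocFree M) : HasLocBases (O := X.sheaf) M := fun V => by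
  let S : Sieve V :=
    { arrows := fun W _ => ∃ (n : ℕ) (s : Fin n → Sec ((preF X.sheaf).obj M) W), IsBasis (O := X.sheaf) M s
      downward_closed := fun {W W'} g hg g' => by
        obtain ⟨n, s, hs⟩ := hg
        exact ⟨n, _, hs.res g'⟩ }
  refine ⟨S, fun x hx => ?_, fun W g hg => hg⟩
  obtain ⟨U, n, hxU, ⟨e⟩⟩ := hM x
  obtain ⟨s, hs⟩ := exists_isBasis M e
  have hU : U.ι ''ᵁ ⊤ = U := (Scheme.Hom.image_top_eq_opensRange U.ι).trans U.opensRange_ι
  exact ⟨V ⊓ U.ι ''ᵁ ⊤, homOfLE inf_le_left, ⟨n, _, hs.res (homOfLE inf_le_right)⟩, hx, hU.symm ▸ hxU⟩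

end Groth.L17.FinLocBases
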