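import Mathlib.RingTheory.Noetherian.OfPrime
import Mathlib.RingTheory.Ideal.Maps
import Mathlib.RingTheory.Finiteness.Ideal
import Mathlib.RingTheory.Nilpotent.Lemmas

/-!
Noetherianity along nilpotent thickenings of rings.
-/

set_option autoImplicit false

namespace Groth.L17.ThickRing

variable {R S : Type*} [CommRing R] [CommRing S]

/-- An ideal is finitely generated modulo the kernel of a surjection to a Noetherian ring. -/
theorem exists_fg_le_sup_ker (φ : R →+* S) (hφ : Function.Surjective φ) [IsNoetherianRing S]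
    (P : Ideal R) : ∃ g : Ideal R, g.FG ∧ g ≤ P ∧ P ≤ g ⊔ RingHom.ker φ := by
  classical
  obtain ⟨s, hs⟩ := IsNoetherian.noetherian (P.map φ)
  have hpre : ∀ t : s, ∃ r ∈ P, φ r = t.1 := fun t =>
    (Ideal.mem_map_iff_of_surjective φ hφ).mp (hs ▸ Submodule.subset_span t.2)
  choose r hrP hr using hpre
  refine ⟨Ideal.span (Set.range r), ⟨(Set.finite_range r).toFinset, by simp [Ideal.span]⟩,
    Ideal.span_le.mpr (Set.range_subset_iff.mpr hrP), fun x hx => ?_⟩
  have h1 : φ x ∈ (Ideal.span (Set.range r)).map φ := by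
    have h2 : φ x ∈ P.map φ := Ideal.mem_map_of_mem φ hx
    rw [Ideal.map_span]
    rw [← hs] at h2
    refine Ideal.span_mono ?_ h2
    intro t ht
    exact ⟨r ⟨t, ht⟩, ⟨⟨t, ht⟩, rfl⟩, hr _⟩
  rw [← Ideal.mem_comap, Ideal.comap_map_of_surjective φ hφ, ← RingHom.ker_eq_comap_bot] at h1
  exact h1

/-- A ring with a finitely generated nil ideal and Noetherian quotient is Noetherian. -/
theorem isNoetherianRing_of_ker (φ : R →+* S) (hφ : Function.Surjective φ) [IsNoetherianRing S]
    (hfg : (RingHom.ker φ).FG) (hnil : RingHom.ker φ ≤ nilradical R) : IsNoetherianRing R := by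
  refine IsNoetherianRing.of_prime fun P hP => ?_
  obtain ⟨g, hg, hgP, hPg⟩ := exists_fg_le_sup_ker φ hφ P
  have h : P = g ⊔ RingHom.ker φ :=
    le_antisymm hPg (sup_le hgP fun x hx => (nilradical_le_prime P) (hnil hx))
  rw [h]
  exact Submodule.FG.sup hg hfg

theorem sup_pow_succ_le (g N K : Ideal R) (hg : g ≤ N) (hK : K ≤ N) (m : ℕ) :
    (g ⊔ K) ^ (m + 1) ≤ g ^ (m + 1) ⊔ K * N ^ m := by
  induction m with
  | zero => simp
  | succ m ih =>
    rw [pow_succ]
    refine (Ideal.mul_mono ih le_rfl).trans ?_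
    rw [Ideal.sup_mul, Ideal.mul_sup, ← pow_succ]
    refine sup_le (sup_le le_sup_left ?_) ?_
    · refine le_sup_of_le_right ?_
      rw [mul_comm]
      exact Ideal.mul_mono le_rfl (Ideal.pow_right_mono hg _)
    · refine le_sup_of_le_right ?_
      rw [mul_assoc, pow_succ]
      exact Ideal.mul_mono le_rfl (Ideal.mul_mono le_rfl (sup_le hg hK))

/-- In an adic tower the kernel `N ^ (n+1)` is finitely generated (`n ≥ 1`). -/
theorem fg_pow_of_tower (φ : R →+* S) (hφ : Function.Surjective φ) [IsNoetherianRing S]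
    (N : Ideal R) (n : ℕ) (hn : 1 ≤ n) (hker : RingHom.ker φ = N ^ (n + 1))
    (hzero : N ^ (n + 2) = ⊥) : (RingHom.ker φ).FG := by
  obtain ⟨g, hg, hgN, hNg⟩ := exists_fg_le_sup_ker φ hφ N
  have hKN : RingHom.ker φ ≤ N := hker ▸ Ideal.pow_le_self (by omega)
  have h1 : N ^ (n + 1) ≤ g ^ (n + 1) := by
    refine (Ideal.pow_right_mono hNg _).trans ((sup_pow_succ_le g N _ hgN hKN n).trans ?_)
    refine sup_le le_rfl ?_
    rw [hker, ← pow_add]
    exact (Ideal.pow_le_pow_right (by omega)).trans (hzero.le.trans bot_le)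
  rw [hker, le_antisymm h1 (Ideal.pow_right_mono hgN _)]
  exact Ideal.FG.pow hg

end Groth.L17.ThickRing
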