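import Groth.Prelude.Def_FSch3
import Groth.Agent.L22.Ideal
import Groth.Agent.L17.ThickRing
import Mathlib.AlgebraicGeometry.Morphisms.FiniteType
import Mathlib.AlgebraicGeometry.Morphisms.UnderlyingMap

/-!
Systems of thickenings: kernels of composites, cartesian squares, local Noetherianity.
-/

set_option autoImplicit false
universe u

open CategoryTheory CategoryTheory.Limits AlgebraicGeometry TopologicalSpace

namespace Groth.L17.Thick

/-- Inverse image of ideal sheaves commutes with powers. -/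
theorem comap_pow {X Y : Scheme.{u}} (f : X ⟶ Y) (I : Y.IdealSheafData) (n : ℕ) :
    (I ^ n).comap f = I.comap f ^ n := by
  induction n with
  | zero =>
    simp only [pow_zero, Scheme.IdealSheafData.one_eq_top, Scheme.IdealSheafData.comap_top]
  | succ n ih => rw [pow_succ, pow_succ, Groth.L22.Ideals.comap_mul, ih]

/-- The kernel of the left leg of a cartesian square with a closed immersion. -/
theorem ker_of_isPullback {P X Y Z : Scheme.{u}} {i : P ⟶ X} {p : P ⟶ Y} {f : X ⟶ Z} {j : Y ⟶ Z}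
    [IsClosedImmersion j] (h : IsPullback i p f j) : i.ker = j.ker.comap f := by
  rw [← h.isoPullback_hom_fst, Scheme.Hom.ker_comp_of_isIso]
  exact Scheme.IdealSheafData.ker_fst_of_isClosedImmersion j f

/-- A closed immersion factoring through a monomorphism. -/
theorem ker_of_comp_mono {Z' Z X : Scheme.{u}} (i : Z' ⟶ Z) (j : Z ⟶ X) (k : Z' ⟶ X) [Mono j]
    [IsClosedImmersion k] (h : i ≫ j = k) : i.ker = k.ker.comap j := by
  refine ker_of_isPullback (p := 𝟙 Z') (IsPullback.of_isLimit' ⟨by simp [h]⟩ ?_)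
  refine PullbackCone.IsLimit.mk (by simp [h]) (fun s => s.snd) (fun s => ?_) (fun s => ?_)
    fun s m _ hm => ?_
  · rw [← cancel_mono j, Category.assoc, h]
    exact s.condition.symm
  · simp
  · simpa using hm

section Nilradical

/-- Sections vanishing under a surjective morphism are nilpotent. -/
theorem ker_app_le_nilradical {Z X : Scheme.{u}} (i : Z ⟶ X) (hi : Function.Surjective i.base)
    {V : X.Opens} (hV : IsAffineOpen V) : RingHom.ker (i.app V).hom ≤ nilradical Γ(X, V) := by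
  intro r hr
  rw [mem_nilradical, nilpotent_iff_mem_prime]
  intro P hP
  by_contra hrP
  have h : (⟨P, hP⟩ : PrimeSpectrum Γ(X, V)) ∈ hV.fromSpec ⁻¹ᵁ X.basicOpen r := by
    rw [hV.fromSpec_preimage_basicOpen r]
    exact hrP
  obtain ⟨z, hz⟩ := hi (hV.fromSpec ⟨P, hP⟩)
  have h2 : z ∈ i ⁻¹ᵁ X.basicOpen r := by
    change i.base z ∈ X.basicOpen r
    rw [hz]
    exact h
  rw [Scheme.preimage_basicOpen, RingHom.mem_ker.mp hr, Scheme.basicOpen_zero] at h2
  exact h2.elim

theorem isLocallyNoetherian_of_local {Z X : Scheme.{u}} (i : Z ⟶ X) [IsClosedImmersion i]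
    (hi : Function.Surjective i.base) [IsLocallyNoetherian Z]
    (h : ∀ x : X, ∃ V : X.affineOpens, x ∈ V.1 ∧ (i.ker.ideal V).FG) : IsLocallyNoetherian X := by
  choose V hxV hfg using h
  refine isLocallyNoetherian_of_affine_cover (S := V)
    (eq_top_iff.2 fun x _ => Opens.mem_iSup.2 ⟨x, hxV x⟩) fun x => ?_
  have : IsNoetherianRing Γ(Z, i ⁻¹ᵁ (V x).1) :=
    IsLocallyNoetherian.component_noetherian ⟨_, (V x).2.preimage i⟩
  refine Groth.L17.ThickRing.isNoetherianRing_of_ker (i.app (V x).1).hom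
    (i.app_surjective _ (V x).2) ?_ (ker_app_le_nilradical i hi (V x).2)
  rw [← Scheme.Hom.ker_apply i (V x)]
  exact hfg x

end Nilradical

section Sys

variable {𝔛 : FSch.Sys.{u}}

theorem toX_succ (𝔛 : FSch.Sys.{u}) (n : ℕ) : 𝔛.toX (n + 1) = 𝔛.toX n ≫ 𝔛.ι n := rfl

theorem isClosedImmersion_toX (hF : 𝔛.IsFormal) : ∀ n, IsClosedImmersion (𝔛.toX n)
  | 0 => inferInstanceAs (IsClosedImmersion (𝟙 (𝔛.X 0)))
  | n + 1 => by
    have := isClosedImmersion_toX hF n
    have := (hF n).1
    rw [toX_succ]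
    infer_instance

theorem surjective_toX (hF : 𝔛.IsFormal) : ∀ n, Function.Surjective (𝔛.toX n).base
  | 0 => fun x => ⟨x, rfl⟩
  | n + 1 => by
    rw [toX_succ]
    exact ((hF n).2.comp (surjective_toX hF n))

/-- The adic equation on an affine open. -/
theorem ker_app_eq (hF : 𝔛.IsFormal) (hA : 𝔛.IsAdic) (n : ℕ) (V : (𝔛.X (n + 1)).affineOpens) :
    RingHom.ker ((𝔛.ι n).app V.1).hom =
      RingHom.ker ((𝔛.toX (n + 1)).app V.1).hom ^ (n + 1) := by
  have := isClosedImmersion_toX hF (n + 1)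
  have := (hF n).1
  rw [← Scheme.Hom.ker_apply, ← Scheme.Hom.ker_apply, hA n, Scheme.IdealSheafData.ideal_pow,
    Pi.pow_apply]

/-- Levels of an adic system with Noetherian smallest level are locally Noetherian. -/
theorem isLocallyNoetherian_X (hF : 𝔛.IsFormal) (hA : 𝔛.IsAdic) [IsLocallyNoetherian (𝔛.X 0)]
    (hft : ∀ x : 𝔛.X 1, ∃ V : (𝔛.X 1).affineOpens, x ∈ V.1 ∧ ((𝔛.ι 0).ker.ideal V).FG) :
    ∀ n, IsLocallyNoetherian (𝔛.X n) := by
  intro n
  induction n with
  | zero => infer_instance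
  | succ n ih =>
    have := (hF n).1
    have := (hF (n + 1)).1
    have := isClosedImmersion_toX hF (n + 1)
    cases n with
    | zero => exact isLocallyNoetherian_of_local _ (hF 0).2 hft
    | succ m =>
      refine isLocallyNoetherian_of_local _ (hF (m + 1)).2 fun x => ?_
      obtain ⟨_, ⟨W, hW, rfl⟩, hxW, -⟩ := (𝔛.X (m + 1 + 1 + 1)).isBasis_affineOpens
        |>.exists_subset_of_mem_open (Set.mem_univ ((𝔛.ι (m + 1 + 1)) x)) isOpen_univ
      let V : (𝔛.X (m + 1 + 1)).affineOpens :=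
        ⟨(𝔛.ι (m + 1 + 1)) ⁻¹ᵁ W, hW.preimage _⟩
      refine ⟨V, hxW, ?_⟩
      rw [Scheme.Hom.ker_apply]
      have : IsNoetherianRing Γ(𝔛.X (m + 1), (𝔛.ι (m + 1)) ⁻¹ᵁ V.1) :=
        IsLocallyNoetherian.component_noetherian ⟨_, V.2.preimage _⟩
      let a := ((𝔛.ι (m + 1 + 1)).app W).hom
      let b := ((𝔛.toX (m + 1 + 1)).app V.1).hom
      have hb : RingHom.ker ((𝔛.toX (m + 1 + 1 + 1)).app W).hom = (RingHom.ker b).comap a := by
        rw [RingHom.comap_ker]
        rw [show (𝔛.toX (m + 1 + 1 + 1)) = 𝔛.toX (m + 1 + 1) ≫ 𝔛.ι (m + 1 + 1) from rfl]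
        rw [Scheme.Hom.comp_app]
        rfl
      refine Groth.L17.ThickRing.fg_pow_of_tower _
        ((𝔛.ι (m + 1)).app_surjective _ V.2) (RingHom.ker b) (m + 1) (by omega)
        (ker_app_eq hF hA (m + 1) V) ?_
      have ha : Function.Surjective a := (𝔛.ι (m + 1 + 1)).app_surjective _ hW
      have h3 := ker_app_eq hF hA (m + 1 + 1) ⟨W, hW⟩
      rw [hb] at h3
      rw [← Ideal.map_comap_of_surjective a ha (RingHom.ker b), ← Ideal.map_pow, ← h3]
      exact (Ideal.map_eq_bot_iff_le_ker _).mpr le_rfl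

end Sys

end Groth.L17.Thick
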