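import Groth.Agent.L17.HomAcyclic
import Groth.Agent.L17.GrothSS
import Groth.Agent.L17.HomDerived
import Groth.Agent.L10.SiteRightDerived
import Groth.Agent.L10.SheafModGroth
import Groth.Agent.L21.Mod.Stalks
import Groth.Prelude.Def_ModSite2
import Groth.Prelude.Def_SpSeq
import Mathlib.CategoryTheory.Abelian.GrothendieckCategory.EnoughInjectives

/-!
Global sections of `Hom_O(M, -)` are `Hom_O(M, -)`; the local-to-global Ext spectral sequence on a
small ringed site.
-/

set_option autoImplicit false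

universe u

open CategoryTheory CategoryTheory.Limits MonoidalCategory Opposite

namespace Groth.L17.HomAcyclic

open Groth.L10 Groth.L10.SiteFr Groth.L00.ModSiteTensor

variable {C : Type u} [SmallCategory C] {J : GrothendieckTopology C} (O : Sheaf J CommRingCat.{u})

variable (J) in
/-- The final sheaf of sets. -/
noncomputable abbrev ptSh : Sheaf J (Type u) := ⊤_ (Sheaf J (Type u))

noncomputable instance (V : Cᵒᵖ) : Unique ((ptSh J).obj.obj V) :=
  Types.isTerminalEquivUnique _
    (IsTerminal.isTerminalObj (sheafToPresheaf J (Type u) ⋙ (evaluation Cᵒᵖ (Type u)).obj V) _ terminalIsTerminal)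

variable (J) in
/-- The free presheaf on a point is constant. -/
noncomputable def freePtIso :
    (ptSh J).obj ⋙ AddCommGrpCat.free.{u} ≅
      (Functor.const Cᵒᵖ).obj (AddCommGrpCat.of (ULift.{u} ℤ)) :=
  NatIso.ofComponents
    (fun V => ((FreeAbelianGroup.uniqueEquiv ((ptSh J).obj.obj V)).trans AddEquiv.ulift.symm).toAddCommGrpIso)
    (fun {V W} g => AddCommGrpCat.hom_ext (FreeAbelianGroup.lift_ext _ _ fun x => by
      change AddEquiv.ulift.symm (FreeAbelianGroup.uniqueEquiv ((ptSh J).obj.obj W)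
          (FreeAbelianGroup.map ((ptSh J).obj.map g) (FreeAbelianGroup.of x))) =
        AddEquiv.ulift.symm (FreeAbelianGroup.uniqueEquiv ((ptSh J).obj.obj V) (FreeAbelianGroup.of x))
      simp [FreeAbelianGroup.map_of_apply, FreeAbelianGroup.uniqueEquiv]))

variable (J) in
/-- The constant sheaf is the free sheaf on a point. -/
noncomputable def constIso :
    (fr J).obj (ptSh J) ≅ (constantSheaf J AddCommGrpCat.{u}).obj (AddCommGrpCat.of (ULift.{u} ℤ)) :=
  (presheafToSheaf J AddCommGrpCat.{u}).mapIso (freePtIso J)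

/-- The free module on a point. -/
noncomputable def freeModPtIso :
    (freeMod O).obj (ptSh J) ≅ 𝟙_ (PMo O) :=
  PresheafOfModules.isoMk
    (fun V => (Finsupp.LinearEquiv.finsuppUnique (O.obj.obj V) (O.obj.obj V) ((ptSh J).obj.obj V)).toModuleIso)
    (fun V W g => ModuleCat.free_hom_ext fun (x : (ptSh J).obj.obj V) => by
      obtain rfl : x = default := Unique.eq_default x
      change Finsupp.LinearEquiv.finsuppUnique (O.obj.obj W) (O.obj.obj W) ((ptSh J).obj.obj W)
          (((freeMod O).obj (ptSh J)).map g (ModuleCat.freeMk (default : (ptSh J).obj.obj V))) =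
        (O.obj.map g) (Finsupp.LinearEquiv.finsuppUnique (O.obj.obj V) (O.obj.obj V) ((ptSh J).obj.obj V)
          (Finsupp.single (default : (ptSh J).obj.obj V) 1))
      erw [ModuleCat.freeDesc_apply]
      simp only [Finsupp.LinearEquiv.finsuppUnique_apply]
      change (Finsupp.single ((ptSh J).obj.map g (default : (ptSh J).obj.obj V)) (1 : O.obj.obj W)) default =
        O.obj.map g ((Finsupp.single (default : (ptSh J).obj.obj V) (1 : O.obj.obj V)) default)
      rw [Unique.eq_default ((ptSh J).obj.map g (default : (ptSh J).obj.obj V)), Finsupp.single_eq_same,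
        Finsupp.single_eq_same]
      exact (map_one _).symm)

variable (F : ModSite.Mod O) [ModSite.HasSheafHom F]

/-- Sheafifying a sheaf does nothing. -/
noncomputable def shfPreIso : (shf O).obj ((preF O).obj F) ≅ F :=
  (asIso (shfAdj O).counit).app F

/-- `Φ` of a point is `F`. -/
noncomputable def phiPtIso : (Φ O F).obj (ptSh J) ≅ F :=
  (shf O).mapIso (whiskerRightIso (freeModPtIso O) ((preF O).obj F) ≪≫ λ_ _) ≪≫ shfPreIso O F

/-- `Hom(F, G)` is the group of global sections of `Hom_O(F, G)`. -/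
noncomputable def globalEquiv (G : ModSite.Mod O) :
    ((constantSheaf J AddCommGrpCat.{u}).obj (AddCommGrpCat.of (ULift.{u} ℤ)) ⟶
        ModSite.toAb ((ModSite.sheafHom F).obj G)) ≃+ (F ⟶ G) :=
  { toFun := fun z => (constIso J).hom ≫ z
    invFun := fun w => (constIso J).inv ≫ w
    left_inv := fun z => Iso.inv_hom_id_assoc _ z
    right_inv := fun w => Iso.hom_inv_id_assoc _ w
    map_add' := fun a b => Preadditive.comp_add _ _ _ _ a b : _ ≃+ ((fr J).obj (ptSh J) ⟶ _) }.trans
  ((homEquivΦ O F G (ptSh J)).trans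
    { toFun := fun z => (phiPtIso O F).inv ≫ z
      invFun := fun w => (phiPtIso O F).hom ≫ w
      left_inv := fun z => Iso.hom_inv_id_assoc _ z
      right_inv := fun w => Iso.inv_hom_id_assoc _ w
      map_add' := fun a b => Preadditive.comp_add _ _ _ _ a b })

theorem homEquivΦ_natural_right {G G' : ModSite.Mod O} (k : G ⟶ G') (X : Sheaf J (Type u))
    (z : (fr J).obj X ⟶ ModSite.toAb ((ModSite.sheafHom F).obj G)) :
    homEquivΦ O F G' X (z ≫ (SheafOfModules.toSheaf _).map ((ModSite.sheafHom F).map k)) =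
      homEquivΦ O F G X z ≫ k := by
  let h := (ModSite.sheafHom F).map k
  have h1 : freeFun O (z ≫ (SheafOfModules.toSheaf _).map h) = freeFun O z ≫ (preF O).map h := by
    rw [freeFun, (adj J).homEquiv_naturality_right]
    have e := (PresheafOfModules.freeAdjunction (O.obj ⋙ forget₂ CommRingCat RingCat)).homEquiv_naturality_right_symm
      ((adj J).homEquiv X _ z).hom ((preF O).map h)
    rw [PresheafOfModules.freeAdjunction_homEquiv, PresheafOfModules.freeAdjunction_homEquiv] at e
    exact e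
  have h2 : shfEquiv O _ _ (freeFun O z ≫ (preF O).map h) = shfEquiv O _ _ (freeFun O z) ≫ h :=
    (shfAdj O).homEquiv_naturality_right_symm (freeFun O z) h
  refine ((congrArg (fun w => tensEquiv O F G' _ (shfEquiv O _ _ w)) h1).trans
    (congrArg (tensEquiv O F G' _) h2)).trans ?_
  exact (congrArg (fun v => (shfCompIso F).inv.app _ ≫ v)
    ((ModSite.sheafHomAdj F).homEquiv_naturality_right_symm _ k)).trans (Category.assoc _ _ _).symm

/-- Global sections of `Hom_O(F, -)`, as a functor. -/
noncomputable def homFunIso :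
    (ModSite.sheafHom F ⋙ SheafOfModules.toSheaf (ModSite.ringSh O)) ⋙
      GrothSS.homFun ((constantSheaf J AddCommGrpCat.{u}).obj (AddCommGrpCat.of (ULift.{u} ℤ))) ≅
      GrothSS.homFun F :=
  NatIso.ofComponents (fun G => (globalEquiv O F G).toAddCommGrpIso) (fun {G G'} k => by
    ext z
    change (phiPtIso O F).inv ≫ homEquivΦ O F G' _ ((constIso J).hom ≫ z ≫
        (SheafOfModules.toSheaf _).map ((ModSite.sheafHom F).map k)) =
      ((phiPtIso O F).inv ≫ homEquivΦ O F G _ ((constIso J).hom ≫ z)) ≫ k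
    rw [← Category.assoc (constIso J).hom, homEquivΦ_natural_right, Category.assoc])

variable [HasInjectiveResolutions (ModSite.Mod O)] [HasExt.{u} (ModSite.Mod O)]

instance : (ModSite.sheafHom F).Additive :=
  (ModSite.sheafHomAdj F).right_adjoint_additive

/-- The local-to-global Ext spectral sequence. -/
theorem exists_ext_spectralSequence (N : ModSite.Mod O) (H : ℤ → AddCommGrpCat.{u})
    (P : ℤ → ℤ → AddCommGrpCat.{u})
    (hH : ∀ n : ℕ, Nonempty (H (n : ℤ) ≅ AddCommGrpCat.of (Abelian.Ext.{u} F N n)))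
    (hH₀ : ∀ n : ℤ, n < 0 → IsZero (H n))
    (hP : ∀ p q : ℕ, Nonempty (AddCommGrpCat.of (ModSite.HC O ((ModSite.extSh F q).obj N) p) ≅
      P (p : ℤ) (q : ℤ)))
    (hP₀ : ∀ p q : ℤ, ¬ (0 ≤ p ∧ 0 ≤ q) → IsZero (P p q)) :
    ∃ (E : E₂CohomologicalSpectralSequence AddCommGrpCat.{u}) (a : SpSeq.Abutment E H),
      (∀ n, a.IsFinite n) ∧ SpSeq.IsBounded E ∧
      ∀ p q : ℤ, Nonempty ((E.page 2 le_rfl).X (p, q) ≅ P p q) := by
  let Z : Sheaf J AddCommGrpCat.{u} :=
    (constantSheaf J AddCommGrpCat.{u}).obj (AddCommGrpCat.of (ULift.{u} ℤ))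
  let A := SheafOfModules.toSheaf (ModSite.ringSh O)
  letI := HasDerivedCategory.standard (Sheaf J AddCommGrpCat.{u})
  haveI : PreservesFiniteLimits A := inferInstance
  haveI : PreservesFiniteColimits A :=
    ⟨fun K _ _ => Groth.L21.Mod.preservesColimitsOfShape_toSheaf (R := ModSite.ringSh O)⟩
  refine GrothSS.exists_spectralSequence_of_iso (ModSite.sheafHom F ⋙ A) (GrothSS.homFun Z)
    (fun Q hQ q hq => ?_) N H P (fun n => ?_) hH₀ (fun p q => ?_) hP₀
  · obtain ⟨k, rfl⟩ : ∃ k, q = k + 1 := ⟨q - 1, by omega⟩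
    haveI := hQ
    obtain ⟨e⟩ := GrothSS.nonempty_rightDerived_homFun Z ((ModSite.sheafHom F ⋙ A).obj Q) (k + 1)
    have : Subsingleton (Abelian.Ext ((fr J).obj (ptSh J)) (A.obj ((ModSite.sheafHom F).obj Q)) (k + 1)) :=
      isTotallyAcyclic_sheafHom O F Q (ptSh J) k
    have : Subsingleton (Abelian.Ext Z ((ModSite.sheafHom F ⋙ A).obj Q) (k + 1)) :=
      subsingleton_of_forall_eq 0 fun x => by
        have hx : (Abelian.Ext.mk₀ (constIso J).hom).comp x (zero_add (k + 1)) = 0 :=
          Subsingleton.elim (α := Abelian.Ext ((fr J).obj (ptSh J)) (A.obj ((ModSite.sheafHom F).obj Q)) (k + 1)) _ _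
        have h := congrArg (fun w => (Abelian.Ext.mk₀ (constIso J).inv).comp w (zero_add (k + 1))) hx
        simpa using h
    exact (AddCommGrpCat.isZero_of_subsingleton _).of_iso e
  · obtain ⟨e⟩ := GrothSS.nonempty_rightDerived_homFun F N n
    exact ⟨(hH n).some ≪≫ e.symm ≪≫ (SiteCoh.rightDerivedCongr (homFunIso O F).symm n).app N⟩
  · obtain ⟨e⟩ := GrothSS.nonempty_rightDerived_homFun Z
      (((ModSite.sheafHom F ⋙ A).rightDerived q).obj N) p
    exact ⟨e ≪≫ (Abelian.extFunctor p |>.obj (op Z)).mapIso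
      (SiteCoh.rightDerivedCompIso (ModSite.sheafHom F) A q N) ≪≫ (hP p q).some⟩

end Groth.L17.HomAcyclic
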