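import Groth.Agent.L17.FinLocBases
import Groth.Agent.L17.ChangeRings
import Groth.Agent.L17.ToAbRpush
import Groth.Agent.L17.LocalGlobalExt

/-!
Duality for finite locally free modules on a scheme.
-/

set_option autoImplicit false
set_option backward.isDefEq.respectTransparency false

universe u

open CategoryTheory CategoryTheory.Limits AlgebraicGeometry TopologicalSpace

namespace Groth.L17.Duality

open Groth.L00.Tensor Groth.L17.ChangeRings

variable {X : Scheme.{u}}

theorem hasSheafHom (M : X.Modules) : ModSite.HasSheafHom (O := X.sheaf) M :=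
  Groth.L00.ModSiteTensor.hasSheafHom (O := X.sheaf) M

variable (E : X.Modules) [ModSite.HasSheafHom (O := X.sheaf) E]

/-- The dual module. -/
noncomputable abbrev dual : X.Modules := (homMod E).obj (Coh.structureModule X)

/-- `- ⊗ E^∨ ≅ Hom(E, -)`. -/
noncomputable def tensorDualIso (hE : FlatMod.IsFinLocFree E) : tensorRightF (dual E) ≅ homMod E :=
  tensorRightBiIso (dual E) ≪≫ LocBases.tensorDualIso (O := X.sheaf) E (FinLocBases.hasLocBases hE)

/-- `- ⊗ E^∨` is left adjoint to `- ⊗ E`. -/
noncomputable def dualAdj (hE : FlatMod.IsFinLocFree E) : tensorRightF (dual E) ⊣ tensorRightF E :=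
  haveI := hasSheafHom (dual E)
  ((LocBases.dualAdj (O := X.sheaf) E (FinLocBases.hasLocBases hE)).ofNatIsoLeft
    (tensorRightBiIso (dual E)).symm).ofNatIsoRight (tensorRightBiIso E).symm

theorem preservesColimits_homMod (hE : FlatMod.IsFinLocFree E) :
    PreservesColimitsOfSize.{u, u} (homMod E) :=
  preservesColimits_of_natIso (tensorDualIso E hE)

theorem preservesFiniteColimits_homMod (hE : FlatMod.IsFinLocFree E) : PreservesFiniteColimits (homMod E) :=
  haveI := preservesColimits_homMod E hE
  inferInstance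

theorem preservesMono_tensorRight_dual (hE : FlatMod.IsFinLocFree E) :
    (tensorRightF (dual E)).PreservesMonomorphisms :=
  haveI : (homMod E).IsRightAdjoint := (ModSite.sheafHomAdj (O := X.sheaf) E).isRightAdjoint
  Functor.preservesMonomorphisms.of_iso (tensorDualIso E hE).symm

/-- `I ⊗ E` is injective. -/
theorem injective_tensorRight (hE : FlatMod.IsFinLocFree E) (I : X.Modules) [Injective I] :
    Injective ((tensorRightF E).obj I) :=
  haveI := preservesMono_tensorRight_dual E hE
  Injective.injective_of_adjoint (dualAdj E hE) I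

/-- `Hom(E, I)` is injective. -/
theorem injective_homMod (hE : FlatMod.IsFinLocFree E) (I : X.Modules) [Injective I] :
    Injective ((homMod E).obj I) := by
  have hflat : (tensorRightF E).PreservesMonomorphisms :=
    haveI : (tensorRightF E).IsRightAdjoint := (dualAdj E hE).isRightAdjoint
    inferInstance
  haveI : ((ModSite.tensorBi X.sheaf).flip.obj E).PreservesMonomorphisms :=
    Functor.preservesMonomorphisms.of_iso (tensorRightBiIso E)
  exact Injective.injective_of_adjoint (ModSite.sheafHomAdj (O := X.sheaf) E) I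

variable (F : X.Modules) [ModSite.HasSheafHom (O := X.sheaf) F]

/-- `Hom(F ⊗ E, -) ≅ Hom(E, Hom(F, -))`. -/
noncomputable def homTensorIso [ModSite.HasSheafHom (O := X.sheaf) (CohB1.tensorMod F E)] :
    homMod F ⋙ homMod E ≅ homMod (CohB1.tensorMod F E) :=
  let a := (ModSite.sheafHomAdj (O := X.sheaf) E).comp (ModSite.sheafHomAdj (O := X.sheaf) F)
  let e : (ModSite.tensorBi X.sheaf).flip.obj E ⋙ (ModSite.tensorBi X.sheaf).flip.obj F ≅
      (ModSite.tensorBi X.sheaf).flip.obj (CohB1.tensorMod F E) :=
    Functor.isoWhiskerRight (tensorRightBiIso E).symm _ ≪≫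
      Functor.isoWhiskerLeft _ ((tensorRightBiIso F).symm ≪≫ tensorFlipIso F) ≪≫
      tripleIso F E ≪≫ tensorRightBiIso _
  (a.ofNatIsoLeft e).rightAdjointUniq (ModSite.sheafHomAdj (O := X.sheaf) (CohB1.tensorMod F E))

/-- `Hom(M, -)` only depends on `M` up to isomorphism. -/
noncomputable def homCongr {M M' : X.Modules} [ModSite.HasSheafHom (O := X.sheaf) M]
    [ModSite.HasSheafHom (O := X.sheaf) M'] (e : M ≅ M') : homMod M ≅ homMod M' :=
  ((ModSite.sheafHomAdj (O := X.sheaf) M).ofNatIsoLeft ((ModSite.tensorBi X.sheaf).flip.mapIso e)).rightAdjointUniq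
    (ModSite.sheafHomAdj (O := X.sheaf) M')

/-- `Ext^q(F ⊗ E, G) = Ext^q(F, G) ⊗ E^∨`. -/
theorem nonempty_extSh_tensor (hE : FlatMod.IsFinLocFree E) {M : X.Modules}
    [ModSite.HasSheafHom (O := X.sheaf) M] (e : CohB1.tensorMod F E ≅ M)
    [HasInjectiveResolutions (ModSite.Mod X.sheaf)] (G : X.Modules) (q : ℕ) :
    Nonempty ((ModSite.extSh (O := X.sheaf) M q).obj G ≅
      CohB1.tensorMod ((ModSite.extSh (O := X.sheaf) F q).obj G) (dual E)) := by
  haveI := hasSheafHom (CohB1.tensorMod F E)
  haveI : HasInjectiveResolutions X.Modules := ‹HasInjectiveResolutions (ModSite.Mod X.sheaf)›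
  haveI := preservesFiniteColimits_homMod E hE
  haveI : (homMod F ⋙ homMod E).Additive := inferInstance
  exact ⟨(Groth.L10.SiteCoh.rightDerivedCongr ((homTensorIso E F) ≪≫ homCongr e) q).symm.app G ≪≫
    Groth.L10.SiteCoh.rightDerivedCompIso (homMod F) (homMod E) q G ≪≫
    ((tensorDualIso E hE).app _).symm⟩

omit [ModSite.HasSheafHom (O := X.sheaf) F] in
/-- `Ext^p(E, B) = H^p(X, Hom(E, B))`. -/
theorem nonempty_ext_iso_cohomology [HasExt.{u} X.Modules] (hE : FlatMod.IsFinLocFree E) (B : X.Modules) (p : ℕ) :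
    Nonempty (Abelian.Ext.{u} E B p ≃+ Coh.HH X ((homMod E).obj B) p) := by
  haveI : EnoughInjectives X.Modules :=
    haveI := grothendieckAbelian_modules X
    inferInstance
  haveI : HasInjectiveResolutions X.Modules := inferInstance
  haveI : HasInjectiveResolutions (ModSite.Mod X.sheaf) := ‹HasInjectiveResolutions X.Modules›
  let Z : Sheaf (Opens.grothendieckTopology X) AddCommGrpCat.{u} :=
    (constantSheaf _ AddCommGrpCat.{u}).obj (AddCommGrpCat.of (ULift.{u} ℤ))
  let A := homMod E ⋙ toAbShF X
  haveI := preservesFiniteColimits_homMod E hE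
  haveI : PreservesFiniteLimits A := inferInstance
  haveI : PreservesFiniteColimits A := inferInstance
  letI := HasDerivedCategory.standard (Sheaf (Opens.grothendieckTopology X) AddCommGrpCat.{u})
  obtain ⟨e⟩ := GrothSS.nonempty_rightDerived_exact_comp A (GrothSS.homFun Z) (fun Q hQ q hq => by
    obtain ⟨k, rfl⟩ : ∃ k, q = k + 1 := ⟨q - 1, by omega⟩
    haveI := injective_homMod E hE Q
    obtain ⟨e⟩ := GrothSS.nonempty_rightDerived_homFun Z (A.obj Q) (k + 1)
    have : Subsingleton (Abelian.Ext.{u} Z (A.obj Q) (k + 1)) := by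
      have : Subsingleton (Abelian.Ext.{u} ((Groth.L10.SiteFr.fr _).obj
          (HomAcyclic.ptSh (Opens.grothendieckTopology X))) (A.obj Q) (k + 1)) :=
        Groth.L10.InjTA.isTotallyAcyclic X.sheaf ((homMod E).obj Q) _ k
      refine subsingleton_of_forall_eq 0 fun x => ?_
      have hx : (Abelian.Ext.mk₀ (HomAcyclic.constIso (Opens.grothendieckTopology X)).hom).comp x
          (zero_add (k + 1)) = 0 := Subsingleton.elim _ _
      have h := congrArg (fun w => (Abelian.Ext.mk₀
        (HomAcyclic.constIso (Opens.grothendieckTopology X)).inv).comp w (zero_add (k + 1))) hx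
      simpa using h
    exact (AddCommGrpCat.isZero_of_subsingleton _).of_iso e) B p
  obtain ⟨e1⟩ := GrothSS.nonempty_rightDerived_homFun Z (A.obj B) p
  obtain ⟨e2⟩ := GrothSS.nonempty_rightDerived_homFun E B p
  exact ⟨(e2.symm ≪≫ (Groth.L10.SiteCoh.rightDerivedCongr (HomAcyclic.homFunIso X.sheaf E) p).symm.app B ≪≫
    e ≪≫ e1).addCommGroupIsoToAddEquiv⟩

end Groth.L17.Duality
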