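import Groth.Agent.L17.SingleRDer
import Mathlib.CategoryTheory.Abelian.Refinements

/-!
A left exact functor maps quasi-isomorphisms of bounded below complexes of acyclic objects to
quasi-isomorphisms.
-/

set_option autoImplicit false

universe w v u v' u'

open CategoryTheory CategoryTheory.Limits

namespace Groth.L17.GrothSS

variable {C : Type u} [Category.{v} C] [Abelian C] [HasInjectiveResolutions C]
  {D : Type u'} [Category.{v'} D] [Abelian D] (S : C ⥤ D) [S.Additive]

/-- `A` is acyclic for `S`. -/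
def RAcyclic (A : C) : Prop := ∀ q : ℕ, 0 < q → IsZero ((S.rightDerived q).obj A)

theorem rAcyclic_of_isZero {A : C} (h : IsZero A) : RAcyclic S A := by
  haveI : Injective A := h.injective
  intro q hq
  obtain ⟨k, rfl⟩ : ∃ k, q = k + 1 := ⟨q - 1, by omega⟩
  exact S.isZero_rightDerived_obj_injective_succ k A

variable [PreservesFiniteLimits S]

/-- `S` preserves surjectivity onto quotients by acyclic objects. -/
theorem epi_map_g {T : ShortComplex C} (hT : T.ShortExact)
    (h₁ : IsZero ((S.rightDerived 1).obj T.X₁)) : Epi (S.map T.g) := by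
  have := hT.mono_f
  have := hT.epi_g
  let J := injectiveResolution T.X₁
  let ι₀ : T.X₁ ⟶ J.cocomplex.X 0 := J.ι.f 0
  haveI : Mono ι₀ := inferInstanceAs (Mono (J.ι.f 0))
  have hι : ι₀ ≫ J.cocomplex.d 0 1 = 0 := J.ι_f_zero_comp_complex_d
  let β : T.X₂ ⟶ J.cocomplex.X 0 := Injective.factorThru ι₀ T.f
  have hβ : T.f ≫ β = ι₀ := Injective.comp_factorThru ι₀ T.f
  let φ : T.X₃ ⟶ J.cocomplex.X 1 :=
    hT.exact.desc (β ≫ J.cocomplex.d 0 1) (by rw [← Category.assoc, hβ, hι])
  have hφ : T.g ≫ φ = β ≫ J.cocomplex.d 0 1 := hT.exact.g_desc _ _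
  have hφd : φ ≫ J.cocomplex.d 1 2 = 0 := by
    rw [← cancel_epi T.g, ← Category.assoc, hφ, Category.assoc, J.cocomplex.d_comp_d, comp_zero,
      comp_zero]
  let u : T.X₂ ⟶ pullback (J.cocomplex.d 0 1) φ := pullback.lift β T.g hφ.symm
  have : Mono u := by
    refine Preadditive.mono_of_cancel_zero _ fun {P} z hz => ?_
    have hg : z ≫ T.g = 0 := by
      rw [← pullback.lift_snd β T.g hφ.symm, ← Category.assoc, hz, zero_comp]
    have hb : z ≫ β = 0 := by
      rw [← pullback.lift_fst β T.g hφ.symm, ← Category.assoc, hz, zero_comp]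
    obtain ⟨l, hl⟩ := hT.exact.lift' z hg
    have : l ≫ ι₀ = 0 := by rw [← hβ, ← Category.assoc, hl, hb]
    rw [← hl, (cancel_mono ι₀).1 (this.trans zero_comp.symm), zero_comp]
  have : Epi u := by
    rw [epi_iff_surjective_up_to_refinements]
    intro P p
    obtain ⟨P', π, hπ, b, hb⟩ := surjective_up_to_refinements_of_epi T.g (p ≫ pullback.snd _ _)
    have hd : (π ≫ p ≫ pullback.fst _ _ - b ≫ β) ≫ J.cocomplex.d 0 1 = 0 := by
      rw [Preadditive.sub_comp]
      simp only [Category.assoc]
      rw [pullback.condition, ← hφ, ← Category.assoc b, ← hb]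
      simp
    obtain ⟨a, ha⟩ := J.exact₀.lift' _ hd
    change P' ⟶ T.X₁ at a
    refine ⟨P', π, hπ, b + a ≫ T.f, ?_⟩
    ext
    · rw [Category.assoc, Category.assoc, pullback.lift_fst, Preadditive.add_comp, Category.assoc,
        hβ, show a ≫ ι₀ = π ≫ p ≫ pullback.fst _ _ - b ≫ β from ha]
      simp
    · rw [Category.assoc, Category.assoc, pullback.lift_snd, Preadditive.add_comp, Category.assoc,
        T.zero, comp_zero, add_zero, ← hb]
  have := isIso_of_mono_of_epi u
  have hex : (((S.mapHomologicalComplex _).obj J.cocomplex).sc' 0 1 2).Exact := by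
    rw [← HomologicalComplex.exactAt_iff' _ 0 1 2 (by simp) (by simp),
      HomologicalComplex.exactAt_iff_isZero_homology]
    exact IsZero.of_iso h₁ (J.isoRightDerivedObj S 1).symm
  rw [epi_iff_surjective_up_to_refinements]
  intro P x
  obtain ⟨P', π, hπ, y, hy⟩ := hex.exact_up_to_refinements (x ≫ S.map φ) (by
    change (x ≫ S.map φ) ≫ S.map (J.cocomplex.d 1 2) = 0
    rw [Category.assoc, ← S.map_comp, hφd, S.map_zero, comp_zero])
  change P' ⟶ S.obj (J.cocomplex.X 0) at y
  change π ≫ x ≫ S.map φ = y ≫ S.map (J.cocomplex.d 0 1) at hy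
  obtain ⟨l, -, hl₂⟩ :=
    ((IsPullback.of_hasPullback (J.cocomplex.d 0 1) φ).map S).exists_lift y (π ≫ x)
      (by rw [hy.symm, Category.assoc])
  refine ⟨P', π, hπ, l ≫ S.map (inv u), ?_⟩
  rw [Category.assoc, ← S.map_comp,
    show inv u ≫ T.g = pullback.snd _ _ by rw [IsIso.inv_comp_eq, pullback.lift_snd]]
  exact hl₂.symm

variable [EnoughInjectives C]

/-- `S` of a bounded below acyclic complex of acyclic objects is acyclic. -/
theorem exactAt_map [HasDerivedCategory.{w} C] (K : CochainComplex C ℤ) (m : ℤ) [K.IsStrictlyGE m]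
    (hK : ∀ n, K.ExactAt n) (hA : ∀ n, RAcyclic S (K.X n)) (n : ℤ) :
    ((S.mapHomologicalComplex (.up ℤ)).obj K).ExactAt n := by
  have hT : ∀ i : ℤ, (ShortComplex.mk (K.iCycles i) (K.toCycles i (i + 1))
      (by rw [← cancel_mono (K.iCycles (i + 1))]; simp)).ShortExact := fun i => by
    have h : Epi (K.toCycles i (i + 1)) := by
      have hz : K.homologyπ (i + 1) = 0 :=
        ((K.exactAt_iff_isZero_homology (i + 1)).1 (hK (i + 1))).eq_of_tgt _ _
      exact (ShortComplex.exact_of_g_is_cokernel (ShortComplex.mk _ _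
        (K.toCycles_comp_homologyπ i (i + 1)))
        (K.homologyIsCokernel i (i + 1) (by simp))).epi_f hz
    refine { exact := ?_, mono_f := inferInstance, epi_g := h }
    rw [ShortComplex.exact_iff_exact_up_to_refinements]
    intro P x hx
    change x ≫ K.toCycles i (i + 1) = 0 at hx
    refine ⟨P, 𝟙 P, inferInstance, K.liftCycles x (i + 1) (by simp) ?_, ?_⟩
    · rw [← K.toCycles_i i (i + 1), ← Category.assoc]
      exact (congrArg (fun e => e ≫ K.iCycles (i + 1)) hx).trans zero_comp
    · simp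
  have hz : ∀ i : ℤ, RAcyclic S (K.cycles i) := by
    have h0 : ∀ i : ℤ, i < m → RAcyclic S (K.cycles i) := fun i hi =>
      rAcyclic_of_isZero S (IsZero.of_mono (K.iCycles i) (K.isZero_of_isStrictlyGE m i hi))
    intro i
    rcases lt_or_ge i m with hi | hi
    · exact h0 i hi
    refine Int.le_induction (motive := fun i _ => RAcyclic S (K.cycles i)) ?_
      (fun j _ hj => isZero_rightDerived_X₃ S (hT j) hj (hA j)) i (show m - 1 ≤ i by omega)
    exact h0 _ (by omega)
  obtain ⟨i, rfl⟩ : ∃ i, n = i + 1 := ⟨n - 1, by omega⟩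
  rw [HomologicalComplex.exactAt_iff' _ i (i + 1) (i + 1 + 1) (by simp) (by simp),
    ShortComplex.exact_iff_exact_up_to_refinements]
  intro P x hx
  change x ≫ S.map (K.d (i + 1) (i + 1 + 1)) = 0 at hx
  have hk : IsLimit (KernelFork.ofι (S.map (K.iCycles (i + 1)))
      (f := S.map (K.d (i + 1) (i + 1 + 1))) (by rw [← S.map_comp, K.iCycles_d, S.map_zero])) :=
    KernelFork.mapIsLimit _ (K.cyclesIsKernel (i + 1) (i + 1 + 1) (by simp)) S
  obtain ⟨y, hy⟩ := KernelFork.IsLimit.lift' hk x hx
  change y ≫ S.map (K.iCycles (i + 1)) = x at hy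
  have := epi_map_g S (hT i) (hz i 1 zero_lt_one)
  obtain ⟨P', π, hπ, z, hz'⟩ := surjective_up_to_refinements_of_epi
    (S.map (K.toCycles i (i + 1))) y
  refine ⟨P', π, hπ, z, ?_⟩
  change π ≫ x = z ≫ S.map (K.d i (i + 1))
  exact ((congrArg (π ≫ ·) hy.symm).trans
    ((Category.assoc _ _ _).symm.trans (congrArg (· ≫ S.map (K.iCycles (i + 1))) hz'))).trans
    ((Category.assoc _ _ _).trans (congrArg (z ≫ ·) (by rw [← S.map_comp, K.toCycles_i])))

omit [HasInjectiveResolutions C] [EnoughInjectives C] in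
/-- A morphism is a quasi-isomorphism iff its mapping cone is acyclic. -/
theorem quasiIso_iff_cone {A : Type*} [Category A] [Abelian A] {K L : CochainComplex A ℤ}
    (f : K ⟶ L) : QuasiIso f ↔ ∀ n, (CochainComplex.mappingCone f).ExactAt n := by
  rw [← HomotopyCategory.quotient_obj_mem_subcategoryAcyclic_iff_exactAt,
    ← HomologicalComplex.mem_quasiIso_iff, ← HomotopyCategory.quotient_map_mem_quasiIso_iff,
    HomotopyCategory.quasiIso_eq_trW_subcategoryAcyclic]
  exact (HomotopyCategory.subcategoryAcyclic A).trW_iff_of_distinguished _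
    (HomotopyCategory.mappingCone_triangleh_distinguished f)

/-- `S` preserves quasi-isomorphisms between bounded below complexes of acyclic objects. -/
theorem quasiIso_map [HasDerivedCategory.{w} C] {K L : CochainComplex C ℤ} (f : K ⟶ L) [QuasiIso f]
    (m₁ m₂ : ℤ) [K.IsStrictlyGE m₁] [L.IsStrictlyGE m₂] (hA : ∀ n, RAcyclic S (K.X n))
    (hB : ∀ n, RAcyclic S (L.X n)) : QuasiIso ((S.mapHomologicalComplex (.up ℤ)).map f) := by
  haveI : (CochainComplex.mappingCone f).IsStrictlyGE (min (m₁ - 1) m₂) :=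
    CochainComplex.isStrictlyGE_mappingCone f m₁ m₂ _ (by omega) (by omega)
  have hK : ∀ n, (CochainComplex.mappingCone f).ExactAt n :=
    (quasiIso_iff_cone f).1 inferInstance
  have hC : ∀ n, RAcyclic S ((CochainComplex.mappingCone f).X n) := fun n q hq =>
    IsZero.of_iso
      (isZero_rightDerived_X₂ S
        (ShortComplex.Splitting.ofHasBinaryBiproduct (K.X (n + 1)) (L.X n)).shortExact
        (hA (n + 1)) (hB n) q hq)
      ((S.rightDerived q).mapIso (HomologicalComplex.homotopyCofiber.XIsoBiprod f n (n + 1) rfl))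
  rw [quasiIso_iff_cone]
  exact fun n => (exactAt_map S _ (min (m₁ - 1) m₂) hK hC n).of_iso
    (CochainComplex.mappingCone.mapHomologicalComplexIso f S)

end Groth.L17.GrothSS
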