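import Mathlib.AlgebraicGeometry.AffineScheme
import Mathlib.Topology.Sheaves.Stalks

/-!
If a morphism of schemes induces bijections on sections over every affine open of the target, it
does so over every open.
-/

set_option autoImplicit false
universe u

open CategoryTheory AlgebraicGeometry Opposite TopologicalSpace TopCat TopCat.Presheaf

namespace Groth.L17

theorem bijective_app_of_affine {X Y : Scheme.{u}} (f : X ⟶ Y)
    (h : ∀ V : Y.Opens, IsAffineOpen V → Function.Bijective (f.app V)) (V : Y.Opens) :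
    Function.Bijective (f.app V) := by
  let G : TopCat.Sheaf CommRingCat.{u} Y := (TopCat.Sheaf.pushforward CommRingCat f.base).obj X.sheaf
  let α : Y.sheaf ⟶ G := ⟨f.c⟩
  refine TopCat.Presheaf.app_bijective_of_stalkFunctor_map_bijective α V fun x hxV ↦ ⟨?_, ?_⟩
  · exact TopCat.Presheaf.stalkFunctor_map_injective_of_isBasis (α := α.1) Y.isBasis_affineOpens
      (fun U hU ↦ (h U hU).1) x
  · intro t
    obtain ⟨U, hxU, s, rfl⟩ := TopCat.Presheaf.exists_germ_eq G.1 t
    obtain ⟨_, ⟨W, hW, rfl⟩, hxW, hWU⟩ :=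
      Y.isBasis_affineOpens.exists_subset_of_mem_open (a := x) hxU U.isOpen
    obtain ⟨c, hc⟩ := (h W hW).2 (G.1.map (homOfLE hWU).op s)
    refine ⟨Y.presheaf.germ W x hxW c, ?_⟩
    exact (TopCat.Presheaf.stalkFunctor_map_germ_apply W x hxW α.1 c).trans
      ((congrArg (TopCat.Presheaf.germ G.1 W x hxW) hc).trans (TopCat.Presheaf.germ_res_apply G.1 _ _ hxW s))

end Groth.L17
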