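import Groth.Agent.L17.GenericTrivPush

/-!
# Generic isomorphisms made injective by a power of an ideal
-/

set_option autoImplicit false
set_option backward.isDefEq.respectTransparency false
set_option backward.isDefEq.respectTransparency.types false
set_option linter.style.haveILetI false

universe u

open CategoryTheory CategoryTheory.Limits AlgebraicGeometry TopologicalSpace Opposite

noncomputable section

namespace Groth.L17.DevissageMono

open Groth.L17.IdealMulSec Groth.L17.IdealMulExtend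
open Groth.L21.Mod (stalkF)

variable {X : Scheme.{u}}

/-- Sections of `(L^m J) A` lie in `L^m` times those of `J A`. -/
theorem lift_app_mem_mul (L J : X.IdealSheafData) (A : X.Modules) [Coh.IsQCoh A] (m : ℕ)
    (l : (Dual3.idealMul (L ^ m * J)).obj A ⟶ (Dual3.idealMul J).obj A)
    (hl : l ≫ Dual3.idealMulι J A = Dual3.idealMulι (L ^ m * J) A) {V : X.Opens} (hV : IsAffineOpen V)
    (t : Γ((Dual3.idealMul (L ^ m * J)).obj A, V)) :
    l.app V t ∈ L.ideal ⟨V, hV⟩ ^ m • (⊤ : Submodule Γ(X, V) Γ((Dual3.idealMul J).obj A, V)) := by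
  let ι := lapp (Dual3.idealMulι J A) V
  rw [← Submodule.comap_map_eq_of_injective (f := ι) (ι_app_injective J A V)
    (L.ideal ⟨V, hV⟩ ^ m • (⊤ : Submodule Γ(X, V) Γ((Dual3.idealMul J).obj A, V))), Submodule.mem_comap,
    Submodule.map_smul'', Submodule.map_top]
  have hr : LinearMap.range ι = J.ideal ⟨V, hV⟩ • (⊤ : Submodule Γ(X, V) Γ(A, V)) := by
    ext s; exact exists_app_eq_iff J A hV s
  rw [hr, ← Submodule.smul_assoc, smul_eq_mul]
  have h2 : ι (l.app V t) = (Dual3.idealMulι (L ^ m * J) A).app V t := by rw [← hl]; rfl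
  rw [h2]
  have := (exists_app_eq_iff (L ^ m * J) A hV _).1 ⟨t, rfl⟩
  rwa [Scheme.IdealSheafData.ideal_mul, Pi.mul_apply, Scheme.IdealSheafData.ideal_pow, Pi.pow_apply] at this

theorem mul_le (L J : X.IdealSheafData) : L * J ≤ J := fun V => by
  rw [Scheme.IdealSheafData.ideal_mul, Pi.mul_apply]; exact Ideal.mul_le_right (I := L.ideal V) (J := J.ideal V)

variable [IsNoetherian X]

/-- A generic isomorphism becomes injective on `J · A` for a suitable `J` invertible at the point. -/
theorem exists_mono {A B : X.Modules} (hA : Coh.IsCoh A) (hB : Coh.IsCoh B) (J : X.IdealSheafData)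
    (φ : (Dual3.idealMul J).obj A ⟶ B) (y : X) (hy : y ∉ J.support) (hφ : IsIso ((stalkF X y).map φ)) :
    ∃ (J' : X.IdealSheafData) (l : (Dual3.idealMul J').obj A ⟶ (Dual3.idealMul J).obj A),
      y ∉ J'.support ∧ l ≫ Dual3.idealMulι J A = Dual3.idealMulι J' A ∧ Mono (l ≫ φ) ∧
        IsIso ((stalkF X y).map (l ≫ φ)) := by
  haveI := hA.1
  haveI := hB.1
  have hJA := isCoh_idealMul J A hA
  haveI := hJA.1
  have hK := Groth.L16.CohSupport.isCoh_kernel hJA φ
  haveI := hK.1
  have hyK : y ∉ CohB1.support (kernel φ) := fun hs => by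
    refine (Groth.L21.Mod.mem_support_iff_not_isZero _ y).1 hs ?_
    haveI : Mono ((stalkF X y).map (kernel.ι φ)) := (Groth.L21.Mod.mono_iff_stalk _).1 inferInstance y
    haveI := hφ
    rw [IsZero.iff_id_eq_zero, ← cancel_mono ((stalkF X y).map (kernel.ι φ)), ← cancel_mono ((stalkF X y).map φ),
      zero_comp, zero_comp, Category.id_comp, ← Functor.map_comp, kernel.condition, Functor.map_zero]
  let U : X.Opens := ⟨(CohB1.support (kernel φ))ᶜ, (Groth.L16.CohSupport.isClosed_support _ hK.2).isOpen_compl⟩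
  let L : X.IdealSheafData := Scheme.IdealSheafData.vanishingIdeal ⟨(U : Set X)ᶜ, U.2.isClosed_compl⟩
  have hU : (U : Set X) = (L.support : Set X)ᶜ := (compl_compl (U : Set X)).symm
  have hKU : (Scheme.Modules.restrictFunctor U.ι).map (kernel.ι φ) = 0 :=
    (Groth.L17.StalkSpread.isZero_restrict fun z hz => hz).eq_of_src _ _
  obtain ⟨s, hs⟩ := exists_cover X
  choose k hk using fun V : X.affineOpens => exists_pow_smul_app_eq_zero hK (kernel.ι φ) L hU hKU V.2
  have hAR : ∀ V : X.affineOpens, ∃ a : ℕ, ∀ t : Γ((Dual3.idealMul J).obj A, V.1),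
      t ∈ L.ideal V ^ a • (⊤ : Submodule Γ(X, V.1) Γ((Dual3.idealMul J).obj A, V.1)) → φ.app V.1 t = 0 → t = 0 := by
    intro V
    haveI : IsNoetherianRing Γ(X, V.1) := IsLocallyNoetherian.component_noetherian V
    haveI := Groth.L20.ModStalk.finite_sections _ hJA V.2
    obtain ⟨c, hc⟩ := Ideal.exists_pow_inf_eq_pow_smul (L.ideal V) (LinearMap.ker (lapp φ V.1))
    refine ⟨c + k V, fun t ht h0 => ?_⟩
    have ht' : t ∈ L.ideal V ^ (c + k V) • ⊤ ⊓ LinearMap.ker (lapp φ V.1) := ⟨ht, h0⟩
    rw [hc _ (Nat.le_add_right _ _), Nat.add_sub_cancel_left] at ht'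
    clear ht h0
    induction ht' using Submodule.smul_induction_on' with
    | smul a ha z hz =>
      obtain ⟨w, rfl⟩ := ((kernel_sections φ V.1).2 z).1 hz.2
      exact hk V a ha w
    | add x _ z _ hx hz => rw [hx, hz, add_zero]
  choose a ha using hAR
  let m := s.sup a
  let J' := L ^ m * J
  obtain ⟨l, hl⟩ := exists_le J' A (mul_le (L ^ m) J)
  haveI := (isCoh_idealMul J' A hA).1
  haveI : Coh.IsQCoh (kernel (l ≫ φ)) := Groth.L18.IdealModule.isQCoh_kernel _
  have hy' : y ∉ J'.support := by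
    rw [Scheme.IdealSheafData.support_mul]
    rintro (h | h)
    · have hyU : y ∈ (U : Set X) := hyK
      rw [hU] at hyU
      rcases eq_or_ne m 0 with hm | hm
      · rw [hm, pow_zero, Scheme.IdealSheafData.one_eq_top, Scheme.IdealSheafData.support_top] at h
        exact h
      · rw [Scheme.IdealSheafData.support_pow L m hm] at h
        exact hyU h
    · exact hy h
  refine ⟨J', l, hy', hl, ?_, ?_⟩
  · refine Preadditive.mono_of_kernel_zero (Groth.L20.ResDescent.eq_zero_of_affine _ fun x => ?_)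
    obtain ⟨V, hVs, hxV⟩ := hs x
    refine ⟨V.1, V.2, hxV, fun t => ?_⟩
    have h0 : φ.app V.1 (l.app V.1 ((kernel.ι (l ≫ φ)).app V.1 t)) = 0 :=
      ((kernel_sections (l ≫ φ) V.1).2 _).2 ⟨t, rfl⟩
    have h1 := ha V _ (Submodule.smul_mono_left (Ideal.pow_le_pow_right (Finset.le_sup hVs))
      (lift_app_mem_mul L J A m l hl V.2 _)) h0
    apply ι_app_injective J' A V.1
    rw [← hl, map_zero]
    show (Dual3.idealMulι J A).app V.1 (l.app V.1 _) = 0
    rw [h1, map_zero]
  · haveI := hφ
    haveI := Groth.L17.GenericTrivPush.isIso_stalk_idealMulι J A hy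
    have := Groth.L17.GenericTrivPush.isIso_stalk_idealMulι J' A hy'
    rw [← hl, Functor.map_comp] at this
    haveI := this
    haveI : IsIso ((stalkF X y).map l) := IsIso.of_isIso_comp_right _ ((stalkF X y).map (Dual3.idealMulι J A))
    rw [Functor.map_comp]
    infer_instance

/-- A stalk isomorphism of coherent modules gives an injection `J · A ⟶ B`. -/
theorem exists_mono_hom {A B : X.Modules} (hA : Coh.IsCoh A) (hB : Coh.IsCoh B) (y : X)
    (ψ : ↑(A.presheaf.stalk y) ≃ₗ[X.presheaf.stalk y] ↑(B.presheaf.stalk y)) :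
    ∃ (J : X.IdealSheafData) (φ : (Dual3.idealMul J).obj A ⟶ B),
      y ∉ J.support ∧ Mono φ ∧ IsIso ((stalkF X y).map φ) := by
  obtain ⟨J, φ, hy, hφ⟩ := Groth.L17.GenericTrivPush.exists_idealMul_hom A B hA hB y ψ
  obtain ⟨J', l, hy', -, hm, hi⟩ := exists_mono hA hB J φ y hy hφ
  exact ⟨J', l ≫ φ, hy', hm, hi⟩

end Groth.L17.DevissageMono
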