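import Groth.Agent.L17.GenericTrivPush
import Groth.Agent.L16.ProjSpace.Twist
import Groth.Agent.L16.Devissage

/-!
# A coherent module whose direct image receives a free module, generically isomorphically
-/

set_option autoImplicit false
set_option backward.isDefEq.respectTransparency false
set_option backward.isDefEq.respectTransparency.types false
set_option linter.style.haveILetI false

universe u

open CategoryTheory CategoryTheory.Limits AlgebraicGeometry TopologicalSpace Opposite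

noncomputable section

namespace Groth.L17.GenericTrivFree

open Groth.L18.Frame (rs ro rs_rs)
open Groth.L17.GenericTrivPush
open Groth.L21.Mod (stalkF)
open Groth.L16 (homOfSection homOfSection_app)

variable {X Y : Scheme.{u}}

theorem isIso_app_of_restrict {M N : X.Modules} (φ : M ⟶ N) {W : X.Opens}
    [IsIso ((Scheme.Modules.restrictFunctor W.ι).map φ)] {W' : X.Opens} (h : W' ≤ W) : IsIso (φ.app W') := by
  have e : W.ι ''ᵁ (W.ι ⁻¹ᵁ W') = W' := by
    rw [Scheme.Hom.image_preimage_eq_opensRange_inf, Scheme.Opens.opensRange_ι, inf_eq_right.2 h]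
  have h1 : IsIso (φ.app (W.ι ''ᵁ (W.ι ⁻¹ᵁ W'))) :=
    Scheme.Modules.Hom.isIso_iff_isIso_app.1 ‹IsIso ((Scheme.Modules.restrictFunctor W.ι).map φ)› (W.ι ⁻¹ᵁ W')
  rwa [e] at h1

theorem germ_app_one (M : Y.Modules) (s : Γ(M, ⊤)) (y : Y) :
    M.presheaf.germ ⊤ y trivial ((homOfSection M s).app ⊤ (1 : Γ(Y, ⊤))) = M.presheaf.germ ⊤ y trivial s := by
  rw [homOfSection_app, Groth.L20.ModStalk.germ_smul, map_one, one_smul]
  exact Groth.L20.ModStalk.germ_rs M (le_top : (⊤ : Y.Opens) ≤ ⊤) (show y ∈ (⊤ : Y.Opens) from trivial) s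

theorem dim_unit [IsIntegral Y] [IsNoetherian Y] : dim (Coh.structureModule Y) = 1 := by
  letI : Field (Y.presheaf.stalk (genericPoint Y)) := inferInstanceAs (Field Y.functionField)
  exact (Groth.L15.Ref.strE (genericPoint Y)).finrank_eq.symm.trans (Module.finrank_self _)

theorem exists_free_hom [IsNoetherian X] [Nonempty X] [IsNoetherian Y] [IsIntegral Y] (f : X ⟶ Y)
    [IsFinite f] [Surjective f] :
    ∃ (r : ℕ) (M : X.Modules) (α : (∐ fun _ : ULift.{u} (Fin r) => Coh.structureModule Y) ⟶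
        (Scheme.Modules.pushforward f).obj M),
      0 < r ∧ Coh.IsCoh M ∧ IsIso ((stalkF Y (genericPoint Y)).map α) := by
  classical
  set ξ := genericPoint Y
  let Fs := Groth.L00.Stk.F Y ξ
  let B := (Scheme.Modules.pushforward f).obj (Coh.structureModule X)
  have hB : Coh.IsCoh B := Groth.L07.PrinParts.isCoh_pushforward_finite f Groth.L16.CohClosedPush.isCoh_structure
  letI : Field (Y.presheaf.stalk ξ) := inferInstanceAs (Field Y.functionField)
  haveI : Module.Finite (Y.presheaf.stalk ξ) (Fs.obj B) := Groth.L15.Ref.finite_stalk hB _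
  let d := dim B
  let b : Module.Basis (Fin d) (Y.presheaf.stalk ξ) (Fs.obj B) := Module.finBasis _ _
  choose O hO t ht using fun i => TopCat.Presheaf.exists_germ_eq (F := B.presheaf)
    (show B.presheaf.stalk ξ from b i)
  obtain ⟨U, hξU, hUO⟩ : ∃ U : Y.Opens, ξ ∈ U ∧ ∀ i, U ≤ O i := by
    refine ⟨Finset.univ.inf O, ?_, fun i => Finset.inf_le (Finset.mem_univ i)⟩
    have : ∀ s : Finset (Fin d), ξ ∈ s.inf O := fun s => by
      induction s using Finset.induction with
      | empty => simp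
      | insert a s _ hs => rw [Finset.inf_insert]; exact ⟨hO a, hs⟩
    exact this _
  let W : X.Opens := f ⁻¹ᵁ U
  let R := Scheme.Modules.restrictFunctor W.ι
  let adj := Scheme.Modules.restrictAdjunction W.ι
  let P := (Scheme.Modules.pushforward W.ι).obj (R.obj (Coh.structureModule X))
  let η₀ : Coh.structureModule X ⟶ P := adj.unit.app (Coh.structureModule X)
  haveI : Coh.IsQCoh (Coh.structureModule X) := Groth.L16.CohClosedPush.isCoh_structure.1
  haveI : Coh.IsQCoh (R.obj (Coh.structureModule X)) :=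
    haveI : (Coh.structureModule X).IsQuasicoherent := ‹Coh.IsQCoh (Coh.structureModule X)›
    Scheme.Modules.isQuasicoherent_restrictFunctor W.ι _
  haveI : Coh.IsQCoh P := Groth.L16.QcqsPush.isQCoh_push _ W.ι
  haveI : IsIso (R.map η₀) := by
    haveI : IsIso (adj.counit.app (R.obj (Coh.structureModule X))) := inferInstance
    exact IsIso.of_isIso_fac_right (adj.left_triangle_components (Coh.structureModule X))
  have hle : W.ι ''ᵁ (W.ι ⁻¹ᵁ ⊤) ≤ f ⁻¹ᵁ U := W.ι_image_le _
  let p : Fin d → Γ(P, ⊤) := fun i => rs (Coh.structureModule X) hle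
    (show Γ(Coh.structureModule X, f ⁻¹ᵁ U) from rs B (hUO i) (t i))
  let H : X.Modules := (∐ fun _ : Fin d => Coh.structureModule X) ⊞ Coh.structureModule X
  have hH : Coh.IsCoh H := Groth.L16.Devissage.isCoh_biprod
    (Groth.L16.Devissage.isCoh_sigma _ fun _ => Groth.L16.CohClosedPush.isCoh_structure)
    Groth.L16.CohClosedPush.isCoh_structure
  let g : H ⟶ P := biprod.desc (Sigma.desc fun i => homOfSection P (p i)) η₀
  let M := Abelian.image g
  have hM : Coh.IsCoh M := Groth.L16.CohSupport.isCoh_image hH g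
  let k : Coh.structureModule X ⟶ M := biprod.inr ≫ Abelian.factorThruImage g
  have hk : k ≫ Abelian.image.ι g = η₀ := by simp [k, g]
  let m : Fin d → Γ(M, ⊤) := fun i =>
    (Sigma.ι (fun _ : Fin d => Coh.structureModule X) i ≫ biprod.inl ≫ Abelian.factorThruImage g).app ⊤ (1 : Γ(X, ⊤))
  have hm : ∀ i, (Abelian.image.ι g).app ⊤ (m i) = (homOfSection P (p i)).app ⊤ (1 : Γ(X, ⊤)) := fun i => by
    show ((Sigma.ι (fun _ : Fin d => Coh.structureModule X) i ≫ biprod.inl ≫ Abelian.factorThruImage g) ≫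
      Abelian.image.ι g).app ⊤ (1 : Γ(X, ⊤)) = _
    simp [g]
  let push := Scheme.Modules.pushforward f
  haveI := (Scheme.Modules.pullbackPushforwardAdjunction f).rightAdjoint_preservesLimits
  let fM := push.obj M
  let c : ULift.{u} (Fin d) → Γ(fM, ⊤) := fun i => m i.down
  let α : (∐ fun _ : ULift.{u} (Fin d) => Coh.structureModule Y) ⟶ fM :=
    Sigma.desc fun i => homOfSection fM (c i)
  refine ⟨d, M, α, dim_push_pos f, hM, ?_⟩
  -- stalk isomorphisms
  haveI hη : IsIso (Fs.map (push.map η₀)) := by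
    refine (ConcreteCategory.isIso_iff_bijective _).2 ⟨(injective_iff_map_eq_zero _).2 fun z hz => ?_, fun z => ?_⟩
    · obtain ⟨V, hV, v, rfl⟩ := TopCat.Presheaf.exists_germ_eq (F := B.presheaf) (show B.presheaf.stalk ξ from z)
      have hz' : (push.obj P).presheaf.germ V ξ hV ((push.map η₀).app V v) = 0 :=
        (Groth.L21.Mod.stalkF_map_germ (push.map η₀) V ξ hV v).symm.trans hz
      obtain ⟨V', hV', i, i', he⟩ := (push.obj P).presheaf.germ_eq ξ hV hV ((push.map η₀).app V v) 0
        (hz'.trans (map_zero _).symm)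
      rw [map_zero] at he
      have hV2 : ξ ∈ V' ⊓ U := ⟨hV', hξU⟩
      have hle2 : V' ⊓ U ≤ V := inf_le_left.trans i.le
      haveI := isIso_app_of_restrict η₀ (W := W) (show f ⁻¹ᵁ (V' ⊓ U) ≤ W from fun x hx => hx.2)
      have h0 : (push.map η₀).app (V' ⊓ U) (rs B hle2 v) = 0 := by
        rw [Groth.L19.ProjBdl.app_rs]
        rw [← rs_rs (push.obj P) i.le (inf_le_left : V' ⊓ U ≤ V')]
        exact (congrArg (rs (push.obj P) inf_le_left) he).trans (map_zero _)
      have h1 : rs B hle2 v = 0 :=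
        (ConcreteCategory.bijective_of_isIso (η₀.app (f ⁻¹ᵁ (V' ⊓ U)))).1 (h0.trans (map_zero _).symm)
      refine (Groth.L20.ModStalk.germ_rs B hle2 hV2 v).symm.trans ?_
      rw [h1, map_zero]
    · obtain ⟨V, hV, v, rfl⟩ := TopCat.Presheaf.exists_germ_eq (F := (push.obj P).presheaf) (show (push.obj P).presheaf.stalk ξ from z)
      haveI := isIso_app_of_restrict η₀ (W := W) (show f ⁻¹ᵁ (V ⊓ U) ≤ W from fun x hx => hx.2)
      obtain ⟨w, hw⟩ := (ConcreteCategory.bijective_of_isIso (η₀.app (f ⁻¹ᵁ (V ⊓ U)))).2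
        (rs (push.obj P) (inf_le_left : V ⊓ U ≤ V) v)
      refine ⟨B.presheaf.germ (V ⊓ U) ξ ⟨hV, hξU⟩ w, ?_⟩
      refine (Groth.L21.Mod.stalkF_map_germ (push.map η₀) (V ⊓ U) ξ ⟨hV, hξU⟩ w).trans ?_
      exact (congrArg _ hw).trans (Groth.L20.ModStalk.germ_rs (push.obj P) inf_le_left ⟨hV, hξU⟩ v)
  haveI : Mono (Fs.map (push.map (Abelian.image.ι g))) := by
    haveI : Mono (push.map (Abelian.image.ι g)) := push.map_mono _
    exact Fs.map_mono _
  have hcomp : Fs.map (push.map k) ≫ Fs.map (push.map (Abelian.image.ι g)) = Fs.map (push.map η₀) := by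
    rw [← Functor.map_comp, ← Functor.map_comp, hk]
  haveI hι : IsIso (Fs.map (push.map (Abelian.image.ι g))) := by
    haveI : Epi (Fs.map (push.map k) ≫ Fs.map (push.map (Abelian.image.ι g))) := by rw [hcomp]; infer_instance
    haveI := epi_of_epi (Fs.map (push.map k)) (Fs.map (push.map (Abelian.image.ι g)))
    exact isIso_of_mono_of_epi _
  haveI : IsIso (Fs.map (push.map k)) := by
    haveI : IsIso (Fs.map (push.map k) ≫ Fs.map (push.map (Abelian.image.ι g))) := by rw [hcomp]; infer_instance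
    exact IsIso.of_isIso_comp_right _ (Fs.map (push.map (Abelian.image.ι g)))
  haveI hfin : Module.Finite (Y.presheaf.stalk ξ) (Fs.obj fM) :=
    Groth.L15.Ref.finite_stalk (Groth.L07.PrinParts.isCoh_pushforward_finite f hM) _
  have hdimM : dim fM = d := ((asIso (Fs.map (push.map k))).toLinearEquiv.finrank_eq).symm
  let e₁ : (∐ fun _ : ULift.{u} (Fin d) => Coh.structureModule Y) ≅ ∐ fun _ : Fin d => Coh.structureModule Y :=
    (Sigma.whiskerEquiv (f := fun _ : Fin d => Coh.structureModule Y)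
      (g := fun _ : ULift.{u} (Fin d) => Coh.structureModule Y) Equiv.ulift.symm fun _ => Iso.refl _).symm
  have hdimFree : dim (∐ fun _ : ULift.{u} (Fin d) => Coh.structureModule Y) = d := by
    rw [dim_congr e₁, dim_sigma _ Groth.L16.CohClosedPush.isCoh_structure, dim_unit, mul_one]
  haveI : Module.Finite (Y.presheaf.stalk ξ) (Fs.obj (∐ fun _ : Fin d => Coh.structureModule Y)) :=
    Groth.L15.Ref.finite_stalk (Groth.L16.Devissage.isCoh_sigma _ fun _ => Groth.L16.CohClosedPush.isCoh_structure) _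
  haveI : Module.Finite (Y.presheaf.stalk ξ) (Fs.obj (∐ fun _ : ULift.{u} (Fin d) => Coh.structureModule Y)) :=
    Module.Finite.equiv (Fs.mapIso e₁).toLinearEquiv.symm
  let L := (Fs.map α).hom
  have hgen : ∀ i, (Fs.map (push.map k)).hom (b i) ∈ LinearMap.range L := fun i => by
    let one : Γ(Coh.structureModule Y, ⊤) := (1 : Γ(Y, ⊤))
    refine ⟨(Fs.map (Sigma.ι (fun _ : ULift.{u} (Fin d) => Coh.structureModule Y) ⟨i⟩)).hom
      ((Coh.structureModule Y).presheaf.germ ⊤ ξ trivial one), ?_⟩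
    have h1 : L ((Fs.map (Sigma.ι (fun _ : ULift.{u} (Fin d) => Coh.structureModule Y) ⟨i⟩)).hom
        ((Coh.structureModule Y).presheaf.germ ⊤ ξ trivial one)) = fM.presheaf.germ ⊤ ξ trivial (c ⟨i⟩) := by
      show (Fs.map α).hom _ = _
      rw [← LinearMap.comp_apply, ← ModuleCat.hom_comp, ← Functor.map_comp, Sigma.ι_desc]
      exact (Groth.L21.Mod.stalkF_map_germ (homOfSection fM (c ⟨i⟩)) ⊤ ξ trivial one).trans
        (germ_app_one fM (c ⟨i⟩) ξ)
    rw [h1]
    apply (ConcreteCategory.bijective_of_isIso (Fs.map (push.map (Abelian.image.ι g)))).1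
    refine (Groth.L21.Mod.stalkF_map_germ (push.map (Abelian.image.ι g)) ⊤ ξ trivial (c ⟨i⟩)).trans ?_
    show _ = (Fs.map (push.map k) ≫ Fs.map (push.map (Abelian.image.ι g))).hom (b i)
    rw [hcomp, show (b i : Fs.obj B) = B.presheaf.germ U ξ hξU (rs B (hUO i) (t i)) from
      ((Groth.L20.ModStalk.germ_rs B (hUO i) hξU (t i)).trans (ht i)).symm]
    refine Eq.trans ?_ (Groth.L21.Mod.stalkF_map_germ (push.map η₀) U ξ hξU (rs B (hUO i) (t i))).symm
    refine (Groth.L20.ModStalk.germ_rs (push.obj P) (le_top : U ≤ ⊤) hξU _).symm.trans ?_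
    refine congrArg ((push.obj P).presheaf.germ U ξ hξU) ?_
    show rs P (le_top : f ⁻¹ᵁ U ≤ ⊤) ((Abelian.image.ι g).app ⊤ (m i)) =
      η₀.app (f ⁻¹ᵁ U) (show Γ(Coh.structureModule X, f ⁻¹ᵁ U) from rs B (hUO i) (t i))
    rw [hm i, homOfSection_app, one_smul]
    refine (rs_rs P (le_top : (⊤ : X.Opens) ≤ ⊤) (le_top : f ⁻¹ᵁ U ≤ ⊤) (p i)).trans ?_
    exact (rs_rs (Coh.structureModule X) hle
      (show W.ι ''ᵁ (W.ι ⁻¹ᵁ (f ⁻¹ᵁ U)) ≤ W.ι ''ᵁ (W.ι ⁻¹ᵁ ⊤) from W.ι.opensFunctor.map (homOfLE le_top) |>.le)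
      (show Γ(Coh.structureModule X, f ⁻¹ᵁ U) from rs B (hUO i) (t i)))
  have hsurj : Function.Surjective L := by
    rw [← LinearMap.range_eq_top, eq_top_iff]
    intro z _
    obtain ⟨w, rfl⟩ := (ConcreteCategory.bijective_of_isIso (Fs.map (push.map k))).2 z
    rw [← b.sum_repr w, map_sum]
    exact Submodule.sum_mem _ fun i _ => by rw [map_smul]; exact Submodule.smul_mem _ _ (hgen i)
  have hinj : Function.Injective L :=
    (LinearMap.injective_iff_surjective_of_finrank_eq_finrank (hdimFree.trans hdimM.symm)).2 hsurj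
  exact (ConcreteCategory.isIso_iff_bijective _).2 (show Function.Bijective L from ⟨hinj, hsurj⟩)

end Groth.L17.GenericTrivFree
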