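import Groth.Prelude.Def_Dual3
import Groth.Agent.L17.KilledUnit
import Groth.Agent.L16.AffineBC.Local
import Groth.Agent.L16.AffineBC.Pullback
import Groth.Agent.L16.CohSupport
import Groth.Agent.L16.QcqsPush
import Groth.Agent.L18.IdealModule

/-!
# Sections of `I · G` over affine opens
-/

set_option autoImplicit false
set_option backward.isDefEq.respectTransparency false
set_option backward.isDefEq.respectTransparency.types false
set_option linter.style.haveILetI false

universe u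

open CategoryTheory CategoryTheory.Limits AlgebraicGeometry Opposite TopologicalSpace

noncomputable section

namespace Groth.L17.IdealMulSec

variable {X : Scheme.{u}}

/-- Sections of a kernel. -/
theorem kernel_sections {F G : X.Modules} (φ : F ⟶ G) (V : X.Opens) :
    Function.Injective ((kernel.ι φ).app V) ∧
      ∀ a : Γ(F, V), φ.app V a = 0 ↔ ∃ m : Γ(kernel φ, V), (kernel.ι φ).app V m = a := by
  let E := SheafOfModules.evaluation.{u} X.ringCatSheaf (op V)
  haveI : E.Additive := Functor.additive_of_preserves_binary_products E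
  let S := (ShortComplex.mk (kernel.ι φ) φ (kernel.condition φ)).map E
  have hk : IsLimit (KernelFork.ofι S.f S.zero) :=
    isLimitForkMapOfIsLimit' E (kernel.condition φ) (kernelIsKernel φ)
  haveI : Mono S.f := mono_of_isLimit_fork hk
  refine ⟨(ModuleCat.mono_iff_injective S.f).1 inferInstance, fun a => ⟨fun ha => ?_, ?_⟩⟩
  · exact (ShortComplex.moduleCat_exact_iff S).1 (ShortComplex.exact_of_f_is_kernel S hk) a ha
  · rintro ⟨m, rfl⟩
    exact congr($(S.zero) m)

variable (I : X.IdealSheafData) (G : X.Modules)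

/-- The unit defining `idealMul`. -/
abbrev η := (Scheme.Modules.pullbackPushforwardAdjunction I.subschemeι).unit.app G

theorem η_smul {U : X.Opens} (hU : IsAffineOpen U) {a : Γ(X, U)} (ha : a ∈ I.ideal ⟨U, hU⟩) (m : Γ(G, U)) :
    (η I G).app U (a • m) = 0 := by
  refine (Scheme.Modules.Hom.app_smul (η I G) a m).trans ?_
  refine (Groth.L00.PullStalk.push_smul I.subschemeι _ U a _).trans ?_
  rw [← I.ker_subschemeι_app ⟨U, hU⟩, RingHom.mem_ker] at ha
  exact (congrArg (fun b : Γ(I.subscheme, I.subschemeι ⁻¹ᵁ U) => b •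
    (show Γ((Scheme.Modules.pullback I.subschemeι).obj G, I.subschemeι ⁻¹ᵁ U) from (η I G).app U m)) ha).trans
      (zero_smul Γ(I.subscheme, I.subschemeι ⁻¹ᵁ U) _)

theorem mem_map_of_stalkMap_eq_zero {U : X.Opens} (hU : IsAffineOpen U) (z : I.subscheme)
    (hz : I.subschemeι z ∈ U) (r : X.presheaf.stalk (I.subschemeι z))
    (hr : (I.subschemeι.stalkMap z).hom r = 0) :
    r ∈ (I.ideal ⟨U, hU⟩).map (X.presheaf.germ U (I.subschemeι z) hz).hom := by
  letI := X.presheaf.algebra_section_stalk ⟨I.subschemeι z, hz⟩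
  haveI := hU.isLocalization_stalk ⟨I.subschemeι z, hz⟩
  have hzU : z ∈ I.subschemeι ⁻¹ᵁ U := hz
  have hV : IsAffineOpen (I.subschemeι ⁻¹ᵁ U) := hU.preimage I.subschemeι
  letI := I.subscheme.presheaf.algebra_section_stalk ⟨z, hzU⟩
  haveI := hV.isLocalization_stalk ⟨z, hzU⟩
  obtain ⟨⟨a, t⟩, hat⟩ := IsLocalization.surj (hU.primeIdealOf ⟨I.subschemeι z, hz⟩).asIdeal.primeCompl r
  have hφa : algebraMap Γ(I.subscheme, I.subschemeι ⁻¹ᵁ U) (I.subscheme.presheaf.stalk z) (I.subschemeι.app U a) = 0 := by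
    refine (Scheme.Hom.germ_stalkMap_apply I.subschemeι U z hz a).symm.trans ?_
    show (I.subschemeι.stalkMap z).hom (algebraMap Γ(X, U) (X.presheaf.stalk (I.subschemeι z)) a) = 0
    rw [← hat, map_mul, hr, zero_mul]
  obtain ⟨c, hc⟩ := (IsLocalization.map_eq_zero_iff (hV.primeIdealOf ⟨z, hzU⟩).asIdeal.primeCompl
    (I.subscheme.presheaf.stalk z) (I.subschemeι.app U a)).1 hφa
  obtain ⟨b, hb⟩ := I.subschemeι.app_surjective U hU c.1
  have hbu : IsUnit (X.presheaf.germ U (I.subschemeι z) hz b) := by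
    refine isUnit_of_map_unit (I.subschemeι.stalkMap z).hom _ ?_
    rw [show (I.subschemeι.stalkMap z).hom (X.presheaf.germ U (I.subschemeι z) hz b) =
        I.subscheme.presheaf.germ (I.subschemeι ⁻¹ᵁ U) z hzU (I.subschemeι.app U b) from
      Scheme.Hom.germ_stalkMap_apply I.subschemeι U z hz b, hb]
    exact IsLocalization.map_units (I.subscheme.presheaf.stalk z) c
  have hba : b * a ∈ I.ideal ⟨U, hU⟩ := by
    rw [← I.ker_subschemeι_app ⟨U, hU⟩, RingHom.mem_ker, map_mul]
    exact (congrArg (· * _) hb).trans hc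
  have ht : IsUnit (X.presheaf.germ U (I.subschemeι z) hz t.1) :=
    IsLocalization.map_units (X.presheaf.stalk (I.subschemeι z)) t
  refine (Ideal.mul_unit_mem_iff_mem _ ht).1 ((Ideal.unit_mul_mem_iff_mem _ hbu).1 ?_)
  have hat' : r * X.presheaf.germ U (I.subschemeι z) hz t.1 = X.presheaf.germ U (I.subschemeι z) hz a := hat
  rw [hat', ← map_mul]
  exact Ideal.mem_map_of_mem _ hba

theorem mem_smul_of_mk_one_eq_zero {R S M : Type u} [CommRing R] [CommRing S] [Algebra R S] [AddCommGroup M]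
    [Module R M] (hs : Function.Surjective (algebraMap R S)) (m : M)
    (hm : TensorProduct.mk R S M 1 m = 0) :
    m ∈ RingHom.ker (algebraMap R S) • (⊤ : Submodule R M) := by
  set N := RingHom.ker (algebraMap R S) • (⊤ : Submodule R M)
  rw [← Submodule.Quotient.mk_eq_zero]
  refine Groth.L17.KilledUnit.injective_mk_one (M := M ⧸ N) hs (fun r hr q => ?_) ?_
  · obtain ⟨q, rfl⟩ := Submodule.Quotient.mk_surjective N q
    rw [← Submodule.Quotient.mk_smul, Submodule.Quotient.mk_eq_zero]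
    exact Submodule.smul_mem_smul hr Submodule.mem_top
  · have := congrArg (LinearMap.lTensor S N.mkQ) hm
    simpa using this

theorem germ_mem_smul {U : X.Opens} (hU : IsAffineOpen U) (s : Γ(G, U)) (hs : (η I G).app U s = 0)
    (x : X) (hx : x ∈ U) :
    (G.presheaf.germ U x hx s : G.presheaf.stalk x) ∈ (I.ideal ⟨U, hU⟩).map (X.presheaf.germ U x hx).hom •
      (⊤ : Submodule (X.presheaf.stalk x) (G.presheaf.stalk x)) := by
  by_cases hxr : x ∈ Set.range I.subschemeι
  · obtain ⟨z, rfl⟩ := hxr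
    have h1 := (Groth.L17.ClosedPush.stalkIso_unit_germ I.subschemeι G z hx s).symm
    erw [hs, map_zero, map_zero] at h1
    letI := (Groth.L00.PullStalk.φ I.subschemeι z).toAlgebra
    have h2 := mem_smul_of_mk_one_eq_zero (R := X.presheaf.stalk (I.subschemeι z))
      (S := I.subscheme.presheaf.stalk z) (M := G.presheaf.stalk (I.subschemeι z))
      (Groth.L17.ClosedPush.φ_surjective I.subschemeι z) (G.presheaf.germ U (I.subschemeι z) hx s) h1
    exact Submodule.smul_mono_left (fun r hr => mem_map_of_stalkMap_eq_zero I hU z hx r hr) h2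
  · have hns : x ∉ I.support := by
      rw [I.range_subschemeι] at hxr
      exact hxr
    rw [I.mem_support_iff_of_mem (U := ⟨U, hU⟩) hx, Scheme.mem_zeroLocus_iff] at hns
    push Not at hns
    obtain ⟨a, ha, hxa⟩ := hns
    rw [Ideal.eq_top_of_isUnit_mem _ (Ideal.mem_map_of_mem _ ha) ((X.mem_basicOpen a x hx).1 hxa),
      Submodule.top_smul]
    exact Submodule.mem_top

/-- Sections of `G` killed by the unit lie in `I(U) • Γ(G, U)`. -/
theorem η_app_eq_zero_iff [Coh.IsQCoh G] {U : X.Opens} (hU : IsAffineOpen U) (s : Γ(G, U)) :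
    (η I G).app U s = 0 ↔ s ∈ I.ideal ⟨U, hU⟩ • (⊤ : Submodule Γ(X, U) Γ(G, U)) := by
  constructor
  swap
  · intro h
    induction h using Submodule.smul_induction_on' with
    | smul r hr n hn => exact η_smul I G hU hr n
    | add a _ b _ ha hb => rw [map_add, ha, hb, add_zero]
  intro hs
  set N := I.ideal ⟨U, hU⟩ • (⊤ : Submodule Γ(X, U) Γ(G, U))
  let K : Ideal Γ(X, U) := Submodule.comap (LinearMap.toSpanSingleton Γ(X, U) Γ(G, U) s) N
  suffices K = ⊤ by simpa [K] using (Ideal.eq_top_iff_one K).1 this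
  by_contra hK
  obtain ⟨P, hP, hle⟩ := K.exists_le_maximal hK
  let p : Spec Γ(X, U) := ⟨P, hP.isPrime⟩
  set x : X := hU.fromSpec p with hx_def
  have hx : x ∈ U := by
    have : x ∈ Set.range hU.fromSpec := ⟨p, rfl⟩
    rwa [hU.range_fromSpec] at this
  have hPz : hU.primeIdealOf ⟨x, hx⟩ = p :=
    hU.fromSpec.isOpenEmbedding.injective (hU.fromSpec_primeIdealOf _)
  letI := X.presheaf.algebra_section_stalk ⟨x, hx⟩
  haveI := hU.isLocalization_stalk ⟨x, hx⟩
  letI := Groth.L20.ModStalk.stalkModule G hx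
  haveI := Groth.L20.ModStalk.isLocalizedModule_germ G hU hx
  let S := (hU.primeIdealOf ⟨x, hx⟩).asIdeal.primeCompl
  let g := Groth.L20.ModStalk.germₗ G hx
  have key : ∀ q ∈ (I.ideal ⟨U, hU⟩).map (X.presheaf.germ U x hx).hom •
      (⊤ : Submodule (X.presheaf.stalk x) (G.presheaf.stalk x)),
      ∃ (t : S), ∃ n ∈ N, X.presheaf.germ U x hx (t : Γ(X, U)) • q = g n := by
    intro q hq
    induction hq using Submodule.smul_induction_on' with
    | smul r hr p hp =>
      obtain ⟨⟨⟨a, ha⟩, t⟩, hat⟩ := (IsLocalization.mem_map_algebraMap_iff S (X.presheaf.stalk x)).1 hr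
      obtain ⟨⟨m, t'⟩, hm⟩ := IsLocalizedModule.surj S g p
      refine ⟨t * t', a • m, Submodule.smul_mem_smul ha Submodule.mem_top, ?_⟩
      rw [map_smul g a m, ← hm]
      have hat' : r * X.presheaf.germ U x hx (t : Γ(X, U)) = X.presheaf.germ U x hx a := hat
      show X.presheaf.germ U x hx ((t * t' : S) : Γ(X, U)) • (r • p) =
        X.presheaf.germ U x hx a • (X.presheaf.germ U x hx (t' : Γ(X, U)) • p)
      rw [← hat', Submonoid.coe_mul, map_mul, smul_smul, smul_smul]
      congr 1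
      ring
    | add q₁ _ q₂ _ h₁ h₂ =>
      obtain ⟨t₁, n₁, hn₁, e₁⟩ := h₁
      obtain ⟨t₂, n₂, hn₂, e₂⟩ := h₂
      refine ⟨t₁ * t₂, (t₂ : Γ(X, U)) • n₁ + (t₁ : Γ(X, U)) • n₂,
        add_mem (N.smul_mem _ hn₁) (N.smul_mem _ hn₂), ?_⟩
      rw [map_add g, map_smul g, map_smul g, ← e₁, ← e₂]
      show X.presheaf.germ U x hx ((t₁ * t₂ : S) : Γ(X, U)) • (q₁ + q₂) =
        X.presheaf.germ U x hx (t₂ : Γ(X, U)) • (X.presheaf.germ U x hx (t₁ : Γ(X, U)) • q₁) +
        X.presheaf.germ U x hx (t₁ : Γ(X, U)) • (X.presheaf.germ U x hx (t₂ : Γ(X, U)) • q₂)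
      rw [smul_smul, smul_smul, smul_add, Submonoid.coe_mul, map_mul, mul_comm (X.presheaf.germ U x hx (t₂ : Γ(X, U)))]
  have hgs : g s ∈ (I.ideal ⟨U, hU⟩).map (X.presheaf.germ U x hx).hom •
      (⊤ : Submodule (X.presheaf.stalk x) (G.presheaf.stalk x)) := germ_mem_smul I G hU s hs x hx
  obtain ⟨t, n, hn, e⟩ := key _ hgs
  have e' : g ((t : Γ(X, U)) • s) = g n := (map_smul g _ _).trans e
  obtain ⟨c, hc⟩ := IsLocalizedModule.exists_of_eq (S := S) e'
  have hcK : ((c * t : S) : Γ(X, U)) ∈ K := by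
    show ((c * t : S) : Γ(X, U)) • s ∈ N
    rw [Submonoid.coe_mul, mul_smul]
    exact (show (c : Γ(X, U)) • (t : Γ(X, U)) • s = (c : Γ(X, U)) • n from hc) ▸ N.smul_mem _ hn
  exact (c * t).2 (by rw [hPz]; exact hle hcK)

theorem ι_app_injective (U : X.Opens) : Function.Injective ((Dual3.idealMulι I G).app U) :=
  (kernel_sections _ U).1

/-- `Γ(I · G, U) = I(U) • Γ(G, U)` for affine `U`. -/
theorem exists_app_eq_iff [Coh.IsQCoh G] {U : X.Opens} (hU : IsAffineOpen U) (s : Γ(G, U)) :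
    (∃ m, (Dual3.idealMulι I G).app U m = s) ↔ s ∈ I.ideal ⟨U, hU⟩ • (⊤ : Submodule Γ(X, U) Γ(G, U)) :=
  ((kernel_sections (η I G) U).2 s).symm.trans (η_app_eq_zero_iff I G hU s)

theorem isQCoh_idealMul [Coh.IsQCoh G] : Coh.IsQCoh ((Dual3.idealMul I).obj G) := by
  haveI := Groth.L16.AffineBC.isQCoh_pullback I.subschemeι G
  haveI : Coh.IsQCoh ((Scheme.Modules.pullback I.subschemeι ⋙ Scheme.Modules.pushforward I.subschemeι).obj G) :=
    Groth.L16.QcqsPush.isQCoh_push _ I.subschemeι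
  haveI : Coh.IsQCoh ((𝟭 X.Modules).obj G) := ‹Coh.IsQCoh G›
  exact Groth.L18.IdealModule.isQCoh_kernel (η I G)

theorem isCoh_idealMul [IsLocallyNoetherian X] (hG : Coh.IsCoh G) : Coh.IsCoh ((Dual3.idealMul I).obj G) := by
  haveI := hG.1
  haveI := Groth.L16.AffineBC.isQCoh_pullback I.subschemeι G
  haveI : Coh.IsQCoh ((Scheme.Modules.pullback I.subschemeι ⋙ Scheme.Modules.pushforward I.subschemeι).obj G) :=
    Groth.L16.QcqsPush.isQCoh_push _ I.subschemeι
  exact Groth.L16.CohSupport.isCoh_kernel (G := (Scheme.Modules.pullback I.subschemeι ⋙ Scheme.Modules.pushforward I.subschemeι).obj G) hG (η I G)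

/-- A morphism into `G` with values in `I(U) • Γ(G, U)` factors through `I · G`. -/
theorem exists_lift [Coh.IsQCoh G] {A : X.Modules} (φ : A ⟶ G)
    (h : ∀ (U : X.Opens) (hU : IsAffineOpen U) (m : Γ(A, U)),
      φ.app U m ∈ I.ideal ⟨U, hU⟩ • (⊤ : Submodule Γ(X, U) Γ(G, U))) :
    ∃ l : A ⟶ (Dual3.idealMul I).obj G, l ≫ Dual3.idealMulι I G = φ := by
  refine ⟨kernel.lift _ φ (Groth.L16.AffineBC.hom_ext_affine _ _ fun U hU m => ?_), kernel.lift_ι _ _ _⟩
  exact (η_app_eq_zero_iff I G hU _).2 (h U hU m)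

theorem exists_le {J : X.IdealSheafData} [Coh.IsQCoh G] (h : I ≤ J) :
    ∃ l : (Dual3.idealMul I).obj G ⟶ (Dual3.idealMul J).obj G, l ≫ Dual3.idealMulι J G = Dual3.idealMulι I G :=
  exists_lift J G _ fun U hU m => Submodule.smul_mono_left (h ⟨U, hU⟩)
    ((exists_app_eq_iff I G hU _).1 ⟨m, rfl⟩)

end Groth.L17.IdealMulSec
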