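import Groth.Agent.L20.ResAmple
import Groth.Agent.L18.AmpleOps
import Groth.Agent.L22.VeryAmple.Over
import Groth.Agent.L16.NegPow.Gen
import Groth.Agent.L17.CoverVanishing
import Groth.Agent.L16.CohLinear
import Groth.Agent.L00.AlgQCoh
import Groth.Agent.L16.Rees.RelVanish
import Groth.Agent.L16.ProjSpace.Basic
import Groth.Prelude.Def_PerfAux
import Mathlib.AlgebraicGeometry.Morphisms.Immersion

/-!
# Vanishing of cohomology reduces to locally free modules under the resolution property
-/

set_option autoImplicit false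
set_option backward.isDefEq.respectTransparency false
set_option linter.style.haveILetI false

universe u

open CategoryTheory CategoryTheory.Limits AlgebraicGeometry TopologicalSpace Opposite

noncomputable section

namespace Groth.L17.CohVanLocFree

open Groth.L16.CohLinear

variable {X : Scheme.{u}} [AlgebraicGeometry.IsNoetherian X]

theorem subsingleton_of_resolutionProperty (hX : PerfAux.HasResolutionProperty X) (n : ℕ)
    (h : ∀ E : X.Modules, FlatMod.IsFinLocFree E → ∀ i : ℕ, n < i → Subsingleton (Coh.HH X E i))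
    (F : X.Modules) (hF : Coh.IsCoh F) (i : ℕ) (hi : n < i) : Subsingleton (Coh.HH X F i) := by
  obtain ⟨d, hd⟩ := Groth.L17.exists_bound_qcqs (⊤ : X.Opens) isCompact_univ
  suffices key : ∀ (j : ℕ) (G : X.Modules), Coh.IsCoh G → ∀ q, n < q → d ≤ q + j → Subsingleton (Coh.HH X G q) from
    key d F hF i hi (by omega)
  intro j
  induction j with
  | zero =>
    intro G hG q _ hq
    haveI := hG.1
    haveI := subsingleton_of_forall_eq 0 (hd G q (by omega))
    exact (Groth.L17.hTopEquiv (X := X.toTopCat) (Coh.toAb G) q).subsingleton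
  | succ j ih =>
    intro G hG q hq hqj
    obtain ⟨E, p, hE, hp⟩ := hX G hG.1 hG.2
    haveI := hp
    haveI := hG.1
    have hEc := Groth.L16.NegPow.isCoh_of_isFinLocFree hE
    haveI := hEc.1
    haveI : Coh.IsQCoh (kernel p) := (Groth.L00.AlgQCoh.isQCoh_kernel_cokernel _ ‹_› ‹_›).1
    have hK : Coh.IsCoh (kernel p) := Groth.L16.Rees.RelVanish.isCoh_of_mono (kernel.ι p) hEc
    have hS : (ShortComplex.mk (kernel.ι p) p (kernel.condition p)).ShortExact :=
      { exact := ShortComplex.exact_kernel p }
    haveI := h E hE q hq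
    haveI := ih (kernel p) hK (q + 1) (by omega) (by omega)
    refine subsingleton_of_forall_eq 0 fun x => ?_
    obtain ⟨y, rfl⟩ := (exact_hmap_delta hS q x).1 (Subsingleton.elim _ _)
    rw [Subsingleton.elim y 0, map_zero]

omit [AlgebraicGeometry.IsNoetherian X] in
theorem hasResolutionProperty_of_immersion (k : Type u) [Field k] (N : ℕ) (ι : X ⟶ CohB1.ProjSpace N k) [IsImmersion ι] :
    AlgebraicGeometry.IsNoetherian X ∧ PerfAux.HasResolutionProperty X := by
  haveI : IsLocallyNoetherian (CohB1.ProjSpace N k) :=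
    LocallyOfFiniteType.isLocallyNoetherian (CohB1.ProjSpace.toSpec N k)
  haveI : CompactSpace (CohB1.ProjSpace N k) :=
    QuasiCompact.compactSpace_of_compactSpace (CohB1.ProjSpace.toSpec N k)
  haveI : AlgebraicGeometry.IsNoetherian (CohB1.ProjSpace N k) := ⟨⟩
  haveI : IsLocallyNoetherian X := LocallyOfFiniteType.isLocallyNoetherian ι
  haveI : CompactSpace X := ⟨ι.isEmbedding.isCompact_iff.2 (NoetherianSpace.isCompact _)⟩
  refine ⟨by constructor, ?_⟩
  have hL := Groth.L18.Ample.isAmple_pullback_of_isInducing ι ι.isEmbedding.isInducing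
    (Groth.L22.VeryAmple.isAmple_O1 N k)
  haveI := hL.2.1
  refine Groth.L20.ResDescent.hasResolutionProperty_of_genLocus fun x => ?_
  obtain ⟨m, s, hx, hs⟩ := hL.2.2 x
  exact ⟨_, s, Groth.L18.Ample.isInvertible_tensorPow hL.1 (m + 1), hx, hs⟩

end Groth.L17.CohVanLocFree
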