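import Groth.Agent.L17.AcyclicThen
import Groth.Agent.L17.PushQCoh
import Groth.Agent.L17.AffinePush
import Groth.Agent.L10.SiteRightDerived

/-!
Higher direct images of `i_* G` for a closed immersion `i`.
-/

set_option autoImplicit false
set_option backward.isDefEq.respectTransparency false
set_option linter.style.haveILetI false

universe u

open CategoryTheory CategoryTheory.Limits AlgebraicGeometry TopologicalSpace

namespace Groth.L17.PushComp

variable {Z X S : Scheme.{u}}

attribute [local instance] Groth.L17.PushQCoh.additive_push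

/-- `R^n f_* (i_* G) = R^n (i ≫ f)_* G` for a closed immersion `i`. -/
theorem nonempty_Rpush_comp_of_isClosedImmersion (i : Z ⟶ X) [IsClosedImmersion i] (f : X ⟶ S)
    [HasInjectiveResolutions X.Modules] [HasInjectiveResolutions Z.Modules] (G : Z.Modules) (n : ℕ) :
    Nonempty ((Coh.Rpush f n).obj ((Coh.push i).obj G) ≅ (Coh.Rpush (i ≫ f) n).obj G) := by
  letI := HasDerivedCategory.standard X.Modules
  haveI := Groth.L00.Tensor.grothendieckAbelian_modules X
  haveI : PreservesFiniteLimits (Scheme.Modules.pushforward i) :=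
    haveI : PreservesLimitsOfSize.{0, 0} (Scheme.Modules.pushforward i) :=
      (Scheme.Modules.pullbackPushforwardAdjunction i).rightAdjoint_preservesLimits
    inferInstance
  haveI : PreservesFiniteLimits (Scheme.Modules.pushforward f) :=
    haveI : PreservesLimitsOfSize.{0, 0} (Scheme.Modules.pushforward f) :=
      (Scheme.Modules.pullbackPushforwardAdjunction f).rightAdjoint_preservesLimits
    inferInstance
  obtain ⟨e⟩ := Groth.L17.GrothSS.nonempty_rightDerived_comp_of_acyclic (Scheme.Modules.pushforward i)
    (Scheme.Modules.pushforward f)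
    (fun Q hQ q hq => by
      obtain ⟨k, rfl⟩ : ∃ k, q = k + 1 := ⟨q - 1, by omega⟩
      haveI := hQ
      haveI : TopCat.Sheaf.IsFlasque (Coh.toAb Q) := Groth.L17.PushMV.isFlasque_of_injective Q
      exact Groth.L17.PushQCoh.isZero_Rpush_of_flasque f _
        (show TopCat.Sheaf.IsFlasque (Coh.toAb ((Scheme.Modules.pushforward i).obj Q)) from
          TopCat.Sheaf.IsFlasque.pushforward_isFlasque (Y := X.toTopCat) (Coh.toAb Q) i.base) k)
    G
    (fun q hq => by
      obtain ⟨k, rfl⟩ : ∃ k, q = k + 1 := ⟨q - 1, by omega⟩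
      obtain ⟨e⟩ := Groth.L17.nonempty_toAb_Rpush_iso i G (k + 1)
      exact Groth.L17.PushQCoh.isZero_of_toAb
        (IsZero.of_iso (Groth.L17.isZero_RpushAb_of_isClosedImmersion i G k) e)) n
  exact ⟨e.symm ≪≫ (Groth.L10.SiteCoh.rightDerivedCongr (Scheme.Modules.pushforwardComp i f) n).app G⟩

end Groth.L17.PushComp
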