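import Groth.Agent.L17.TruncSpecObj
import Groth.Agent.L17.AcyclicCx
import Mathlib.Algebra.Homology.DerivedCategory.SingleTriangle

/-!
Hyperderived functors of single objects are right derived functors, and the consequences for short
exact sequences.
-/

set_option autoImplicit false

universe w v u v' u'

open CategoryTheory CategoryTheory.Limits CategoryTheory.Pretriangulated

namespace Groth.L17.GrothSS

variable {C : Type u} [Category.{v} C] [Abelian C] [HasDerivedCategory.{w} C] [EnoughInjectives C]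
  {D : Type u'} [Category.{v'} D] [Abelian D] (S : C ⥤ D) [S.Additive]

/-- The degree `0` single object is computed by an injective resolution. -/
noncomputable def singleQIso {M : C} (R : InjectiveResolution M) :
    (DerivedCategory.Plus.singleFunctor C 0).obj M ≅
      DerivedCategory.Plus.Q.obj ⟨R.cochainComplex, 0, inferInstance⟩ :=
  let i := asIso (DerivedCategory.Q.map R.ι')
  DerivedCategory.Plus.ι.preimageIso ((DerivedCategory.singleFunctorIsoCompQ C 0).app M ≪≫ i)

/-- `H^n(RS M) = R^n S M`. -/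
noncomputable def hhSingleZeroIso [HasInjectiveResolutions C] (M : C) (n : ℕ) :
    (HH S (n : ℤ)).obj ((DerivedCategory.Plus.singleFunctor C 0).obj M) ≅
      (S.rightDerived n).obj M :=
  (HH S (n : ℤ)).mapIso (singleQIso (injectiveResolution M)) ≪≫
    hhInjIso S _ _ (fun _ => inferInstance) _ ≪≫ homologyMapCochainIso S (injectiveResolution M) n

/-- Hyperderived functors commute with shifts. -/
noncomputable def hhShiftIso (Y : DerivedCategory.Plus C) (a n n' : ℤ) (h : a + n = n') :
    (HH S n).obj (Y⟦a⟧) ≅ (HH S n').obj Y :=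
  (HomotopyCategory.homologyFunctor D (.up ℤ) n).mapIso (((RK S).commShiftIso a).app Y) ≪≫
    ((HomotopyCategory.homologyFunctor D (.up ℤ) 0).shiftIso a n n' h).app ((RK S).obj Y)

/-- `H^n(RS M[-q]) = H^{n-q}(RS M)`. -/
noncomputable def hhSingleShiftIso (M : C) (q n n' : ℤ) (h : -q + n = n') :
    (HH S n).obj ((DerivedCategory.Plus.singleFunctor C q).obj M) ≅
      (HH S n').obj ((DerivedCategory.Plus.singleFunctor C 0).obj M) :=
  (HH S n).mapIso
      (((DerivedCategory.Plus.singleFunctors C).shiftIso (-q) q 0 (by omega)).app M).symm ≪≫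
    hhShiftIso S _ (-q) n n' h

omit [EnoughInjectives C] in
/-- The triangle of a short exact sequence in `D⁺(C)`. -/
theorem exists_plusTriangle {T : ShortComplex C} (hT : T.ShortExact) :
    ∃ δ : (DerivedCategory.Plus.singleFunctor C 0).obj T.X₃ ⟶
        ((DerivedCategory.Plus.singleFunctor C 0).obj T.X₁)⟦(1 : ℤ)⟧,
      Triangle.mk ((DerivedCategory.Plus.singleFunctor C 0).map T.f)
        ((DerivedCategory.Plus.singleFunctor C 0).map T.g) δ ∈
        distTriang (DerivedCategory.Plus C) := by
  let s := DerivedCategory.Plus.singleFunctor C 0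
  let δ : s.obj T.X₃ ⟶ (s.obj T.X₁)⟦(1 : ℤ)⟧ :=
    DerivedCategory.Plus.ι.preimage
      (hT.singleδ ≫ (DerivedCategory.Plus.ι.commShiftIso (1 : ℤ)).inv.app (s.obj T.X₁))
  have hd : Triangle.mk (s.map T.f) (s.map T.g) δ ∈ distTriang (DerivedCategory.Plus C) := by
    change DerivedCategory.Plus.ι.mapTriangle.obj (Triangle.mk (s.map T.f) (s.map T.g) δ) ∈
      distTriang (DerivedCategory C)
    refine isomorphic_distinguished _ hT.singleTriangle_distinguished _ ?_
    refine Triangle.isoMk _ _ (Iso.refl _) (Iso.refl _) (Iso.refl _) ?_ ?_ ?_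
    · exact (Category.comp_id _).trans (Category.id_comp _).symm
    · exact (Category.comp_id _).trans (Category.id_comp _).symm
    · refine ((congrArg (_ ≫ ·) (CategoryTheory.Functor.map_id _ _)).trans (Category.comp_id _)).trans
        (Eq.trans ?_ (Category.id_comp _).symm)
      change DerivedCategory.Plus.ι.map δ ≫
        (DerivedCategory.Plus.ι.commShiftIso (1 : ℤ)).hom.app (s.obj T.X₁) = hT.singleδ
      rw [Functor.map_preimage, Category.assoc]
      exact (congrArg (hT.singleδ ≫ ·) (Iso.inv_hom_id_app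
        (DerivedCategory.Plus.ι.commShiftIso (1 : ℤ)) (s.obj T.X₁))).trans (Category.comp_id _)
  exact ⟨δ, hd⟩

/-- In a short exact sequence whose first two terms are acyclic, so is the third. -/
theorem isZero_rightDerived_X₃ [HasInjectiveResolutions C] {T : ShortComplex C}
    (hT : T.ShortExact) (h₁ : ∀ q : ℕ, 0 < q → IsZero ((S.rightDerived q).obj T.X₁))
    (h₂ : ∀ q : ℕ, 0 < q → IsZero ((S.rightDerived q).obj T.X₂)) :
    ∀ q : ℕ, 0 < q → IsZero ((S.rightDerived q).obj T.X₃) := by
  intro q hq
  obtain ⟨δ, hd⟩ := exists_plusTriangle hT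
  refine IsZero.of_iso ?_ (hhSingleZeroIso S T.X₃ q).symm
  exact ((HomotopyCategory.homologyFunctor D (.up ℤ) 0).homologySequence_exact₃ _
    ((RK S).map_distinguished _ hd) (q : ℤ) ((q + 1 : ℕ) : ℤ) (by omega)).isZero_of_both_zeros
    (((h₂ q hq).of_iso (hhSingleZeroIso S T.X₂ q)).eq_of_src _ _)
    (((h₁ (q + 1) (by omega)).of_iso (hhSingleZeroIso S T.X₁ (q + 1))).eq_of_tgt _ _)

/-- An extension of acyclic objects is acyclic. -/
theorem isZero_rightDerived_X₂ [HasInjectiveResolutions C] {T : ShortComplex C}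
    (hT : T.ShortExact) (h₁ : ∀ q : ℕ, 0 < q → IsZero ((S.rightDerived q).obj T.X₁))
    (h₃ : ∀ q : ℕ, 0 < q → IsZero ((S.rightDerived q).obj T.X₃)) :
    ∀ q : ℕ, 0 < q → IsZero ((S.rightDerived q).obj T.X₂) := by
  intro q hq
  obtain ⟨δ, hd⟩ := exists_plusTriangle hT
  refine IsZero.of_iso ?_ (hhSingleZeroIso S T.X₂ q).symm
  exact ((HomotopyCategory.homologyFunctor D (.up ℤ) 0).homologySequence_exact₂ _
    ((RK S).map_distinguished _ hd) (q : ℤ)).isZero_of_both_zeros
    (((h₁ q hq).of_iso (hhSingleZeroIso S T.X₁ q)).eq_of_src _ _)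
    (((h₃ q hq).of_iso (hhSingleZeroIso S T.X₃ q)).eq_of_tgt _ _)

end Groth.L17.GrothSS
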