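import Groth.Agent.L17.GrothSS
import Groth.Agent.L17.SingleRDer
import Mathlib.Algebra.Homology.SingleHomology

/-!
Derived functors of an exact functor followed by a left exact one: the degenerate Grothendieck
spectral sequence.
-/

set_option autoImplicit false

universe w v u v' u' v'' u''

open CategoryTheory CategoryTheory.Limits

namespace Groth.L17.GrothSS

variable {C : Type u'} [Category.{v'} C] [Abelian C] [HasInjectiveResolutions C]
  {C' : Type u} [Category.{v} C'] [Abelian C'] [HasInjectiveResolutions C'] [EnoughInjectives C']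
  [HasDerivedCategory.{w} C']
  {C'' : Type u''} [Category.{v''} C''] [Abelian C'']
  (A : C ⥤ C') [A.Additive] [PreservesFiniteLimits A] [PreservesFiniteColimits A]
  (S : C' ⥤ C'') [S.Additive]

omit [HasInjectiveResolutions C] [HasInjectiveResolutions C'] [EnoughInjectives C'] in
/-- An exact functor sends a resolution to a resolution. -/
theorem nonempty_singleTCxIso {X : C} (I : InjectiveResolution X) :
    Nonempty ((DerivedCategory.Plus.singleFunctor C' 0).obj (A.obj X) ≅
      DerivedCategory.Plus.Q.obj (TCx A I)) := by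
  let φ₁ : (CochainComplex.singleFunctor C' 0).obj (A.obj X) ⟶
      (A.mapHomologicalComplex (.up ℤ)).obj ((CochainComplex.singleFunctor C 0).obj X) :=
    ((HomologicalComplex.singleMapHomologicalComplex A (.up ℤ) 0).app X).inv
  let φ₂ : (A.mapHomologicalComplex (.up ℤ)).obj ((CochainComplex.singleFunctor C 0).obj X) ⟶
      (A.mapHomologicalComplex (.up ℤ)).obj I.cochainComplex :=
    (A.mapHomologicalComplex (.up ℤ)).map I.ι'
  haveI : IsIso φ₁ := Iso.isIso_inv ((HomologicalComplex.singleMapHomologicalComplex A (.up ℤ) 0).app X)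
  haveI : A.PreservesHomology := inferInstance
  haveI h2 : QuasiIso φ₂ := HomologicalComplex.quasiIso_map_of_preservesHomology _ A
  let ψ := φ₁ ≫ φ₂
  haveI hψ : QuasiIso ψ := inferInstanceAs (QuasiIso (φ₁ ≫ φ₂))
  haveI h3 : IsIso (DerivedCategory.Q.map ψ) :=
    Localization.inverts DerivedCategory.Q (HomologicalComplex.quasiIso C' (ComplexShape.up ℤ)) _
      ((HomologicalComplex.mem_quasiIso_iff _).2 hψ)
  exact ⟨DerivedCategory.Plus.ι.preimageIso
    ((DerivedCategory.singleFunctorIsoCompQ C' 0).app (A.obj X) ≪≫ @asIso _ _ _ _ (DerivedCategory.Q.map ψ) h3)⟩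

/-- `R^n (A ⋙ S) = R^n S ∘ A` for exact `A` sending injectives to `S`-acyclic objects. -/
theorem nonempty_rightDerived_exact_comp [PreservesFiniteLimits S]
    (hA : ∀ Q : C, Injective Q → ∀ q : ℕ, 0 < q → IsZero ((S.rightDerived q).obj (A.obj Q)))
    (X : C) (n : ℕ) :
    Nonempty (((A ⋙ S).rightDerived n).obj X ≅ (S.rightDerived n).obj (A.obj X)) := by
  let I := injectiveResolution X
  obtain ⟨e⟩ := nonempty_hhTCxIso A S I hA n
  obtain ⟨e'⟩ := nonempty_singleTCxIso A I
  exact ⟨e.symm ≪≫ (HH S (n : ℤ)).mapIso e'.symm ≪≫ hhSingleZeroIso S (A.obj X) n⟩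

end Groth.L17.GrothSS
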