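import Groth.Agent.L17.GrothSS
import Groth.Agent.L10.SiteRightDerived
import Groth.Agent.L10.SitePullExact
import Groth.Prelude.Def_CohSite

/-!
Sections over an object as a left exact functor on abelian sheaves on a site, and its derived
functors.
-/

set_option autoImplicit false

universe u

open CategoryTheory CategoryTheory.Limits Opposite

namespace Groth.L17.GrothSS

variable {C : Type u} [SmallCategory C] (J : GrothendieckTopology C)

/-- Sections over `V`. -/
noncomputable abbrev secFun (V : C) : Sheaf J AddCommGrpCat.{u} ⥤ AddCommGrpCat.{u} :=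
  sheafToPresheaf J AddCommGrpCat.{u} ⋙ (evaluation Cᵒᵖ AddCommGrpCat.{u}).obj (op V)

instance (V : C) : (secFun J V).Additive :=
  haveI : (sheafToPresheaf J AddCommGrpCat.{u}).Additive := { }
  inferInstance

/-- `R^n Γ(V, -) = H^n(V, -)`. -/
theorem nonempty_rightDerived_secFun (V : C) (F : Sheaf J AddCommGrpCat.{u}) (n : ℕ) :
    Nonempty (((secFun J V).rightDerived n).obj F ≅ AddCommGrpCat.of (CohSite.HU F n V)) := by
  obtain ⟨e⟩ := Groth.L10.SiteCoh.nonempty_rightDerived_iso F n
  exact ⟨Groth.L10.SiteCoh.rightDerivedCompIso (sheafToPresheaf J AddCommGrpCat.{u})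
    ((evaluation Cᵒᵖ AddCommGrpCat.{u}).obj (op V)) n F ≪≫
    ((evaluation Cᵒᵖ AddCommGrpCat.{u}).obj (op V)).mapIso e⟩

theorem isZero_rightDerived_push_injective {D : Type u} [SmallCategory D]
    (K : GrothendieckTopology D) (u : D ⥤ C) [u.IsContinuous K J]
    [PreservesFiniteLimits (u.sheafPullback (Type u) K J)] {B : Type*} [Category B] [Abelian B]
    (S : Sheaf K AddCommGrpCat.{u} ⥤ B) [S.Additive] (Q : Sheaf J AddCommGrpCat.{u})
    (hQ : Injective Q) (q : ℕ) (hq : 0 < q) :
    IsZero ((S.rightDerived q).obj ((CohSite.push J K u).obj Q)) := by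
  obtain ⟨k, rfl⟩ : ∃ k, q = k + 1 := ⟨q - 1, by omega⟩
  have : Injective ((CohSite.push J K u).obj Q) :=
    Groth.L10.SiteFr.push_injective_of_exact K u Q
  exact S.isZero_rightDerived_obj_injective_succ k _

theorem isZero_punit : IsZero (AddCommGrpCat.of PUnit.{u + 1}) :=
  AddCommGrpCat.isZero_of_subsingleton _

end Groth.L17.GrothSS
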