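import Groth.Prelude.Def_LocCohZ
import Groth.Agent.L10.TopCoh
import Groth.Agent.L17.SiteSections
import Groth.Agent.L17.HomDerived

/-!
Sections with support: `sectSuppF U` on sections, flasqueness, and `Γ_Z(X, -) = Hom(ℤ_X/ℤ_U, -)`.
-/

set_option autoImplicit false

universe u

open CategoryTheory CategoryTheory.Limits Opposite TopologicalSpace

namespace Groth.L17.SectSupp

variable {X : TopCat.{u}} (U : Opens X)

instance isContinuous_map_incl : (Opens.map U.inclusion').IsContinuous
    (Opens.grothendieckTopology X) (Opens.grothendieckTopology (TopCat.of U)) :=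
  instIsContinuousOpensCarrierMapGrothendieckTopology U.inclusion'

instance preservesFiniteLimits_secFun (V : Opens X) :
    PreservesFiniteLimits (Groth.L17.GrothSS.secFun (Opens.grothendieckTopology X) V) :=
  comp_preservesFiniteLimits _ _

/-- `j⁻¹ ⊣ j_*` with the naive pullback to an open subspace. -/
noncomputable def restrAdj :
    haveI : (U.isOpenEmbedding.isOpenMap.functor).IsContinuous
        (Opens.grothendieckTopology (TopCat.of U)) (Opens.grothendieckTopology X) :=
      U.isOpenEmbedding.functor_isContinuous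
    haveI : (Opens.map (CohCx.incl U)).IsContinuous (Opens.grothendieckTopology X)
        (Opens.grothendieckTopology (TopCat.of U)) :=
      instIsContinuousOpensCarrierMapGrothendieckTopology (CohCx.incl U)
    U.isOpenEmbedding.isOpenMap.functor.sheafPushforwardContinuous AddCommGrpCat.{u}
        (Opens.grothendieckTopology (TopCat.of U)) (Opens.grothendieckTopology X) ⊣
      (Opens.map (CohCx.incl U)).sheafPushforwardContinuous AddCommGrpCat.{u}
        (Opens.grothendieckTopology X) (Opens.grothendieckTopology (TopCat.of U)) :=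
  haveI : (U.isOpenEmbedding.isOpenMap.functor).IsContinuous
      (Opens.grothendieckTopology (TopCat.of U)) (Opens.grothendieckTopology X) :=
    U.isOpenEmbedding.functor_isContinuous
  haveI : (Opens.map (CohCx.incl U)).IsContinuous (Opens.grothendieckTopology X)
      (Opens.grothendieckTopology (TopCat.of U)) :=
    instIsContinuousOpensCarrierMapGrothendieckTopology (CohCx.incl U)
  U.isOpenEmbedding.isOpenMap.adjunction.sheafPushforwardContinuous _ _

omit U in
theorem res_zero {F : CohTop.Ab X} {A B C : Opens X} (hAB : A ≤ B) (hBC : B ≤ C) (hAC : A ≤ C)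
    (s : F.obj.obj (op C)) (h : F.obj.map (homOfLE hBC).op s = 0) :
    F.obj.map (homOfLE hAC).op s = 0 := by
  rw [show (homOfLE hAC).op = (homOfLE hBC).op ≫ (homOfLE hAB).op from Subsingleton.elim _ _,
    F.obj.map_comp]
  exact (congrArg (F.obj.map (homOfLE hAB).op) h).trans (map_zero _)

theorem ker_unit_app (F : CohTop.Ab X) (V : Opens X) (s : F.obj.obj (op V)) :
    ((TopCat.Sheaf.pullbackPushforwardAdjunction AddCommGrpCat.{u} (CohCx.incl U)).unit.app
      F).hom.app (op V) s = 0 ↔ F.obj.map (homOfLE (inf_le_left : V ⊓ U ≤ V)).op s = 0 := by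
  let adj := TopCat.Sheaf.pullbackPushforwardAdjunction AddCommGrpCat.{u} (CohCx.incl U)
  let e := adj.leftAdjointUniq (restrAdj U)
  have he : adj.unit.app F ≫ (CohTop.push (CohCx.incl U)).map (e.hom.app F) =
      (restrAdj U).unit.app F := adj.unit_leftAdjointUniq_hom_app _ F
  let m : (((CohTop.pull (CohCx.incl U) ⋙ CohTop.push (CohCx.incl U)).obj F).obj.obj (op V)) ⟶ _ :=
    ((CohTop.push (CohCx.incl U)).map (e.hom.app F)).hom.app (op V)
  have : IsIso m := inferInstance
  have hiff : (adj.unit.app F).hom.app (op V) s = 0 ↔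
      m ((adj.unit.app F).hom.app (op V) s) = 0 := by
    refine ⟨fun h => by rw [h, map_zero], fun h => ?_⟩
    refine (AddCommGrpCat.mono_iff_injective m).1 inferInstance ?_
    rw [map_zero]
    exact h
  refine hiff.trans ?_
  have h2 : m ((adj.unit.app F).hom.app (op V) s) =
      F.obj.map (U.isOpenEmbedding.isOpenMap.adjunction.counit.app V).op s :=
    congrArg (fun g : F ⟶ _ => (g.hom.app (op V)) s) he
  rw [h2]
  have hle : (U.isOpenEmbedding.isOpenMap.functor).obj ((Opens.map (CohCx.incl U)).obj V) = V ⊓ U := by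
    ext p
    constructor
    · rintro ⟨q, hq, rfl⟩
      exact ⟨hq, q.2⟩
    · rintro ⟨hV, hU⟩
      exact ⟨⟨p, hU⟩, hV, rfl⟩
  exact ⟨fun h => res_zero hle.ge (hle.le.trans inf_le_left) inf_le_left s h,
    fun h => res_zero hle.le inf_le_left (hle.le.trans inf_le_left) s h⟩

/-- The inclusion `Γ_Z F ⟶ F`. -/
noncomputable abbrev incl (F : CohTop.Ab X) : (LocCohZ.sectSuppF U).obj F ⟶ F :=
  kernel.ι ((TopCat.Sheaf.pullbackPushforwardAdjunction AddCommGrpCat.{u} (CohCx.incl U)).unit.app F)

theorem incl_map {F G : CohTop.Ab X} (φ : F ⟶ G) :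
    (LocCohZ.sectSuppF U).map φ ≫ incl U G = incl U F ≫ φ :=
  kernel.lift_ι _ _ _

theorem incl_app_injective (F : CohTop.Ab X) (V : Opens X) :
    Function.Injective ((incl U F).hom.app (op V)) := by
  refine (AddCommGrpCat.mono_iff_injective _).1 ?_
  have : Mono (incl U F) := inferInstanceAs (Mono (kernel.ι
    ((TopCat.Sheaf.pullbackPushforwardAdjunction AddCommGrpCat.{u} (CohCx.incl U)).unit.app F)))
  exact (Groth.L17.GrothSS.secFun (Opens.grothendieckTopology X) V).map_mono
    (f := incl U F)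

theorem incl_app_mem (F : CohTop.Ab X) (V : Opens X)
    (s : ((LocCohZ.sectSuppF U).obj F).obj.obj (op V)) :
    F.obj.map (homOfLE (inf_le_left : V ⊓ U ≤ V)).op ((incl U F).hom.app (op V) s) = 0 :=
  (ker_unit_app U F V _).1
    (congrArg (fun g : (LocCohZ.sectSuppF U).obj F ⟶ _ => (g.hom.app (op V)) s) (kernel.condition
      ((TopCat.Sheaf.pullbackPushforwardAdjunction AddCommGrpCat.{u} (CohCx.incl U)).unit.app F)))

theorem exists_incl_app_eq (F : CohTop.Ab X) (V : Opens X) (t : F.obj.obj (op V))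
    (ht : F.obj.map (homOfLE (inf_le_left : V ⊓ U ≤ V)).op t = 0) :
    ∃ s, (incl U F).hom.app (op V) s = t := by
  let η := (TopCat.Sheaf.pullbackPushforwardAdjunction AddCommGrpCat.{u} (CohCx.incl U)).unit.app F
  let Sc : ShortComplex (Sheaf (Opens.grothendieckTopology X) AddCommGrpCat.{u}) :=
    ShortComplex.mk (kernel.ι η) η (kernel.condition η)
  have hex := (ShortComplex.exact_of_f_is_kernel Sc
    (kernelIsKernel η)).map_of_mono_of_preservesKernel
      (Groth.L17.GrothSS.secFun (Opens.grothendieckTopology X) V)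
      (inferInstanceAs (Mono (kernel.ι η))) inferInstance
  rw [ShortComplex.ab_exact_iff] at hex
  exact hex t ((ker_unit_app U F V t).2 ht)

theorem isFlasque_sectSupp (F : CohTop.Ab X) [TopCat.Sheaf.IsFlasque F] :
    TopCat.Sheaf.IsFlasque ((LocCohZ.sectSuppF U).obj F) := by
  refine ⟨fun {V W} i => (AddCommGrpCat.epi_iff_surjective _).2 fun s => ?_⟩
  obtain ⟨V⟩ := V
  obtain ⟨W⟩ := W
  have hW : W ≤ V := leOfHom i.unop
  let t := (incl U F).hom.app (op W) s
  have ht := incl_app_mem U F W s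
  obtain ⟨g, hgt, hg0⟩ : ∃ g : F.obj.obj (op (W ⊔ (V ⊓ U))),
      F.obj.map (homOfLE le_sup_left).op g = t ∧ F.obj.map (homOfLE le_sup_right).op g = 0 := by
    obtain ⟨g, hg, -⟩ := (TopCat.Sheaf.existsUnique_gluing' F (fun b : Bool => bif b then W else V ⊓ U)
      (W ⊔ (V ⊓ U)) (fun b => homOfLE (by cases b <;> simp))
      (fun x hx => by
        rcases hx with hx | hx
        · exact Opens.mem_iSup.2 ⟨true, hx⟩
        · exact Opens.mem_iSup.2 ⟨false, hx⟩)
      (fun b => match b with | true => t | false => 0)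
      (fun a b => by
        have key : ∀ (Z : Opens X) (hZ : Z ≤ W ⊓ U),
            F.obj.map (homOfLE (hZ.trans inf_le_left)).op t = 0 := fun Z hZ =>
          res_zero hZ inf_le_left _ t ht
        cases a <;> cases b
        · rfl
        · exact (map_zero _).trans (key (V ⊓ U ⊓ W) (le_inf inf_le_right (inf_le_left.trans inf_le_right))).symm
        · exact (key (W ⊓ (V ⊓ U)) (le_inf inf_le_left (inf_le_right.trans inf_le_right))).trans (map_zero _).symm
        · rfl))
    exact ⟨g, hg true, hg false⟩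
  obtain ⟨G, hG⟩ := (AddCommGrpCat.epi_iff_surjective _).1
    (TopCat.Presheaf.IsFlasque.epi (F := F.obj) (homOfLE (sup_le hW inf_le_left : W ⊔ (V ⊓ U) ≤ V)).op) g
  have hG0 : F.obj.map (homOfLE (inf_le_left : V ⊓ U ≤ V)).op G = 0 := by
    rw [← hg0, ← hG, show (homOfLE (inf_le_left : V ⊓ U ≤ V)).op =
      (homOfLE (sup_le hW inf_le_left : W ⊔ (V ⊓ U) ≤ V)).op ≫ (homOfLE le_sup_right).op from
      Subsingleton.elim _ _, F.obj.map_comp]
    rfl
  obtain ⟨s', hs'⟩ := exists_incl_app_eq U F V G hG0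
  refine ⟨s', incl_app_injective U F W ?_⟩
  refine (congr($((incl U F).hom.naturality i) s')).trans ?_
  change F.obj.map i ((incl U F).hom.app (op V) s') = _
  rw [hs', show i = (homOfLE (sup_le hW inf_le_left : W ⊔ (V ⊓ U) ≤ V)).op ≫ (homOfLE le_sup_left).op
    from Subsingleton.elim _ _, F.obj.map_comp]
  exact (congrArg (F.obj.map (homOfLE le_sup_left).op) hG).trans hgt

/-- The comparison `Hom(ℤ_X/ℤ_U, F) ⟶ Γ_Z(X, F)`. -/
theorem exists_gammaZIso : Nonempty (LocCohZ.gammaZF U ≅
    Groth.L17.GrothSS.homFun (LocCohZ.zq (le_top : U ≤ ⊤))) := by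
  have hiff : ∀ (F : CohTop.Ab X) (s : F.obj.obj (op ⊤)),
      F.obj.map (homOfLE (le_top : U ≤ ⊤)).op s = 0 ↔
        F.obj.map (homOfLE (inf_le_left : ⊤ ⊓ U ≤ ⊤)).op s = 0 := fun F s =>
    ⟨fun h => res_zero inf_le_right le_top inf_le_left s h,
      fun h => res_zero (le_inf le_top le_rfl) inf_le_left le_top s h⟩
  let π := cokernel.π (CohCx.freeSheafMap (Opens.grothendieckTopology X) (homOfLE (le_top : U ≤ ⊤)))
  have hval : ∀ (F : CohTop.Ab X) (ψ : LocCohZ.zq (le_top : U ≤ ⊤) ⟶ F), ∃ s,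
      (incl U F).hom.app (op ⊤) s = CohFree.evalGen (Opens.grothendieckTopology X) ⊤ F (π ≫ ψ) :=
    fun F ψ => exists_incl_app_eq U F ⊤ _ ((hiff F _).1 (by
      refine (CohFree.evalGen_freeSheafMap_comp _ _ _ _).symm.trans ?_
      rw [cokernel.condition_assoc, zero_comp, map_zero]))
  choose f hf using hval
  have hadd : ∀ (F : CohTop.Ab X) (a b : LocCohZ.zq (le_top : U ≤ ⊤) ⟶ F), f F (a + b) = f F a + f F b :=
    fun F a b => incl_app_injective U F ⊤ (by
      rw [map_add, hf, hf, hf, Preadditive.comp_add, map_add])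
  have hbij : ∀ F, Function.Bijective (f F) := fun F => by
    refine ⟨fun a b h => ?_, fun s => ?_⟩
    · apply (cancel_epi π).1
      rw [← CohFree.ofSect_evalGen _ ⊤ F (π ≫ a), ← CohFree.ofSect_evalGen _ ⊤ F (π ≫ b), ← hf, ← hf, h]
    · refine ⟨cokernel.desc _ (CohFree.ofSect _ ⊤ F ((incl U F).hom.app (op ⊤) s)) ?_,
        incl_app_injective U F ⊤ ?_⟩
      · rw [← CohFree.ofSect_evalGen (Opens.grothendieckTopology X) U F (_ ≫ _),
          CohFree.evalGen_freeSheafMap_comp, CohFree.evalGen_ofSect,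
          show (F.obj.map (homOfLE (le_top : U ≤ ⊤)).op).hom ((incl U F).hom.app (op ⊤) s) = 0 from
            (hiff F _).2 (incl_app_mem U F ⊤ s),
          ← (CohFree.evalGen (Opens.grothendieckTopology X) U F).map_zero, CohFree.ofSect_evalGen]
      · rw [hf]
        simp only [π, cokernel.π_desc, CohFree.evalGen_ofSect]
  let e : ∀ F : CohTop.Ab X,
      (LocCohZ.zq (le_top : U ≤ ⊤) ⟶ F) ≃+ ((LocCohZ.sectSuppF U).obj F).obj.obj (op ⊤) :=
    fun F => AddEquiv.ofBijective (AddMonoidHom.mk' (f F) (hadd F)) (hbij F)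
  refine ⟨(NatIso.ofComponents (F := Groth.L17.GrothSS.homFun (LocCohZ.zq (le_top : U ≤ ⊤)))
    (G := LocCohZ.gammaZF U) (fun F => AddEquiv.toAddCommGrpIso (e F)) fun {F G} φ => ?_).symm⟩
  ext (ψ : LocCohZ.zq (le_top : U ≤ ⊤) ⟶ F)
  apply incl_app_injective U G ⊤
  change (incl U G).hom.app (op ⊤) (f G (ψ ≫ φ)) =
    (incl U G).hom.app (op ⊤) (((LocCohZ.sectSuppF U).map φ).hom.app (op ⊤) (f F ψ))
  refine (hf G (ψ ≫ φ)).trans (Eq.trans ?_ (congrArg (fun g : (LocCohZ.sectSuppF U).obj F ⟶ G => (g.hom.app (op ⊤)) (f F ψ)) (incl_map U φ)).symm)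
  change _ = φ.hom.app (op ⊤) ((incl U F).hom.app (op ⊤) (f F ψ))
  rw [hf, ← Category.assoc]
  rfl

end Groth.L17.SectSupp
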