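import Mathlib.Algebra.Group.Subgroup.Ker
import Mathlib.GroupTheory.QuotientGroup.Defs
import Mathlib.CategoryTheory.Functor.OfSequence
import Mathlib.Algebra.Category.Grp.Basic
import Mathlib.Tactic.Abel

/-!
Towers of abelian groups `… → G 1 → G 0`: solving `x n - t n (x (n+1)) = y n`.
-/

set_option autoImplicit false
universe u

namespace Groth.L17.Tower

variable {G : ℕ → Type u} [∀ n, AddCommGroup (G n)] (t : ∀ n, G (n + 1) →+ G n)

/-- The `i`-th components of the sequences compatible on `[i, j)`. -/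
def Rg (i j : ℕ) : AddSubgroup (G i) where
  carrier := {a | ∃ x : ∀ n, G n, (∀ n, i ≤ n → n < j → x n = t n (x (n + 1))) ∧ x i = a}
  zero_mem' := ⟨0, fun n _ _ ↦ by simp, rfl⟩
  add_mem' := by
    rintro a b ⟨x, hx, rfl⟩ ⟨y, hy, rfl⟩
    exact ⟨x + y, fun n h₁ h₂ ↦ by simp [hx n h₁ h₂, hy n h₁ h₂], rfl⟩
  neg_mem' := by
    rintro a ⟨x, hx, rfl⟩
    exact ⟨-x, fun n h₁ h₂ ↦ by simp [hx n h₁ h₂], rfl⟩

theorem Rg_antitone {i j j' : ℕ} (h : j ≤ j') : Rg t i j' ≤ Rg t i j := by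
  rintro a ⟨x, hx, rfl⟩
  exact ⟨x, fun n h₁ h₂ ↦ hx n h₁ (h₂.trans_le h), rfl⟩

theorem map_Rg_le {i j : ℕ} : (Rg t (i + 1) j).map (t i) ≤ Rg t i j := by
  classical
  rintro _ ⟨_, ⟨x, hx, rfl⟩, rfl⟩
  refine ⟨Function.update x i (t i (x (i + 1))), fun n h₁ h₂ ↦ ?_, by simp⟩
  rcases eq_or_lt_of_le h₁ with rfl | h
  · simp
  · rw [Function.update_of_ne (by omega), Function.update_of_ne (by omega)]
    exact hx n h h₂

/-- If every composite far out vanishes then `towerDiff` is surjective. -/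
theorem exists_solution_of_zero
    (h : ∀ i : ℕ, ∃ j : ℕ, i ≤ j ∧
      ∀ x : ∀ n, G n, (∀ n, i ≤ n → n < j → x n = t n (x (n + 1))) → x i = 0)
    (y : ∀ n, G n) : ∃ x : ∀ n, G n, ∀ n, x n - t n (x (n + 1)) = y n := by
  classical
  choose j hij hj using h
  let A : ℕ → ∀ i, G i := fun k ↦
    Nat.rec (fun i ↦ (0 : G i)) (fun _ a i ↦ y i + t i (a (i + 1))) k
  have hA : ∀ k i, A (k + 1) i = y i + t i (A k (i + 1)) := fun k i ↦ rfl
  let D : ℕ → ∀ i, G i := fun k i ↦ A (k + 1) i - A k i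
  have hD : ∀ k i, D (k + 1) i = t i (D k (i + 1)) := by
    intro k i
    simp only [D, map_sub, hA (k + 1) i, hA k i]
    abel
  have hzero : ∀ i k, j i ≤ i + k → D k i = 0 := by
    intro i k hk
    let z : ∀ n, G n := fun n ↦ D (i + k - n) n
    have hz : z i = 0 := hj i z fun n h₁ h₂ ↦ by
      simp only [z, show i + k - n = (i + k - (n + 1)) + 1 by omega, hD]
    simpa [z] using hz
  have hstab : ∀ i k, j i - i ≤ k → A k i = A (j i - i) i := by
    intro i k hk
    induction k, hk using Nat.le_induction with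
    | base => rfl
    | succ k hk ih =>
      have h0 := hzero i k (by omega)
      simp only [D, sub_eq_zero] at h0
      rw [h0, ih]
  refine ⟨fun i ↦ A (j i - i) i, fun i ↦ ?_⟩
  obtain ⟨K, h₁, h₂⟩ : ∃ K, j i - i ≤ K + 1 ∧ j (i + 1) - (i + 1) ≤ K :=
    ⟨j i + j (i + 1), by omega, by omega⟩
  simp only
  rw [← hstab i (K + 1) h₁, ← hstab (i + 1) K h₂, hA]
  abel

/-- Mittag-Leffler towers: `towerDiff` is surjective. -/
theorem exists_solution_of_ml
    (h : ∀ i : ℕ, ∃ j : ℕ, i ≤ j ∧ ∀ k : ℕ, i ≤ k → Rg t i j ≤ Rg t i k)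
    (y : ∀ n, G n) : ∃ x : ∀ n, G n, ∀ n, x n - t n (x (n + 1)) = y n := by
  classical
  choose J hiJ hJ using h
  let E : ∀ i, AddSubgroup (G i) := fun i ↦ Rg t i (J i)
  have hEle : ∀ i k, i ≤ k → E i ≤ Rg t i k := fun i k hk ↦ hJ i k hk
  have hmapE : ∀ i, (E (i + 1)).map (t i) ≤ E i := fun i ↦
    (AddSubgroup.map_mono (hEle (i + 1) (max (i + 1) (J i)) (le_max_left _ _))).trans
      ((map_Rg_le t).trans (Rg_antitone t (le_max_right _ _)))
  have hsurj : ∀ i, ∀ e ∈ E i, ∃ e' ∈ E (i + 1), t i e' = e := by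
    intro i e he
    obtain ⟨x, hx, rfl⟩ := hEle i (max (i + 1) (J (i + 1))) (by omega) he
    refine ⟨x (i + 1), Rg_antitone t (le_max_right (i + 1) (J (i + 1)))
      ⟨x, fun n h₁ h₂ ↦ hx n (by omega) h₂, rfl⟩, (hx i le_rfl (by omega)).symm⟩
  -- modulo `E`
  let tq : ∀ n, (G (n + 1) ⧸ E (n + 1)) →+ (G n ⧸ E n) := fun n ↦
    QuotientAddGroup.map _ _ (t n) (AddSubgroup.map_le_iff_le_comap.mp (hmapE n))
  obtain ⟨x, hx⟩ := exists_solution_of_zero tq (fun i ↦ ⟨J i, hiJ i, fun x hxi ↦ by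
    choose a ha using fun n ↦ QuotientAddGroup.mk_surjective (x n)
    have key : ∀ d n, i ≤ n → n + d = J i →
        ∃ z : ∀ m, G m, (∀ m, n ≤ m → m < J i → z m = t m (z (m + 1))) ∧
          (QuotientAddGroup.mk (z n) : G n ⧸ E n) = x n := by
      intro d
      induction d with
      | zero => exact fun n _ hn ↦ ⟨a, fun m h₁ h₂ ↦ by omega, ha n⟩
      | succ d ih =>
        intro n hin hn
        obtain ⟨z, hz, hzn⟩ := ih (n + 1) (by omega) (by omega)
        refine ⟨Function.update z n (t n (z (n + 1))), fun m h₁ h₂ ↦ ?_, ?_⟩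
        · rcases eq_or_lt_of_le h₁ with rfl | h
          · simp
          · rw [Function.update_of_ne (by omega), Function.update_of_ne (by omega)]
            exact hz m h h₂
        · rw [Function.update_self, hxi n hin (by omega), ← hzn]
          rfl
    obtain ⟨z, hz, hzn⟩ := key (J i - i) i le_rfl (Nat.add_sub_cancel' (hiJ i))
    rw [← hzn, QuotientAddGroup.eq_zero_iff]
    exact ⟨z, hz, rfl⟩⟩) (fun n ↦ QuotientAddGroup.mk (y n))
  choose a ha using fun n ↦ QuotientAddGroup.mk_surjective (x n)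
  have hmem : ∀ n, y n - (a n - t n (a (n + 1))) ∈ E n := by
    intro n
    rw [← QuotientAddGroup.eq_zero_iff, QuotientAddGroup.mk_sub, QuotientAddGroup.mk_sub, ha,
      sub_eq_zero, ← hx n, ← ha (n + 1)]
    rfl
  choose g hg hg' using hsurj
  -- solve inside `E`
  let e : ∀ n, {b : G n // b ∈ E n} := fun n ↦ Nat.rec ⟨0, (E 0).zero_mem⟩
    (fun n b ↦ ⟨g n (b.1 - (y n - (a n - t n (a (n + 1))))) ((E n).sub_mem b.2 (hmem n)),
      hg _ _ _⟩) n
  have he : ∀ n, t n (e (n + 1)).1 = (e n).1 - (y n - (a n - t n (a (n + 1)))) :=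
    fun n ↦ hg' n _ _
  refine ⟨fun n ↦ a n + (e n).1, fun n ↦ ?_⟩
  dsimp only
  rw [map_add, he n]
  abel

open CategoryTheory in
/-- The Mittag-Leffler condition on the associated functor gives stabilisation of `Rg`. -/
theorem ml_of_isMittagLeffler
    (h : ∀ i : ℕᵒᵖ, ∃ (j : ℕᵒᵖ) (f : j ⟶ i), ∀ ⦃k⦄ (g : k ⟶ i),
      Set.range ((Functor.ofOpSequence (X := fun n => AddCommGrpCat.of (G n))
        (fun n => AddCommGrpCat.ofHom (t n))).map f) ⊆
      Set.range ((Functor.ofOpSequence (X := fun n => AddCommGrpCat.of (G n))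
        (fun n => AddCommGrpCat.ofHom (t n))).map g)) :
    ∀ i : ℕ, ∃ j : ℕ, i ≤ j ∧ ∀ k : ℕ, i ≤ k → Rg t i j ≤ Rg t i k := by
  classical
  let F := Functor.ofOpSequence (X := fun n => AddCommGrpCat.of (G n))
    (fun n => AddCommGrpCat.ofHom (t n))
  have hstep : ∀ (i n : ℕ) (hi : i ≤ n) (a : G (n + 1)),
      F.map (homOfLE (Nat.le_succ_of_le hi)).op a = F.map (homOfLE hi).op (t n a) := by
    intro i n hi a
    rw [show (homOfLE (Nat.le_succ_of_le hi)).op =
      (homOfLE (Nat.le_add_right n 1)).op ≫ (homOfLE hi).op from rfl, F.map_comp,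
      Functor.ofOpSequence_map_homOfLE_succ]
    rfl
  have hcompat : ∀ (i n : ℕ) (hi : i ≤ n) (x : ∀ n, G n),
      (∀ m, i ≤ m → m < n → x m = t m (x (m + 1))) → F.map (homOfLE hi).op (x n) = x i := by
    intro i n hi x
    induction n, hi using Nat.le_induction with
    | base =>
      intro _
      rw [show (homOfLE (le_refl i)).op = 𝟙 (Opposite.op i) from rfl, F.map_id]
      rfl
    | succ n hi ih =>
      intro hx
      rw [hstep i n hi, ← hx n hi (by omega)]
      exact ih fun m h₁ h₂ ↦ hx m h₁ (by omega)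
  have hext : ∀ (d i n : ℕ), i + d = n → ∀ a : G n,
      ∃ x : ∀ n, G n, x n = a ∧ ∀ m, i ≤ m → m < n → x m = t m (x (m + 1)) := by
    intro d
    induction d with
    | zero => exact fun i n hn a ↦ ⟨Function.update 0 n a, by simp, fun m h₁ h₂ ↦ by omega⟩
    | succ d ih =>
      intro i n hn a
      obtain ⟨x, hxa, hx⟩ := ih (i + 1) n (by omega) a
      refine ⟨Function.update x i (t i (x (i + 1))), by
        rw [Function.update_of_ne (by omega)]; exact hxa, fun m h₁ h₂ ↦ ?_⟩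
      rcases eq_or_lt_of_le h₁ with rfl | h
      · simp
      · rw [Function.update_of_ne (by omega), Function.update_of_ne (by omega)]
        exact hx m h h₂
  intro i
  obtain ⟨j, f, hf⟩ := h (Opposite.op i)
  have hij : i ≤ j.unop := leOfHom f.unop
  refine ⟨j.unop, hij, fun k hk ↦ ?_⟩
  rintro _ ⟨x, hx, rfl⟩
  obtain ⟨a, ha⟩ := hf (homOfLE hk).op ⟨x j.unop, rfl⟩
  obtain ⟨z, rfl, hz⟩ := hext (k - i) i k (by omega) a
  refine ⟨z, hz, ?_⟩
  rw [← hcompat i k hk z hz]
  refine ha.trans ?_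
  rw [show f = (homOfLE hij).op from Subsingleton.elim _ _]
  exact hcompat i j.unop hij x hx

end Groth.L17.Tower
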