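import Groth.Agent.L17.TowerCoh
import Groth.Agent.L17.AffineVanishing
import Groth.Agent.L16.AffineBC.Pullback
import Groth.Agent.L15.KFlatSite.ToSheafColim
import Groth.Agent.L16.CohLinear

/-!
# Cohomology of limits of quasi-coherent systems with epimorphic transitions
-/

set_option autoImplicit false
set_option backward.isDefEq.respectTransparency false
set_option backward.isDefEq.respectTransparency.types false
set_option linter.style.haveILetI false
set_option linter.unusedSectionVars false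

universe u

open CategoryTheory CategoryTheory.Limits TopologicalSpace Opposite Abelian AlgebraicGeometry

noncomputable section

namespace Groth.L17.TowerCohMod

open Groth.L17.TowerCoh

variable {X : Scheme.{u}} (G : ℕᵒᵖ ⥤ X.Modules)

/-- The underlying abelian sheaves. -/
abbrev T (X : Scheme.{u}) : X.Modules ⥤ AbSheaf X.toTopCat := SheafOfModules.toSheaf X.ringCatSheaf

instance : PreservesLimit G (T X) := by
  haveI := Groth.L15.KFlatSite.preservesLimits_toSheaf X.ringCatSheaf
  haveI : PreservesLimitsOfSize.{0, 0} (SheafOfModules.toSheaf.{u} X.ringCatSheaf) :=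
    preservesLimitsOfSize_shrink.{0, u, 0, u} _
  infer_instance

/-- The underlying sheaf of the limit. -/
def limIso : (T X).obj (limit G) ≅ limit (G ⋙ T X) := preservesLimitIso (T X) G

theorem limIso_hom_π (n : ℕ) :
    (limIso G).hom ≫ limit.π (G ⋙ T X) (op n) = (T X).map (limit.π G (op n)) :=
  preservesLimitIso_hom_π (T X) G (op n)

variable (hq : ∀ n, Coh.IsQCoh (G.obj (op n))) (he : ∀ n, Epi (G.map (homOfLE (Nat.le_succ n)).op))

/-- The affine opens. -/
abbrev aff (X : Scheme.{u}) : Set (Opens X) := {V | IsAffineOpen (V : X.Opens)}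

theorem isBasis_aff : Opens.IsBasis (aff X) := X.isBasis_affineOpens

include hq he in
theorem hsurj : ∀ V ∈ aff X, ∀ (n : ℕ) (a : zFree V ⟶ mem (G ⋙ T X) n),
    ∃ b : zFree V ⟶ mem (G ⋙ T X) (n + 1), b ≫ tr (G ⋙ T X) n = a := by
  intro V hV n a
  haveI := hq n
  haveI := hq (n + 1)
  haveI := he n
  obtain ⟨s, hs⟩ := Groth.L16.AffineBC.surjective_app_of_epi (G.map (homOfLE (Nat.le_succ n)).op) hV
    (zEquiv V _ a)
  refine ⟨(zEquiv V _).symm s, (zEquiv V _).injective ?_⟩
  rw [zEquiv_comp, Equiv.apply_symm_apply]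
  exact hs

include hq in
theorem hacc : ∀ n, Acc (aff X) (mem (G ⋙ T X) n) := fun n V hV k x =>
  haveI := hq n
  Groth.L17.hu_affine_eq_zero (G.obj (op n)) hV k x

section

variable (Z : AbSheaf X.toTopCat) (i : ℕ)

/-- Classes on the limit of modules as classes on the limit of sheaves. -/
def tE : Ext.{u} Z ((T X).obj (limit G)) i ≃+ Ext.{u} Z (limit (G ⋙ T X)) i where
  toFun x := x.comp (Ext.mk₀ (limIso G).hom) (add_zero i)
  invFun x := x.comp (Ext.mk₀ (limIso G).inv) (add_zero i)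
  left_inv x := by simp
  right_inv x := by simp
  map_add' x y := by simp

theorem tE_π (x : Ext.{u} Z ((T X).obj (limit G)) i) (n : ℕ) :
    (tE G Z i x).comp (Ext.mk₀ (limit.π (G ⋙ T X) (op n))) (add_zero i) =
      x.comp (Ext.mk₀ ((T X).map (limit.π G (op n)))) (add_zero i) := by
  show (x.comp (Ext.mk₀ (limIso G).hom) (add_zero i)).comp _ (add_zero i) = _
  rw [Ext.comp_assoc_of_second_deg_zero, Ext.mk₀_comp_mk₀, limIso_hom_π]

include hq he in
/-- The Milnor sequence. -/
theorem exists_milnor (p : ℕ) :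
    ∃ (α : Formal2.limOne (fun n => Ext.{u} Z ((T X).obj (G.obj (op n))) p) (trE (G ⋙ T X) Z p) →+
        Ext.{u} Z ((T X).obj (limit G)) (p + 1))
      (β : Ext.{u} Z ((T X).obj (limit G)) (p + 1) →+
        Formal2.limZero (fun n => Ext.{u} Z ((T X).obj (G.obj (op n))) (p + 1)) (trE (G ⋙ T X) Z (p + 1))),
      Function.Injective α ∧ Function.Surjective β ∧ α.range = β.ker ∧
      ∀ x n, (β x : ∀ n, Ext.{u} Z ((T X).obj (G.obj (op n))) (p + 1)) n =
        x.comp (Ext.mk₀ ((T X).map (limit.π G (op n)))) (add_zero (p + 1)) := by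
  obtain ⟨e⟩ := nonempty_ker_equiv isBasis_aff (G ⋙ T X) (hsurj G hq he) (hacc G hq) Z (p + 1) p rfl
  let P := (proj (G ⋙ T X) Z (p + 1)).comp (tE G Z (p + 1)).toAddMonoidHom
  have hP : ∀ x n, P x n = x.comp (Ext.mk₀ ((T X).map (limit.π G (op n)))) (add_zero (p + 1)) :=
    fun x n => tE_π G Z (p + 1) x n
  have hc : ∀ x, P x ∈ Formal2.limZero (fun n => Ext.{u} Z ((T X).obj (G.obj (op n))) (p + 1))
      (trE (G ⋙ T X) Z (p + 1)) := fun x => funext fun n => by
    show P x n - (P x (n + 1)).comp (Ext.mk₀ ((G ⋙ T X).map (homOfLE (Nat.le_succ n)).op)) (add_zero (p + 1)) = 0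
    rw [hP, hP, Ext.comp_assoc_of_second_deg_zero, Ext.mk₀_comp_mk₀, Functor.comp_map, ← Functor.map_comp,
      limit.w, sub_self]
  let β := P.codRestrict _ hc
  let α := ((tE G Z (p + 1)).symm.toAddMonoidHom.comp (proj (G ⋙ T X) Z (p + 1)).ker.subtype).comp
    e.symm.toAddMonoidHom
  refine ⟨α, β, ?_, ?_, ?_, hP⟩
  · exact (tE G Z (p + 1)).symm.injective.comp (Subtype.val_injective.comp e.symm.injective)
  · rintro ⟨ξ, hξ⟩
    obtain ⟨η, hη⟩ := exists_lift isBasis_aff (G ⋙ T X) (hsurj G hq he) (hacc G hq) Z (p + 1) ξ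
      fun n => (sub_eq_zero.1 (congrFun hξ n)).symm
    refine ⟨(tE G Z (p + 1)).symm η, Subtype.ext (funext fun n => ?_)⟩
    show proj (G ⋙ T X) Z (p + 1) (tE G Z (p + 1) ((tE G Z (p + 1)).symm η)) n = ξ n
    rw [AddEquiv.apply_symm_apply]
    exact hη n
  · ext x
    constructor
    · rintro ⟨y, rfl⟩
      refine Subtype.ext ?_
      show proj (G ⋙ T X) Z (p + 1) (tE G Z (p + 1) ((tE G Z (p + 1)).symm (e.symm y).1)) = 0
      rw [AddEquiv.apply_symm_apply]
      exact (e.symm y).2
    · intro hx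
      refine ⟨e ⟨tE G Z (p + 1) x, congrArg Subtype.val hx⟩, ?_⟩
      show (tE G Z (p + 1)).symm (e.symm (e ⟨_, _⟩)).1 = x
      rw [AddEquiv.symm_apply_apply, AddEquiv.symm_apply_apply]

end

/-- Towers with surjective transition maps have no `lim¹`. -/
theorem towerDiff_surjective {A : ℕ → Type u} [∀ n, AddCommGroup (A n)] (t : ∀ n, A (n + 1) →+ A n)
    (ht : ∀ n a, ∃ b, t n b = a) : Function.Surjective (Formal2.towerDiff A t) := fun y => by
  choose lift hlift using ht
  let z : ∀ n, A n := fun n => Nat.rec (motive := A) 0 (fun n zn => lift n (zn - y n)) n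
  refine ⟨z, funext fun n => ?_⟩
  show z n - t n (lift n (z n - y n)) = y n
  rw [hlift, sub_sub_cancel]

include hq he in
/-- The limit has no higher cohomology on affine opens. -/
theorem subsingleton_HHon_limit {U : X.Opens} (hU : IsAffineOpen U) (q : ℕ) :
    Subsingleton (Coh.HHon X (limit G) U (q + 1)) := by
  obtain ⟨e⟩ := Groth.L17.nonempty_hhon_equiv (limit G) U (q + 1)
  suffices h : Subsingleton (Ext.{u} (zFree U) ((T X).obj (limit G)) (q + 1)) from
    @Equiv.subsingleton _ _ e.toEquiv h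
  haveI : ∀ n, Subsingleton (Ext.{u} (zFree U) (mem (G ⋙ T X) n) (q + 1)) := fun n =>
    subsingleton_of_forall_eq 0 fun x => hacc G hq n U hU q x
  refine (((tE G (zFree U) (q + 1)).toEquiv).subsingleton_congr).2 ?_
  refine (proj_injective isBasis_aff (G ⋙ T X) (hsurj G hq he) (hacc G hq) (zFree U) (q + 1) q rfl ?_).subsingleton
  intro (y : ∀ n, Ext.{u} (zFree U) (mem (G ⋙ T X) n) q)
  cases q with
  | zero =>
    have hs : ∀ n (a : Ext.{u} (zFree U) (mem (G ⋙ T X) n) 0), ∃ b, trE (G ⋙ T X) (zFree U) 0 n b = a := by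
      intro n a
      obtain ⟨f, rfl⟩ := (Ext.mk₀_bijective _ _).2 a
      obtain ⟨b, hb⟩ := hsurj G hq he U hU n f
      exact ⟨Ext.mk₀ b, (Ext.mk₀_comp_mk₀ _ _).trans (congrArg Ext.mk₀ hb)⟩
    exact towerDiff_surjective _ hs y
  | succ q =>
    haveI : ∀ n, Subsingleton (Ext.{u} (zFree U) (mem (G ⋙ T X) n) (q + 1)) := fun n =>
      subsingleton_of_forall_eq 0 fun x => hacc G hq n U hU q x
    exact ⟨0, Subsingleton.elim _ _⟩

theorem epi_of_isQCohFormal {A : Type u} [CommRing A] [X.Over (Spec (CommRingCat.of A))] {I : Ideal A}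
    (hG : Formal2.IsQCohFormal I G) (n : ℕ) : Epi (G.map (homOfLE (Nat.le_succ n)).op) := by
  obtain ⟨h, hi⟩ := hG.2.2 n
  haveI := hi
  rw [← cokernel.π_desc _ _ h]
  exact epi_comp _ _

end Groth.L17.TowerCohMod
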