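import Groth.Agent.L17.TowerCohMod
import Groth.Agent.L16.HomSh.ModPowSect
import Groth.Agent.L00.AlgQCoh
import Groth.Agent.S2291

/-!
# Limits of quasi-coherent formal systems: sections and reductions
-/

set_option autoImplicit false
set_option backward.isDefEq.respectTransparency false
set_option backward.isDefEq.respectTransparency.types false
set_option linter.style.haveILetI false
set_option linter.unusedSectionVars false

universe u

open CategoryTheory CategoryTheory.Limits TopologicalSpace Opposite AlgebraicGeometry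

noncomputable section

namespace Groth.L17.FormalLimit

open Formal (smulMod smulFamily modPow modPowπ modPowTrans modPowπ_trans)
open Groth.L16.AffineBC (scal)
open Groth.L16.HomSh (smulMod_app exists_kernel_lift)

variable {A : Type u} [CommRing A] {X : Scheme.{u}} [X.Over (Spec (CommRingCat.of A))] {M N : X.Modules}

/-- A map on sections, as a linear map. -/
def appL (φ : M ⟶ N) (U : X.Opens) : Γ(M, U) →ₗ[Γ(X, U)] Γ(N, U) where
  toFun := φ.app U
  map_add' := map_add _
  map_smul' r x := φ.app_smul r x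

theorem comp_smulMod_eq_zero_of_span {S : Set A} {T : X.Modules} (q : N ⟶ T)
    (hz : ∀ b ∈ S, smulMod A N b ≫ q = 0) {a : A} (ha : a ∈ Ideal.span S) : smulMod A N a ≫ q = 0 := by
  induction ha using Submodule.span_induction with
  | mem b hb => exact hz b hb
  | zero => rw [Groth.L16.Rees.smulMod_zero, zero_comp]
  | add b c _ _ hb hc => rw [Groth.L16.HomSh.smulMod_add, Preadditive.add_comp, hb, hc, add_zero]
  | smul b c _ hc => rw [smul_eq_mul, mul_comm, Groth.L16.Rees.smulMod_mul, Category.assoc, hc, comp_zero]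

theorem app_eq_zero_of_mem {J : Ideal A} {T : X.Modules} (t : N ⟶ T) (h : ∀ a ∈ J, smulMod A N a ≫ t = 0)
    (U : X.Opens) {x : Γ(N, U)} (hx : x ∈ J.map (scal A X U) • (⊤ : Submodule Γ(X, U) Γ(N, U))) :
    t.app U x = 0 := by
  rw [Ideal.map] at hx
  refine Submodule.smul_induction_on hx (fun b hb y _ => ?_) (fun a b ha hb => by rw [map_add, ha, hb, add_zero])
  rw [Scheme.Modules.Hom.app_smul]
  induction hb using Submodule.span_induction with
  | mem b hb =>
    obtain ⟨a, ha, rfl⟩ := hb
    rw [← Scheme.Modules.Hom.app_smul, ← smulMod_app]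
    exact ConcreteCategory.congr_hom (congrArg (fun t => Scheme.Modules.Hom.app t U) (h a ha)) y
  | zero => exact zero_smul _ _
  | add b c _ _ hb hc => rw [add_smul, hb, hc, add_zero]
  | smul b c _ hc => rw [smul_eq_mul, mul_smul, hc, smul_zero]

theorem exists_of_cokernel_app_eq_zero {F G : X.Modules} [Coh.IsQCoh F] [Coh.IsQCoh G] (φ : F ⟶ G)
    {U : X.Opens} (hU : IsAffineOpen U) {x : Γ(G, U)} (hx : (cokernel.π φ).app U x = 0) :
    ∃ y, φ.app U y = x := by
  haveI : Coh.IsQCoh (cokernel φ) := (Groth.L00.AlgQCoh.isQCoh_kernel_cokernel φ ‹_› ‹_›).2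
  haveI : Coh.IsQCoh (Abelian.image φ) := (Groth.L00.AlgQCoh.isQCoh_kernel_cokernel (cokernel.π φ) ‹_› ‹_›).1
  obtain ⟨k, hk⟩ := exists_kernel_lift (cokernel.π φ) x hx
  obtain ⟨y, hy⟩ := Groth.L16.AffineBC.surjective_app_of_epi (Abelian.factorThruImage φ) hU k
  refine ⟨y, ?_⟩
  rw [← hk, ← hy]
  exact (ConcreteCategory.congr_hom (congrArg (fun t => Scheme.Modules.Hom.app t U)
    (Abelian.image.fac φ)) y).symm

theorem exists_quot [Coh.IsQCoh N] (S : Finset A) :
    ∃ (Q : X.Modules) (q : N ⟶ Q), Coh.IsQCoh Q ∧ Epi q ∧ (∀ a ∈ S, smulMod A N a ≫ q = 0) ∧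
      ∀ (U : X.Opens), IsAffineOpen U → ∀ x, q.app U x = 0 →
        x ∈ ((Ideal.span (S : Set A)).map (scal A X U)) • (⊤ : Submodule Γ(X, U) Γ(N, U)) := by
  classical
  induction S using Finset.induction with
  | empty =>
    refine ⟨N, 𝟙 N, inferInstance, inferInstance, by simp, fun U _ x hx => ?_⟩
    rw [show x = 0 from hx]
    exact zero_mem _
  | @insert a S ha ih =>
    obtain ⟨Q, q, hQ, hq, hz, hk⟩ := ih
    haveI := hQ
    refine ⟨cokernel (smulMod A Q a), q ≫ cokernel.π _,
      (Groth.L00.AlgQCoh.isQCoh_kernel_cokernel (smulMod A Q a) hQ hQ).2,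
      epi_comp _ _, fun b hb => ?_, fun U hU x hx => ?_⟩
    · rcases Finset.mem_insert.1 hb with rfl | hb
      · rw [← Category.assoc, Groth.L16.Rees.smulMod_naturality, Category.assoc, cokernel.condition, comp_zero]
      · rw [← Category.assoc, hz b hb, zero_comp]
    · obtain ⟨y, hy⟩ := exists_of_cokernel_app_eq_zero (smulMod A Q a) hU (x := q.app U x) hx
      obtain ⟨y', rfl⟩ := Groth.L16.AffineBC.surjective_app_of_epi q hU y
      rw [smulMod_app, ← q.app_smul] at hy
      have h0 := hk U hU (x - scal A X U a • y') (by rw [map_sub, sub_eq_zero]; exact hy.symm)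
      have hle : (Ideal.span (S : Set A)).map (scal A X U) ≤
          (Ideal.span ((insert a S : Finset A) : Set A)).map (scal A X U) :=
        Ideal.map_mono (Ideal.span_mono (by simp))
      rw [show x = (x - scal A X U a • y') + scal A X U a • y' by abel]
      refine add_mem (Submodule.smul_mono hle le_rfl h0) (Submodule.smul_mem_smul ?_ trivial)
      exact Ideal.mem_map_of_mem _ (Ideal.subset_span (by simp))

/-- Kernels of reductions on affine opens. -/
theorem mem_of_app_eq_zero {J : Ideal A} (hJ : J.FG) [Coh.IsQCoh N] {Q : X.Modules} (π : N ⟶ Q)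
    (h0 : smulFamily J N ≫ π = 0) [IsIso (cokernel.desc _ _ h0)] {U : X.Opens} (hU : IsAffineOpen U)
    {x : Γ(N, U)} (hx : π.app U x = 0) :
    x ∈ J.map (scal A X U) • (⊤ : Submodule Γ(X, U) Γ(N, U)) := by
  obtain ⟨S, rfl⟩ := hJ
  obtain ⟨P, q, -, -, hz, hk⟩ := exists_quot (N := N) S
  refine hk U hU x ?_
  have h1 : smulFamily (Ideal.span (S : Set A)) N ≫ q = 0 := by
    apply Sigma.hom_ext
    intro a
    rw [comp_zero, smulFamily, Sigma.ι_desc_assoc]
    exact comp_smulMod_eq_zero_of_span q hz a.2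
  have h2 : π ≫ inv (cokernel.desc _ _ h0) ≫ cokernel.desc _ q h1 = q := by
    rw [← Category.assoc, ← show cokernel.π _ = π ≫ inv (cokernel.desc _ _ h0) from
      (IsIso.eq_comp_inv _).2 (cokernel.π_desc _ _ h0), cokernel.π_desc]
  rw [← h2]
  show (inv (cokernel.desc _ _ h0) ≫ cokernel.desc _ q h1).app U (π.app U x) = 0
  rw [hx, map_zero]

theorem epi_of_surjective {Q : X.Modules} (π : N ⟶ Q)
    (hs : ∀ U : X.Opens, IsAffineOpen U → Function.Surjective (π.app U)) : Epi π :=
  ⟨fun a b hab => Groth.L16.AffineBC.hom_ext_affine a b fun U hU m => by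
    obtain ⟨n, rfl⟩ := hs U hU m
    exact ConcreteCategory.congr_hom (congrArg (fun t => Scheme.Modules.Hom.app t U) hab) n⟩

/-- Reductions are detected on affine opens. -/
theorem isIso_desc {J : Ideal A} {Q : X.Modules} (π : N ⟶ Q) (h0 : smulFamily J N ≫ π = 0)
    (hs : ∀ U : X.Opens, IsAffineOpen U → Function.Surjective (π.app U))
    (hk : ∀ (U : X.Opens), IsAffineOpen U → ∀ x, π.app U x = 0 →
      x ∈ J.map (scal A X U) • (⊤ : Submodule Γ(X, U) Γ(N, U))) :
    IsIso (cokernel.desc _ _ h0) := by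
  haveI := epi_of_surjective π hs
  have hz : ∀ a ∈ J, smulMod A N a ≫ cokernel.π (smulFamily J N) = 0 := fun a ha => by
    have e : Sigma.ι (fun _ : J => N) (⟨a, ha⟩ : J) ≫ smulFamily J N = smulMod A N a := Sigma.ι_desc _ _
    rw [← e, Category.assoc, cokernel.condition, comp_zero]
  have hc : kernel.ι π ≫ cokernel.π (smulFamily J N) = 0 := by
    refine Groth.L16.AffineBC.hom_ext_affine _ _ fun U hU m => ?_
    show (cokernel.π (smulFamily J N)).app U ((kernel.ι π).app U m) = 0
    exact app_eq_zero_of_mem _ hz U (hk U hU _ (ConcreteCategory.congr_hom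
      (congrArg (fun t => Scheme.Modules.Hom.app t U) (kernel.condition π)) m))
  refine ⟨Abelian.epiDesc π _ hc, ?_, ?_⟩
  · rw [← cancel_epi (cokernel.π (smulFamily J N)), ← Category.assoc, cokernel.π_desc, Abelian.comp_epiDesc,
      Category.comp_id]
  · rw [← cancel_epi π, ← Category.assoc, Abelian.comp_epiDesc, cokernel.π_desc, Category.comp_id]

section Lim

open Groth.L17.TowerCoh Groth.L17.TowerCohMod

variable (G : ℕᵒᵖ ⥤ X.Modules) (U : X.Opens)

theorem sect_inj {x y : Γ(limit G, U)}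
    (h : ∀ n, (limit.π G (op n)).app U x = (limit.π G (op n)).app U y) : x = y := by
  refine (zEquiv U ((T X).obj (limit G))).symm.injective ((cancel_mono (limIso G).hom).1 (limit.hom_ext ?_))
  rintro ⟨n⟩
  rw [Category.assoc, Category.assoc, limIso_hom_π]
  refine (zEquiv U _).injective ?_
  rw [zEquiv_comp, zEquiv_comp, Equiv.apply_symm_apply, Equiv.apply_symm_apply]
  exact h n

theorem sect_lift (y : ∀ n, Γ(G.obj (op n), U))
    (hy : ∀ n, (G.map (homOfLE (Nat.le_succ n)).op).app U (y (n + 1)) = y n) :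
    ∃ x : Γ(limit G, U), ∀ n, (limit.π G (op n)).app U x = y n := by
  let a : ∀ n, zFree U ⟶ (G ⋙ T X).obj (op n) := fun n => (zEquiv U _).symm (y n)
  let c : Cone (G ⋙ T X) := ⟨zFree U, NatTrans.ofOpSequence (F := (Functor.const ℕᵒᵖ).obj (zFree U)) a fun n => by
    refine (zEquiv U _).injective ?_
    refine (congrArg (zEquiv U _) (Category.id_comp (a n))).trans ?_
    rw [zEquiv_comp, Equiv.apply_symm_apply, Equiv.apply_symm_apply]
    exact (hy n).symm⟩
  refine ⟨zEquiv U ((T X).obj (limit G)) (limit.lift _ c ≫ (limIso G).inv), fun n => ?_⟩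
  refine (zEquiv_comp U (limit.lift _ c ≫ (limIso G).inv) ((T X).map (limit.π G (op n)))).symm.trans ?_
  rw [← limIso_hom_π]
  simp only [Category.assoc, Iso.inv_hom_id_assoc, limit.lift_π]
  exact Equiv.apply_symm_apply _ _

variable (I : Ideal A) (hI : I.FG)
  (hs : ∀ U : X.Opens, IsAffineOpen U → ∀ n, Function.Surjective ((G.map (homOfLE (Nat.le_succ n)).op).app U))
  (hk : ∀ U : X.Opens, IsAffineOpen U → ∀ n x, (G.map (homOfLE (Nat.le_succ n)).op).app U x = 0 ↔
    x ∈ I.map (scal A X U) ^ (n + 1) • (⊤ : Submodule Γ(X, U) Γ(G.obj (op (n + 1)), U)))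

include hI hs hk in
/-- Sections of the limit on affine opens. -/
theorem limit_spec {U : X.Opens} (hU : IsAffineOpen U) (n : ℕ) :
    Function.Surjective ((limit.π G (op n)).app U) ∧ ∀ x, (limit.π G (op n)).app U x = 0 ↔
      x ∈ I.map (scal A X U) ^ (n + 1) • (⊤ : Submodule Γ(X, U) Γ(limit G, U)) := by
  have h := Groth.Agent.S2291.result Γ(X, U) (I.map (scal A X U)) (hI.map _) (fun n => Γ(G.obj (op n), U))
    (fun n => appL (G.map (homOfLE (Nat.le_succ n)).op) U) (hs U hU)
    (fun n => Submodule.ext fun x => LinearMap.mem_ker.trans (hk U hU n x))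
    Γ(limit G, U) (fun n => appL (limit.π G (op n)) U)
    (fun n => LinearMap.ext fun x => ConcreteCategory.congr_hom
      (congrArg (fun t => Scheme.Modules.Hom.app t U) (limit.w G (homOfLE (Nat.le_succ n)).op)) x)
    (fun x hx => sect_inj G U fun n => (hx n).trans (map_zero _).symm)
    (fun y hy => sect_lift G U y hy)
  refine ⟨(h.2.1 n).1, fun x => ?_⟩
  exact Iff.of_eq (congrArg (fun S : Submodule Γ(X, U) Γ(limit G, U) => x ∈ S) (h.2.1 n).2)

include hI hs hk in
/-- The projections of the limit are the reductions. -/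
theorem isIso_limit_desc (n : ℕ) : ∃ h : smulFamily (I ^ (n + 1)) (limit G) ≫ limit.π G (op n) = 0,
    IsIso (cokernel.desc _ _ h) := by
  have h0 : smulFamily (I ^ (n + 1)) (limit G) ≫ limit.π G (op n) = 0 := by
    apply Sigma.hom_ext
    intro a
    rw [comp_zero, smulFamily, Sigma.ι_desc_assoc]
    refine Groth.L16.AffineBC.hom_ext_affine _ _ fun U hU m => ?_
    show (limit.π G (op n)).app U ((smulMod A (limit G) a).app U m) = 0
    rw [((limit_spec G I hI hs hk hU n).2 _), smulMod_app, ← Ideal.map_pow]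
    exact Submodule.smul_mem_smul (Ideal.mem_map_of_mem _ a.2) trivial
  refine ⟨h0, isIso_desc _ h0 (fun U hU => (limit_spec G I hI hs hk hU n).1) fun U hU x hx => ?_⟩
  rw [Ideal.map_pow]
  exact ((limit_spec G I hI hs hk hU n).2 x).1 hx

end Lim

section Formal2

open Groth.L17.TowerCohMod

variable {G : ℕᵒᵖ ⥤ X.Modules} {I : Ideal A} (hG : Formal2.IsQCohFormal I G)

include hG in
theorem formal_surjective (U : X.Opens) (hU : IsAffineOpen U) (n : ℕ) :
    Function.Surjective ((G.map (homOfLE (Nat.le_succ n)).op).app U) := by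
  haveI := hG.1 n
  haveI := hG.1 (n + 1)
  haveI := epi_of_isQCohFormal G hG n
  exact Groth.L16.AffineBC.surjective_app_of_epi _ hU

include hG in
theorem formal_ker (hI : I.FG) (U : X.Opens) (hU : IsAffineOpen U) (n : ℕ) (x : Γ(G.obj (op (n + 1)), U)) :
    (G.map (homOfLE (Nat.le_succ n)).op).app U x = 0 ↔
      x ∈ I.map (scal A X U) ^ (n + 1) • (⊤ : Submodule Γ(X, U) Γ(G.obj (op (n + 1)), U)) := by
  obtain ⟨h0, hi⟩ := hG.2.2 n
  haveI := hi
  haveI := hG.1 (n + 1)
  rw [← Ideal.map_pow]
  refine ⟨fun hx => mem_of_app_eq_zero (hI.pow) _ h0 hU hx, fun hx => app_eq_zero_of_mem _ (fun a ha => ?_) U hx⟩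
  rw [Groth.L16.Rees.smulMod_naturality, hG.2.1 n a ha, comp_zero]

end Formal2

end Groth.L17.FormalLimit
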