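import Groth.Agent.L17.ThickBasic

/-!
Building locally Noetherian adic systems of thickenings.
-/

set_option autoImplicit false
universe u

open CategoryTheory CategoryTheory.Limits AlgebraicGeometry TopologicalSpace

namespace Groth.L17.Thick

variable {𝔛 𝔖 : FSch.Sys.{u}}

theorem ker_isFT_local [IsLocallyNoetherian (𝔖.X 1)] (g : 𝔛.X 1 ⟶ 𝔖.X 1) {I : (𝔖.X 1).IdealSheafData}
    (x : 𝔛.X 1) : ∃ V : (𝔛.X 1).affineOpens, x ∈ V.1 ∧ ((I.comap g).ideal V).FG := by
  obtain ⟨U, V, e, hxV, -, -⟩ :=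
    Groth.L22.Ideals.exists_affine_pair g x (W := ⊤) trivial (W' := ⊤) trivial
  refine ⟨V, hxV, ?_⟩
  rw [Groth.L22.Ideals.comap_ideal g I U V e]
  have : IsNoetherianRing Γ(𝔖.X 1, U.1) := IsLocallyNoetherian.component_noetherian U
  exact Ideal.FG.map (IsNoetherian.noetherian (I.ideal U)) _

/-- The outer squares of an adic morphism over the smallest level are cartesian. -/
theorem isPullback_toX (f : 𝔛 ⟶ 𝔖) (hf : FSch.IsAdicHom f) : ∀ n,
    IsPullback (𝔛.toX n) ((f : FSch.Hom 𝔛 𝔖).app 0) ((f : FSch.Hom 𝔛 𝔖).app n) (𝔖.toX n)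
  | 0 => by
    have : IsIso (𝔛.toX 0) := inferInstanceAs (IsIso (𝟙 (𝔛.X 0)))
    have : IsIso (𝔖.toX 0) := inferInstanceAs (IsIso (𝟙 (𝔖.X 0)))
    exact IsPullback.of_horiz_isIso ⟨by simp [FSch.Sys.toX]⟩
  | n + 1 => (isPullback_toX f hf n).paste_horiz (hf n)

theorem isFormal_of_isAdicHom (f : 𝔛 ⟶ 𝔖) (hS : 𝔖.IsFormal) (hf : FSch.IsAdicHom f) :
    𝔛.IsFormal := by
  intro n
  have := (hS n).1
  have : Surjective (𝔖.ι n) := ⟨(hS n).2⟩
  refine ⟨MorphismProperty.of_isPullback (P := @IsClosedImmersion) (hf n).flip inferInstance, ?_⟩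
  exact (MorphismProperty.of_isPullback (P := @Surjective) (hf n).flip inferInstance).surj

theorem isAdic_of_isAdicHom (f : 𝔛 ⟶ 𝔖) (hS : 𝔖.IsFormal) (hA : 𝔖.IsAdic)
    (hf : FSch.IsAdicHom f) : 𝔛.IsAdic := by
  intro n
  have := (hS n).1
  have := isClosedImmersion_toX hS (n + 1)
  rw [ker_of_isPullback (hf n), ker_of_isPullback (isPullback_toX f hf (n + 1)), hA n, comap_pow]

theorem isLocNoethFormal_of_isAdicHom (f : 𝔛 ⟶ 𝔖) (hS : 𝔖.IsLocNoethFormal)
    (hf : FSch.IsAdicHom f) [IsLocallyNoetherian (𝔛.X 0)] : 𝔛.IsLocNoethFormal := by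
  refine ⟨isFormal_of_isAdicHom f hS.1 hf, isAdic_of_isAdicHom f hS.1 hS.2.1 hf,
    isLocallyNoetherian_X (isFormal_of_isAdicHom f hS.1 hf)
      (isAdic_of_isAdicHom f hS.1 hS.2.1 hf) fun x => ?_⟩
  have := (hS.1 0).1
  have := hS.2.2 1
  rw [ker_of_isPullback (hf 0)]
  exact ker_isFT_local _ x

/-- Systems of closed subschemes cut out by the powers of an ideal. -/
theorem isLocNoethFormal_of_ker_pow {Y : Scheme.{u}} [IsLocallyNoetherian Y] (J : Y.IdealSheafData)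
    (p : ∀ n, 𝔛.X n ⟶ Y) [∀ n, IsClosedImmersion (p n)] (hp : ∀ n, 𝔛.ι n ≫ p (n + 1) = p n)
    (hker : ∀ n, (p n).ker = J ^ (n + 1)) : 𝔛.IsLocNoethFormal := by
  have hcl : ∀ n, IsClosedImmersion (𝔛.ι n) := fun n => by
    have : IsClosedImmersion (𝔛.ι n ≫ p (n + 1)) := by rw [hp]; infer_instance
    exact IsClosedImmersion.of_comp_isClosedImmersion _ (p (n + 1))
  have hF : 𝔛.IsFormal := fun n => ⟨hcl n, fun y => by
    have h : p (n + 1) y ∈ Set.range (p n) := by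
      have hr : ∀ m, Set.range (p m) = (J.support : Set Y) := fun m => by
        rw [← (p m).isClosedEmbedding.isClosed_range.closure_eq,
          ← Scheme.Hom.support_ker (p m), hker, Scheme.IdealSheafData.support_pow_succ]
      rw [hr n, ← hr (n + 1)]
      exact ⟨y, rfl⟩
    obtain ⟨z, hz⟩ := h
    refine ⟨z, (p (n + 1)).isEmbedding.injective ?_⟩
    rw [← hp n] at hz
    exact hz⟩
  have hto : ∀ n, 𝔛.toX n ≫ p n = p 0 := by
    intro n
    induction n with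
    | zero => simp [FSch.Sys.toX]
    | succ n ih => rw [toX_succ, Category.assoc, hp, ih]
  refine ⟨hF, fun n => ?_, fun n => LocallyOfFiniteType.isLocallyNoetherian (p n)⟩
  rw [ker_of_comp_mono _ _ _ (hp n), ker_of_comp_mono _ _ _ (hto (n + 1)), hker, hker, pow_one,
    comap_pow]

end Groth.L17.Thick
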