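import Groth.Agent.L17.SpecObjConv
import Mathlib.CategoryTheory.Triangulated.SpectralObject
import Mathlib.CategoryTheory.Triangulated.HomologicalFunctor

/-!
The spectral object in an abelian category attached to a spectral object in a triangulated category
and a homological functor.
-/

set_option autoImplicit false

universe v u v' u' v'' u''

open CategoryTheory CategoryTheory.Limits CategoryTheory.Pretriangulated ComposableArrows

namespace Groth.L17.SpecObj

variable {C : Type u} [Category.{v} C] [HasZeroObject C] [HasShift C ℤ] [Preadditive C]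
  [∀ (n : ℤ), (shiftFunctor C n).Additive] [Pretriangulated C]
  {A : Type u'} [Category.{v'} A] [Abelian A] {ι : Type u''} [Category.{v''} ι]

/-- The image of a spectral object by a homological functor. -/
noncomputable def mapHomological (X : Triangulated.SpectralObject C ι) (F : C ⥤ A)
    [F.IsHomological] [F.ShiftSequence ℤ] : Abelian.SpectralObject A ι where
  H n := X.ω₁ ⋙ F.shift n
  δ' n₀ n₁ h :=
    { app := fun D => F.homologySequenceδ (X.ω₂.obj D) n₀ n₁ h
      naturality := fun _ _ φ =>
        F.homologySequenceδ_naturality _ _ (X.ω₂.map φ) n₀ n₁ h }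
  exact₁' n₀ n₁ h D :=
    (F.homologySequence_exact₁ _ (X.ω₂_obj_distinguished D) n₀ n₁ h).exact_toComposableArrows
  exact₂' n D :=
    (F.homologySequence_exact₂ _ (X.ω₂_obj_distinguished D) n).exact_toComposableArrows
  exact₃' n₀ n₁ h D :=
    (F.homologySequence_exact₃ _ (X.ω₂_obj_distinguished D) n₀ n₁ h).exact_toComposableArrows

@[simp]
theorem mapHomological_H (X : Triangulated.SpectralObject C ι) (F : C ⥤ A)
    [F.IsHomological] [F.ShiftSequence ℤ] (n : ℤ) :
    (mapHomological X F).H n = X.ω₁ ⋙ F.shift n := rfl

end Groth.L17.SpecObj
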