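import Groth.Agent.L15.Ref.Stalk
import Groth.Agent.L16.HomSh.Adjunction
import Groth.Agent.L03.HomDepth
import Groth.Agent.L04.LC.CompletionDim

/-!
# Coherence, stalks and depth of sheaf Homs
-/

set_option autoImplicit false
set_option linter.style.haveILetI false

universe u

open CategoryTheory CategoryTheory.Limits AlgebraicGeometry TopologicalSpace Opposite

noncomputable section

namespace Groth.L17.SheafHomCoh

variable {X : Scheme.{u}}

/-- The internal Hom is the sheaf Hom by families of stalk maps. -/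
def isoHomSh (F G : X.Modules) [DCoh.HasSheafHom F] : (DCoh.sheafHom F).obj G ≅ RefHull.homSh F G :=
  (Groth.L16.HomSh.sheafHomIso F).app G ≪≫ (asIso (Groth.L15.Ref.toHomMod F G)).symm

theorem isCoh_sheafHom [IsLocallyNoetherian X] (F G : X.Modules) (hF : Coh.IsCoh F) (hG : Coh.IsCoh G)
    [DCoh.HasSheafHom F] : Coh.IsCoh ((DCoh.sheafHom F).obj G) :=
  Groth.L16.CohSupport.isCoh_of_iso (isoHomSh F G).symm (Groth.L15.Ref.isCoh_homSh F G hF hG)

theorem stalk_sheafHom [IsLocallyNoetherian X] (F G : X.Modules) (hF : Coh.IsCoh F) [Coh.IsQCoh G]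
    [DCoh.HasSheafHom F] (x : X) :
    Nonempty (((DCoh.sheafHom F).obj G).presheaf.stalk x ≃ₗ[X.presheaf.stalk x]
      (F.presheaf.stalk x →ₗ[X.presheaf.stalk x] G.presheaf.stalk x)) :=
  ⟨((Groth.L00.Stk.F X x).mapIso (isoHomSh F G)).toLinearEquiv.trans
    (LinearEquiv.ofBijective (RefHull.evalStalk F G x) (Groth.L15.Ref.evalStalk_bijective F G hF x))⟩

variable {R : Type u} [CommRing R]

theorem supportDim_hom_le (M N : Type u) [AddCommGroup M] [Module R M] [AddCommGroup N] [Module R N]
    [Module.Finite R N] : Module.supportDim R (M →ₗ[R] N) ≤ Module.supportDim R N := by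
  refine Order.krullDim_le_of_strictMono (fun p => ⟨p.1, ?_⟩) fun a b h => h
  rw [Module.support_eq_zeroLocus]
  refine (PrimeSpectrum.mem_zeroLocus _ _).2 fun a ha => ?_
  obtain ⟨f, hf⟩ := Module.mem_support_iff'.1 p.2
  by_contra h
  refine hf a h (LinearMap.ext fun m => ?_)
  exact Module.mem_annihilator.1 ha (f m)

theorem depth_hom_supp [IsNoetherianRing R] [IsLocalRing R] (M N : Type u) [AddCommGroup M] [Module R M]
    [AddCommGroup N] [Module R N] [Module.Finite R M] [Module.Finite R N] (k : ℕ) (hk : k = 1 ∨ k = 2)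
    (hS : min (k : WithBot ℕ∞) (Module.supportDim R N) ≤ ((LocCoh.depth R N : ℕ∞) : WithBot ℕ∞)) :
    min (k : WithBot ℕ∞) (Module.supportDim R (M →ₗ[R] N)) ≤
      ((LocCoh.depth R (M →ₗ[R] N) : ℕ∞) : WithBot ℕ∞) := by
  have h := le_trans (min_le_min_left (k : WithBot ℕ∞) (supportDim_hom_le M N)) hS
  obtain ⟨h1, h2⟩ := Groth.L03.HomDepth.depth_hom (R := R) N M
  generalize Module.supportDim R (M →ₗ[R] N) = D at h ⊢
  induction D with
  | bot => exact (min_le_right _ _).trans bot_le
  | coe D =>
    rw [← WithBot.coe_natCast, ← WithBot.coe_min, WithBot.coe_le_coe] at h ⊢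
    rcases eq_or_ne D 0 with rfl | hD
    · exact (min_le_right _ _).trans zero_le
    have hD1 : 1 ≤ D := Order.one_le_iff_pos.2 (pos_iff_ne_zero.2 hD)
    rcases hk with rfl | rfl
    · simp only [Nat.cast_one] at h ⊢
      exact (min_le_left _ _).trans (h1 (le_trans (le_min le_rfl hD1) h))
    · simp only [Nat.cast_ofNat] at h ⊢
      rcases lt_or_ge D 2 with hD2 | hD2
      · have : D = 1 := by
          refine le_antisymm (ENat.lt_add_one_iff (by simp) |>.1 ?_) hD1
          rwa [show ((1 : ℕ∞) + 1) = 2 from one_add_one_eq_two]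
        subst this
        exact (min_le_right _ _).trans (h1 (le_trans (le_min one_le_two le_rfl) h))
      · exact (min_le_left _ _).trans (h2 (le_trans (le_min le_rfl hD2) h))

end Groth.L17.SheafHomCoh
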