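import Groth.Agent.L17.IdealMulArtinRees
import Groth.Agent.L29.DCoh.PCQCoh

/-!
# The homology of the Deligne system
-/

set_option autoImplicit false
set_option backward.isDefEq.respectTransparency false
set_option backward.isDefEq.respectTransparency.types false
set_option linter.style.haveILetI false

universe u

open CategoryTheory CategoryTheory.Limits AlgebraicGeometry Opposite TopologicalSpace HomologicalComplex

noncomputable section

namespace Groth.L17.DeligneHom

open Groth.L17.IdealMulSec Groth.L17.IdealMulExtend Groth.L17.IdealMulArtinRees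

variable {X : Scheme.{u}}

theorem app_injective {M N : X.Modules} (f : M ⟶ N) [Mono f] (V : X.Opens) : Function.Injective (f.app V) := by
  let E := SheafOfModules.evaluation.{u} X.ringCatSheaf (op V)
  haveI : E.Additive := Functor.additive_of_preserves_binary_products E
  intro a b hab
  have h0 : f.app V (a - b) = 0 := by rw [map_sub, hab, sub_self]
  obtain ⟨m, hm⟩ := ((kernel_sections f V).2 _).1 h0
  rw [kernel.ι_of_mono] at hm
  exact sub_eq_zero.1 (hm.symm.trans rfl)

variable (K : CochainComplex X.Modules ℤ) (p : ℤ)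

theorem mem_range_iCycles (V : X.Opens) (m : Γ(K.X p, V)) (h : (K.d p (p + 1)).app V m = 0) :
    ∃ z, (K.iCycles p).app V z = m := by
  obtain ⟨t, ht⟩ := ((kernel_sections (K.d p (p + 1)) V).2 m).1 h
  let e := (K.cyclesIsKernel p (p + 1) (CochainComplex.next ℤ p)).conePointUniqueUpToIso (kernelIsKernel (K.d p (p + 1)))
  have he : e.inv ≫ K.iCycles p = kernel.ι (K.d p (p + 1)) :=
    IsLimit.conePointUniqueUpToIso_inv_comp _ _ WalkingParallelPair.zero
  exact ⟨e.inv.app V t, (congrArg (fun q : kernel (K.d p (p + 1)) ⟶ K.X p => q.app V t) he).trans ht⟩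

theorem mem_range_toCycles (hK : ∀ i, Coh.IsQCoh (K.X i)) {V : X.Opens} (hV : IsAffineOpen V)
    (z : Γ(K.cycles p, V)) (h : (K.homologyπ p).app V z = 0) :
    z ∈ LinearMap.range (lapp (K.toCycles (p - 1) p) V) := by
  haveI := hK (p - 1)
  haveI := Groth.L29.DC.PCQCoh.isQCoh_cycles hK p
  refine mem_range_of_cokernel _ hV z ?_
  let e := (K.homologyIsCokernel (p - 1) p (CochainComplex.prev ℤ p)).coconePointUniqueUpToIso
    (cokernelIsCokernel (K.toCycles (p - 1) p))
  have he : K.homologyπ p ≫ e.hom = cokernel.π _ :=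
    IsColimit.comp_coconePointUniqueUpToIso_hom (K.homologyIsCokernel (p - 1) p (CochainComplex.prev ℤ p))
      (cokernelIsCokernel (K.toCycles (p - 1) p)) WalkingParallelPair.one
  rw [← he]
  show e.hom.app V ((K.homologyπ p).app V z) = 0
  rw [h, map_zero]

variable (I : X.IdealSheafData) (F : CochainComplex X.Modules ℤ)

/-- the inclusion on cycles -/
abbrev jZ (k : ℕ) : ((Dual3.deligne I k).obj F).cycles p ⟶ F.cycles p := cyclesMap (Dual3.deligneι I k F) p

theorem mono_jZ (k : ℕ) : Mono (jZ p I F k) := by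
  haveI : Mono ((Dual3.deligneι I k F).f p) := inferInstanceAs (Mono (Dual3.idealMulι (I ^ k) (F.X p)))
  have : Mono (jZ p I F k ≫ F.iCycles p) := by rw [cyclesMap_i]; infer_instance
  exact mono_of_mono _ (F.iCycles p)

theorem exists_a (hF : ∀ q, Coh.IsCoh (F.X q)) (n k : ℕ) (hkn : k ≤ n) :
    ∃ a : (Dual3.idealMul (I ^ n)).obj (F.cycles p) ⟶ ((Dual3.deligne I k).obj F).cycles p,
      a ≫ jZ p I F k = Dual3.idealMulι (I ^ n) (F.cycles p) := by
  haveI := fun q => (hF q).1
  obtain ⟨l, hl⟩ := exists_le (I ^ n) (F.X p) (pow_le_pow I hkn)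
  let g : (Dual3.idealMul (I ^ n)).obj (F.cycles p) ⟶ ((Dual3.deligne I k).obj F).X p :=
    (Dual3.idealMul (I ^ n)).map (F.iCycles p) ≫ l
  have hg : g ≫ Dual3.idealMulι (I ^ k) (F.X p) = Dual3.idealMulι (I ^ n) (F.cycles p) ≫ F.iCycles p := by
    rw [Category.assoc, hl, Dual3.idealMul_map_ι]
  have h0 : g ≫ ((Dual3.deligne I k).obj F).d p (p + 1) = 0 := by
    rw [← cancel_mono (Dual3.idealMulι (I ^ k) (F.X (p + 1))), zero_comp]
    show (g ≫ (Dual3.idealMul (I ^ k)).map (F.d p (p + 1))) ≫ _ = 0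
    rw [Category.assoc, Dual3.idealMul_map_ι, ← Category.assoc, hg, Category.assoc, iCycles_d, comp_zero]
  refine ⟨((Dual3.deligne I k).obj F).liftCycles g (p + 1) (CochainComplex.next ℤ p) h0, ?_⟩
  rw [← cancel_mono (F.iCycles p), Category.assoc, cyclesMap_i, liftCycles_i_assoc]
  exact hg

theorem artinRees_le [IsLocallyNoetherian X] {M : X.Modules} (hM : Coh.IsCoh M) (V : X.affineOpens)
    (N : Submodule Γ(X, V.1) Γ(M, V.1)) :
    ∃ c : ℕ, ∀ d n : ℕ, c ≤ d → d ≤ n →
      I.ideal V ^ n • ⊤ ⊓ N ≤ I.ideal V ^ (n - d) • N := by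
  haveI : IsNoetherianRing Γ(X, V.1) := IsLocallyNoetherian.component_noetherian V
  haveI := Groth.L20.ModStalk.finite_sections M hM V.2
  obtain ⟨c, hc⟩ := Ideal.exists_pow_inf_eq_pow_smul (I.ideal V) N
  refine ⟨c, fun d n hd hn => (hc n (hd.trans hn)).le.trans ?_⟩
  exact le_trans (Submodule.smul_mono le_rfl inf_le_right)
    (Submodule.smul_mono_left (Ideal.pow_le_pow_right (Nat.sub_le_sub_left hd n)))

theorem exists_bound [IsNoetherian X] (hF : ∀ q, Coh.IsCoh (F.X q)) :
    ∃ c : ℕ, 0 < c ∧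
      (∀ n, c ≤ n → ∃ b : ((Dual3.deligne I n).obj F).cycles p ⟶ (Dual3.idealMul (I ^ (n - c))).obj (F.cycles p),
        b ≫ Dual3.idealMulι (I ^ (n - c)) (F.cycles p) = jZ p I F n) ∧
      (∀ n, c ≤ n → ∀ a : (Dual3.idealMul (I ^ n)).obj (F.cycles p) ⟶ ((Dual3.deligne I (n - c)).obj F).cycles p,
        a ≫ jZ p I F (n - c) = Dual3.idealMulι (I ^ n) (F.cycles p) →
          kernel.ι ((Dual3.idealMul (I ^ n)).map (F.homologyπ p)) ≫
            a ≫ ((Dual3.deligne I (n - c)).obj F).homologyπ p = 0) ∧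
      ∀ n, Epi ((Dual3.idealMul (I ^ n)).map (F.homologyπ p)) := by
  have hq : ∀ q, Coh.IsQCoh (F.X q) := fun q => (hF q).1
  haveI := hq
  haveI hZ : Coh.IsQCoh (F.cycles p) := Groth.L29.DC.PCQCoh.isQCoh_cycles hq p
  haveI hH : Coh.IsQCoh (F.homology p) := Groth.L29.DC.PCQCoh.isQCoh_homology hq p
  have hD : ∀ n q, Coh.IsQCoh (((Dual3.deligne I n).obj F).X q) := fun n q => isQCoh_idealMul (I ^ n) (F.X q)
  obtain ⟨s, hs⟩ := exists_cover X
  have hZc : Coh.IsCoh (F.cycles p) := by
    let e := (F.cyclesIsKernel p (p + 1) (CochainComplex.next ℤ p)).conePointUniqueUpToIso (kernelIsKernel (F.d p (p + 1)))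
    exact Groth.L16.CohSupport.isCoh_of_iso e.symm (Groth.L16.CohSupport.isCoh_kernel (hF p) _)
  choose c₁ hc₁ using fun V : X.affineOpens => artinRees_le I (hF p) V (LinearMap.range (lapp (F.iCycles p) V.1))
  choose c₂ hc₂ using fun V : X.affineOpens => artinRees_le I hZc V (LinearMap.range (lapp (F.toCycles (p - 1) p) V.1))
  refine ⟨max (s.sup c₁) (s.sup c₂) + 1, Nat.succ_pos _, fun n hn => ?_, fun n hn a ha => ?_, fun n => ?_⟩
  · haveI := Groth.L29.DC.PCQCoh.isQCoh_cycles (hD n) p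
    haveI := isQCoh_idealMul (I ^ (n - (max (s.sup c₁) (s.sup c₂) + 1))) (F.cycles p)
    refine exists_factor _ _ fun x => ?_
    obtain ⟨V, hVs, hxV⟩ := hs x
    refine ⟨V.1, V.2, hxV, ?_⟩
    rintro _ ⟨z, rfl⟩
    rw [range_idealMul I _ (F.cycles p) V.2]
    have h1 : (F.iCycles p).app V.1 ((jZ p I F n).app V.1 z) =
        (Dual3.idealMulι (I ^ n) (F.X p)).app V.1 ((((Dual3.deligne I n).obj F).iCycles p).app V.1 z) :=
      congrArg (fun q : ((Dual3.deligne I n).obj F).cycles p ⟶ F.X p => q.app V.1 z) (cyclesMap_i _ _)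
    have h2 := hc₁ V _ n (le_trans (Finset.le_sup hVs) (le_trans (le_max_left _ _) (Nat.le_succ _))) hn
      (show (F.iCycles p).app V.1 ((jZ p I F n).app V.1 z) ∈ I.ideal V ^ n • ⊤ ⊓ LinearMap.range (lapp (F.iCycles p) V.1) from
        ⟨by rw [← range_idealMul I n (F.X p) V.2]; exact ⟨_, h1.symm⟩, ⟨_, rfl⟩⟩)
    rw [LinearMap.range_eq_map, ← Submodule.map_smul''] at h2
    obtain ⟨w, hw, hwz⟩ := h2
    have : w = (jZ p I F n).app V.1 z := app_injective (F.iCycles p) V.1 hwz
    rw [lapp_apply, ← this]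
    exact hw
  · haveI := Groth.L29.DC.PCQCoh.isQCoh_cycles (hD (n - (max (s.sup c₁) (s.sup c₂) + 1))) p
    haveI := isQCoh_idealMul (I ^ n) (F.cycles p)
    haveI := isQCoh_idealMul (I ^ n) (F.homology p)
    haveI : Coh.IsQCoh (kernel ((Dual3.idealMul (I ^ n)).map (F.homologyπ p))) := Groth.L18.IdealModule.isQCoh_kernel _
    refine Groth.L20.ResDescent.eq_zero_of_affine _ fun x => ?_
    obtain ⟨V, hVs, hxV⟩ := hs x
    refine ⟨V.1, V.2, hxV, fun t => ?_⟩
    set y := (kernel.ι ((Dual3.idealMul (I ^ n)).map (F.homologyπ p))).app V.1 t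
    have hy : ((Dual3.idealMul (I ^ n)).map (F.homologyπ p)).app V.1 y = 0 :=
      ((kernel_sections _ V.1).2 _).2 ⟨t, rfl⟩
    set z := (Dual3.idealMulι (I ^ n) (F.cycles p)).app V.1 y
    have hz : (F.homologyπ p).app V.1 z = 0 := by
      show (Dual3.idealMulι (I ^ n) (F.cycles p) ≫ F.homologyπ p).app V.1 y = 0
      rw [← Dual3.idealMul_map_ι]
      show (Dual3.idealMulι (I ^ n) (F.homology p)).app V.1 _ = 0
      exact (congrArg ((Dual3.idealMulι (I ^ n) (F.homology p)).app V.1) hy).trans (map_zero _)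
    have h2 := hc₂ V _ n (le_trans (Finset.le_sup hVs) (le_trans (le_max_right _ _) (Nat.le_succ _))) hn
      (show z ∈ I.ideal V ^ n • ⊤ ⊓ LinearMap.range (lapp (F.toCycles (p - 1) p) V.1) from
        ⟨by rw [← range_idealMul I n (F.cycles p) V.2]; exact ⟨_, rfl⟩, mem_range_toCycles F p hq V.2 z hz⟩)
    rw [LinearMap.range_eq_map, ← Submodule.map_smul''] at h2
    obtain ⟨w, hw, hwz⟩ := h2
    rw [← range_idealMul I _ (F.X (p - 1)) V.2] at hw
    obtain ⟨w', rfl⟩ := hw
    let k := n - (max (s.sup c₁) (s.sup c₂) + 1)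
    have hay : a.app V.1 y = (((Dual3.deligne I k).obj F).toCycles (p - 1) p).app V.1 w' := by
      haveI := mono_jZ p I F k
      apply app_injective (jZ p I F k) V.1
      refine (congrArg (fun q : (Dual3.idealMul (I ^ n)).obj (F.cycles p) ⟶ F.cycles p => q.app V.1 y) ha).trans ?_
      refine hwz.symm.trans ?_
      have hnat : ((Dual3.deligne I k).obj F).toCycles (p - 1) p ≫ jZ p I F k =
          Dual3.idealMulι (I ^ k) (F.X (p - 1)) ≫ F.toCycles (p - 1) p := by
        rw [← cancel_mono (F.iCycles p), Category.assoc, cyclesMap_i, toCycles_i_assoc, Category.assoc, toCycles_i]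
        exact ((Dual3.deligneι I k F).comm (p - 1) p).symm
      exact (congrArg (fun q : ((Dual3.deligne I k).obj F).X (p - 1) ⟶ F.cycles p => q.app V.1 w') hnat).symm
    show (((Dual3.deligne I k).obj F).homologyπ p).app V.1 (a.app V.1 y) = 0
    rw [hay]
    show (((Dual3.deligne I k).obj F).toCycles (p - 1) p ≫ ((Dual3.deligne I k).obj F).homologyπ p).app V.1 w' = 0
    rw [toCycles_comp_homologyπ]
    rfl
  · haveI := isQCoh_idealMul (I ^ n) (F.cycles p)
    haveI := isQCoh_idealMul (I ^ n) (F.homology p)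
    refine Preadditive.epi_of_cokernel_zero (Groth.L20.ResDescent.eq_zero_of_affine _ fun x => ?_)
    obtain ⟨V, hVs, hxV⟩ := hs x
    refine ⟨V.1, V.2, hxV, fun h => ?_⟩
    have h1 : (Dual3.idealMulι (I ^ n) (F.homology p)).app V.1 h ∈ I.ideal V ^ n • (⊤ : Submodule Γ(X, V.1) Γ(F.homology p, V.1)) := by
      rw [← range_idealMul I n (F.homology p) V.2]; exact ⟨h, rfl⟩
    have hπ : LinearMap.range (lapp (F.homologyπ p) V.1) = ⊤ :=
      LinearMap.range_eq_top.2 (Groth.L16.AffineBC.surjective_app_of_epi (F.homologyπ p) V.2)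
    rw [← hπ, LinearMap.range_eq_map, ← Submodule.map_smul''] at h1
    obtain ⟨z, hz, hzh⟩ := h1
    rw [← range_idealMul I n (F.cycles p) V.2] at hz
    obtain ⟨y, rfl⟩ := hz
    have hh : ((Dual3.idealMul (I ^ n)).map (F.homologyπ p)).app V.1 y = h := by
      apply ι_app_injective (I ^ n) (F.homology p) V.1
      refine Eq.trans ?_ hzh
      exact congrArg (fun q : (Dual3.idealMul (I ^ n)).obj (F.cycles p) ⟶ F.homology p => q.app V.1 y)
        (Dual3.idealMul_map_ι (I ^ n) (F.homologyπ p))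
    rw [← hh]
    show ((Dual3.idealMul (I ^ n)).map (F.homologyπ p) ≫ cokernel.π _).app V.1 y = 0
    rw [cokernel.condition]
    rfl

theorem main [IsNoetherian X] (hF : ∀ q, Coh.IsCoh (F.X q)) :
    ∃ (c : ℕ) (φ : ∀ n : ℕ, ((Dual3.deligne I n).obj F).homology p ⟶ (Dual3.idealMul (I ^ (n - c))).obj (F.homology p))
      (ψ : ∀ n : ℕ, (Dual3.idealMul (I ^ n)).obj (F.homology p) ⟶ ((Dual3.deligne I (n - c)).obj F).homology p),
      0 < c ∧
      (∀ n : ℕ, c ≤ n → φ n ≫ Dual3.idealMulι (I ^ (n - c)) (F.homology p) =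
        HomologicalComplex.homologyMap (Dual3.deligneι I n F) p) ∧
      (∀ n : ℕ, c ≤ n → ψ n ≫ HomologicalComplex.homologyMap (Dual3.deligneι I (n - c) F) p =
        Dual3.idealMulι (I ^ n) (F.homology p)) ∧
      (∀ n : ℕ, 2 * c ≤ n → (ψ n ≫ φ (n - c)) ≫ Dual3.idealMulι (I ^ (n - c - c)) (F.homology p) =
        Dual3.idealMulι (I ^ n) (F.homology p)) ∧
      ∀ (n : ℕ), 2 * c ≤ n → ∀ t : (Dual3.deligne I n).obj F ⟶ (Dual3.deligne I (n - c - c)).obj F,
        t ≫ Dual3.deligneι I (n - c - c) F = Dual3.deligneι I n F →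
          φ n ≫ ψ (n - c) = HomologicalComplex.homologyMap t p := by
  classical
  obtain ⟨c, hc0, hb, hk, hepi⟩ := exists_bound p I F hF
  choose a ha using fun n => exists_a p I F hF n (n - c) (Nat.sub_le n c)
  haveI := hepi
  let φ : ∀ n : ℕ, ((Dual3.deligne I n).obj F).homology p ⟶ (Dual3.idealMul (I ^ (n - c))).obj (F.homology p) :=
    fun n => if hn : c ≤ n then
      (((Dual3.deligne I n).obj F).homologyIsCokernel (p - 1) p (CochainComplex.prev ℤ p)).desc
        (CokernelCofork.ofπ ((hb n hn).choose ≫ (Dual3.idealMul (I ^ (n - c))).map (F.homologyπ p)) (by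
          rw [← cancel_mono (Dual3.idealMulι (I ^ (n - c)) (F.homology p)), zero_comp, Category.assoc,
            Category.assoc, Dual3.idealMul_map_ι, reassoc_of% (hb n hn).choose_spec,
            ← homologyπ_naturality, toCycles_comp_homologyπ_assoc, zero_comp]))
      else 0
  let ψ : ∀ n : ℕ, (Dual3.idealMul (I ^ n)).obj (F.homology p) ⟶ ((Dual3.deligne I (n - c)).obj F).homology p :=
    fun n => if hn : c ≤ n then
      Abelian.epiDesc ((Dual3.idealMul (I ^ n)).map (F.homologyπ p))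
        (a n ≫ ((Dual3.deligne I (n - c)).obj F).homologyπ p) (hk n hn (a n) (ha n))
      else 0
  have hφ : ∀ n (hn : c ≤ n), ((Dual3.deligne I n).obj F).homologyπ p ≫ φ n =
      (hb n hn).choose ≫ (Dual3.idealMul (I ^ (n - c))).map (F.homologyπ p) := fun n hn => by
    simp only [φ, dif_pos hn]
    exact (((Dual3.deligne I n).obj F).homologyIsCokernel (p - 1) p (CochainComplex.prev ℤ p)).fac _ WalkingParallelPair.one
  have hψ : ∀ n (hn : c ≤ n), (Dual3.idealMul (I ^ n)).map (F.homologyπ p) ≫ ψ n =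
      a n ≫ ((Dual3.deligne I (n - c)).obj F).homologyπ p := fun n hn => by
    simp only [ψ, dif_pos hn]
    exact Abelian.comp_epiDesc _ _ _
  have h1 : ∀ n, c ≤ n → φ n ≫ Dual3.idealMulι (I ^ (n - c)) (F.homology p) =
      HomologicalComplex.homologyMap (Dual3.deligneι I n F) p := fun n hn => by
    rw [← cancel_epi (((Dual3.deligne I n).obj F).homologyπ p), reassoc_of% (hφ n hn), Dual3.idealMul_map_ι,
      reassoc_of% (hb n hn).choose_spec, homologyπ_naturality]
  have h2 : ∀ n, c ≤ n → ψ n ≫ HomologicalComplex.homologyMap (Dual3.deligneι I (n - c) F) p =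
      Dual3.idealMulι (I ^ n) (F.homology p) := fun n hn => by
    rw [← cancel_epi ((Dual3.idealMul (I ^ n)).map (F.homologyπ p)), reassoc_of% (hψ n hn), homologyπ_naturality,
      reassoc_of% (ha n), Dual3.idealMul_map_ι]
  refine ⟨c, φ, ψ, hc0, h1, h2, fun n hn => ?_, fun n hn t ht => ?_⟩
  · rw [Category.assoc, h1 (n - c) (by omega), h2 n (by omega)]
  · have hn1 : c ≤ n := by omega
    have hn2 : c ≤ n - c := by omega
    rw [← cancel_epi (((Dual3.deligne I n).obj F).homologyπ p), reassoc_of% (hφ n hn1), hψ (n - c) hn2,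
      homologyπ_naturality, ← Category.assoc]
    congr 1
    haveI := mono_jZ p I F (n - c - c)
    rw [← cancel_mono (jZ p I F (n - c - c)), Category.assoc, ha, (hb n hn1).choose_spec]
    show cyclesMap (Dual3.deligneι I n F) p = cyclesMap t p ≫ cyclesMap (Dual3.deligneι I (n - c - c) F) p
    rw [← cyclesMap_comp, ht]

end Groth.L17.DeligneHom
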