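import Groth.Agent.L17.DevissageMono
import Groth.Agent.L16.DevissageKilled
import Groth.Agent.L16.Rees.RelVanish
import Groth.Agent.L17.DeligneHom

/-!
# Dévissage with a generic module and multiples
-/

set_option autoImplicit false
set_option backward.isDefEq.respectTransparency false
set_option backward.isDefEq.respectTransparency.types false
set_option linter.style.haveILetI false
set_option linter.unusedSectionVars false

universe u

open CategoryTheory CategoryTheory.Limits AlgebraicGeometry TopologicalSpace Opposite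

noncomputable section

namespace Groth.L17.DevissageGen

open Groth.L17.IdealMulSec
open Groth.L16.CohSupport (len len_eq_zero_iff)
open Groth.L21.Mod (stalkF)

variable {X Z : Scheme.{u}} (i : Z ⟶ X) [IsClosedImmersion i] [IsIntegral Z]

/-- At the generic point of an integral closed subscheme the maximal ideal kills direct images. -/
theorem push_killed (M : Z.Modules) (a : X.presheaf.stalk (i (genericPoint Z)))
    (ha : a ∈ IsLocalRing.maximalIdeal (X.presheaf.stalk (i (genericPoint Z))))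
    (m : ((Coh.push i).obj M).presheaf.stalk (i (genericPoint Z))) : a • m = 0 := by
  letI : Field (Z.presheaf.stalk (genericPoint Z)) := inferInstanceAs (Field Z.functionField)
  have hφ : Groth.L00.PullStalk.φ i (genericPoint Z) a = 0 := by
    by_contra h
    exact (IsLocalRing.mem_maximalIdeal _).1 ha (isUnit_of_map_unit (i.stalkMap (genericPoint Z)).hom a (isUnit_iff_ne_zero.2 h))
  apply (Groth.L17.ClosedPush.c₀_bijective i M (genericPoint Z)).1
  refine (Groth.L17.ClosedPush.c₀_smul i M (genericPoint Z) a m).trans ?_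
  rw [hφ]
  exact (zero_smul (Z.presheaf.stalk (genericPoint Z))
    (Groth.L17.ClosedPush.c₀ i M (genericPoint Z) m)).trans (map_zero _).symm

/-- A nonzero ideal on an integral scheme has full support. -/
theorem range_subset_support (I : Z.Modules) [Coh.IsQCoh I] (ι : I ⟶ Coh.structureModule Z) [Mono ι] (hI : ¬ IsZero I) :
    Set.range i ⊆ CohB1.support ((Coh.push i).obj I) := by
  rintro _ ⟨z, rfl⟩
  refine fun hsub => hI ?_
  have hsub' : Subsingleton (I.presheaf.stalk z) :=
    @Equiv.subsingleton _ _ (Equiv.ofBijective _ (Groth.L17.ClosedPush.c₀_bijective i I z)).symm hsub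
  have key : ∀ (V : Z.Opens) (w : Z) (hw : w ∈ V) (s : Γ(I, V)),
      (Coh.structureModule Z).presheaf.germ V w hw (ι.app V s) = 0 → s = 0 := fun V w hw s h => by
    apply Groth.L17.DeligneHom.app_injective ι V
    rw [map_zero]
    obtain ⟨W, hwW, iU, iV, he⟩ := TopCat.Presheaf.germ_eq (F := (Coh.structureModule Z).presheaf) w hw hw
      (ι.app V s) 0 (h.trans (map_zero _).symm)
    rw [map_zero] at he
    refine germ_injective_of_isIntegral Z w hw ?_
    rw [← Z.presheaf.germ_res_apply iU w hwW, map_zero]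
    exact (congrArg (Z.presheaf.germ W w hwW) he).trans (map_zero _)
  obtain ⟨_, ⟨W, hW, rfl⟩, hzW, -⟩ :=
    Z.isBasis_affineOpens.exists_subset_of_mem_open (Set.mem_univ z) isOpen_univ
  have hW0 : ∀ s : Γ(I, W), s = 0 := fun s => key W z hzW s
    ((Groth.L21.Mod.stalkF_map_germ ι W z hzW s).symm.trans
      ((congrArg _ (Subsingleton.elim (I.presheaf.germ W z hzW s) 0)).trans (map_zero _)))
  have hη : genericPoint Z ∈ W := ((genericPoint_spec Z).mem_open_set_iff W.2).2 ⟨z, trivial, hzW⟩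
  have hηs : Subsingleton (I.presheaf.stalk (genericPoint Z)) := by
    refine subsingleton_of_forall_eq 0 fun q => ?_
    letI := Z.presheaf.algebra_section_stalk ⟨genericPoint Z, hη⟩
    haveI := hW.isLocalization_stalk ⟨genericPoint Z, hη⟩
    letI := Groth.L20.ModStalk.stalkModule I hη
    haveI := Groth.L20.ModStalk.isLocalizedModule_germ I hW hη
    obtain ⟨⟨m, t⟩, hm⟩ := IsLocalizedModule.surj (hW.primeIdealOf ⟨genericPoint Z, hη⟩).asIdeal.primeCompl
      (Groth.L20.ModStalk.germₗ I hη) q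
    have hu : IsUnit (Z.presheaf.germ W _ hη (t : Γ(Z, W))) := IsLocalization.map_units (Z.presheaf.stalk _) t
    refine hu.smul_eq_zero.1 (hm.trans ?_)
    show Groth.L20.ModStalk.germₗ I hη m = 0
    rw [hW0 m, map_zero]
  refine (Groth.L21.Mod.isZero_iff_stalk I).2 fun w => ?_
  refine @AddCommGrpCat.isZero_of_subsingleton _ (subsingleton_of_forall_eq 0 fun v => ?_)
  obtain ⟨V, hV, s, rfl⟩ := TopCat.Presheaf.exists_germ_eq (F := I.presheaf) (x := w) v
  have hηV : genericPoint Z ∈ V := ((genericPoint_spec Z).mem_open_set_iff V.2).2 ⟨w, trivial, hV⟩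
  rw [key V _ hηV s ((Groth.L21.Mod.stalkF_map_germ ι V _ hηV s).symm.trans
      ((congrArg _ (Subsingleton.elim (I.presheaf.germ V _ hηV s) 0)).trans (map_zero _)))]
  exact map_zero _

theorem finite_sigma_stalk {r : ℕ} (M : X.Modules) (x : X) :
    Nonempty ((Groth.L00.Stk.F X x).obj (∐ fun _ : Fin r => M) ≅
      ModuleCat.of _ (Fin r → (Groth.L00.Stk.F X x).obj M)) := by
  haveI : PreservesColimitsOfSize.{0, 0} (Groth.L00.Stk.F X x) := preservesColimitsOfSize_shrink.{0, u, 0, u} _
  exact ⟨PreservesCoproduct.iso (Groth.L00.Stk.F X x) (fun _ : Fin r => M) ≪≫ (biproduct.isoCoproduct _).symm ≪≫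
    ModuleCat.biproductIsoPi _⟩

theorem support_sigma_subset {r : ℕ} (M : X.Modules) :
    CohB1.support (∐ fun _ : Fin r => M) ⊆ CohB1.support M := by
  intro x hx
  by_contra h
  apply hx
  obtain ⟨e⟩ := finite_sigma_stalk (r := r) M x
  haveI : Subsingleton ((Groth.L00.Stk.F X x).obj M) := not_not.1 h
  exact (e.toLinearEquiv.toEquiv.subsingleton :)

variable [AlgebraicGeometry.IsNoetherian X]

/-- A coherent module killed by the maximal ideal at the generic point is a multiple of a module with simple stalk. -/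
theorem exists_stalk_equiv {G I' : X.Modules} (hG : Coh.IsCoh G) (y : X)
    (hk : ∀ a ∈ IsLocalRing.maximalIdeal (X.presheaf.stalk y), ∀ m : G.presheaf.stalk y, a • m = 0)
    (hI : len y I' = 1) :
    ∃ r : ℕ, (y ∈ CohB1.support G → 0 < r) ∧
      Nonempty (↑(G.presheaf.stalk y) ≃ₗ[X.presheaf.stalk y] ↑((∐ fun _ : Fin r => I').presheaf.stalk y)) := by
  haveI : IsSimpleModule (X.presheaf.stalk y) ((Groth.L00.Stk.F X y).obj I') := Module.length_eq_one_iff.1 hI
  haveI : Module.Finite (X.presheaf.stalk y) ((Groth.L00.Stk.F X y).obj G) := Groth.L15.Ref.finite_stalk hG y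
  obtain ⟨r, ⟨e⟩⟩ := Groth.L16.Devissage.exists_pi_equiv (R := X.presheaf.stalk y) ((Groth.L00.Stk.F X y).obj G)
    ((Groth.L00.Stk.F X y).obj I') hk
  obtain ⟨e'⟩ := finite_sigma_stalk (r := r) I' y
  refine ⟨r, fun hy => ?_, ⟨e.symm.trans e'.toLinearEquiv.symm⟩⟩
  rcases Nat.eq_zero_or_pos r with rfl | h
  · exact absurd (show Subsingleton (G.presheaf.stalk y) from e.symm.toEquiv.subsingleton) hy
  · exact h

/-- The main step: ideals of the integral subscheme. -/
theorem core (P : X.Modules → Prop)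
    (h₁ : ∀ S : ShortComplex X.Modules, S.ShortExact → Coh.IsCoh S.X₁ → Coh.IsCoh S.X₂ → Coh.IsCoh S.X₃ →
      P S.X₁ → P S.X₃ → P S.X₂)
    (h₂ : ∀ (F : X.Modules) (r : ℕ), Coh.IsCoh F → 1 ≤ r → P (∐ fun _ : Fin r => F) → P F)
    (small : ∀ M : X.Modules, Coh.IsCoh M → CohB1.support M ⊆ Set.range i →
      i (genericPoint Z) ∉ CohB1.support M → P M)
    (G : X.Modules) (hG : Coh.IsCoh G) (hGy : i (genericPoint Z) ∈ CohB1.support G)
    (hk : ∀ a ∈ IsLocalRing.maximalIdeal (X.presheaf.stalk (i (genericPoint Z))),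
      ∀ m : G.presheaf.stalk (i (genericPoint Z)), a • m = 0)
    (hGJ : ∀ J : X.IdealSheafData, i (genericPoint Z) ∉ (J.support : Set X) →
      ∃ (G' : X.Modules) (ι' : G' ⟶ (Dual3.idealMul J).obj G), Mono ι' ∧ Coh.IsQCoh G' ∧
        IsIso ((stalkF X (i (genericPoint Z))).map (ι' ≫ Dual3.idealMulι J G)) ∧ P G')
    (I : Z.Modules) (ι : I ⟶ Coh.structureModule Z) [Mono ι] [Coh.IsQCoh I] :
    P ((Coh.push i).obj I) := by
  haveI : IsLocallyNoetherian Z := LocallyOfFiniteType.isLocallyNoetherian i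
  set y := i (genericPoint Z)
  have hIc : Coh.IsCoh I := Groth.L16.Rees.RelVanish.isCoh_of_mono ι Groth.L16.CohClosedPush.isCoh_structure
  have hI' : Coh.IsCoh ((Coh.push i).obj I) := Groth.L16.CohClosedPush.isCoh_push i hIc
  by_cases hy : y ∈ CohB1.support ((Coh.push i).obj I)
  swap
  · exact small _ hI' (Groth.L16.CohClosedPush.support_push_subset i I) hy
  have hlen : len y ((Coh.push i).obj I) = 1 := by
    haveI : (Coh.push i).IsRightAdjoint := (Scheme.Modules.pullbackPushforwardAdjunction i).isRightAdjoint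
    haveI : Mono ((Coh.push i).map ι) := inferInstance
    exact le_antisymm ((Groth.L16.Devissage.len_of_mono ((Coh.push i).map ι) y).trans
      (Groth.L16.CohClosedPush.len_push_structure i).le)
      (Order.one_le_iff_pos.2 (pos_iff_ne_zero.2 fun h => (len_eq_zero_iff y _).1 h hy))
  obtain ⟨r, hr, ⟨e⟩⟩ := exists_stalk_equiv hG y hk hlen
  let A : X.Modules := ∐ fun _ : Fin r => (Coh.push i).obj I
  have hA : Coh.IsCoh A := Groth.L16.Devissage.isCoh_sigma _ fun _ => hI'
  obtain ⟨J, φ, hyJ, hφm, hφ⟩ := Groth.L17.DevissageMono.exists_mono_hom hG hA y e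
  obtain ⟨G', ι', hι', hG'q, hiso, hPG'⟩ := hGJ J hyJ
  haveI := hφm
  haveI := hG'q
  haveI := hG.1
  have hG'c : Coh.IsCoh G' := Groth.L16.Rees.RelVanish.isCoh_of_mono ι' (isCoh_idealMul J G hG)
  let a : G' ⟶ A := ι' ≫ φ
  haveI : Mono a := mono_comp _ _
  haveI := hiso
  haveI := hφ
  haveI := Groth.L17.GenericTrivPush.isIso_stalk_idealMulι J G hyJ
  haveI : IsIso ((stalkF X y).map ι') := by
    haveI : IsIso ((stalkF X y).map ι' ≫ (stalkF X y).map (Dual3.idealMulι J G)) := by
      rw [← Functor.map_comp]; exact hiso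
    exact IsIso.of_isIso_comp_right _ ((stalkF X y).map (Dual3.idealMulι J G))
  have hcoh := Groth.L16.CohKernel.isCoh_kernel_cokernel hG'c hA a
  have hPc : P (cokernel a) := by
    refine small _ hcoh.2 ((Groth.L21.Mod.support_epi (cokernel.π a)).trans
      ((support_sigma_subset _).trans (Groth.L16.CohClosedPush.support_push_subset i I))) fun hs => ?_
    refine (Groth.L21.Mod.mem_support_iff_not_isZero _ y).1 hs ?_
    haveI : Epi ((stalkF X y).map (cokernel.π a)) := (Groth.L21.Mod.epi_iff_stalk _).1 inferInstance y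
    haveI : IsIso ((stalkF X y).map a) := by rw [Functor.map_comp]; infer_instance
    rw [IsZero.iff_id_eq_zero, ← cancel_epi ((stalkF X y).map (cokernel.π a)), ← cancel_epi ((stalkF X y).map a),
      comp_zero, comp_zero, Category.comp_id, ← Functor.map_comp, cokernel.condition, Functor.map_zero]
  have hS : (ShortComplex.mk a (cokernel.π a) (cokernel.condition a)).ShortExact :=
    { exact := ShortComplex.exact_cokernel a }
  exact h₂ _ r hI' (hr hGy) (h₁ _ hS hG'c hA hcoh.2 hPG' hPc)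

variable {i}

omit [IsClosedImmersion i] in
theorem genericPoint_eq {Z₀ : Set X} (hr : Set.range i = Z₀) (hc : IsClosed Z₀) {ξ : X} (hξ : closure {ξ} = Z₀) :
    i (genericPoint Z) = ξ := by
  have h := (genericPoint_spec Z).image i.continuous
  rw [Set.image_univ, hr, hc.closure_eq] at h
  exact h.eq hξ

omit [IsClosedImmersion i] in
theorem generic_mem_range : i (genericPoint Z) ∈ Set.range i := ⟨_, rfl⟩

end Groth.L17.DevissageGen

namespace Groth.L17.DevissageGen

open Groth.L21.Mod (stalkF)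

variable {X : Scheme.{u}} [AlgebraicGeometry.IsNoetherian X]

/-- Extensions preserve "satisfies `P` if supported in a set with property `Q`". -/
theorem ext_supp (P : X.Modules → Prop) (T : Set X) (y : Set X)
    (h₁ : ∀ S : ShortComplex X.Modules, S.ShortExact → Coh.IsCoh S.X₁ → Coh.IsCoh S.X₂ → Coh.IsCoh S.X₃ →
      P S.X₁ → P S.X₃ → P S.X₂)
    (S : ShortComplex X.Modules) (hS : S.ShortExact) (a : Coh.IsCoh S.X₁) (b : Coh.IsCoh S.X₂) (c : Coh.IsCoh S.X₃)
    (p₁ : CohB1.support S.X₁ ⊆ T → Disjoint y (CohB1.support S.X₁) → P S.X₁)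
    (p₃ : CohB1.support S.X₃ ⊆ T → Disjoint y (CohB1.support S.X₃) → P S.X₃)
    (hT : CohB1.support S.X₂ ⊆ T) (hy : Disjoint y (CohB1.support S.X₂)) : P S.X₂ := by
  rw [Groth.L21.Mod.support_of_shortExact hS] at hT hy
  rw [Set.union_subset_iff] at hT
  rw [Set.disjoint_union_right] at hy
  exact h₁ S hS a b c (p₁ hT.1 hy.1) (p₃ hT.2 hy.2)

theorem isIso_congr {P : X.Modules → Prop} (hP : ∀ M N : X.Modules, Nonempty (M ≅ N) → P M → P N) (T y : Set X)
    (M N : X.Modules) (e : Nonempty (M ≅ N)) (h : CohB1.support M ⊆ T → Disjoint y (CohB1.support M) → P M)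
    (hT : CohB1.support N ⊆ T) (hy : Disjoint y (CohB1.support N)) : P N := by
  obtain ⟨e'⟩ := e
  rw [← Groth.L21.Mod.support_congr e'] at hT hy
  exact hP M N ⟨e'⟩ (h hT hy)

/-- Statement of S9522. -/
theorem devissage_irreducible (Z₀ : Set X) (hZ₀ : IsClosed Z₀) (ξ : X) (hξ : ξ ∈ Z₀ ∧ closure {ξ} = Z₀)
    (P : X.Modules → Prop) (hP : ∀ M N : X.Modules, Nonempty (M ≅ N) → P M → P N)
    (h₀ : ∀ M : X.Modules, IsZero M → P M)
    (h₁ : ∀ S : ShortComplex X.Modules, S.ShortExact → Coh.IsCoh S.X₁ → Coh.IsCoh S.X₂ → Coh.IsCoh S.X₃ →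
      P S.X₁ → P S.X₃ → P S.X₂)
    (h₂ : ∀ (F : X.Modules) (r : ℕ), Coh.IsCoh F → 1 ≤ r → P (∐ fun _ : Fin r => F) → P F)
    (h₃ : ∀ (Z : Scheme.{u}) (i : Z ⟶ X), IsClosedImmersion i → IsIntegral Z →
      Set.range ⇑i ⊆ Z₀ → Set.range ⇑i ≠ Z₀ →
      ∀ (I : Z.Modules) (ι : I ⟶ Coh.structureModule Z), Mono ι → Coh.IsQCoh I → P ((Coh.push i).obj I))
    (G : X.Modules) (hG : Coh.IsCoh G) (hGξ : ξ ∈ CohB1.support G)
    (hk : ∀ a ∈ IsLocalRing.maximalIdeal (X.presheaf.stalk ξ), ∀ m : ↑(G.presheaf.stalk ξ), a • m = 0)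
    (hGJ : ∀ J : X.IdealSheafData, ξ ∉ (J.support : Set X) →
        ∃ (G' : X.Modules) (ι' : G' ⟶ (Dual3.idealMul J).obj G), Mono ι' ∧ Coh.IsQCoh G' ∧
          IsIso ((stalkF X ξ).map (ι' ≫ Dual3.idealMulι J G)) ∧ P G')
    (F : X.Modules) (hF : Coh.IsCoh F) (hsupp : CohB1.support F ⊆ Z₀) : P F := by
  have small : ∀ M : X.Modules, Coh.IsCoh M → CohB1.support M ⊆ Z₀ → Disjoint {ξ} (CohB1.support M) → P M := by
    intro M hM
    refine Groth.L16.Devissage.devissage_ideals (fun M => CohB1.support M ⊆ Z₀ → Disjoint {ξ} (CohB1.support M) → P M)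
      (isIso_congr hP Z₀ {ξ}) (fun M hM _ _ => h₀ M hM) (ext_supp P Z₀ {ξ} h₁) ?_ hM
    intro Z i hi hZ I ι hι hIq hT hy
    by_cases h0 : IsZero I
    · haveI : (Coh.push i).IsRightAdjoint := (Scheme.Modules.pullbackPushforwardAdjunction i).isRightAdjoint
      haveI : PreservesFiniteLimits (Coh.push i) := inferInstance
      exact h₀ _ ((Coh.push i).map_isZero h0)
    haveI := hIq
    haveI := hι
    have hr := range_subset_support i I ι h0
    refine h₃ Z i hi hZ (hr.trans hT) (fun he => Set.disjoint_singleton_left.1 hy (hr ?_)) I ι hι hIq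
    rw [he]; exact hξ.1
  refine Groth.L16.Devissage.devissage_ideals
    (fun M => CohB1.support M ⊆ Z₀ → Disjoint (∅ : Set X) (CohB1.support M) → P M)
    (isIso_congr hP Z₀ ∅) (fun M hM _ _ => h₀ M hM) (ext_supp P Z₀ ∅ h₁) ?_ hF hsupp (Set.empty_disjoint _)
  intro Z i hi hZ I ι hι hIq hT _
  by_cases h0 : IsZero I
  · haveI : (Coh.push i).IsRightAdjoint := (Scheme.Modules.pullbackPushforwardAdjunction i).isRightAdjoint
    exact h₀ _ ((Coh.push i).map_isZero h0)
  haveI := hIq
  haveI := hι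
  have hr := (range_subset_support i I ι h0).trans hT
  by_cases he : Set.range i = Z₀
  swap
  · exact h₃ Z i hi hZ hr he I ι hι hIq
  have hg := genericPoint_eq (i := i) he hZ₀ hξ.2
  subst hg
  exact core i P h₁ h₂ (fun M hM hs hη => small M hM (hs.trans hr) (Set.disjoint_singleton_left.2 hη))
    G hG hGξ hk hGJ I ι

/-- Statement of S10865. -/
theorem devissage_class [Nonempty X] (K : X.Modules → Prop) (hP : ∀ M N : X.Modules, Nonempty (M ≅ N) → K M → K N)
    (ha : ∀ S : ShortComplex X.Modules, S.ShortExact → Coh.IsCoh S.X₁ → Coh.IsCoh S.X₂ → Coh.IsCoh S.X₃ →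
      (K S.X₂ → K S.X₃ → K S.X₁) ∧ (K S.X₁ → K S.X₃ → K S.X₂))
    (hb : ∀ (F : X.Modules) (d : ℕ), 1 ≤ d → Coh.IsCoh F → K (∐ fun _ : Fin d => F) → K F)
    (hgen : ∀ (Z : Scheme.{u}) (i : Z ⟶ X) [IsClosedImmersion i] [IsIntegral Z],
      ∃ H : Z.Modules, Coh.IsCoh H ∧ Nontrivial (H.presheaf.stalk (genericPoint Z)) ∧
        K ((Scheme.Modules.pushforward i).obj H))
    (F : X.Modules) (hF : Coh.IsCoh F) : K F := by
  have h₁ : ∀ S : ShortComplex X.Modules, S.ShortExact → Coh.IsCoh S.X₁ → Coh.IsCoh S.X₂ → Coh.IsCoh S.X₃ →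
      K S.X₁ → K S.X₃ → K S.X₂ := fun S hS a b c => (ha S hS a b c).2
  have h₀ : ∀ M : X.Modules, IsZero M → K M := by
    intro M hM
    obtain ⟨Z, i, hi, hZ, -, -⟩ := Groth.L16.CohClosedPush.exists_integral (X := X) (Classical.arbitrary X)
    haveI := hi
    haveI := hZ
    haveI : IsLocallyNoetherian Z := LocallyOfFiniteType.isLocallyNoetherian i
    obtain ⟨H, hH, -, hKH⟩ := hgen Z i
    let B := (Coh.push i).obj H
    have hB : Coh.IsCoh B := Groth.L16.CohClosedPush.isCoh_push i hH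
    have hS : (ShortComplex.mk (0 : M ⟶ B) (𝟙 B) zero_comp).ShortExact :=
      (ShortComplex.Splitting.mk (0 : B ⟶ M) (𝟙 B) (hM.eq_of_src _ _) (by simp) (by simp)).shortExact
    exact (ha _ hS (Groth.L16.Devissage.isCoh_of_isZero hM) hB hB).1 hKH hKH
  suffices ∀ T : Closeds X, ∀ M : X.Modules, Coh.IsCoh M → CohB1.support M ⊆ T → Disjoint (∅ : Set X) (CohB1.support M) → K M from
    this ⊤ F hF (Set.subset_univ _) (Set.empty_disjoint _)
  intro T
  induction T using WellFoundedLT.induction with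
  | ind T IH =>
  intro M hM
  refine Groth.L16.Devissage.devissage_ideals
    (fun M => CohB1.support M ⊆ T → Disjoint (∅ : Set X) (CohB1.support M) → K M)
    (isIso_congr hP T ∅) (fun M hM _ _ => h₀ M hM) (ext_supp K T ∅ h₁) ?_ hM
  intro Z i hi hZ I ι hι hIq hT _
  by_cases h0 : IsZero I
  · haveI : (Coh.push i).IsRightAdjoint := (Scheme.Modules.pullbackPushforwardAdjunction i).isRightAdjoint
    exact h₀ _ ((Coh.push i).map_isZero h0)
  haveI := hIq
  haveI := hι
  haveI : IsLocallyNoetherian Z := LocallyOfFiniteType.isLocallyNoetherian i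
  let T' : Closeds X := ⟨Set.range i, i.isClosedEmbedding.isClosed_range⟩
  have hT' : T' ≤ T := (range_subset_support i I ι h0).trans hT
  rcases lt_or_eq_of_le hT' with hlt | rfl
  · exact IH T' hlt _ (Groth.L16.CohClosedPush.isCoh_push i
      (Groth.L16.Rees.RelVanish.isCoh_of_mono ι Groth.L16.CohClosedPush.isCoh_structure))
      (Groth.L16.CohClosedPush.support_push_subset i I) (Set.empty_disjoint _)
  obtain ⟨H, hH, hHn, hKH⟩ := hgen Z i
  let B := (Coh.push i).obj H
  have hB : Coh.IsCoh B := Groth.L16.CohClosedPush.isCoh_push i hH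
  haveI := hB.1
  have small : ∀ M : X.Modules, Coh.IsCoh M → CohB1.support M ⊆ Set.range i →
      i (genericPoint Z) ∉ CohB1.support M → K M := by
    intro M hM hs hη
    let T'' : Closeds X := ⟨CohB1.support M, Groth.L16.CohSupport.isClosed_support M hM.2⟩
    have hlt : T'' < (⟨Set.range i, i.isClosedEmbedding.isClosed_range⟩ : Closeds X) :=
      lt_of_le_of_ne (show T'' ≤ _ from hs) fun he => hη (show i (genericPoint Z) ∈ (T'' : Set X) from he.symm ▸ ⟨_, rfl⟩)
    exact IH T'' hlt M hM subset_rfl (Set.empty_disjoint _)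
  have hBy : i (genericPoint Z) ∈ CohB1.support B := fun hsub => by
    haveI := hHn
    exact not_subsingleton (H.presheaf.stalk (genericPoint Z))
      (@Equiv.subsingleton _ _ (Equiv.ofBijective _ (Groth.L17.ClosedPush.c₀_bijective i H (genericPoint Z))).symm hsub)
  refine core i K h₁ (fun F r hF hr => hb F r hr hF) small B hB hBy (push_killed i H) (fun J hJ => ?_) I ι
  have hJB := Groth.L17.IdealMulSec.isCoh_idealMul J B hB
  haveI := Groth.L17.GenericTrivPush.isIso_stalk_idealMulι J B hJ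
  refine ⟨_, 𝟙 _, inferInstance, hJB.1, by rw [Category.id_comp]; infer_instance, ?_⟩
  have hS : (ShortComplex.mk (Dual3.idealMulι J B) (cokernel.π _) (cokernel.condition _)).ShortExact :=
    { exact := ShortComplex.exact_cokernel _ }
  have hc := (Groth.L16.CohKernel.isCoh_kernel_cokernel hJB hB (Dual3.idealMulι J B)).2
  refine (ha _ hS hJB hB hc).1 hKH (small _ hc ((Groth.L21.Mod.support_epi (cokernel.π _)).trans
    (Groth.L16.CohClosedPush.support_push_subset i H)) fun hs => ?_)
  refine (Groth.L21.Mod.mem_support_iff_not_isZero _ _).1 hs ?_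
  haveI : Epi ((stalkF X (i (genericPoint Z))).map (cokernel.π (Dual3.idealMulι J B))) :=
    (Groth.L21.Mod.epi_iff_stalk _).1 inferInstance _
  rw [IsZero.iff_id_eq_zero, ← cancel_epi ((stalkF X (i (genericPoint Z))).map (cokernel.π (Dual3.idealMulι J B))),
    ← cancel_epi ((stalkF X (i (genericPoint Z))).map (Dual3.idealMulι J B)),
    comp_zero, comp_zero, Category.comp_id, ← Functor.map_comp, cokernel.condition, Functor.map_zero]

/-- Statement of S9521. -/
theorem exists_mono_ideal_pow {Z : Scheme.{u}} (i : Z ⟶ X) [IsClosedImmersion i] [IsIntegral Z] (F : X.Modules)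
    (hF : Coh.IsCoh F)
    (hann : ∀ a ∈ IsLocalRing.maximalIdeal (X.presheaf.stalk (i (genericPoint Z))),
      ∀ m : ↑(F.presheaf.stalk (i (genericPoint Z))), a • m = 0) :
    ∃ (r : ℕ) (I : Z.Modules) (ι : I ⟶ Coh.structureModule Z) (φ : (Coh.push i).obj (∐ fun _ : Fin r => I) ⟶ F),
      Mono ι ∧ Coh.IsCoh I ∧ Mono φ ∧
      ∃ U : X.Opens, i (genericPoint Z) ∈ U ∧ IsIso ((Scheme.Modules.restrictFunctor U.ι).map φ) := by
  haveI : IsLocallyNoetherian Z := LocallyOfFiniteType.isLocallyNoetherian i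
  let O := (Coh.push i).obj (Coh.structureModule Z)
  have hO : Coh.IsCoh O := Groth.L16.CohClosedPush.isCoh_push i Groth.L16.CohClosedPush.isCoh_structure
  obtain ⟨r, -, ⟨e⟩⟩ := exists_stalk_equiv hF (i (genericPoint Z)) hann (Groth.L16.CohClosedPush.len_push_structure i)
  let C : Z.Modules := ∐ fun _ : Fin r => Coh.structureModule Z
  have hC : Coh.IsCoh C := by
    haveI : CompactSpace Z := QuasiCompact.compactSpace_of_compactSpace i
    haveI : AlgebraicGeometry.IsNoetherian Z := {}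
    exact Groth.L16.Devissage.isCoh_sigma _ fun _ => Groth.L16.CohClosedPush.isCoh_structure
  haveI := hC.1
  let B := (Coh.push i).obj C
  have hB : Coh.IsCoh B := Groth.L16.CohClosedPush.isCoh_push i hC
  haveI : (Coh.push i).Additive := inferInstanceAs (Scheme.Modules.pushforward i).Additive
  let eB : B ≅ ∐ fun _ : Fin r => O := (Coh.push i).mapIso (biproduct.isoCoproduct _).symm ≪≫
    Functor.mapBiproduct (Coh.push i) (fun _ : Fin r => Coh.structureModule Z) ≪≫ biproduct.isoCoproduct _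
  obtain ⟨J, φ, hyJ, hφm, hφ⟩ := Groth.L17.DevissageMono.exists_mono_hom hB hF (i (genericPoint Z))
    (((Groth.L00.Stk.F X (i (genericPoint Z))).mapIso eB).toLinearEquiv.trans e.symm)
  obtain ⟨e₁, -⟩ := Groth.L17.IdealMulPush.exists_iso i C J
  let J' := J.comap i
  let e₂ : (Dual3.idealMul J').obj C ≅ ∐ fun _ : Fin r => (Dual3.idealMul J').obj (Coh.structureModule Z) :=
    (Dual3.idealMul J').mapIso (biproduct.isoCoproduct _).symm ≪≫
      Functor.mapBiproduct (Dual3.idealMul J') (fun _ : Fin r => Coh.structureModule Z) ≪≫ biproduct.isoCoproduct _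
  let ψ : (Coh.push i).obj (∐ fun _ : Fin r => (Dual3.idealMul J').obj (Coh.structureModule Z)) ⟶ F :=
    (Coh.push i).map e₂.inv ≫ e₁.inv ≫ φ
  haveI := hφm
  haveI : Coh.IsQCoh (Coh.structureModule Z) := Groth.L16.CohClosedPush.isCoh_structure.1
  have hI := Groth.L17.IdealMulSec.isCoh_idealMul J' (Coh.structureModule Z) Groth.L16.CohClosedPush.isCoh_structure
  refine ⟨r, _, Dual3.idealMulι J' (Coh.structureModule Z), ψ, inferInstance, hI, mono_comp _ _,
    Groth.L17.StalkSpread.exists_isIso hF ?_ ψ (i (genericPoint Z)) ?_⟩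
  · exact Groth.L16.CohSupport.isCoh_of_iso ((Coh.push i).mapIso e₂)
      (Groth.L16.CohClosedPush.isCoh_push i (Groth.L17.IdealMulSec.isCoh_idealMul J' C hC))
  · haveI := hφ
    rw [Functor.map_comp, Functor.map_comp]
    infer_instance

end Groth.L17.DevissageGen
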