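import Groth.Agent.L17.IdealMulSec
import Groth.Agent.L20.ResDescent
import Groth.Agent.L16.QCohSections
import Groth.Agent.L29.Sib.CohLift
import Groth.Agent.L00.AlgQCoh
import Groth.Agent.L17.HTor.Acyc
import Mathlib.RingTheory.Filtration

/-!
# Morphisms defined off the zero set of an ideal extend from powers of the ideal
-/

set_option autoImplicit false
set_option backward.isDefEq.respectTransparency false
set_option backward.isDefEq.respectTransparency.types false
set_option linter.style.haveILetI false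

universe u

open CategoryTheory CategoryTheory.Limits AlgebraicGeometry Opposite TopologicalSpace

noncomputable section

namespace Groth.L17.IdealMulExtend

open Groth.L18.Frame (rs ro)
open Groth.L17.IdealMulSec

variable {X : Scheme.{u}}

/-- Sections of a morphism, linearly. -/
def lapp {M N : X.Modules} (φ : M ⟶ N) (U : X.Opens) : Γ(M, U) →ₗ[Γ(X, U)] Γ(N, U) where
  toFun m := φ.app U m
  map_add' a b := map_add _ a b
  map_smul' r m := φ.app_smul r m

theorem lapp_apply {M N : X.Modules} (φ : M ⟶ N) (U : X.Opens) (m : Γ(M, U)) : lapp φ U m = φ.app U m := rfl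

/-- A morphism zero on `U` is zero on sections over opens inside `U`. -/
theorem app_eq_zero_of_restrict {M N : X.Modules} (φ : M ⟶ N) {U : X.Opens}
    (h : (Scheme.Modules.restrictFunctor U.ι).map φ = 0) {W : X.Opens} (hW : W ≤ U) (m : Γ(M, W)) :
    φ.app W m = 0 := by
  have e : U.ι ''ᵁ (U.ι ⁻¹ᵁ W) = W := by
    rw [Scheme.Hom.image_preimage_eq_opensRange_inf, Scheme.Opens.opensRange_ι, inf_eq_right.2 hW]
  have h1 : ∀ t : Γ(M, U.ι ''ᵁ (U.ι ⁻¹ᵁ W)), φ.app (U.ι ''ᵁ (U.ι ⁻¹ᵁ W)) t = 0 := fun t => by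
    show ((Scheme.Modules.restrictFunctor U.ι).map φ).app (U.ι ⁻¹ᵁ W) t = 0
    rw [h]
    rfl
  rw [e] at h1
  exact h1 m

/-- Over an affine open a power of the ideal kills what vanishes off its zero set. -/
theorem exists_pow_smul_app_eq_zero [IsLocallyNoetherian X] {E F : X.Modules} (hE : Coh.IsCoh E)
    [Coh.IsQCoh F] (ψ : E ⟶ F) (I : X.IdealSheafData) {U : X.Opens} (hU : (U : Set X) = (I.support : Set X)ᶜ)
    (hψ : (Scheme.Modules.restrictFunctor U.ι).map ψ = 0) {V : X.Opens} (hV : IsAffineOpen V) :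
    ∃ k : ℕ, ∀ a ∈ I.ideal ⟨V, hV⟩ ^ k, ∀ m : Γ(E, V), a • ψ.app V m = 0 := by
  haveI : IsNoetherianRing Γ(X, V) := IsLocallyNoetherian.component_noetherian ⟨V, hV⟩
  haveI := hE.1
  haveI := Groth.L20.ModStalk.finite_sections E hE hV
  let J : Ideal Γ(X, V) := (LinearMap.range (lapp ψ V)).annihilator
  have hfg : (LinearMap.range (lapp ψ V)).FG := by
    rw [LinearMap.range_eq_map]; exact Module.Finite.fg_top.map _
  have hJ : I.ideal ⟨V, hV⟩ ≤ J.radical := by
    intro a ha
    obtain ⟨S, hS⟩ := hfg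
    have hd : X.basicOpen a ≤ U := by
      intro x hx
      show x ∈ (U : Set X)
      rw [hU]
      intro hs
      have := (I.mem_support_iff_of_mem (U := ⟨V, hV⟩) (X.basicOpen_le a hx)).1 hs
      rw [Scheme.mem_zeroLocus_iff] at this
      exact this a ha hx
    have h1 : ∀ y ∈ S, ∃ n : ℕ, a ^ n • y = 0 := fun y hy => by
      obtain ⟨m, rfl⟩ : y ∈ LinearMap.range (lapp ψ V) := hS ▸ Submodule.subset_span hy
      refine Groth.L16.QCohSect.exists_pow_smul_eq_zero hV F a _ ?_
      show rs F (X.basicOpen_le a) (ψ.app V m) = 0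
      rw [← Groth.L19.ProjBdl.app_rs]
      exact app_eq_zero_of_restrict ψ hψ hd _
    choose n hn using h1
    let N : {y // y ∈ S} → ℕ := fun z => n z.1 z.2
    refine ⟨S.attach.sup N, ?_⟩
    rw [Submodule.mem_annihilator]
    intro y hy
    rw [← hS] at hy
    induction hy using Submodule.span_induction with
    | mem y hy =>
      obtain ⟨d, hd'⟩ := Nat.exists_eq_add_of_le (Finset.le_sup (f := N) (S.mem_attach ⟨y, hy⟩))
      rw [hd', add_comm, pow_add, mul_smul, show a ^ N ⟨y, hy⟩ • y = 0 from hn y hy, smul_zero]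
    | zero => exact smul_zero _
    | add p q _ _ hp hq => rw [smul_add, hp, hq, add_zero]
    | smul r p _ hp => rw [smul_comm, hp, smul_zero]
  obtain ⟨k, hk⟩ := Ideal.exists_pow_le_of_le_radical_of_fg hJ (IsNoetherian.noetherian _)
  exact ⟨k, fun a ha m => (Submodule.mem_annihilator.1 (hk ha)) _ ⟨m, rfl⟩⟩

/-- A finite affine cover of a Noetherian scheme. -/
theorem exists_cover (X : Scheme.{u}) [CompactSpace X] :
    ∃ s : Finset X.affineOpens, ∀ x : X, ∃ V ∈ s, x ∈ V.1 := by
  obtain ⟨s, hs, hcov⟩ := Groth.L19.Approx.exists_finite_affineOpens (U := (⊤ : X.Opens)) isCompact_univ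
  refine ⟨hs.toFinset, fun x => ?_⟩
  obtain ⟨⟨V, hV⟩, hx⟩ := Opens.mem_iSup.1 (hcov.le (Opens.mem_top x))
  exact ⟨V, hs.mem_toFinset.2 hV, hx⟩

/-- Submodule sheaves: `I^(n+k) G` lands in `I^k • I^n G` on sections. -/
theorem lift_app_mem (I : X.IdealSheafData) (G : X.Modules) [Coh.IsQCoh G] (n k : ℕ)
    (l : (Dual3.idealMul (I ^ (n + k))).obj G ⟶ (Dual3.idealMul (I ^ n)).obj G)
    (hl : l ≫ Dual3.idealMulι (I ^ n) G = Dual3.idealMulι (I ^ (n + k)) G) {V : X.Opens} (hV : IsAffineOpen V)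
    (m : Γ((Dual3.idealMul (I ^ (n + k))).obj G, V)) :
    l.app V m ∈ I.ideal ⟨V, hV⟩ ^ k • (⊤ : Submodule Γ(X, V) Γ((Dual3.idealMul (I ^ n)).obj G, V)) := by
  let ι := lapp (Dual3.idealMulι (I ^ n) G) V
  rw [← Submodule.comap_map_eq_of_injective (f := ι) (ι_app_injective (I ^ n) G V)
    (I.ideal ⟨V, hV⟩ ^ k • (⊤ : Submodule Γ(X, V) Γ((Dual3.idealMul (I ^ n)).obj G, V))), Submodule.mem_comap,
    Submodule.map_smul'', Submodule.map_top]
  have hr : LinearMap.range ι = I.ideal ⟨V, hV⟩ ^ n • (⊤ : Submodule Γ(X, V) Γ(G, V)) := by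
    ext s
    have := exists_app_eq_iff (I ^ n) G hV s
    rw [Scheme.IdealSheafData.ideal_pow, Pi.pow_apply] at this
    exact this
  rw [hr, ← Submodule.smul_assoc, smul_eq_mul, ← pow_add, add_comm k n]
  have h2 : ι (l.app V m) = (Dual3.idealMulι (I ^ (n + k)) G).app V m := by rw [← hl]; rfl
  rw [h2]
  have := (exists_app_eq_iff (I ^ (n + k)) G hV _).1 ⟨m, rfl⟩
  rw [Scheme.IdealSheafData.ideal_pow, Pi.pow_apply] at this
  exact this

theorem pow_le_pow (I : X.IdealSheafData) {n N : ℕ} (h : n ≤ N) : I ^ N ≤ I ^ n := fun V => by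
  rw [Scheme.IdealSheafData.ideal_pow, Scheme.IdealSheafData.ideal_pow, Pi.pow_apply, Pi.pow_apply]
  exact Ideal.pow_le_pow_right h

/-- Injectivity half. -/
theorem exists_comp_eq_zero [IsNoetherian X] (F G : X.Modules) [Coh.IsQCoh F] (hG : Coh.IsCoh G)
    (I : X.IdealSheafData) {U : X.Opens} (hU : (U : Set X) = (I.support : Set X)ᶜ) (n : ℕ)
    (ψ : (Dual3.idealMul (I ^ n)).obj G ⟶ F) (hψ : (Scheme.Modules.restrictFunctor U.ι).map ψ = 0) :
    ∃ (N : ℕ) (ι : (Dual3.idealMul (I ^ N)).obj G ⟶ (Dual3.idealMul (I ^ n)).obj G),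
      ι ≫ Dual3.idealMulι (I ^ n) G = Dual3.idealMulι (I ^ N) G ∧ ι ≫ ψ = 0 := by
  haveI := hG.1
  obtain ⟨s, hs⟩ := exists_cover X
  choose k hk using fun V : X.affineOpens =>
    exists_pow_smul_app_eq_zero (isCoh_idealMul (I ^ n) G hG) ψ I hU hψ V.2
  obtain ⟨l, hl⟩ := exists_le (I ^ (n + s.sup k)) G (J := I ^ n) (pow_le_pow I (Nat.le_add_right _ _))
  refine ⟨n + s.sup k, l, hl, ?_⟩
  haveI := isQCoh_idealMul (I ^ (n + s.sup k)) G
  refine Groth.L20.ResDescent.eq_zero_of_affine _ fun x => ?_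
  obtain ⟨V, hVs, hxV⟩ := hs x
  refine ⟨V.1, V.2, hxV, fun m => ?_⟩
  have h1 := lift_app_mem I G n (s.sup k) l hl V.2 m
  show ψ.app V.1 (l.app V.1 m) = 0
  generalize l.app V.1 m = y at h1
  induction h1 using Submodule.smul_induction_on' with
  | smul a ha y hy =>
    rw [Scheme.Modules.Hom.app_smul]
    exact hk V a (Ideal.pow_le_pow_right (Finset.le_sup hVs) ha) y
  | add p _ q _ hp hq => rw [map_add, hp, hq, add_zero]

/-- On affine opens the kernel of the cokernel is the image. -/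
theorem mem_range_of_cokernel {M N : X.Modules} [Coh.IsQCoh M] [Coh.IsQCoh N] (φ : M ⟶ N)
    {V : X.Opens} (hV : IsAffineOpen V) (g : Γ(N, V)) (h : (cokernel.π φ).app V g = 0) :
    g ∈ LinearMap.range (lapp φ V) := by
  haveI : Coh.IsQCoh (cokernel φ) := (Groth.L00.AlgQCoh.isQCoh_kernel_cokernel φ ‹_› ‹_›).2
  haveI : Coh.IsQCoh (Abelian.image φ) := Groth.L18.IdealModule.isQCoh_kernel (cokernel.π φ)
  obtain ⟨m, hm⟩ := ((kernel_sections (cokernel.π φ) V).2 g).1 h
  obtain ⟨t, ht⟩ := Groth.L16.AffineBC.surjective_app_of_epi (Abelian.factorThruImage φ) hV m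
  refine ⟨t, ?_⟩
  rw [lapp_apply, ← hm, ← ht]
  conv_lhs => rw [← Abelian.image.fac φ]
  rfl

/-- Surjectivity half. -/
theorem exists_extend [IsNoetherian X] (F G : X.Modules) [Coh.IsQCoh F] (hG : Coh.IsCoh G)
    (I : X.IdealSheafData) (U : X.Opens) (hU : (U : Set X) = (I.support : Set X)ᶜ)
    (φ : (Scheme.Modules.restrictFunctor U.ι).obj G ⟶ (Scheme.Modules.restrictFunctor U.ι).obj F) :
    ∃ (n : ℕ) (ψ : (Dual3.idealMul (I ^ n)).obj G ⟶ F),
      (Scheme.Modules.restrictFunctor U.ι).map ψ =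
        (Scheme.Modules.restrictFunctor U.ι).map (Dual3.idealMulι (I ^ n) G) ≫ φ := by
  haveI := hG.1
  let R := Scheme.Modules.restrictFunctor U.ι
  let adj := Scheme.Modules.restrictAdjunction U.ι
  let φ' : G ⟶ (Scheme.Modules.pushforward U.ι).obj (R.obj F) :=
    adj.unit.app G ≫ (Scheme.Modules.pushforward U.ι).map φ
  let ηF : F ⟶ (Scheme.Modules.pushforward U.ι).obj (R.obj F) := adj.unit.app F
  haveI hRF : Coh.IsQCoh (R.obj F) :=
    haveI : F.IsQuasicoherent := ‹Coh.IsQCoh F›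
    Scheme.Modules.isQuasicoherent_restrictFunctor U.ι F
  haveI : Coh.IsQCoh ((Scheme.Modules.pushforward U.ι).obj (R.obj F)) :=
    Groth.L16.QcqsPush.isQCoh_push _ U.ι
  haveI : Coh.IsQCoh (G ⊞ F) := Groth.L17.HTorRG.Acyc.isQCoh_biprod hG.1 ‹_›
  let δ : G ⊞ F ⟶ (Scheme.Modules.pushforward U.ι).obj (R.obj F) := biprod.desc φ' (-ηF)
  let P := kernel δ
  haveI : Coh.IsQCoh P := Groth.L18.IdealModule.isQCoh_kernel δ
  let p : P ⟶ G := kernel.ι δ ≫ biprod.fst
  let q : P ⟶ F := kernel.ι δ ≫ biprod.snd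
  have hpq : p ≫ φ' = q ≫ ηF := by
    have h' : δ = biprod.fst ≫ φ' - biprod.snd ≫ ηF := by
      apply biprod.hom_ext' <;> simp [δ]
    have h : kernel.ι δ ≫ (biprod.fst ≫ φ' - biprod.snd ≫ ηF) = 0 := by rw [← h']; exact kernel.condition δ
    rw [Preadditive.comp_sub, sub_eq_zero] at h
    rw [Category.assoc, Category.assoc]
    exact h
  have hR : R.map p ≫ φ = R.map q := by
    apply (adj.homEquiv P (R.obj F)).injective
    rw [Adjunction.homEquiv_unit, Adjunction.homEquiv_unit, Functor.map_comp]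
    exact (Adjunction.unit_naturality_assoc adj p _).trans (hpq.trans (Adjunction.unit_naturality adj q).symm)
  haveI hηiso : IsIso (R.map ηF) := by
    haveI : IsIso (adj.counit.app (R.obj F)) := inferInstance
    exact IsIso.of_isIso_fac_right (adj.left_triangle_components F)
  have hRm : Mono (R.map p) := by
    refine Preadditive.mono_of_cancel_zero _ fun {T} g hg => ?_
    have hq : g ≫ R.map q = 0 := by rw [← hR, ← Category.assoc, hg, zero_comp]
    haveI : Mono (R.map (kernel.ι δ)) := inferInstance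
    rw [← cancel_mono (R.map (kernel.ι δ)), zero_comp]
    haveI : PreservesBinaryBiproduct G F R := preservesBinaryBiproduct_of_preservesBinaryProduct R
    rw [← cancel_mono (R.mapBiprod G F).hom, zero_comp]
    apply biprod.hom_ext
    · simpa [p] using hg
    · simpa [q] using hq
  have hRe : R.map (cokernel.π p) = 0 := by
    let c : G ⟶ P ⊞ (cokernel p) := biprod.lift 0 (cokernel.π p)
    obtain ⟨l, hl⟩ : ∃ l : R.obj G ⟶ R.obj P, l ≫ R.map p = 𝟙 _ := by
      let m : R.obj G ⟶ R.obj (G ⊞ F) := R.map biprod.inl + φ ≫ R.map biprod.inr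
      have h1 : m ≫ R.map δ = 0 := by
        simp only [m, Preadditive.add_comp, Category.assoc, ← Functor.map_comp, δ, biprod.inl_desc,
          biprod.inr_desc, Functor.map_neg, Preadditive.comp_neg, φ']
        rw [← sub_eq_add_neg, sub_eq_zero, Functor.map_comp]
        rw [← cancel_mono (adj.counit.app (R.obj F)), Category.assoc, Category.assoc]
        erw [adj.counit_naturality, adj.left_triangle_components_assoc, adj.left_triangle_components,
          Category.comp_id]
      haveI : PreservesLimit (parallelPair δ 0) R := inferInstance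
      refine ⟨kernel.lift (R.map δ) m h1 ≫ (PreservesKernel.iso R δ).inv, ?_⟩
      rw [show p = kernel.ι δ ≫ biprod.fst from rfl, Functor.map_comp, Category.assoc, ← Category.assoc
        (PreservesKernel.iso R δ).inv, PreservesKernel.iso_inv_ι, kernel.lift_ι_assoc]
      simp only [m, Preadditive.add_comp, Category.assoc, ← Functor.map_comp, biprod.inl_fst, biprod.inr_fst]
      simp
    rw [← Category.id_comp (R.map (cokernel.π p)), ← hl, Category.assoc, ← Functor.map_comp, cokernel.condition,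
      Functor.map_zero, comp_zero]
  haveI hQ : Coh.IsQCoh (cokernel p) := (Groth.L00.AlgQCoh.isQCoh_kernel_cokernel p ‹_› hG.1).2
  have hIm : Coh.IsCoh (Abelian.image p) := Groth.L16.CohSupport.isCoh_kernel hG (cokernel.π p)
  obtain ⟨P', i, hi, hP', hepi⟩ := Groth.L29.CohLift.exists_lift (Abelian.factorThruImage p) ‹_› hIm
  haveI := hP'.1
  let p' : P' ⟶ G := i ≫ p
  haveI hK : Coh.IsCoh (kernel p') := Groth.L16.CohSupport.isCoh_kernel hP' p'
  haveI := hK.1
  have hKU : R.map (kernel.ι p') = 0 := by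
    rw [← cancel_mono (R.map i), zero_comp, ← Functor.map_comp, ← cancel_mono (R.map p), zero_comp,
      ← Functor.map_comp, Category.assoc, show i ≫ p = p' from rfl, kernel.condition, Functor.map_zero]
  have hQ' : R.map (cokernel.π p') = 0 := by
    have h0 : p ≫ cokernel.π p' = 0 := by
      rw [← Abelian.image.fac p, Category.assoc]
      have : (i ≫ Abelian.factorThruImage p) ≫ Abelian.image.ι p ≫ cokernel.π p' = 0 := by
        rw [Category.assoc, ← Category.assoc (Abelian.factorThruImage p), Abelian.image.fac,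
          ← Category.assoc, show i ≫ p = p' from rfl, cokernel.condition]
      rw [(cancel_epi (i ≫ Abelian.factorThruImage p)).1 (this.trans comp_zero.symm), comp_zero]
    rw [← cokernel.π_desc p (cokernel.π p') h0, Functor.map_comp, hRe, zero_comp]
  obtain ⟨s, hs⟩ := exists_cover X
  haveI hQ'' : Coh.IsQCoh (cokernel p') := (Groth.L00.AlgQCoh.isQCoh_kernel_cokernel p' hP'.1 hG.1).2
  choose k₁ hk₁ using fun V : X.affineOpens =>
    exists_pow_smul_app_eq_zero hK (kernel.ι p') I hU hKU V.2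
  choose k₂ hk₂ using fun V : X.affineOpens =>
    exists_pow_smul_app_eq_zero hG (cokernel.π p') I hU hQ' V.2
  have hAR : ∀ V : X.affineOpens, ∃ a : ℕ, ∀ t : Γ(P', V.1),
      t ∈ I.ideal V ^ a • (⊤ : Submodule Γ(X, V.1) Γ(P', V.1)) → p'.app V.1 t = 0 → t = 0 := by
    intro V
    haveI : IsNoetherianRing Γ(X, V.1) := IsLocallyNoetherian.component_noetherian V
    haveI := Groth.L20.ModStalk.finite_sections P' hP' V.2
    obtain ⟨c, hc⟩ := Ideal.exists_pow_inf_eq_pow_smul (I.ideal V) (LinearMap.ker (lapp p' V.1))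
    refine ⟨c + k₁ V, fun t ht h0 => ?_⟩
    have ht' : t ∈ I.ideal V ^ (c + k₁ V) • ⊤ ⊓ LinearMap.ker (lapp p' V.1) := ⟨ht, h0⟩
    rw [hc _ (Nat.le_add_right _ _), Nat.add_sub_cancel_left] at ht'
    clear ht h0
    induction ht' using Submodule.smul_induction_on' with
    | smul a ha y hy =>
      obtain ⟨w, rfl⟩ := ((kernel_sections p' V.1).2 y).1 hy.2
      exact hk₁ V a ha w
    | add x _ y _ hx hy => rw [hx, hy, add_zero]
  choose a ha using hAR
  let m := s.sup a
  let k := s.sup k₂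
  haveI := isQCoh_idealMul (I ^ m) P'
  haveI := isQCoh_idealMul (I ^ (m + k)) G
  let b : (Dual3.idealMul (I ^ m)).obj P' ⟶ G := Dual3.idealMulι (I ^ m) P' ≫ p'
  haveI : Coh.IsQCoh (kernel b) := Groth.L18.IdealModule.isQCoh_kernel b
  haveI : Mono b := by
    refine Preadditive.mono_of_kernel_zero (Groth.L20.ResDescent.eq_zero_of_affine _ fun x => ?_)
    obtain ⟨V, hVs, hxV⟩ := hs x
    refine ⟨V.1, V.2, hxV, fun t => ι_app_injective (I ^ m) P' V.1 (Eq.trans ?_ (map_zero _).symm)⟩
    refine ha V _ ?_ ?_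
    · have h2 := (exists_app_eq_iff (I ^ m) P' V.2 _).1 ⟨(kernel.ι b).app V.1 t, rfl⟩
      rw [Scheme.IdealSheafData.ideal_pow, Pi.pow_apply] at h2
      exact Submodule.smul_mono_left (Ideal.pow_le_pow_right (Finset.le_sup hVs)) h2
    · show b.app V.1 ((kernel.ι b).app V.1 t) = 0
      exact ((kernel_sections b V.1).2 _).2 ⟨t, rfl⟩
  haveI : Coh.IsQCoh (cokernel b) := (Groth.L00.AlgQCoh.isQCoh_kernel_cokernel b ‹_› hG.1).2
  have hb : Dual3.idealMulι (I ^ (m + k)) G ≫ cokernel.π b = 0 := by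
    refine Groth.L20.ResDescent.eq_zero_of_affine _ fun x => ?_
    obtain ⟨V, hVs, hxV⟩ := hs x
    refine ⟨V.1, V.2, hxV, fun t => ?_⟩
    have h2 := (exists_app_eq_iff (I ^ (m + k)) G V.2 _).1 ⟨t, rfl⟩
    rw [Scheme.IdealSheafData.ideal_pow, Pi.pow_apply, pow_add, ← smul_eq_mul, Submodule.smul_assoc] at h2
    show (cokernel.π b).app V.1 ((Dual3.idealMulι (I ^ (m + k)) G).app V.1 t) = 0
    generalize (Dual3.idealMulι (I ^ (m + k)) G).app V.1 t = y at h2
    induction h2 using Submodule.smul_induction_on' with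
    | add x _ y _ hx hy => rw [map_add, hx, hy, add_zero]
    | smul r hr z hz =>
      have h3 : z ∈ LinearMap.range (lapp p' V.1) := by
        induction hz using Submodule.smul_induction_on' with
        | add x _ y _ hx hy => exact add_mem hx hy
        | smul r' hr' z' _ =>
          refine mem_range_of_cokernel p' V.2 _ ?_
          rw [Scheme.Modules.Hom.app_smul]
          exact hk₂ V r' (Ideal.pow_le_pow_right (Finset.le_sup hVs) hr') z'
      obtain ⟨w, rfl⟩ := h3
      have h4 : r • w ∈ (I ^ m).ideal V • (⊤ : Submodule Γ(X, V.1) Γ(P', V.1)) := by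
        rw [Scheme.IdealSheafData.ideal_pow, Pi.pow_apply]
        exact Submodule.smul_mem_smul hr Submodule.mem_top
      obtain ⟨v, hv⟩ := (exists_app_eq_iff (I ^ m) P' V.2 _).2 h4
      have h5 : r • lapp p' V.1 w = b.app V.1 v :=
        ((lapp p' V.1).map_smul r w).symm.trans (congrArg (p'.app V.1) hv.symm)
      rw [h5]
      show (b ≫ cokernel.π b).app V.1 v = 0
      rw [cokernel.condition]
      rfl
  let l := Abelian.monoLift b _ hb
  refine ⟨m + k, l ≫ Dual3.idealMulι (I ^ m) P' ≫ i ≫ q, ?_⟩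
  have hlb : l ≫ b = Dual3.idealMulι (I ^ (m + k)) G := Abelian.monoLift_comp b _ hb
  rw [← hlb]
  simp only [b, p', Functor.map_comp, Category.assoc]
  rw [hR]

end Groth.L17.IdealMulExtend
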