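import Groth.Agent.L17.ThickBasic
import Mathlib.AlgebraicGeometry.IdealSheaf.Functorial

/-!
Cartesian squares of completions along inverse image ideals.
-/

set_option autoImplicit false
set_option linter.style.haveILetI false
universe u

open CategoryTheory CategoryTheory.Limits AlgebraicGeometry

noncomputable section

namespace Groth.L17.ComplSquare

variable {X Y : Scheme.{u}} (f : X ⟶ Y) (𝓚 : Y.IdealSheafData)

theorem app_toX (𝓘 : X.IdealSheafData) (h : FSch.PowCompat f 𝓘 𝓚) (n : ℕ) :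
    (FSch.completionMap f 𝓘 𝓚 h : FSch.Hom _ _).app n ≫ FSch.completionToX Y 𝓚 n =
      FSch.completionToX X 𝓘 n ≫ f :=
  Scheme.IdealSheafData.subschemeMap_subschemeι _ _ f (Scheme.IdealSheafData.le_map_iff_comap_le.mpr (h n))

/-- The completion along an inverse image ideal, levelwise. -/
theorem isPullback_level (h : FSch.PowCompat f (𝓚.comap f) 𝓚) (n : ℕ) :
    IsPullback (FSch.completionToX X (𝓚.comap f) n)
      ((FSch.completionMap f (𝓚.comap f) 𝓚 h : FSch.Hom _ _).app n) f (FSch.completionToX Y 𝓚 n) :=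
  haveI : IsClosedImmersion (FSch.completionToX X (𝓚.comap f) n) :=
    inferInstanceAs (IsClosedImmersion ((𝓚.comap f) ^ (n + 1)).subschemeι)
  haveI : IsClosedImmersion (FSch.completionToX Y 𝓚 n) :=
    inferInstanceAs (IsClosedImmersion (𝓚 ^ (n + 1)).subschemeι)
  isPullback_of_isClosedImmersion _ _ _ _
    (Scheme.IdealSheafData.subschemeMap_subschemeι _ _ f (Scheme.IdealSheafData.le_map_iff_comap_le.mpr (h n))).symm
    (((congrArg (fun I => Scheme.IdealSheafData.comap I f) (Scheme.IdealSheafData.ker_subschemeι (𝓚 ^ (n + 1)))).trans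
      (Groth.L17.Thick.comap_pow f 𝓚 (n + 1))).trans (Scheme.IdealSheafData.ker_subschemeι _).symm)

/-- The completion along an inverse image ideal is adic over the base. -/
theorem isAdicHom (h : FSch.PowCompat f (𝓚.comap f) 𝓚) :
    FSch.IsAdicHom (FSch.completionMap f (𝓚.comap f) 𝓚 h) := fun n => by
  refine IsPullback.of_right ?_ ((FSch.completionMap f (𝓚.comap f) 𝓚 h : FSch.Hom _ _).comm n).symm
    (isPullback_level f 𝓚 h (n + 1))
  rw [show (FSch.completionAlong X (𝓚.comap f)).ι n ≫ FSch.completionToX X (𝓚.comap f) (n + 1) = _ from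
      Scheme.IdealSheafData.inclusion_subschemeι _,
    show (FSch.completionAlong Y 𝓚).ι n ≫ FSch.completionToX Y 𝓚 (n + 1) = _ from
      Scheme.IdealSheafData.inclusion_subschemeι _]
  exact isPullback_level f 𝓚 h n

/-- Levelwise cartesian squares of systems are cartesian. -/
theorem isPullback_of_levelwise {𝔓 𝔛 𝔜 𝔖 : FSch.Sys.{u}} {p : 𝔓 ⟶ 𝔛} {q : 𝔓 ⟶ 𝔜} {f : 𝔛 ⟶ 𝔖} {g : 𝔜 ⟶ 𝔖}
    (hl : ∀ n, IsPullback ((p : FSch.Hom _ _).app n) ((q : FSch.Hom _ _).app n) ((f : FSch.Hom _ _).app n)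
      ((g : FSch.Hom _ _).app n)) : IsPullback p q f g := by
  refine IsPullback.of_isLimit' ⟨FSch.Hom.ext (funext fun n => (hl n).w)⟩ ?_
  have hc : ∀ (s : PullbackCone f g) (n : ℕ),
      (s.fst : FSch.Hom _ _).app n ≫ (f : FSch.Hom _ _).app n =
        (s.snd : FSch.Hom _ _).app n ≫ (g : FSch.Hom _ _).app n := fun s n =>
    congrArg (fun φ : s.pt ⟶ 𝔖 => (φ : FSch.Hom _ _).app n) s.condition
  refine PullbackCone.IsLimit.mk _ (fun s => ⟨fun n => (hl n).lift _ _ (hc s n), fun n => ?_⟩)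
    (fun s => FSch.Hom.ext (funext fun n => (hl n).lift_fst _ _ _))
    (fun s => FSch.Hom.ext (funext fun n => (hl n).lift_snd _ _ _))
    (fun s m h1 h2 => FSch.Hom.ext (funext fun n => (hl n).hom_ext ?_ ?_))
  · refine (hl (n + 1)).hom_ext ?_ ?_
    · rw [Category.assoc, ← (p : FSch.Hom _ _).comm n, ← Category.assoc, (hl n).lift_fst, Category.assoc,
        (hl (n + 1)).lift_fst]
      exact (s.fst : FSch.Hom _ _).comm n
    · rw [Category.assoc, ← (q : FSch.Hom _ _).comm n, ← Category.assoc, (hl n).lift_snd, Category.assoc,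
        (hl (n + 1)).lift_snd]
      exact (s.snd : FSch.Hom _ _).comm n
  · exact (congrArg (fun φ : s.pt ⟶ 𝔛 => (φ : FSch.Hom _ _).app n) h1).trans ((hl n).lift_fst _ _ _).symm
  · exact (congrArg (fun φ : s.pt ⟶ 𝔜 => (φ : FSch.Hom _ _).app n) h2).trans ((hl n).lift_snd _ _ _).symm

/-- Completion of a fibre product along the inverse image of an ideal from the first factor. -/
theorem isPullback_completion {S : Scheme.{u}} (g : X ⟶ S) (h : Y ⟶ S) (𝓡 : X.IdealSheafData)
    (𝓙 : S.IdealSheafData) (hg : FSch.PowCompat g 𝓡 𝓙) (hh : FSch.PowCompat h (𝓙.comap h) 𝓙)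
    (hp : FSch.PowCompat (pullback.fst g h) (𝓡.comap (pullback.fst g h)) 𝓡)
    (hq : FSch.PowCompat (pullback.snd g h) (𝓡.comap (pullback.fst g h)) (𝓙.comap h)) :
    IsPullback (FSch.completionMap (pullback.fst g h) (𝓡.comap (pullback.fst g h)) 𝓡 hp)
      (FSch.completionMap (pullback.snd g h) (𝓡.comap (pullback.fst g h)) (𝓙.comap h) hq)
      (FSch.completionMap g 𝓡 𝓙 hg) (FSch.completionMap h (𝓙.comap h) 𝓙 hh) := by
  refine isPullback_of_levelwise fun n => ?_
  have e1 := (isPullback_level (pullback.fst g h) 𝓡 hp n).flip.paste_vert (IsPullback.of_hasPullback g h)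
  refine IsPullback.of_bot ?_ ?_ (isPullback_level h 𝓙 hh n).flip
  · rw [app_toX (pullback.snd g h) (𝓙.comap h) _ hq n, app_toX g 𝓙 𝓡 hg n]
    exact e1
  · haveI : Mono (FSch.completionToX S 𝓙 n) := inferInstanceAs (Mono (𝓙 ^ (n + 1)).subschemeι)
    rw [← cancel_mono (FSch.completionToX S 𝓙 n), Category.assoc, Category.assoc, app_toX g 𝓙 𝓡 hg n,
      app_toX h 𝓙 _ hh n, ← Category.assoc, app_toX (pullback.fst g h) 𝓡 _ hp n, ← Category.assoc,
      app_toX (pullback.snd g h) (𝓙.comap h) _ hq n, Category.assoc, Category.assoc, pullback.condition]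

end Groth.L17.ComplSquare
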