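import Groth.Agent.L21.RR.Coh
import Groth.Agent.L21.Mod.Stalks
import Mathlib.AlgebraicGeometry.Noetherian
import Mathlib.Topology.NoetherianSpace
import Mathlib.Topology.Sober

/-!
Finitely many sections of a (not necessarily quasi-coherent) ideal subsheaf generate all stalks.
-/

set_option autoImplicit false
set_option linter.style.haveILetI false
set_option backward.isDefEq.respectTransparency false

universe u

open CategoryTheory CategoryTheory.Limits AlgebraicGeometry TopologicalSpace Opposite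

noncomputable section

namespace Groth.L17.StalkGen

variable {X : Scheme.{u}} {G : X.Modules} (ι : G ⟶ Coh.structureModule X)

/-- the stalk of the structure module -/
def e (X : Scheme.{u}) (x : X) : X.presheaf.stalk x ≃ₗ[X.presheaf.stalk x] (Coh.structureModule X).presheaf.stalk x :=
  LinearEquiv.ofBijective (LinearMap.toSpanSingleton (X.presheaf.stalk x) _ (Groth.L21.RR.one X x))
    (Groth.L21.RR.bijective_smul_one x)

/-- the stalk of an ideal sheaf in the local ring -/
def θ (x : X) : G.presheaf.stalk x →ₗ[X.presheaf.stalk x] X.presheaf.stalk x :=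
  (e X x).symm.toLinearMap.comp ((Groth.L00.Stk.F X x).map ι).hom

theorem θ_injective [Mono ι] (x : X) : Function.Injective (θ ι x) := fun a b h =>
  (ModuleCat.mono_iff_injective _).1 (inferInstance : Mono ((Groth.L00.Stk.F X x).map ι))
    ((e X x).symm.injective h)

theorem θ_germ {V : X.Opens} {x : X} (hx : x ∈ V) (s : Γ(G, V)) :
    θ ι x (G.presheaf.germ V x hx s) = X.presheaf.germ V x hx (show Γ(X, V) from ι.app V s) := by
  refine (LinearEquiv.symm_apply_eq _).2 ?_
  have h1 : ((Groth.L00.Stk.F X x).map ι).hom (G.presheaf.germ V x hx s) =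
      (Coh.structureModule X).presheaf.germ V x hx (ι.app V s) :=
    Groth.L21.Mod.stalkF_map_germ ι V x hx s
  refine h1.trans ?_
  show _ = X.presheaf.germ V x hx (show Γ(X, V) from ι.app V s) • Groth.L21.RR.one X x
  rw [show Groth.L21.RR.one X x = (Coh.structureModule X).presheaf.germ V x hx
      ((Coh.structureModule X).presheaf.map (homOfLE (le_top : V ≤ ⊤)).op (Groth.L21.RR.oneSec X)) from
      ((Coh.structureModule X).presheaf.germ_res_apply (homOfLE (le_top : V ≤ ⊤)) x hx _).symm,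
    ← Groth.L20.ModStalk.germ_smul]
  congr 1
  show _ = (show Γ(X, V) from ι.app V s) * (X.presheaf.map (homOfLE (le_top : V ≤ ⊤)).op 1)
  rw [map_one, mul_one]

/-- a finite family of sections -/
abbrev Fam (G : X.Modules) : Type u := Σ U : X.Opens, Γ(G, U)

/-- its germs at `x` -/
def germs (S : Finset (Fam G)) (x : X) : Set (G.presheaf.stalk x) :=
  {g | ∃ p ∈ S, ∃ h : x ∈ p.1, g = G.presheaf.germ p.1 x h p.2}

theorem germs_mono {S T : Finset (Fam G)} (h : S ⊆ T) (x : X) : germs S x ⊆ germs T x :=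
  fun _ ⟨p, hp, h'⟩ => ⟨p, h hp, h'⟩

theorem step [Mono ι] [IsLocallyNoetherian X] (ξ : X) : ∃ (S : Finset (Fam G)) (W : X.Opens), ξ ∈ W ∧
    ∀ x ∈ W, ξ ⤳ x → Submodule.span (X.presheaf.stalk x) (germs S x) = ⊤ := by
  classical
  haveI : IsNoetherian (X.presheaf.stalk ξ) (G.presheaf.stalk ξ) :=
    isNoetherian_of_injective (θ ι ξ) (θ_injective ι ξ)
  obtain ⟨B, hB⟩ := (IsNoetherian.noetherian (⊤ : Submodule (X.presheaf.stalk ξ) (G.presheaf.stalk ξ)))
  choose N hN σ hσ using fun g : G.presheaf.stalk ξ => TopCat.Presheaf.exists_germ_eq G.presheaf g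
  have hBN : ∀ s : Finset (G.presheaf.stalk ξ), ξ ∈ s.inf N := fun s => by
    induction s using Finset.induction_on with
    | empty => exact trivial
    | insert a s _ ih => rw [Finset.inf_insert]; exact ⟨hN a, ih⟩
  obtain ⟨U, hU, hξU, hUle⟩ := exists_isAffineOpen_mem_and_subset (x := ξ) (U := B.inf N) (hBN B)
  have hle : ∀ g ∈ B, U ≤ N g := fun g hg => le_trans hUle (Finset.inf_le hg)
  let sec : ↥B → Γ(G, U) := fun g => G.presheaf.map (homOfLE (hle g.1 g.2)).op (σ g.1)
  let S : Finset (Fam G) := Finset.univ.image fun g : ↥B => (⟨U, sec g⟩ : Fam G)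
  let A := Γ(X, U)
  haveI : IsNoetherianRing A := IsLocallyNoetherian.component_noetherian ⟨U, hU⟩
  let a : ↥B → A := fun g => ι.app U (sec g)
  let I : Ideal A := Ideal.span (Set.range a)
  letI := X.presheaf.algebra_section_stalk (U := U) ⟨ξ, hξU⟩
  haveI := hU.isLocalization_stalk ⟨ξ, hξU⟩
  let P := (hU.primeIdealOf ⟨ξ, hξU⟩).asIdeal
  let I' : Ideal A := (I.map (X.presheaf.germ U ξ hξU).hom).comap (X.presheaf.germ U ξ hξU).hom
  have hI' : ∀ b ∈ I', ∃ t ∈ P.primeCompl, t * b ∈ I := fun b hb => by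
    obtain ⟨⟨⟨c, hc⟩, ⟨m, hm⟩⟩, h⟩ := (IsLocalization.mem_map_algebraMap_iff P.primeCompl (X.presheaf.stalk ξ)).1
      (show algebraMap A (X.presheaf.stalk ξ) b ∈ I.map (algebraMap A (X.presheaf.stalk ξ)) from hb)
    rw [← map_mul] at h
    obtain ⟨⟨e, he⟩, hec⟩ := (IsLocalization.eq_iff_exists P.primeCompl (X.presheaf.stalk ξ)).1 h
    refine ⟨e * m, P.primeCompl.mul_mem he hm, ?_⟩
    rw [mul_comm b m, ← mul_assoc] at hec
    exact hec ▸ I.mul_mem_left e hc
  obtain ⟨T, hT⟩ := IsNoetherian.noetherian I'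
  choose t ht htI using hI'
  let t₀ : A := ∏ b ∈ T.attach, t b.1 (hT ▸ Submodule.subset_span b.2)
  have ht₀ : t₀ ∈ P.primeCompl := prod_mem fun b _ => ht _ _
  have htI' : ∀ b ∈ I', t₀ * b ∈ I := fun b hb => by
    rw [← hT] at hb
    induction hb using Submodule.span_induction with
    | mem b hb =>
      obtain ⟨r, hr⟩ : t b (hT ▸ Submodule.subset_span hb) ∣ t₀ :=
        Finset.dvd_prod_of_mem (fun b : T => t b.1 (hT ▸ Submodule.subset_span b.2)) (Finset.mem_attach T ⟨b, hb⟩)
      rw [hr, mul_right_comm]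
      exact I.mul_mem_right r (htI _ _)
    | zero => simp
    | add x y _ _ hx hy => rw [mul_add]; exact add_mem hx hy
    | smul r x _ hx => rw [smul_eq_mul, ← mul_assoc, mul_comm t₀ r, mul_assoc]; exact I.mul_mem_left r hx
  refine ⟨S, X.basicOpen t₀, (X.mem_basicOpen t₀ ξ hξU).2 (IsLocalization.map_units (X.presheaf.stalk ξ) (⟨t₀, ht₀⟩ : P.primeCompl)),
    fun x hx hspec => ?_⟩
  have hxU : x ∈ U := X.basicOpen_le t₀ hx
  have hmem : ∀ g : ↥B, G.presheaf.germ U x hxU (sec g) ∈ germs S x := fun g =>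
    ⟨_, Finset.mem_image_of_mem _ (Finset.mem_univ g), hxU, rfl⟩
  have hξgen : ∀ (V : X.Opens) (hV : ξ ∈ V) (s : Γ(G, V)),
      X.presheaf.germ V ξ hV (show Γ(X, V) from ι.app V s) ∈ I.map (X.presheaf.germ U ξ hξU).hom := fun V hV s => by
    rw [← θ_germ ι hV s]
    generalize G.presheaf.germ V ξ hV s = m
    have hm : m ∈ Submodule.span (X.presheaf.stalk ξ) (B : Set _) := hB ▸ Submodule.mem_top
    induction hm using Submodule.span_induction with
    | mem g hg =>
      have hg' : g = G.presheaf.germ U ξ hξU (sec ⟨g, hg⟩) :=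
        (hσ g).symm.trans (G.presheaf.germ_res_apply (homOfLE (hle g hg)) ξ hξU (σ g)).symm
      rw [hg', θ_germ]
      exact Ideal.mem_map_of_mem _ (Ideal.subset_span ⟨⟨g, hg⟩, rfl⟩)
    | zero => rw [map_zero]; exact zero_mem _
    | add x y _ _ hx hy => rw [map_add]; exact add_mem hx hy
    | smul r x _ hx => rw [map_smul, smul_eq_mul]; exact Ideal.mul_mem_left _ r hx
  refine top_le_iff.1 fun g _ => ?_
  let J : Ideal (X.presheaf.stalk x) := (Submodule.span (X.presheaf.stalk x) (germs S x)).map (θ ι x)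
  suffices h : θ ι x g ∈ J by
    obtain ⟨g', hg', he⟩ := h
    exact θ_injective ι x he ▸ hg'
  have hIJ : I.map (X.presheaf.germ U x hxU).hom ≤ J := by
    refine Ideal.map_le_iff_le_comap.2 (Ideal.span_le.2 ?_)
    rintro _ ⟨b, rfl⟩
    exact ⟨_, Submodule.subset_span (hmem b), θ_germ ι hxU _⟩
  letI := X.presheaf.algebra_section_stalk (U := U) ⟨x, hxU⟩
  haveI := hU.isLocalization_stalk ⟨x, hxU⟩
  obtain ⟨⟨b, s⟩, hbs⟩ := IsLocalization.surj (hU.primeIdealOf ⟨x, hxU⟩).asIdeal.primeCompl (θ ι x g)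
  have hbs' : θ ι x g * X.presheaf.germ U x hxU (s : A) = X.presheaf.germ U x hxU b := hbs
  have hb : b ∈ I' := by
    obtain ⟨V, hxV, σ', rfl⟩ := TopCat.Presheaf.exists_germ_eq G.presheaf g
    rw [θ_germ] at hbs'
    have h2 := congrArg (X.presheaf.stalkSpecializes hspec).hom hbs'
    simp only [map_mul] at h2
    erw [X.presheaf.germ_stalkSpecializes_apply, X.presheaf.germ_stalkSpecializes_apply,
      X.presheaf.germ_stalkSpecializes_apply] at h2
    show X.presheaf.germ U ξ hξU b ∈ I.map (X.presheaf.germ U ξ hξU).hom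
    rw [← h2]
    exact Ideal.mul_mem_right _ _ (hξgen V _ σ')
  have h3 := hIJ (Ideal.mem_map_of_mem (X.presheaf.germ U x hxU).hom (htI' b hb))
  rw [map_mul, Ideal.unit_mul_mem_iff_mem _ ((X.mem_basicOpen t₀ x hxU).1 hx), ← hbs'] at h3
  have hu : IsUnit (X.presheaf.germ U x hxU (s : A)) := IsLocalization.map_units (X.presheaf.stalk x) s
  exact (J.mul_unit_mem_iff_mem hu).1 h3

theorem exists_fam [Mono ι] [IsNoetherian X] :
    ∃ S : Finset (Fam G), ∀ x : X, Submodule.span (X.presheaf.stalk x) (germs S x) = ⊤ := by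
  classical
  suffices h : ∀ Z : Closeds X, ∃ S : Finset (Fam G), ∀ x ∈ Z, Submodule.span (X.presheaf.stalk x) (germs S x) = ⊤ by
    obtain ⟨S, hS⟩ := h ⊤
    exact ⟨S, fun x => hS x trivial⟩
  intro Z
  apply (wellFounded_lt (α := Closeds X)).induction Z
  clear Z
  intro Z IH
  rcases eq_or_ne Z ⊥ with rfl | h₀
  · exact ⟨∅, fun x hx => absurd hx (Set.notMem_empty x)⟩
  by_cases h₁ : IsPreirreducible (Z : Set X)
  · have hirr : IsIrreducible (Z : Set X) := ⟨Closeds.coe_nonempty.2 h₀, h₁⟩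
    have hgen := hirr.isGenericPoint_genericPoint Z.isClosed
    obtain ⟨S, W, hξW, hW⟩ := step ι hirr.genericPoint
    let Z' : Closeds X := ⟨(Z : Set X) \ W, Z.isClosed.sdiff W.2⟩
    obtain ⟨S', hS'⟩ := IH Z' (lt_of_le_of_ne (fun z hz => hz.1) fun h =>
      ((SetLike.ext_iff.1 h hirr.genericPoint).2 hgen.mem).2 hξW)
    refine ⟨S ∪ S', fun x hx => top_le_iff.1 ?_⟩
    by_cases hxW : x ∈ W
    · exact (hW x hxW (hgen.specializes hx)).ge.trans (Submodule.span_mono (germs_mono Finset.subset_union_left x))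
    · exact (hS' x ⟨hx, hxW⟩).ge.trans (Submodule.span_mono (germs_mono Finset.subset_union_right x))
  · simp only [isPreirreducible_iff_isClosed_union_isClosed, not_forall, not_or] at h₁
    obtain ⟨z₁, z₂, hz₁, hz₂, h, hz₁', hz₂'⟩ := h₁
    lift z₁ to Closeds X using hz₁
    lift z₂ to Closeds X using hz₂
    obtain ⟨S₁, h₁⟩ := IH (Z ⊓ z₁) (inf_lt_left.2 hz₁')
    obtain ⟨S₂, h₂⟩ := IH (Z ⊓ z₂) (inf_lt_left.2 hz₂')
    refine ⟨S₁ ∪ S₂, fun x hx => top_le_iff.1 ?_⟩
    rcases h hx with hx' | hx'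
    · exact (h₁ x ⟨hx, hx'⟩).ge.trans (Submodule.span_mono (germs_mono Finset.subset_union_left x))
    · exact (h₂ x ⟨hx, hx'⟩).ge.trans (Submodule.span_mono (germs_mono Finset.subset_union_right x))

end Groth.L17.StalkGen
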