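import Groth.Agent.L17.HomAcyclic

/-!
Internal hom out of a module with local bases, on a small ringed site.
-/

set_option autoImplicit false
set_option backward.isDefEq.respectTransparency false

universe u

open CategoryTheory CategoryTheory.Limits MonoidalCategory Opposite TensorProduct

namespace Groth.L17.LocBases

open Groth.L00.ModSiteTensor Groth.L17.HomAcyclic

variable {C : Type u} [SmallCategory C] {J : GrothendieckTopology C} {O : Sheaf J CommRingCat.{u}}

/-- The ring of sections over `W`. -/
abbrev Rg (O : Sheaf J CommRingCat.{u}) (W : C) : Type u := O.obj.obj (op W)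

/-- The sections over `W`. -/
abbrev Sec (P : PMo O) (W : C) : Type u := P.obj (op W)

noncomputable instance (P : PMo O) (W : C) : Module (Rg O W) (Sec P W) :=
  inferInstanceAs (Module ((O.obj ⋙ forget₂ CommRingCat RingCat).obj (op W)) (P.obj (op W)))

/-- Restriction of sections. -/
noncomputable abbrev res (P : PMo O) {W' W : C} (g : W' ⟶ W) (x : Sec P W) : Sec P W' := P.map g.op x

/-- Restriction of functions. -/
abbrev resR (O : Sheaf J CommRingCat.{u}) {W' W : C} (g : W' ⟶ W) (r : Rg O W) : Rg O W' :=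
  O.obj.map g.op r

theorem res_smul (P : PMo O) {W' W : C} (g : W' ⟶ W) (r : Rg O W) (x : Sec P W) :
    res P g (r • x) = resR O g r • res P g x :=
  P.map_smul g.op r x

theorem res_comp (P : PMo O) {W'' W' W : C} (h : W'' ⟶ W') (g : W' ⟶ W) (x : Sec P W) :
    res P h (res P g x) = res P (h ≫ g) x :=
  (ConcreteCategory.congr_hom (P.presheaf.map_comp g.op h.op) x).symm

theorem res_id (P : PMo O) {W : C} (x : Sec P W) : res P (𝟙 W) x = x :=
  ConcreteCategory.congr_hom (P.presheaf.map_id (op W)) x

theorem res_sum (P : PMo O) {W' W : C} (g : W' ⟶ W) {ι : Type*} (t : Finset ι) (x : ι → Sec P W) :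
    res P g (∑ i ∈ t, x i) = ∑ i ∈ t, res P g (x i) :=
  map_sum (P.map g.op).hom _ _

theorem app_smul {P Q : PMo O} (a : P ⟶ Q) (W : C) (r : Rg O W) (x : Sec P W) :
    (a.app (op W) (r • x) : Sec Q W) = r • (a.app (op W) x : Sec Q W) :=
  (a.app (op W)).hom.map_smul r x

/-- The tensor of two sections. -/
noncomputable abbrev tm {P Q : PMo O} {W : C} (x : Sec P W) (y : Sec Q W) : Sec (P ⊗ Q) W :=
  x ⊗ₜ[Rg O W] y

theorem res_tm {P Q : PMo O} {W' W : C} (g : W' ⟶ W) (x : Sec P W) (y : Sec Q W) :
    res (P ⊗ Q) g (tm x y) = tm (res P g x) (res Q g y) := rfl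

theorem smul_tm {P Q : PMo O} {W : C} (r : Rg O W) (x : Sec P W) (y : Sec Q W) :
    tm (r • x) y = r • tm x y :=
  (TensorProduct.smul_tmul' r x y).symm

theorem tm_smul {P Q : PMo O} {W : C} (r : Rg O W) (x : Sec P W) (y : Sec Q W) :
    tm x (r • y) = r • tm x y :=
  TensorProduct.tmul_smul r x y

/-- A basis of `F` over `W`, compatible with restriction. -/
def IsBasis (F : ModSite.Mod O) {W : C} {n : ℕ} (s : Fin n → Sec ((preF O).obj F) W) : Prop :=
  ∀ (W' : C) (g : W' ⟶ W), Function.Bijective fun r : Fin n → Rg O W' =>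
    ∑ i, r i • res ((preF O).obj F) g (s i)

/-- `F` has bases locally on every object. -/
def HasLocBases (F : ModSite.Mod O) : Prop :=
  ∀ V : C, ∃ S ∈ J V, ∀ (W : C) (g : W ⟶ V), S g →
    ∃ (n : ℕ) (s : Fin n → Sec ((preF O).obj F) W), IsBasis F s

theorem IsBasis.res {F : ModSite.Mod O} {W : C} {n : ℕ} {s : Fin n → Sec ((preF O).obj F) W} (h : IsBasis F s)
    {W' : C} (g : W' ⟶ W) : IsBasis F fun i => Groth.L17.LocBases.res ((preF O).obj F) g (s i) := fun W'' g' => by
  simp only [res_comp]
  exact h W'' (g' ≫ g)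

variable (F : ModSite.Mod O) [ModSite.HasSheafHom F]

/-- The internal hom out of `F`. -/
noncomputable abbrev G : ModSite.Mod O ⥤ ModSite.Mod O := ModSite.sheafHom F

/-- Maps into `Hom(F, B)` are bilinear maps, on presheaves. -/
noncomputable def ψ (B : ModSite.Mod O) (P : PMo O) :
    (P ⟶ (preF O).obj ((G F).obj B)) ≃+ (P ⊗ (preF O).obj F ⟶ (preF O).obj B) :=
  (shfEquiv O ((G F).obj B) P).trans ((tensEquiv O F B P).trans (shfEquiv O B (P ⊗ (preF O).obj F)).symm)

theorem ψ_natural (B : ModSite.Mod O) {P Q : PMo O} (a : P ⟶ Q) (w : Q ⟶ (preF O).obj ((G F).obj B)) :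
    ψ F B P (a ≫ w) = a ▷ (preF O).obj F ≫ ψ F B Q w :=
  ((congrArg (fun v => (shfEquiv O B (P ⊗ (preF O).obj F)).symm (tensEquiv O F B P v))
    (shfEquiv_natural O _ a w)).trans
    (congrArg (shfEquiv O B (P ⊗ (preF O).obj F)).symm (tensEquiv_natural O F B a _))).trans
    ((shfAdj O).homEquiv_naturality_left (a ▷ (preF O).obj F) _)

theorem ψ_natural_right {B B' : ModSite.Mod O} (g : B ⟶ B') (P : PMo O) (w : P ⟶ (preF O).obj ((G F).obj B)) :
    ψ F B' P (w ≫ (preF O).map ((G F).map g)) = ψ F B P w ≫ (preF O).map g := by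
  have h1 : shfEquiv O _ P (w ≫ (preF O).map ((G F).map g)) = shfEquiv O _ P w ≫ (G F).map g :=
    (shfAdj O).homEquiv_naturality_right_symm w ((G F).map g)
  have h2 : tensEquiv O F B' P (shfEquiv O _ P w ≫ (G F).map g) = tensEquiv O F B P (shfEquiv O _ P w) ≫ g :=
    (congrArg (fun v => (shfCompIso F).inv.app P ≫ v)
      ((ModSite.sheafHomAdj F).homEquiv_naturality_right_symm (shfEquiv O _ P w) g)).trans (Category.assoc _ _ _).symm
  exact ((congrArg (fun v => (shfEquiv O B' (P ⊗ (preF O).obj F)).symm (tensEquiv O F B' P v)) h1).trans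
    (congrArg (shfEquiv O B' (P ⊗ (preF O).obj F)).symm h2)).trans
    ((shfAdj O).homEquiv_naturality_right _ g)

/-- The evaluation, on presheaves. -/
noncomputable def evp (B : ModSite.Mod O) : (preF O).obj ((G F).obj B) ⊗ (preF O).obj F ⟶ (preF O).obj B :=
  ψ F B _ (𝟙 _)

theorem ψ_eq (B : ModSite.Mod O) {P : PMo O} (w : P ⟶ (preF O).obj ((G F).obj B)) :
    ψ F B P w = w ▷ (preF O).obj F ≫ evp F B := by
  rw [evp, ← ψ_natural, Category.comp_id]

/-- Evaluation of a section of `Hom(F, B)` on a section of `F`. -/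
noncomputable def ev {B : ModSite.Mod O} {W : C} (φ : Sec ((preF O).obj ((G F).obj B)) W)
    (e : Sec ((preF O).obj F) W) : Sec ((preF O).obj B) W :=
  (evp F B).app (op W) (tm φ e)

theorem ψ_app {B : ModSite.Mod O} {P : PMo O} (w : P ⟶ (preF O).obj ((G F).obj B)) {W : C} (x : Sec P W)
    (e : Sec ((preF O).obj F) W) :
    ((ψ F B P w).app (op W) (tm x e) : Sec ((preF O).obj B) W) = ev F (w.app (op W) x) e := by
  rw [ψ_eq]
  rfl

theorem ev_res {B : ModSite.Mod O} {W' W : C} (g : W' ⟶ W) (φ : Sec ((preF O).obj ((G F).obj B)) W)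
    (e : Sec ((preF O).obj F) W) :
    res ((preF O).obj B) g (ev F φ e) = ev F (res _ g φ) (res _ g e) :=
  (PresheafOfModules.naturality_apply (evp F B) g.op (tm φ e)).symm.trans
    (congrArg ((evp F B).app (op W')) (res_tm g φ e))

theorem ev_map {B B' : ModSite.Mod O} (g : B ⟶ B') {W : C} (φ : Sec ((preF O).obj ((G F).obj B)) W)
    (e : Sec ((preF O).obj F) W) :
    ev F (((preF O).map ((G F).map g)).app (op W) φ) e = ((preF O).map g).app (op W) (ev F φ e) := by
  have h := ψ_natural_right F g _ (𝟙 ((preF O).obj ((G F).obj B)))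
  rw [Category.id_comp, ψ_eq] at h
  exact congrArg (fun k : _ ⊗ (preF O).obj F ⟶ (preF O).obj B' => k.app (op W) (tm φ e)) h

theorem ev_smul_right {B : ModSite.Mod O} {W : C} (r : Rg O W) (φ : Sec ((preF O).obj ((G F).obj B)) W)
    (e : Sec ((preF O).obj F) W) : ev F φ (r • e) = r • ev F φ e :=
  (congrArg ((evp F B).app (op W)) (tm_smul r φ e)).trans (app_smul _ _ _ _)

theorem ev_smul_left {B : ModSite.Mod O} {W : C} (r : Rg O W) (φ : Sec ((preF O).obj ((G F).obj B)) W)
    (e : Sec ((preF O).obj F) W) : ev F (r • φ) e = r • ev F φ e :=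
  (congrArg ((evp F B).app (op W)) (smul_tm r φ e)).trans (app_smul _ _ _ _)

theorem ev_add_left {B : ModSite.Mod O} {W : C} (φ φ' : Sec ((preF O).obj ((G F).obj B)) W)
    (e : Sec ((preF O).obj F) W) : ev F (φ + φ') e = ev F φ e + ev F φ' e :=
  (congrArg ((evp F B).app (op W)) (TensorProduct.add_tmul φ φ' e)).trans (map_add _ _ _)

theorem ev_sum_right {B : ModSite.Mod O} {W : C} (φ : Sec ((preF O).obj ((G F).obj B)) W) {ι : Type*}
    (t : Finset ι) (e : ι → Sec ((preF O).obj F) W) : ev F φ (∑ i ∈ t, e i) = ∑ i ∈ t, ev F φ (e i) :=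
  (congrArg ((evp F B).app (op W)) (TensorProduct.tmul_sum φ t e)).trans (map_sum _ _ _)

theorem ev_sum_left {B : ModSite.Mod O} {W : C} {ι : Type*} (t : Finset ι)
    (φ : ι → Sec ((preF O).obj ((G F).obj B)) W) (e : Sec ((preF O).obj F) W) :
    ev F (∑ i ∈ t, φ i) e = ∑ i ∈ t, ev F (φ i) e :=
  (congrArg ((evp F B).app (op W)) (TensorProduct.sum_tmul t φ e)).trans (map_sum _ _ _)

section Coord

variable {F}
variable {B : ModSite.Mod O} {W : C} {n : ℕ} {s : Fin n → Sec ((preF O).obj F) W}

/-- The free presheaf of modules on a representable. -/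
noncomputable abbrev yfree (O : Sheaf J CommRingCat.{u}) (W : C) : PMo O :=
  (PresheafOfModules.free (O.obj ⋙ forget₂ CommRingCat RingCat)).obj (yoneda.obj W)

/-- The map out of a representable attached to a section. -/
noncomputable def wOf {P : PMo O} (x : Sec P W) : yfree O W ⟶ P :=
  PresheafOfModules.freeHomEquiv.symm (yonedaEquiv.symm x)

/-- A generator. -/
noncomputable abbrev gen {W' : C} (g : W' ⟶ W) : Sec (yfree O W) W' :=
  Finsupp.single g (1 : Rg O W')

theorem res_gen {W'' W' : C} (h : W'' ⟶ W') (g : W' ⟶ W) :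
    res (yfree O W) h (gen g) = gen (h ≫ g) :=
  ModuleCat.freeDesc_apply _ _

theorem wOf_gen {P : PMo O} (x : Sec P W) {W' : C} (g : W' ⟶ W) :
    ((wOf x).app (op W') (gen g) : Sec P W') = res P g x :=
  ModuleCat.freeDesc_apply _ _

/-- A hom out of a representable is determined by the generator. -/
theorem yfree_ext {P : PMo O} {a b : yfree O W ⟶ P}
    (h : (a.app (op W) (gen (𝟙 W)) : Sec P W) = b.app (op W) (gen (𝟙 W))) : a = b := by
  refine PresheafOfModules.hom_ext fun V => ModuleCat.free_hom_ext fun g => ?_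
  have key : ∀ c : yfree O W ⟶ P, (c.app V (gen g) : Sec P V.unop) = res P g (c.app (op W) (gen (𝟙 W))) := fun c => by
    refine Eq.trans ?_ (PresheafOfModules.naturality_apply c g.op (gen (𝟙 W)))
    refine congrArg (c.app V) ?_
    exact ((res_gen g (𝟙 W)).trans (by rw [Category.comp_id])).symm
  exact (key a).trans ((congrArg (res P g) h).trans (key b).symm)

theorem eq_sum_of_isBasis (hs : IsBasis F s) {W' : C} (g : W' ⟶ W) (e : Sec ((preF O).obj F) W') :
    ∃ r : Fin n → Rg O W', ∑ i, r i • res ((preF O).obj F) g (s i) = e :=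
  (hs W' g).2 e

theorem injective_coord (hs : IsBasis F s) :
    Function.Injective fun (φ : Sec ((preF O).obj ((G F).obj B)) W) i => ev F φ (s i) := fun φ φ' h => by
  have key : wOf φ = wOf φ' := by
    apply (ψ F B (yfree O W)).injective
    refine PresheafOfModules.hom_ext fun V => ModuleCat.MonoidalCategory.tensor_ext fun x e => ?_
    refine (ψ_app F (wOf φ) (W := V.unop) x e).trans (Eq.trans ?_ (ψ_app F (wOf φ') (W := V.unop) x e).symm)
    induction x using Finsupp.induction_linear with
    | zero =>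
      exact congrArg (fun t => ev F t e) ((map_zero _).trans (map_zero _).symm)
    | add x y hx hy =>
      exact ((congrArg (fun t => ev F t e) (map_add _ x y)).trans
        ((ev_add_left F _ _ e).trans ((congrArg₂ (· + ·) hx hy).trans (ev_add_left F _ _ e).symm))).trans
        (congrArg (fun t => ev F t e) (map_add _ x y)).symm
    | single g r =>
      have hsingle : (Finsupp.single g r : Sec (yfree O W) V.unop) = r • gen g := by
        exact ((Finsupp.smul_single' r g (1 : Rg O V.unop)).trans (by rw [mul_one])).symm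
      obtain ⟨c, rfl⟩ := eq_sum_of_isBasis hs g e
      have key : ∀ θ : Sec ((preF O).obj ((G F).obj B)) W,
          ev F ((wOf θ).app (op V.unop) (Finsupp.single g r : Sec (yfree O W) V.unop))
              (∑ i, c i • res ((preF O).obj F) g (s i)) =
            r • ∑ i, c i • res ((preF O).obj B) g (ev F θ (s i)) := fun θ => by
        refine (congrArg (fun t => ev F t _) ((congrArg ((wOf θ).app (op V.unop)) hsingle).trans
          ((app_smul (wOf θ) V.unop r (gen g)).trans (congrArg (r • ·) (wOf_gen θ g))))).trans ?_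
        refine (ev_smul_left F r _ _).trans (congrArg (r • ·) ((ev_sum_right F _ _ _).trans ?_))
        exact Finset.sum_congr rfl fun i _ =>
          (ev_smul_right F (c i) _ _).trans (congrArg (c i • ·) (ev_res F g θ (s i)).symm)
      exact ((key φ).trans (congrArg (fun f : Fin n → Sec ((preF O).obj B) W =>
        r • ∑ i, c i • res ((preF O).obj B) g (f i)) h)).trans (key φ').symm
  have := congrArg (fun a : yfree O W ⟶ _ => a.app (op W) (gen (𝟙 W))) key
  simp only [wOf_gen, res_id] at this
  exact this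

/-- Linear combinations of given sections. -/
noncomputable abbrev lc {P : PMo O} {W' : C} {m : ℕ} (v : Fin m → Sec P W') : (Fin m → Rg O W') →ₗ[Rg O W'] Sec P W' :=
  Fintype.linearCombination (Rg O W') v

omit [ModSite.HasSheafHom F] in
theorem lc_single {P : PMo O} {W' : C} {m : ℕ} (v : Fin m → Sec P W') (i : Fin m) :
    lc v (Pi.single i 1) = v i := by
  simp [Fintype.linearCombination_apply_single]

/-- Coordinates in a basis. -/
noncomputable def basisEquiv (hs : IsBasis F s) {W' : C} (g : W' ⟶ W) :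
    (Fin n → Rg O W') ≃ₗ[Rg O W'] Sec ((preF O).obj F) W' :=
  LinearEquiv.ofBijective (lc fun i => res ((preF O).obj F) g (s i)) (hs W' g)

omit [ModSite.HasSheafHom F] in
theorem basisEquiv_apply (hs : IsBasis F s) {W' : C} (g : W' ⟶ W) (r : Fin n → Rg O W') :
    basisEquiv hs g r = ∑ i, r i • res ((preF O).obj F) g (s i) := rfl

/-- The linear map with prescribed values on a basis. -/
noncomputable def constrAt (hs : IsBasis F s) (b : Fin n → Sec ((preF O).obj B) W) {W' : C} (g : W' ⟶ W) :
    Sec ((preF O).obj F) W' →ₗ[Rg O W'] Sec ((preF O).obj B) W' :=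
  (lc fun i => res ((preF O).obj B) g (b i)).comp (basisEquiv hs g).symm.toLinearMap

omit [ModSite.HasSheafHom F] in
theorem constrAt_apply (hs : IsBasis F s) (b : Fin n → Sec ((preF O).obj B) W) {W' : C} (g : W' ⟶ W)
    (r : Fin n → Rg O W') :
    constrAt hs b g (∑ i, r i • res ((preF O).obj F) g (s i)) = ∑ i, r i • res ((preF O).obj B) g (b i) := by
  rw [← basisEquiv_apply hs g r]
  change lc _ ((basisEquiv hs g).symm (basisEquiv hs g r)) = _
  rw [LinearEquiv.symm_apply_apply]
  rfl

/-- The bilinear map with prescribed values on a basis, on sections. -/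
noncomputable def bil (hs : IsBasis F s) (b : Fin n → Sec ((preF O).obj B) W) (U : C) :
    ((U ⟶ W) →₀ Rg O U) →ₗ[Rg O U] Sec ((preF O).obj F) U →ₗ[Rg O U] Sec ((preF O).obj B) U :=
  Finsupp.linearCombination (Rg O U) fun g => constrAt hs b g

/-- The bilinear map with prescribed values on a basis. -/
noncomputable def constrPre (hs : IsBasis F s) (b : Fin n → Sec ((preF O).obj B) W) :
    yfree O W ⊗ (preF O).obj F ⟶ (preF O).obj B where
  app V := ModuleCat.ofHom (X := Sec (yfree O W ⊗ (preF O).obj F) V.unop) (Y := Sec ((preF O).obj B) V.unop)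
    (TensorProduct.lift (bil hs b V.unop))
  naturality {V V'} h := ModuleCat.MonoidalCategory.tensor_ext fun x e => by
    let L : ∀ U : C, Sec (yfree O W) U → Sec ((preF O).obj F) U → Sec ((preF O).obj B) U := fun U x e =>
      bil hs b U x e
    suffices key : L V'.unop (res (yfree O W) h.unop x) (res ((preF O).obj F) h.unop e) =
        res ((preF O).obj B) h.unop (L V.unop x e) by exact key
    induction x using Finsupp.induction_linear with
    | zero =>
      have h0 : ∀ U t, L U (0 : Sec (yfree O W) U) t = 0 := fun U t =>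
        congrArg (fun f : Sec ((preF O).obj F) U →ₗ[Rg O U] Sec ((preF O).obj B) U => f t) (map_zero (bil hs b U))
      exact (congrArg (fun y => L V'.unop y _) (map_zero _)).trans ((h0 _ _).trans
        ((map_zero ((PresheafOfModules.map ((preF O).obj B) h).hom)).symm.trans
          (congrArg (res ((preF O).obj B) h.unop) (h0 _ e).symm)))
    | add x y hx hy =>
      have h1 : ∀ U (x y : Sec (yfree O W) U) t, L U (x + y) t = L U x t + L U y t := fun U x y t =>
        (congrArg (fun f : Sec ((preF O).obj F) U →ₗ[Rg O U] Sec ((preF O).obj B) U => f t)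
          ((bil hs b U).map_add x y)).trans rfl
      exact (congrArg (fun y => L V'.unop y _) (map_add _ x y)).trans ((h1 _ _ _ _).trans
        ((congrArg₂ (· + ·) hx hy).trans ((map_add ((PresheafOfModules.map ((preF O).obj B) h).hom) _ _).symm.trans
          (congrArg (res ((preF O).obj B) h.unop) (h1 _ x y e).symm))))
    | single g r =>
      obtain ⟨c, rfl⟩ := eq_sum_of_isBasis hs g e
      have hL : ∀ U (g : U ⟶ W) (r : Rg O U) (c : Fin n → Rg O U),
          L U (Finsupp.single g r) (∑ i, c i • res ((preF O).obj F) g (s i)) =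
            r • ∑ i, c i • res ((preF O).obj B) g (b i) := fun U g r c => by
        simp only [L, bil, Finsupp.linearCombination_single, LinearMap.smul_apply]
        rw [constrAt_apply]
      have hx : res (yfree O W) h.unop (Finsupp.single g r : Sec (yfree O W) V.unop) =
          (Finsupp.single (h.unop ≫ g) (resR O h.unop r) : Sec (yfree O W) V'.unop) := by
        refine (congrArg (res (yfree O W) h.unop) (?_ : (Finsupp.single g r : Sec (yfree O W) V.unop) = r • gen g)).trans
          ((res_smul _ _ _ _).trans ((congrArg (resR O h.unop r • ·) (res_gen h.unop g)).trans ?_))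
        · exact ((Finsupp.smul_single' r g (1 : Rg O V.unop)).trans (by rw [mul_one])).symm
        · exact (Finsupp.smul_single' _ _ _).trans (by rw [mul_one])
      have he : res ((preF O).obj F) h.unop (∑ i, c i • res ((preF O).obj F) g (s i)) =
          ∑ i, resR O h.unop (c i) • res ((preF O).obj F) (h.unop ≫ g) (s i) :=
        (res_sum _ _ _ _).trans (Finset.sum_congr rfl fun i _ =>
          (res_smul _ _ _ _).trans (congrArg (_ • ·) (res_comp _ _ _ _)))
      refine (congrArg₂ (L V'.unop) hx he).trans ((hL _ _ _ _).trans ?_)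
      refine (Eq.trans ?_ (congrArg (res ((preF O).obj B) h.unop) (hL _ g r c).symm))
      refine (Eq.trans ?_ (res_smul _ _ _ _).symm)
      exact congrArg (resR O h.unop r • ·) (((res_sum _ _ _ _).trans (Finset.sum_congr rfl fun i _ =>
        (res_smul _ _ _ _).trans (congrArg (_ • ·) (res_comp _ _ _ _)))).symm)

theorem surjective_coord (hs : IsBasis F s) :
    Function.Surjective fun (φ : Sec ((preF O).obj ((G F).obj B)) W) i => ev F φ (s i) := fun b => by
  let w := (ψ F B (yfree O W)).symm (constrPre hs b)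
  refine ⟨w.app (op W) (gen (𝟙 W)), funext fun i => ?_⟩
  refine (ψ_app F w (gen (𝟙 W)) (s i)).symm.trans ?_
  refine (congrArg (fun k : yfree O W ⊗ (preF O).obj F ⟶ (preF O).obj B => k.app (op W) (tm (gen (𝟙 W)) (s i)))
    ((ψ F B (yfree O W)).apply_symm_apply _)).trans ?_
  show bil hs b W (gen (𝟙 W)) (s i) = b i
  unfold bil
  change Finsupp.linearCombination (Rg O W) (fun g : W ⟶ W => constrAt hs b g) (Finsupp.single (𝟙 W) 1) (s i) = b i
  rw [Finsupp.linearCombination_single, one_smul]
  have hsi : s i = basisEquiv hs (𝟙 W) (Pi.single i 1) :=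
    ((lc_single (fun j => res ((preF O).obj F) (𝟙 W) (s j)) i).trans (res_id _ _)).symm
  rw [hsi]
  change lc _ ((basisEquiv hs (𝟙 W)).symm _) = _
  rw [LinearEquiv.symm_apply_apply, lc_single, res_id]

/-- Coordinates of `Hom(F, B)` in a basis of `F`. -/
theorem bijective_coord (hs : IsBasis F s) :
    Function.Bijective fun (φ : Sec ((preF O).obj ((G F).obj B)) W) i => ev F φ (s i) :=
  ⟨injective_coord hs, surjective_coord hs⟩

end Coord

section Dual

/-- The unit module. -/
noncomputable abbrev one (O : Sheaf J CommRingCat.{u}) : ModSite.Mod O := ModSite.unit O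

/-- A function as a section of the unit module. -/
abbrev scal {W : C} (r : Sec ((preF O).obj (one O)) W) : Rg O W := r

/-- The pairing `B ⊗ Hom(F, O) ⟶ Hom(F, B)`, on presheaves. -/
noncomputable def θp (B : ModSite.Mod O) :
    (preF O).obj B ⊗ (preF O).obj ((G F).obj (one O)) ⟶ (preF O).obj ((G F).obj B) :=
  (ψ F B _).symm ((α_ _ _ _).hom ≫ (preF O).obj B ◁ evp F (one O) ≫ (ρ_ _).hom)

theorem ev_θp {B : ModSite.Mod O} {W : C} (b : Sec ((preF O).obj B) W)
    (f : Sec ((preF O).obj ((G F).obj (one O))) W) (e : Sec ((preF O).obj F) W) :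
    ev F ((θp F B).app (op W) (tm b f)) e = scal (ev F f e) • b := by
  refine (ψ_app F (θp F B) (tm b f) e).symm.trans ?_
  rw [θp, AddEquiv.apply_symm_apply]
  exact ModuleCat.MonoidalCategory.rightUnitor_hom_apply (M := (ModuleCat.of (Rg O W) (Sec ((preF O).obj B) W))) b _

theorem θp_natural {B B' : ModSite.Mod O} (g : B ⟶ B') :
    (preF O).map g ▷ (preF O).obj ((G F).obj (one O)) ≫ θp F B' = θp F B ≫ (preF O).map ((G F).map g) := by
  apply (ψ F B' _).injective
  rw [ψ_natural, ψ_natural_right, θp, θp, AddEquiv.apply_symm_apply, AddEquiv.apply_symm_apply]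
  simp only [Category.assoc, associator_naturality_left_assoc]
  rw [← rightUnitor_naturality]
  exact congrArg ((α_ _ _ _).hom ≫ ·) (whisker_exchange_assoc ((preF O).map g) (evp F (one O)) (ρ_ _).hom).symm

variable {F}

/-- The dual basis. -/
noncomputable def dualBasis {W : C} {n : ℕ} {s : Fin n → Sec ((preF O).obj F) W} (hs : IsBasis F s) (j : Fin n) :
    Sec ((preF O).obj ((G F).obj (one O))) W :=
  (surjective_coord (B := one O) hs (fun i => (Pi.single j (1 : Rg O W) : Fin n → Rg O W) i)).choose

theorem ev_dualBasis {W : C} {n : ℕ} {s : Fin n → Sec ((preF O).obj F) W} (hs : IsBasis F s) (j i : Fin n) :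
    scal (ev F (dualBasis hs j) (s i)) = (Pi.single j (1 : Rg O W) : Fin n → Rg O W) i :=
  congrFun (surjective_coord (B := one O) hs (fun i => (Pi.single j (1 : Rg O W) : Fin n → Rg O W) i)).choose_spec i

theorem scal_ev_smul {W : C} (r : Rg O W) (f : Sec ((preF O).obj ((G F).obj (one O))) W)
    (e : Sec ((preF O).obj F) W) : scal (ev F (r • f) e) = r * scal (ev F f e) :=
  ev_smul_left F r f e

theorem ev_lc_dualBasis {W : C} {n : ℕ} {s : Fin n → Sec ((preF O).obj F) W} (hs : IsBasis F s)
    {W' : C} (g : W' ⟶ W) (r : Fin n → Rg O W') (i : Fin n) :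
    scal (ev F (∑ j, r j • res _ g (dualBasis hs j)) (res _ g (s i))) = r i := by
  have h : ∀ j, scal (ev F (r j • res _ g (dualBasis hs j)) (res _ g (s i))) = r j * resR O g ((Pi.single j (1 : Rg O W) : Fin n → Rg O W) i) :=
    fun j => (scal_ev_smul _ _ _).trans (congrArg (r j * ·)
      ((ev_res F g (dualBasis hs j) (s i)).symm.trans (congrArg (resR O g) (ev_dualBasis hs j i))))
  refine (ev_sum_left F _ _ _).trans ((Finset.sum_congr rfl fun j _ => h j).trans ?_)
  rw [Finset.sum_eq_single i]
  · rw [Pi.single_eq_same]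
    exact (congrArg (r i * ·) (map_one (O.obj.map g.op).hom)).trans (mul_one _)
  · intro j _ hj
    rw [Pi.single_eq_of_ne hj.symm]
    exact (congrArg (r j * ·) (map_zero (O.obj.map g.op).hom)).trans (mul_zero _)
  · exact fun h => (h (Finset.mem_univ i)).elim

theorem isBasis_dualBasis {W : C} {n : ℕ} {s : Fin n → Sec ((preF O).obj F) W} (hs : IsBasis F s) :
    IsBasis ((G F).obj (one O)) (dualBasis hs) := fun W' g => by
  refine ⟨fun r r' h => funext fun i => ?_, fun φ => ⟨fun i => scal (ev F φ (res _ g (s i))), ?_⟩⟩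
  · rw [← ev_lc_dualBasis hs g r i, ← ev_lc_dualBasis hs g r' i]
    exact congrArg (fun φ => scal (ev F φ (res _ g (s i)))) h
  · exact injective_coord (hs.res g) (funext fun i => ev_lc_dualBasis hs g _ i)

theorem hasLocBases_dual (hF : HasLocBases F) : HasLocBases ((G F).obj (one O)) := fun V => by
  obtain ⟨S, hS, h⟩ := hF V
  refine ⟨S, hS, fun W g hg => ?_⟩
  obtain ⟨n, s, hs⟩ := h W g hg
  exact ⟨n, _, isBasis_dualBasis hs⟩

theorem bijective_θp_app {W : C} {n : ℕ} {s : Fin n → Sec ((preF O).obj F) W} (hs : IsBasis F s)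
    (B : ModSite.Mod O) : Function.Bijective ((θp F B).app (op W)) := by
  let Q := (preF O).obj B ⊗ (preF O).obj ((G F).obj (one O))
  let c : Sec Q W → Fin n → Sec ((preF O).obj B) W := fun t i => ev F ((θp F B).app (op W) t) (s i)
  let q : (Fin n → Sec ((preF O).obj B) W) → Sec Q W := fun b => ∑ i, tm (b i) (dualBasis hs i)
  have hadd : ∀ t t' i, c (t + t') i = c t i + c t' i := fun t t' i =>
    (congrArg (fun φ => ev F φ (s i)) (map_add _ t t')).trans (ev_add_left F _ _ _)
  have hsmul : ∀ (r : Rg O W) (b : Sec ((preF O).obj B) W) (f : Sec ((preF O).obj ((G F).obj (one O))) W),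
      tm (r • b) f = tm b (r • f) := fun r b f => (smul_tm r b f).trans (tm_smul r b f).symm
  have hqc : ∀ t, q (c t) = t := fun t => by
    induction t using TensorProduct.induction_on with
    | zero =>
      have h0 : ∀ i, c (0 : Sec Q W) i = 0 := fun i =>
        left_eq_add.1 (((congrArg (c · i) (add_zero (0 : Sec Q W))).symm).trans (hadd 0 0 i))
      exact Finset.sum_eq_zero fun i _ => (congrArg (tm · (dualBasis hs i)) (h0 i)).trans (TensorProduct.zero_tmul _ _)
    | tmul b f =>
      refine (Finset.sum_congr rfl fun i _ => (congrArg (tm · (dualBasis hs i)) (ev_θp F b f (s i))).trans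
        (hsmul _ b _)).trans ?_
      refine (TensorProduct.tmul_sum b _ _).symm.trans (congrArg (tm b) ?_)
      refine injective_coord hs (funext fun i => ?_)
      have := ev_lc_dualBasis hs (𝟙 W) (fun j => scal (ev F f (s j))) i
      simp only [res_id] at this
      exact this
    | add x y hx hy =>
      refine (Finset.sum_congr rfl fun i _ => (congrArg (tm · (dualBasis hs i)) (hadd x y i)).trans
        (TensorProduct.add_tmul _ _ _)).trans ?_
      rw [Finset.sum_add_distrib]
      exact congrArg₂ (· + ·) hx hy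
  have hcq : ∀ b, c (q b) = b := fun b => funext fun i => by
    refine ((congrArg (fun φ => ev F φ (s i)) (map_sum _ _ _)).trans (ev_sum_left F _ _ _)).trans ?_
    refine (Finset.sum_congr rfl fun j _ => (ev_θp F (b j) (dualBasis hs j) (s i)).trans
      (congrArg (· • b j) (ev_dualBasis hs j i))).trans ?_
    rw [Finset.sum_eq_single i]
    · rw [Pi.single_eq_same, one_smul]
    · intro j _ hj
      rw [Pi.single_eq_of_ne hj.symm, zero_smul]
    · exact fun h => (h (Finset.mem_univ i)).elim
  exact (Function.Bijective.of_comp_iff' (bijective_coord hs) _).1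
    (show Function.Bijective c from ⟨Function.LeftInverse.injective hqc, Function.RightInverse.surjective hcq⟩)

/-- Bijective on a covering family implies iso after sheafification. -/
theorem isIso_shf_map_of_cover {P Q : PMo O} (a : P ⟶ Q)
    (h : ∀ V : C, ∃ S ∈ J V, ∀ (W : C) (g : W ⟶ V), S g → Function.Bijective (a.app (op W))) :
    IsIso ((shf O).map a) := by
  refine isIso_shf_map a ((J.W_iff_isLocallyBijective _).2 ⟨⟨fun {V} x y hxy => ?_⟩, ⟨fun {V} t => ?_⟩⟩)
  · obtain ⟨S, hS, hb⟩ := h V.unop
    refine J.superset_covering (fun W g hg => ?_) hS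
    refine (hb W g hg).1 ?_
    exact (PresheafOfModules.naturality_apply a g.op x).trans
      ((congrArg (Q.map g.op) hxy).trans (PresheafOfModules.naturality_apply a g.op y).symm)
  · obtain ⟨S, hS, hb⟩ := h V
    exact J.superset_covering (fun W g hg => (hb W g hg).2 _) hS

variable (F)

/-- The comparison `B ⊗ Hom(F, O) ⟶ Hom(F, B)`. -/
noncomputable def θ (B : ModSite.Mod O) :
    ((ModSite.tensorBi O).flip.obj ((G F).obj (one O))).obj B ⟶ (G F).obj B :=
  ((shfAdj O).homEquiv _ _).symm (θp F B)

theorem isIso_θ (hF : HasLocBases F) (B : ModSite.Mod O) : IsIso (θ F B) := by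
  have : IsIso ((shf O).map (θp F B)) := isIso_shf_map_of_cover _ fun V => by
    obtain ⟨S, hS, h⟩ := hF V
    refine ⟨S, hS, fun W g hg => ?_⟩
    obtain ⟨n, s, hs⟩ := h W g hg
    exact bijective_θp_app hs B
  rw [θ, Adjunction.homEquiv_counit]
  infer_instance

theorem θ_natural {B B' : ModSite.Mod O} (g : B ⟶ B') :
    ((ModSite.tensorBi O).flip.obj ((G F).obj (one O))).map g ≫ θ F B' = θ F B ≫ (G F).map g := by
  refine ((shfAdj O).homEquiv_naturality_left_symm
    ((preF O).map g ▷ (preF O).obj ((G F).obj (one O))) (θp F B')).symm.trans ?_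
  refine Eq.trans ?_ ((shfAdj O).homEquiv_naturality_right_symm (θp F B) ((G F).map g))
  exact congrArg ((shfAdj O).homEquiv _ _).symm (θp_natural F g)

/-- `- ⊗ Hom(F, O) ≅ Hom(F, -)`. -/
noncomputable def tensorDualIso (hF : HasLocBases F) :
    (ModSite.tensorBi O).flip.obj ((G F).obj (one O)) ≅ G F :=
  NatIso.ofComponents (fun B => @asIso _ _ _ _ (θ F B) (isIso_θ F hF B)) fun g => θ_natural F g

variable [ModSite.HasSheafHom ((G F).obj (one O))]

/-- `F ⟶ Hom(Hom(F, O), O)`, on presheaves. -/
noncomputable def ηp : (preF O).obj F ⟶ (preF O).obj ((G ((G F).obj (one O))).obj (one O)) :=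
  (ψ ((G F).obj (one O)) (one O) _).symm ((β_ _ _).hom ≫ evp F (one O))

theorem ev_ηp {W : C} (e : Sec ((preF O).obj F) W) (f : Sec ((preF O).obj ((G F).obj (one O))) W) :
    ev ((G F).obj (one O)) ((ηp F).app (op W) e) f = ev F f e := by
  refine (ψ_app ((G F).obj (one O)) (ηp F) e f).symm.trans ?_
  rw [ηp, AddEquiv.apply_symm_apply]
  rfl

theorem bijective_ηp_app {W : C} {n : ℕ} {s : Fin n → Sec ((preF O).obj F) W} (hs : IsBasis F s) :
    Function.Bijective ((ηp F).app (op W)) := by
  refine (Function.Bijective.of_comp_iff' (bijective_coord (B := one O) (isBasis_dualBasis hs)) _).1 ?_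
  have h : ∀ (r : Fin n → Rg O W) (j : Fin n),
      scal (ev F (dualBasis hs j) (∑ i, r i • res _ (𝟙 W) (s i))) = r j := fun r j => by
    simp only [res_id]
    have hterm : ∀ i, scal (ev F (dualBasis hs j) (r i • s i)) =
        r i * (Pi.single j (1 : Rg O W) : Fin n → Rg O W) i := fun i =>
      (ev_smul_right F (r i) _ _).trans (congrArg (r i * ·) (ev_dualBasis hs j i))
    refine (ev_sum_right F _ _ _).trans ((Finset.sum_congr rfl fun i _ => hterm i).trans ?_)
    rw [Finset.sum_eq_single j]
    · rw [Pi.single_eq_same]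
      exact mul_one _
    · intro i _ hi
      rw [Pi.single_eq_of_ne hi]
      exact mul_zero _
    · exact fun h => (h (Finset.mem_univ j)).elim
  refine (Function.Bijective.of_comp_iff _ (hs W (𝟙 W))).1 ?_
  have : ((fun φ j => ev ((G F).obj (one O)) φ (dualBasis hs j)) ∘ (ηp F).app (op W)) ∘
      (fun r : Fin n → Rg O W => ∑ i, r i • res _ (𝟙 W) (s i)) = id :=
    funext fun r => funext fun j => (ev_ηp F _ _).trans (h r j)
  rw [this]
  exact Function.bijective_id

/-- A module with local bases is its double dual. -/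
noncomputable def doubleDualIso (hF : HasLocBases F) : F ≅ (G ((G F).obj (one O))).obj (one O) :=
  haveI : IsIso ((shf O).map (ηp F)) := isIso_shf_map_of_cover _ fun V => by
    obtain ⟨S, hS, h⟩ := hF V
    refine ⟨S, hS, fun W g hg => ?_⟩
    obtain ⟨n, s, hs⟩ := h W g hg
    exact bijective_ηp_app F hs
  (asIso ((shfAdj O).counit.app F)).symm ≪≫ asIso ((shf O).map (ηp F)) ≪≫ asIso ((shfAdj O).counit.app _)

/-- `- ⊗ F` is the internal hom out of the dual. -/
noncomputable def tensorIsoHomDual (hF : HasLocBases F) :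
    (ModSite.tensorBi O).flip.obj F ≅ G ((G F).obj (one O)) :=
  (ModSite.tensorBi O).flip.mapIso (doubleDualIso F hF) ≪≫ tensorDualIso _ (hasLocBases_dual hF)

/-- `- ⊗ Hom(F, O)` is left adjoint to `- ⊗ F`. -/
noncomputable def dualAdj (hF : HasLocBases F) :
    (ModSite.tensorBi O).flip.obj ((G F).obj (one O)) ⊣ (ModSite.tensorBi O).flip.obj F :=
  (ModSite.sheafHomAdj ((G F).obj (one O))).ofNatIsoRight (tensorIsoHomDual F hF).symm

/-- `- ⊗ F` is left adjoint to `- ⊗ Hom(F, O)`. -/
noncomputable def dualAdj' (hF : HasLocBases F) :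
    (ModSite.tensorBi O).flip.obj F ⊣ (ModSite.tensorBi O).flip.obj ((G F).obj (one O)) :=
  (ModSite.sheafHomAdj F).ofNatIsoRight (tensorDualIso F hF).symm

omit [ModSite.HasSheafHom ((G F).obj (one O))] in
/-- `Hom(F, -)` preserves epimorphisms. -/
theorem preservesEpimorphisms_G (hF : HasLocBases F) : (G F).PreservesEpimorphisms := by
  haveI := Groth.L00.ModSiteTensor.hasSheafHom ((G F).obj (one O))
  haveI : ((ModSite.tensorBi O).flip.obj ((G F).obj (one O))).PreservesEpimorphisms :=
    Functor.preservesEpimorphisms_of_adjunction (ModSite.sheafHomAdj ((G F).obj (one O)))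
  exact Functor.preservesEpimorphisms.of_iso (tensorDualIso F hF)

end Dual

end Groth.L17.LocBases
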