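import Groth.Agent.L16.CohSupport
import Groth.Agent.L16.HomSh.Basic
import Groth.Agent.L00.AlgQCoh
import Groth.Agent.L17.Approx.Extend
import Groth.Agent.L20.ModStalk
import Groth.Agent.L18.Frame
import Mathlib.Algebra.Module.FinitePresentation

/-!
# Maps of coherent modules from maps of stalks
-/

set_option autoImplicit false
set_option backward.isDefEq.respectTransparency false
set_option backward.isDefEq.respectTransparency.types false
set_option linter.style.haveILetI false

universe u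

open CategoryTheory CategoryTheory.Limits AlgebraicGeometry TopologicalSpace Opposite

noncomputable section

namespace Groth.L17.StalkSpread

open Groth.L18.Frame (rs ro)
open Groth.L21.Mod (stalkF)

variable {X : Scheme.{u}}

theorem isZero_restrict {M : X.Modules} {U : X.Opens} (h : ∀ y ∈ U, y ∉ CohB1.support M) :
    IsZero ((Scheme.Modules.restrictFunctor U.ι).obj M) := by
  by_contra hne
  obtain ⟨y, hy⟩ : ∃ y : U.toScheme, y ∈ CohB1.support ((Scheme.Modules.restrictFunctor U.ι).obj M) := by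
    by_contra hall
    push Not at hall
    refine hne (IsZero.iff_id_eq_zero _ |>.2 (Groth.L21.Mod.hom_ext_stalk fun y => ?_))
    exact (not_not.1 fun h => hall y ((Groth.L21.Mod.mem_support_iff_not_isZero _ y).2 h)).eq_of_src _ _
  rw [Groth.L21.Mod.support_restrict] at hy
  exact h _ y.2 hy

theorem exists_isZero [IsLocallyNoetherian X] {M : X.Modules} (hM : CohB1.IsFT M) {x : X} (hx : x ∉ CohB1.support M) :
    ∃ U : X.Opens, x ∈ U ∧ IsZero ((Scheme.Modules.restrictFunctor U.ι).obj M) :=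
  ⟨⟨(CohB1.support M)ᶜ, (Groth.L16.CohSupport.isClosed_support M hM).isOpen_compl⟩, hx,
    isZero_restrict fun _ hy => hy⟩

theorem exists_mono [IsLocallyNoetherian X] {F G : X.Modules} (hF : Coh.IsCoh F) (hG : Coh.IsCoh G) (φ : G ⟶ F) (x : X)
    (h : Mono ((stalkF X x).map φ)) :
    ∃ U : X.Opens, x ∈ U ∧ Mono ((Scheme.Modules.restrictFunctor U.ι).map φ) := by
  haveI := hF.1
  have hK := Groth.L16.CohSupport.isCoh_kernel hG φ
  have hx : x ∉ CohB1.support (kernel φ) := fun hs => by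
    refine (Groth.L21.Mod.mem_support_iff_not_isZero _ x).1 hs ?_
    haveI : Mono ((stalkF X x).map (kernel.ι φ)) := (Groth.L21.Mod.mono_iff_stalk _).1 inferInstance x
    rw [IsZero.iff_id_eq_zero, ← cancel_mono ((stalkF X x).map (kernel.ι φ)), ← cancel_mono ((stalkF X x).map φ),
      zero_comp, zero_comp, Category.id_comp, ← Functor.map_comp, kernel.condition, Functor.map_zero]
  obtain ⟨U, hxU, hU⟩ := exists_isZero hK.2 hx
  refine ⟨U, hxU, Preadditive.mono_of_kernel_zero ?_⟩
  rw [← kernel.lift_ι ((Scheme.Modules.restrictFunctor U.ι).map φ) (kernel.ι _) (kernel.condition _),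
    (IsZero.of_iso hU (PreservesKernel.iso (Scheme.Modules.restrictFunctor U.ι) φ).symm).eq_of_tgt (kernel.lift _ _ _) 0,
    zero_comp]

theorem exists_epi [IsLocallyNoetherian X] {F G : X.Modules} (hF : Coh.IsCoh F) (_hG : Coh.IsCoh G) (φ : G ⟶ F) (x : X)
    (h : Epi ((stalkF X x).map φ)) :
    ∃ U : X.Opens, x ∈ U ∧ Epi ((Scheme.Modules.restrictFunctor U.ι).map φ) := by
  have hC : CohB1.IsFT (cokernel φ) := Groth.L17.Approx.isFT_of_epi (cokernel.π φ) hF.2
  have hx : x ∉ CohB1.support (cokernel φ) := fun hs => by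
    refine (Groth.L21.Mod.mem_support_iff_not_isZero _ x).1 hs ?_
    haveI : Epi ((stalkF X x).map (cokernel.π φ)) := (Groth.L21.Mod.epi_iff_stalk _).1 inferInstance x
    rw [IsZero.iff_id_eq_zero, ← cancel_epi ((stalkF X x).map (cokernel.π φ)), ← cancel_epi ((stalkF X x).map φ),
      comp_zero, comp_zero, Category.comp_id, ← Functor.map_comp, cokernel.condition, Functor.map_zero]
  obtain ⟨U, hxU, hU⟩ := exists_isZero hC hx
  refine ⟨U, hxU, Preadditive.epi_of_cokernel_zero ?_⟩
  rw [← cokernel.π_desc ((Scheme.Modules.restrictFunctor U.ι).map φ) (cokernel.π _) (cokernel.condition _),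
    (IsZero.of_iso hU (PreservesCokernel.iso (Scheme.Modules.restrictFunctor U.ι) φ).symm).eq_of_src (cokernel.desc _ _ _) 0,
    comp_zero]

theorem exists_isIso [IsLocallyNoetherian X] {F G : X.Modules} (hF : Coh.IsCoh F) (hG : Coh.IsCoh G) (φ : G ⟶ F) (x : X)
    (h : IsIso ((stalkF X x).map φ)) :
    ∃ U : X.Opens, x ∈ U ∧ IsIso ((Scheme.Modules.restrictFunctor U.ι).map φ) := by
  obtain ⟨U, hxU, hU⟩ := exists_mono hF hG φ x inferInstance
  obtain ⟨V, hxV, hV⟩ := exists_epi hF hG φ x inferInstance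
  refine ⟨U ⊓ V, ⟨hxU, hxV⟩, ?_⟩
  rw [Groth.L21.Mod.isIso_iff_stalk]
  intro y
  rw [Groth.L21.Mod.restrict_stalk_map]
  have hm : Mono ((stalkF X ((U ⊓ V).ι y)).map φ) := by
    have h1 := (Groth.L21.Mod.mono_iff_stalk _).1 hU (⟨_, y.2.1⟩ : U.toScheme)
    rw [Groth.L21.Mod.restrict_stalk_map] at h1
    exact ((MorphismProperty.monomorphisms AddCommGrpCat.{u}).cancel_right_of_respectsIso _ _).1
      (((MorphismProperty.monomorphisms AddCommGrpCat.{u}).cancel_left_of_respectsIso _ _).1 h1)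
  have he : Epi ((stalkF X ((U ⊓ V).ι y)).map φ) := by
    have h1 := (Groth.L21.Mod.epi_iff_stalk _).1 hV (⟨_, y.2.2⟩ : V.toScheme)
    rw [Groth.L21.Mod.restrict_stalk_map] at h1
    exact ((MorphismProperty.epimorphisms AddCommGrpCat.{u}).cancel_right_of_respectsIso _ _).1
      (((MorphismProperty.epimorphisms AddCommGrpCat.{u}).cancel_left_of_respectsIso _ _).1 h1)
  haveI := isIso_of_mono_of_epi ((stalkF X ((U ⊓ V).ι y)).map φ)
  infer_instance

variable {M N : X.Modules}

open Groth.L16.HomSh (Sec ev ev_rs ev_smul)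

/-- A family of maps on the opens inside `U`, as a map of restrictions. -/
def secHom {U : X.Opens} (s : Sec M N U) :
    (Scheme.Modules.restrictFunctor U.ι).obj M ⟶ (Scheme.Modules.restrictFunctor U.ι).obj N :=
  ⟨PresheafOfModules.homMk
    { app := fun W => AddCommGrpCat.ofHom (ev s (U.ι_image_le W.unop))
      naturality := fun W W' i => by
        ext m
        exact (ev_rs s (U.ι_image_le W.unop) ((Scheme.Hom.opensFunctor U.ι).map i.unop).le m).symm }
    (fun W r m => ev_smul s _ _ _)⟩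

theorem secHom_app {U : X.Opens} (s : Sec M N U) (W : U.toScheme.Opens) (m : Γ(M, U.ι ''ᵁ W)) :
    (secHom s).app W m = ev s (U.ι_image_le W) m := rfl

/-- A linear map of stalks of coherent modules comes from a map near the point. -/
theorem exists_hom_stalk [IsLocallyNoetherian X] (F G : X.Modules) (hF : Coh.IsCoh F) (hG : Coh.IsCoh G) (x : X)
    (ψ : ↑(G.presheaf.stalk x) →ₗ[X.presheaf.stalk x] ↑(F.presheaf.stalk x)) :
    ∃ (U : X.Opens) (hx : x ∈ U)
      (φ : (Scheme.Modules.restrictFunctor U.ι).obj G ⟶ (Scheme.Modules.restrictFunctor U.ι).obj F),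
      (Scheme.Modules.restrictStalkNatIso U.ι (⟨x, hx⟩ : U)).inv.app G ≫
          (TopCat.Presheaf.stalkFunctor _ (⟨x, hx⟩ : U)).map φ.mapPresheaf ≫
            (Scheme.Modules.restrictStalkNatIso U.ι (⟨x, hx⟩ : U)).hom.app F =
        AddCommGrpCat.ofHom ψ.toAddMonoidHom := by
  haveI := hF.1
  haveI := hG.1
  obtain ⟨_, ⟨V, hV, rfl⟩, hxV, -⟩ := X.isBasis_affineOpens.exists_subset_of_mem_open (Set.mem_univ x) isOpen_univ
  haveI : IsNoetherianRing Γ(X, V) := IsLocallyNoetherian.component_noetherian ⟨V, hV⟩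
  haveI := Groth.L20.ModStalk.finite_sections G hG hV
  haveI : Module.FinitePresentation Γ(X, V) Γ(G, V) := Module.finitePresentation_of_finite _ _
  letI := Groth.L20.ModStalk.stalkModule G hxV
  letI := Groth.L20.ModStalk.stalkModule F hxV
  haveI := Groth.L20.ModStalk.isLocalizedModule_germ F hV hxV
  let g : Γ(G, V) →ₗ[Γ(X, V)] F.presheaf.stalk x :=
    { toFun := fun m => ψ (Groth.L20.ModStalk.germₗ G hxV m)
      map_add' := fun a b => by rw [map_add, map_add]
      map_smul' := fun r m => by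
        rw [map_smul (Groth.L20.ModStalk.germₗ G hxV)]
        exact ψ.map_smul (X.presheaf.germ V x hxV r) _ }
  obtain ⟨h, t, ht⟩ := Module.FinitePresentation.exists_lift_of_isLocalizedModule
    (hV.primeIdealOf ⟨x, hxV⟩).asIdeal.primeCompl (Groth.L20.ModStalk.germₗ F hxV) g
  obtain ⟨s, hs⟩ := Groth.L16.HomSh.exists_sec_of_linear hV h
  let W : X.Opens := X.basicOpen (t : Γ(X, V))
  have hxW : x ∈ W := by
    letI := X.presheaf.algebra_section_stalk ⟨x, hxV⟩
    haveI := hV.isLocalization_stalk ⟨x, hxV⟩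
    exact (X.mem_basicOpen _ x hxV).2 (IsLocalization.map_units (X.presheaf.stalk x) t)
  obtain ⟨c, hc⟩ : ∃ c : Γ(X, W), c * ro (X.basicOpen_le (t : Γ(X, V))) (t : Γ(X, V)) = 1 :=
    (X.toRingedSpace.isUnit_res_basicOpen (t : Γ(X, V))).exists_left_inv
  let s' : Sec G F W := (c : Γ(X, W)) • Groth.L16.HomSh.resSec (X.basicOpen_le _) s
  refine ⟨W, hxW, secHom s', ?_⟩
  refine TopCat.Presheaf.stalk_hom_ext _ fun O hxO => ?_
  ext m
  obtain ⟨⟨m₀, r⟩, hr⟩ := (Groth.L20.ModStalk.isLocalizedModule_germ G hV hxV).surj (G.presheaf.germ O x hxO m)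
  let O' : W.toScheme.Opens := W.ι ⁻¹ᵁ O
  have hy : (⟨x, hxW⟩ : W.toScheme) ∈ O' := hxO
  let L := W.ι ''ᵁ O'
  have hxL : x ∈ L := ⟨_, hy, rfl⟩
  have hLV : L ≤ V := (W.ι_image_le O').trans (X.basicOpen_le _)
  have hLO : L ≤ O := by rintro _ ⟨y, hy, rfl⟩; exact hy
  show (Scheme.Modules.restrictStalkNatIso W.ι (⟨x, hxW⟩ : W)).hom.app F
      ((TopCat.Presheaf.stalkFunctor _ (⟨x, hxW⟩ : W)).map (secHom s').mapPresheaf
        ((Scheme.Modules.restrictStalkNatIso W.ι (⟨x, hxW⟩ : W)).inv.app G (G.presheaf.germ O x hxO m))) =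
    ψ (G.presheaf.germ O x hxO m)
  rw [← Groth.L20.ModStalk.germ_rs G hLO hxL m]
  have e1 := ConcreteCategory.congr_hom (Scheme.Modules.germ_restrictStalkNatIso_inv_app W.ι (⟨x, hxW⟩ : W) G (U := O') hy) (rs G hLO m)
  refine (congrArg _ (congrArg _ e1)).trans ?_
  refine (congrArg _ (TopCat.Presheaf.stalkFunctor_map_germ_apply O' (⟨x, hxW⟩ : W) hy (secHom s').mapPresheaf (rs G hLO m))).trans ?_
  refine (ConcreteCategory.congr_hom (Scheme.Modules.germ_restrictStalkNatIso_hom_app W.ι (⟨x, hxW⟩ : W) F (U := O') hy) _).trans ?_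
  show F.presheaf.germ L x hxL (ev s' (W.ι_image_le O') (rs G hLO m)) = _
  rw [Groth.L16.HomSh.ev_smulSec, Groth.L20.ModStalk.germ_smul]
  have hu : IsUnit (X.presheaf.germ V x hxV (r : Γ(X, V))) := by
    letI := X.presheaf.algebra_section_stalk ⟨x, hxV⟩
    haveI := hV.isLocalization_stalk ⟨x, hxV⟩
    exact IsLocalization.map_units (X.presheaf.stalk x) r
  apply hu.smul_left_cancel.1
  rw [← ψ.map_smul, Groth.L20.ModStalk.germ_rs G hLO hxL m]
  rw [show (X.presheaf.germ V x hxV (r : Γ(X, V))) • G.presheaf.germ O x hxO m = G.presheaf.germ V x hxV m₀ from hr]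
  have h1 : (X.presheaf.germ V x hxV (r : Γ(X, V))) •
      F.presheaf.germ L x hxL (ev (Groth.L16.HomSh.resSec (X.basicOpen_le _) s) (W.ι_image_le O') (rs G hLO m)) =
      F.presheaf.germ V x hxV (h m₀) := by
    rw [← TopCat.Presheaf.germ_res_apply X.presheaf (homOfLE hLV) x hxL]
    rw [← Groth.L20.ModStalk.germ_smul]
    show F.presheaf.germ L x hxL (ro hLV (r : Γ(X, V)) • ev s hLV (rs G hLO m)) = _
    rw [← ev_smul, ← hs m₀]
    have hr' : G.presheaf.germ L x hxL (ro hLV (r : Γ(X, V)) • rs G hLO m) = G.presheaf.germ L x hxL (rs G hLV m₀) := by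
      rw [Groth.L20.ModStalk.germ_smul, Groth.L20.ModStalk.germ_rs G hLO hxL, Groth.L20.ModStalk.germ_rs G hLV hxL]
      refine Eq.trans ?_ hr
      exact congrArg (· • G.presheaf.germ O x hxO m) (TopCat.Presheaf.germ_res_apply X.presheaf (homOfLE hLV) x hxL _)
    obtain ⟨L', hxL', i, i', hL'⟩ := G.presheaf.germ_eq x hxL hxL _ _ hr'
    have h2 : F.presheaf.germ L' x hxL' (ev s (i.le.trans hLV) (rs G i.le (ro hLV (r : Γ(X, V)) • rs G hLO m))) =
        F.presheaf.germ L' x hxL' (ev s (i'.le.trans hLV) (rs G i'.le (rs G hLV m₀))) :=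
      congrArg (fun z => F.presheaf.germ L' x hxL' (ev s (i.le.trans hLV) z)) hL'
    rw [show ∀ z, F.presheaf.germ L' x hxL' (ev s (i.le.trans hLV) (rs G i.le z)) =
        F.presheaf.germ L x hxL (ev s hLV z) from fun z => by
      rw [← ev_rs s hLV i.le z, Groth.L20.ModStalk.germ_rs F i.le hxL'],
      show ∀ z, F.presheaf.germ L' x hxL' (ev s (i'.le.trans hLV) (rs G i'.le z)) =
        F.presheaf.germ L x hxL (ev s hLV z) from fun z => by
      rw [← ev_rs s hLV i'.le z, Groth.L20.ModStalk.germ_rs F i'.le hxL']] at h2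
    refine h2.trans ?_
    rw [← ev_rs s le_rfl hLV m₀, Groth.L20.ModStalk.germ_rs F hLV hxL]
  rw [smul_comm, h1]
  have ht' : F.presheaf.germ V x hxV (h m₀) = X.presheaf.germ V x hxV (t : Γ(X, V)) • ψ (G.presheaf.germ V x hxV m₀) :=
    LinearMap.congr_fun ht m₀
  rw [ht', smul_smul]
  refine (congrArg (· • _) ?_).trans (one_smul _ _)
  rw [← show X.presheaf.germ W x hxW (ro (X.basicOpen_le (t : Γ(X, V))) (t : Γ(X, V))) =
    X.presheaf.germ V x hxV (t : Γ(X, V)) from TopCat.Presheaf.germ_res_apply X.presheaf _ x hxW _]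
  rw [show X.presheaf.germ L x hxL (ro (W.ι_image_le O') c) = X.presheaf.germ W x hxW c from
    TopCat.Presheaf.germ_res_apply X.presheaf (homOfLE (W.ι_image_le O')) x hxL c, ← map_mul]
  exact (congrArg _ hc).trans (map_one _)

end Groth.L17.StalkSpread
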