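import Groth.Prelude.Def_SpSeq
import Mathlib.Algebra.Homology.ShortComplex.Abelian
import Mathlib.Algebra.Homology.ShortComplex.ShortExact
import Mathlib.CategoryTheory.ObjectProperty.Basic
import Mathlib.Tactic.Linarith
import Mathlib.Tactic.Ring

/-!
A class of objects closed under kernels, cokernels and extensions contains the low-degree abutment of
a first-quadrant spectral sequence whose low rows on the second page lie in the class.
-/

set_option autoImplicit false
set_option linter.style.haveILetI false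

universe v u

open CategoryTheory CategoryTheory.Limits

namespace Groth.L17.SSClass

variable {C : Type u} [Category.{v} C] [Abelian C] (P : C → Prop)

/-- Closure properties. -/
structure IsThick : Prop where
  zero : ∀ X : C, IsZero X → P X
  iso : ∀ {X Y : C}, (X ≅ Y) → P X → P Y
  ker : ∀ {X Y : C} (f : X ⟶ Y), P X → P Y → P (kernel f)
  coker : ∀ {X Y : C} (f : X ⟶ Y), P X → P Y → P (cokernel f)
  ext : ∀ S : ShortComplex C, S.ShortExact → P S.X₁ → P S.X₃ → P S.X₂

variable {P} (hP : IsThick P)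
include hP

theorem homology_mem (S : ShortComplex C) (h₁ : P S.X₁) (h₂ : P S.X₂) (h₃ : P S.X₃) : P S.homology := by
  have hc : P S.cycles :=
    hP.iso ((limit.isLimit _).conePointUniqueUpToIso S.cyclesIsKernel) (hP.ker S.g h₂ h₃)
  exact hP.iso ((colimit.isColimit _).coconePointUniqueUpToIso S.homologyIsCokernel) (hP.coker S.toCycles h₁ hc)

variable {E : E₂CohomologicalSpectralSequence C}

omit hP in
theorem isZero_page (h0 : ∀ p q : ℤ, ¬(0 ≤ p ∧ 0 ≤ q) → IsZero ((E.page 2 le_rfl).X (p, q))) :
    ∀ (k : ℕ) (r : ℤ) (hr : 2 ≤ r), r = 2 + k → ∀ p q : ℤ, ¬(0 ≤ p ∧ 0 ≤ q) → IsZero ((E.page r hr).X (p, q)) := by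
  intro k
  induction k with
  | zero => intro r hr hk p q h; obtain rfl : r = 2 := by omega
            exact h0 p q h
  | succ k ih =>
    intro r hr hk p q h
    refine IsZero.of_iso ?_ (E.iso (r - 1) r (p, q) (by omega) (by omega)).symm
    exact HomologicalComplex.ExactAt.isZero_homology
      (ShortComplex.exact_of_isZero_X₂ _ (ih (r - 1) (by omega) (by omega) p q h))

/-- On page `r` the class contains the positions `(p, q)` with `(p + q - n) * (r - 1) ≤ p`. -/
theorem page_mem (n : ℤ) (h0 : ∀ p q : ℤ, ¬(0 ≤ p ∧ 0 ≤ q) → IsZero ((E.page 2 le_rfl).X (p, q)))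
    (h2 : ∀ p q : ℤ, q ≤ n → P ((E.page 2 le_rfl).X (p, q))) :
    ∀ (k : ℕ) (r : ℤ) (hr : 2 ≤ r), r = 2 + k → ∀ p q : ℤ, (p + q - n) * (r - 1) ≤ p →
      P ((E.page r hr).X (p, q)) := by
  intro k
  induction k with
  | zero => intro r hr hk p q h; obtain rfl : r = 2 := by omega
            exact h2 p q (by linarith)
  | succ k ih =>
    intro r hr hk p q h
    by_cases hneg : ¬(0 ≤ p ∧ 0 ≤ q)
    · exact hP.zero _ (isZero_page h0 (k + 1) r hr hk p q hneg)
    rw [not_not] at hneg
    have hr' : (2 : ℤ) ≤ r - 1 := by omega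
    refine hP.iso (E.iso (r - 1) r (p, q) (by omega) hr') (homology_mem hP _ ?_ ?_ ?_)
    · let c := ComplexShape.up' (⟨r - 1, 1 - (r - 1)⟩ : ℤ × ℤ)
      have e : c.prev (p, q) = (p - (r - 1), q + (r - 2)) :=
        c.prev_eq' (show (p - (r - 1), q + (r - 2)) + (r - 1, 1 - (r - 1)) = (p, q) from
          Prod.ext (by simp) (by simp; ring))
      refine hP.iso (eqToIso (congrArg (E.page (r - 1) hr').X e)).symm ?_
      by_cases hp : 0 ≤ p - (r - 1)
      · refine ih (r - 1) hr' (by omega) _ _ ?_
        by_cases hm : p + q - n ≤ 0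
        · nlinarith
        · nlinarith
      · exact hP.zero _ (isZero_page h0 k (r - 1) hr' (by omega) _ _ (fun h => hp h.1))
    · refine ih (r - 1) hr' (by omega) _ _ ?_
      by_cases hm : p + q - n ≤ 0
      · nlinarith
      · nlinarith
    · let c := ComplexShape.up' (⟨r - 1, 1 - (r - 1)⟩ : ℤ × ℤ)
      have e : c.next (p, q) = (p + (r - 1), q + (1 - (r - 1))) :=
        c.next_eq' (show (p, q) + (r - 1, 1 - (r - 1)) = _ from rfl)
      refine hP.iso (eqToIso (congrArg (E.page (r - 1) hr').X e)).symm (ih (r - 1) hr' (by omega) _ _ ?_)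
      by_cases hm : p + q - n ≤ 0
      · nlinarith
      · nlinarith

/-- The class contains the abutment in degrees `≤ n`. -/
theorem abutment_mem {H : ℤ → C} (a : SpSeq.Abutment E H) (n i : ℤ) (hi : i ≤ n) (hfin : a.IsFinite i)
    (h0 : ∀ p q : ℤ, ¬(0 ≤ p ∧ 0 ≤ q) → IsZero ((E.page 2 le_rfl).X (p, q)))
    (h2 : ∀ p q : ℤ, q ≤ n → P ((E.page 2 le_rfl).X (p, q))) : P (H i) := by
  obtain ⟨⟨lo, hlo⟩, hi', hhi⟩ := hfin
  have hgr : ∀ p, P (SpSeq.grPiece (a.fil i) (a.anti i) p) := fun p => by
    have hrk := (a.stat (p, i - p)).1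
    have h : P ((E.page (a.rk (p, i - p)) hrk).X (p, i - p)) := by
      by_cases hp : 0 ≤ p
      · exact page_mem hP n h0 h2 (a.rk (p, i - p) - 2).toNat _ hrk (by omega) p (i - p) (by nlinarith)
      · exact hP.zero _ (isZero_page h0 (a.rk (p, i - p) - 2).toNat _ hrk (by omega) p (i - p) (fun h => hp h.1))
    have hpi : p + (i - p) = i := by omega
    have e := a.β (p, i - p)
    have h' := hP.iso e h
    exact hP.iso (eqToIso (congrArg (fun m => SpSeq.grPiece (a.fil m) (a.anti m) p) hpi)) h'
  have hstep : ∀ (k : ℕ) (p : ℤ), hi' ≤ p + k → P ((a.fil i p : C)) := by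
    intro k
    induction k with
    | zero =>
      intro p hp
      refine hP.zero _ ?_
      have hb : a.fil i p = ⊥ := le_bot_iff.1 ((a.anti i (by omega : hi' ≤ p)).trans (le_of_eq hhi))
      rw [hb]
      exact IsZero.of_iso (isZero_zero C) (Subobject.botCoeIsoZero)
    | succ k ih =>
      intro p hp
      have hle : a.fil i (p + 1) ≤ a.fil i p := a.anti i (Int.le_add_one le_rfl)
      let S : ShortComplex C := ShortComplex.mk (Subobject.ofLE _ _ hle)
        (cokernel.π (Subobject.ofLE _ _ hle)) (cokernel.condition _)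
      haveI : Mono (Subobject.ofLE _ _ hle) := inferInstance
      have hS : S.ShortExact :=
        { exact := ShortComplex.exact_of_g_is_cokernel _ (cokernelIsCokernel _)
          mono_f := inferInstanceAs (Mono (Subobject.ofLE _ _ hle))
          epi_g := inferInstanceAs (Epi (cokernel.π _)) }
      exact hP.ext S hS (ih (p + 1) (by omega)) (hgr p)
  have h := hstep (hi' - lo).toNat lo (by omega)
  have hlo' : a.fil i lo = ⊤ := hlo
  rw [hlo'] at h
  exact hP.iso (asIso (⊤ : Subobject (H i)).arrow) h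

end Groth.L17.SSClass
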