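import Groth.Agent.L17.DPlusInj
import Mathlib.Algebra.Homology.DerivedCategory.RightDerivedFunctorPlus
import Mathlib.Algebra.Homology.DerivedCategory.HomologySequence

/-!
Cohomology of `Functor.rightDerivedFunctorPlus` is the hyperderived functor `HH`, hence homological.
-/

set_option autoImplicit false

universe w w' v u v' u'

open CategoryTheory CategoryTheory.Limits CategoryTheory.Pretriangulated

namespace Groth.L17.GrothSS

variable {C : Type u} [Category.{v} C] [Abelian C] [HasDerivedCategory.{w} C] [EnoughInjectives C]
  {D : Type u'} [Category.{v'} D] [Abelian D] [HasDerivedCategory.{w'} D]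
  (F : C ⥤ D) [F.Additive]

/-- `R⁺F` through injective resolutions. -/
noncomputable def rightDerivedPlusIso :
    F.rightDerivedFunctorPlus ≅ (equivDPlus C).inverse ⋙
      (InjectiveObject.ι C).mapHomotopyCategoryPlus ⋙ F.mapHomotopyCategoryPlus ⋙
        DerivedCategory.Plus.Qh :=
  haveI : IsIso (Functor.whiskerLeft (InjectiveObject.ι C).mapHomotopyCategoryPlus
      F.rightDerivedFunctorPlusUnit) := by
    have : ∀ X : HomotopyCategory.Plus (InjectiveObject C),
        IsIso ((Functor.whiskerLeft (InjectiveObject.ι C).mapHomotopyCategoryPlus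
          F.rightDerivedFunctorPlusUnit).app X) := fun X => by
      dsimp
      infer_instance
    exact NatIso.isIso_of_isIso_app _
  (Functor.leftUnitor _).symm ≪≫
    Functor.isoWhiskerRight (equivDPlus C).counitIso.symm F.rightDerivedFunctorPlus ≪≫
    Functor.associator _ _ _ ≪≫
    Functor.isoWhiskerLeft (equivDPlus C).inverse
      ((Functor.associator _ _ _) ≪≫
        (asIso (Functor.whiskerLeft (InjectiveObject.ι C).mapHomotopyCategoryPlus
          F.rightDerivedFunctorPlusUnit)).symm)

/-- `H^n ∘ R⁺F` is `HH F n`. -/
noncomputable def homologyRightDerivedPlusIso (n : ℤ) :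
    F.rightDerivedFunctorPlus ⋙ DerivedCategory.Plus.homologyFunctor D n ≅ HH F n :=
  Functor.isoWhiskerRight (rightDerivedPlusIso F) _ ≪≫
    Functor.isoWhiskerLeft (equivDPlus C).inverse
      (Functor.isoWhiskerRight
        (Functor.isoWhiskerRight
          (Functor.mapHomotopyCategoryPlusCompIso (Iso.refl (InjectiveObject.ι C ⋙ F)))
          (HomotopyCategory.Plus.ι D)) (HomotopyCategory.homologyFunctor D (.up ℤ) n) |>
        (fun e => Functor.isoWhiskerLeft
          ((InjectiveObject.ι C).mapHomotopyCategoryPlus ⋙ F.mapHomotopyCategoryPlus ⋙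
            HomotopyCategory.Plus.ι D)
          (DerivedCategory.homologyFunctorFactorsh D n) ≪≫ e))

end Groth.L17.GrothSS
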