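import Groth.Agent.L17.GrothSS
import Groth.Agent.L17.SingleRDer
import Mathlib.Algebra.Homology.DerivedCategory.FullyFaithful

/-!
`R^n (A ⋙ S) X = R^n S (A X)` when `X` is `A`-acyclic and `A` sends injectives to `S`-acyclic objects.
-/

set_option autoImplicit false

universe w v u v' u' v'' u''

open CategoryTheory CategoryTheory.Limits

namespace Groth.L17.GrothSS

variable {C : Type u'} [Category.{v'} C] [Abelian C] [HasInjectiveResolutions C]
  {C' : Type u} [Category.{v} C'] [Abelian C'] [HasInjectiveResolutions C'] [EnoughInjectives C']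
  [HasDerivedCategory.{w} C']
  {C'' : Type u''} [Category.{v''} C''] [Abelian C'']
  (A : C ⥤ C') [A.Additive] [PreservesFiniteLimits A]
  (S : C' ⥤ C'') [S.Additive]

omit [HasInjectiveResolutions C'] [EnoughInjectives C'] in
/-- A left exact functor sends a resolution of an acyclic object to a resolution. -/
theorem nonempty_singleTCxIso_of_acyclic {X : C} (I : InjectiveResolution X)
    (hX : ∀ q : ℕ, 0 < q → IsZero ((A.rightDerived q).obj X)) :
    Nonempty ((DerivedCategory.Plus.singleFunctor C' 0).obj (A.obj X) ≅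
      DerivedCategory.Plus.Q.obj (TCx A I)) := by
  let Y := DerivedCategory.Plus.ι.obj (DerivedCategory.Plus.Q.obj (TCx A I))
  haveI : DerivedCategory.Plus.IsGE (DerivedCategory.Plus.Q.obj (TCx A I)) 0 := isGE_TCx A I
  haveI : Y.IsGE 0 := inferInstance
  haveI : Y.IsLE 0 := by
    rw [DerivedCategory.isLE_iff]
    intro i hi
    obtain ⟨q, rfl⟩ : ∃ q : ℕ, i = q := ⟨i.toNat, by omega⟩
    exact (hX q (by omega)).of_iso (homologyTCxIso A I q)
  obtain ⟨W, ⟨e⟩⟩ := DerivedCategory.exists_iso_singleFunctor_obj_of_isGE_of_isLE Y 0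
  let eW : W ≅ A.obj X :=
    ((DerivedCategory.singleFunctorCompHomologyFunctorIso C' 0).app W).symm ≪≫
      (DerivedCategory.homologyFunctor C' 0).mapIso e.symm ≪≫ homologyTCxIso A I 0 ≪≫
        A.rightDerivedZeroIsoSelf.app X
  exact ⟨DerivedCategory.Plus.ι.preimageIso
    ((DerivedCategory.singleFunctor C' 0).mapIso eW.symm ≪≫ e.symm)⟩

/-- `R^n (A ⋙ S) X = R^n S (A X)` for an `A`-acyclic object `X`. -/
theorem nonempty_rightDerived_comp_of_acyclic [PreservesFiniteLimits S]
    (hA : ∀ Q : C, Injective Q → ∀ q : ℕ, 0 < q → IsZero ((S.rightDerived q).obj (A.obj Q)))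
    (X : C) (hX : ∀ q : ℕ, 0 < q → IsZero ((A.rightDerived q).obj X)) (n : ℕ) :
    Nonempty (((A ⋙ S).rightDerived n).obj X ≅ (S.rightDerived n).obj (A.obj X)) := by
  let I := injectiveResolution X
  obtain ⟨e⟩ := nonempty_hhTCxIso A S I hA n
  obtain ⟨e'⟩ := nonempty_singleTCxIso_of_acyclic A I hX
  exact ⟨e.symm ≪≫ (HH S (n : ℤ)).mapIso e'.symm ≪≫ hhSingleZeroIso S (A.obj X) n⟩

end Groth.L17.GrothSS
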