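import Groth.Agent.L17.Kun.AffinePush
import Groth.Agent.L17.FlatBase.DegZero
import Groth.Agent.L24.RpushBC.Main
import Groth.Agent.L12.KRes.PushVan
import Groth.Agent.L29.DCoh.GenPush
import Groth.Agent.L18.AmplePull
import Groth.Agent.L19.Limit.RelAmple
import Groth.Agent.L27.Quot.ProjProper
import Groth.Agent.S0055
import Groth.Agent.S4474

/-!
# Twists of direct images from affine base changes
-/

set_option autoImplicit false
set_option linter.style.haveILetI false
set_option backward.isDefEq.respectTransparency false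
set_option backward.isDefEq.respectTransparency.types false

universe u

open CategoryTheory CategoryTheory.Limits AlgebraicGeometry TopologicalSpace Opposite

noncomputable section

namespace Groth.L17.AffineBCTwists

variable {X Y X' Y' : Scheme.{u}}

/-- Projection formula along an affine morphism. -/
theorem nonempty_projection (q : X' ⟶ X) [IsAffineHom q] (M : X.Modules) [Coh.IsQCoh M] (G : X'.Modules)
    [Coh.IsQCoh G] : Nonempty (CohB1.tensorMod ((Scheme.Modules.pushforward q).obj G) M ≅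
      (Scheme.Modules.pushforward q).obj (CohB1.tensorMod G ((Scheme.Modules.pullback q).obj M))) := by
  let hc : IsPullback (𝟙 X') q q (𝟙 X) := IsPullback.of_horiz_isIso ⟨by simp⟩
  haveI := Groth.L17.Kun.isIso_θc q (𝟙 X) (𝟙 X') q hc M G
  exact ⟨Groth.L00.Tensor.tensorComm _ _ ≪≫
    Groth.L00.Tensor.tensorIso (Iso.refl M) ((Scheme.Modules.pullbackId X).app _).symm ≪≫
    asIso (Groth.L17.FlatPair.θc q (𝟙 X) (𝟙 X') q hc.w M G) ≪≫
    (Scheme.Modules.pushforward q).mapIso
      (Groth.L00.Tensor.tensorIso (Iso.refl _) ((Scheme.Modules.pullbackId X').app _) ≪≫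
        Groth.L00.Tensor.tensorComm _ _)⟩

variable (f : X ⟶ Y) (g : Y' ⟶ Y) [IsAffineHom g] (g' : X' ⟶ X) (f' : X' ⟶ Y') (hsq : IsPullback g' f' f g)
  [QuasiCompact f] [QuasiSeparated f] (N : X'.Modules) [Coh.IsQCoh N]

include hsq in
theorem isZero_RpushAb_push (p : ℕ) (hp : 0 < p)
    (h : IsZero ((Coh.RpushAb f' p).obj (Coh.toAb N))) :
    IsZero ((Coh.RpushAb f p).obj (Coh.toAb ((Scheme.Modules.pushforward g').obj N))) := by
  haveI : IsAffineHom g' := MorphismProperty.of_isPullback hsq.flip ‹IsAffineHom g›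
  haveI : QuasiCompact f' := MorphismProperty.of_isPullback hsq ‹QuasiCompact f›
  haveI : QuasiSeparated f' := MorphismProperty.of_isPullback hsq ‹QuasiSeparated f›
  obtain ⟨k, rfl⟩ : ∃ k, p = k + 1 := ⟨p - 1, by omega⟩
  refine Groth.L24.RpushBC.isZero_RpushAb_of_basis f _ k Y.isBasis_affineOpens fun W hW x => ?_
  have e1 : g' ⁻¹ᵁ (f ⁻¹ᵁ W) = f' ⁻¹ᵁ (g ⁻¹ᵁ W) := by
    rw [← Scheme.Hom.comp_preimage, ← Scheme.Hom.comp_preimage, hsq.w]
  haveI : Subsingleton (Groth.L17.HU (X := X'.toTopCat) (g' ⁻¹ᵁ (f ⁻¹ᵁ W)) (Coh.toAb N) (k + 1)) := by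
    rw [e1]
    exact Groth.L12.KRes.subsingleton_HU_of_Rpush f' (hW.preimage g) N _ h
  obtain ⟨e⟩ := Groth.L10.SiteCoh.nonempty_push_compare (Opens.grothendieckTopology X.toTopCat) (Opens.map g'.base)
    (f ⁻¹ᵁ W) (fun I m _ => Groth.L10.TopCoh.subsingleton_ext_of_flasque _
      (@Groth.L10.TopCoh.isFlasque_of_injective _ _ (Groth.L10.TopCoh.push_injective g'.base I)) (f ⁻¹ᵁ W) m)
    (Coh.toAb N) (Groth.L17.locAcyclic_of_isAffineHom g' N) (k + 1)
  exact e.symm.injective ((‹Subsingleton (Groth.L17.HU (X := X'.toTopCat) (g' ⁻¹ᵁ (f ⁻¹ᵁ W)) (Coh.toAb N) (k + 1))›).elim _ _)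

omit [QuasiCompact f] [QuasiSeparated f] in
include hsq in
theorem epi_counit_push [QuasiCompact f'] [QuasiSeparated f']
    (h : Epi ((Scheme.Modules.pullbackPushforwardAdjunction f').counit.app N)) :
    Epi ((Scheme.Modules.pullbackPushforwardAdjunction f).counit.app ((Scheme.Modules.pushforward g').obj N)) := by
  haveI : IsAffineHom g' := MorphismProperty.of_isPullback hsq.flip ‹IsAffineHom g›
  let K := (Scheme.Modules.pushforward f').obj N
  haveI : Coh.IsQCoh K := Groth.L16.QcqsPush.isQCoh_push N f'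
  haveI : Coh.IsQCoh ((Scheme.Modules.pullback f').obj K) := Groth.L16.AffineBC.isQCoh_pullback f' K
  haveI : Coh.IsQCoh ((Scheme.Modules.pushforward f' ⋙ Scheme.Modules.pullback f').obj N) :=
    ‹Coh.IsQCoh ((Scheme.Modules.pullback f').obj K)›
  haveI : Coh.IsQCoh ((𝟭 X'.Modules).obj N) := ‹Coh.IsQCoh N›
  haveI := h
  haveI : Epi ((Scheme.Modules.pushforward g').map ((Scheme.Modules.pullbackPushforwardAdjunction f').counit.app N)) :=
    Groth.L29.DC.GenPush.epi_push_map g' _
  haveI := Groth.L17.DegZero.isIso_of_isAffineHom g f f' g' K hsq.flip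
  let Φ := ((Scheme.Modules.pullbackPushforwardAdjunction f).homEquiv _ _).symm
      (Groth.L17.DegZero.vMap g f f' g' hsq.flip.w K) ≫
    (Scheme.Modules.pushforward g').map ((Scheme.Modules.pullbackPushforwardAdjunction f').counit.app N)
  have hΦ : Epi Φ := epi_comp _ _
  rw [← (Scheme.Modules.pullbackPushforwardAdjunction f).homEquiv _ _ |>.symm_apply_apply Φ,
    Adjunction.homEquiv_counit] at hΦ
  exact @epi_of_epi _ _ _ _ _ _ _ hΦ

end Groth.L17.AffineBCTwists

theorem Groth.L17.AffineBCTwists.exists_bound {X Y X' Y' : Scheme.{u}}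
    [AlgebraicGeometry.IsNoetherian Y] (f : X ⟶ Y) (hf : RelProj.IsProjective f)
    (L : X.Modules) (hL : PicF.IsInvertible L) (hamp : RelAmple.IsRelAmple f L)
    (g : Y' ⟶ Y) [IsAffineHom g] [LocallyOfFiniteType g] (g' : X' ⟶ X) (f' : X' ⟶ Y')
    (hsq : IsPullback g' f' f g) (G : X'.Modules) (hG : Coh.IsCoh G) :
    ∃ N : ℕ, ∀ n : ℕ, N ≤ n →
      (∀ p : ℕ, 0 < p →
        IsZero ((Coh.RpushAb f p).obj (Coh.toAb (CohB1.tensorMod ((Coh.push g').obj G) (CohB1.tensorPow L n))))) ∧
      Epi ((Scheme.Modules.pullbackPushforwardAdjunction f).counit.app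
        (CohB1.tensorMod ((Coh.push g').obj G) (CohB1.tensorPow L n))) := by
  haveI : IsProper f := Groth.L27.ProjProper.isProper_of_isProjective hf
  haveI : IsProper f' := MorphismProperty.of_isPullback hsq ‹IsProper f›
  haveI : IsAffineHom g' := MorphismProperty.of_isPullback hsq.flip ‹IsAffineHom g›
  haveI : IsLocallyNoetherian Y' := LocallyOfFiniteType.isLocallyNoetherian g
  haveI : CompactSpace Y' := QuasiCompact.compactSpace_of_compactSpace g
  haveI : IsNoetherian Y' := {}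
  let L' := (Scheme.Modules.pullback g').obj L
  have hL' : PicF.IsInvertible L' := Groth.L18.Ample.isInvertible_pullback g' hL
  have hamp' : RelAmple.IsRelAmple f' L' := Groth.L19.Limit.isRelAmple_of_isPullback hsq hamp
  obtain ⟨n₀, hn₀⟩ := Groth.Agent.S0055.result f' L' hL' (fun W hW => hamp'.2 ⟨W, hW⟩) G hG
  obtain ⟨n₁, hn₁⟩ := Groth.Agent.S4474.result f' L' hL' hamp' G hG
  refine ⟨max n₀ n₁, fun n hn => ?_⟩
  let Lp := CohB1.tensorPow L n
  haveI : Coh.IsQCoh Lp := Groth.L21.Extend.isQCoh_of_isInvertible (Groth.L18.Ample.isInvertible_tensorPow hL n)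
  haveI : Coh.IsQCoh G := hG.1
  let eP := Groth.L18.Ample.pullPow g' L n
  obtain ⟨eQ⟩ := Groth.L17.AffineBCTwists.nonempty_projection g' Lp G
  let N' := CohB1.tensorMod G (CohB1.tensorPow L' n)
  haveI : Coh.IsQCoh (CohB1.tensorPow L' n) :=
    Groth.L21.Extend.isQCoh_of_isInvertible (Groth.L18.Ample.isInvertible_tensorPow hL' n)
  haveI : Coh.IsQCoh N' := Groth.L00.Tensor.isQCoh_tensorMod _ _
  let e : CohB1.tensorMod ((Coh.push g').obj G) Lp ≅ (Scheme.Modules.pushforward g').obj N' :=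
    eQ ≪≫ (Scheme.Modules.pushforward g').mapIso (Groth.L00.Tensor.tensorIso (Iso.refl G) eP)
  refine ⟨fun p hp => (Groth.L17.AffineBCTwists.isZero_RpushAb_push f g g' f' hsq N' p hp
    (hn₀ n (by omega) p hp)).of_iso ((Coh.RpushAb f p).mapIso ((Groth.L17.toAbShF X).mapIso e)), ?_⟩
  haveI := Groth.L17.AffineBCTwists.epi_counit_push f g g' f' hsq N' (hn₁ n (by omega))
  let adj := Scheme.Modules.pullbackPushforwardAdjunction f
  have hnat := adj.counit.naturality e.inv
  have hEpi : Epi ((Scheme.Modules.pushforward f ⋙ Scheme.Modules.pullback f).map e.inv ≫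
      adj.counit.app (CohB1.tensorMod ((Coh.push g').obj G) Lp)) := by
    rw [hnat]
    exact @epi_comp _ _ _ _ _ _ this _ _
  exact @epi_of_epi _ _ _ _ _ _ _ hEpi
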