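import Groth.Agent.L17.CechRpush
import Groth.Agent.L17.FlatBase.DegZero
import Groth.Agent.L29.DCoh.RpushQCoh

/-!
# Base change of relative Čech complexes
-/

set_option autoImplicit false
set_option backward.defeqAttrib.useBackward true
set_option backward.isDefEq.respectTransparency false
set_option backward.isDefEq.respectTransparency.types false
set_option linter.style.haveILetI false
set_option linter.unusedSectionVars false

universe u

open CategoryTheory CategoryTheory.Limits AlgebraicGeometry TopologicalSpace Opposite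
open scoped TensorProduct

noncomputable section

namespace Groth.L17.CechBC

open Groth.L18.Frame (rs ro pull rs_rs rs_self rs_smul ro_ro pull_rs pull_smul)
open Groth.L17.CechShRes (tup)

variable {X S X' S' : Scheme.{u}} (f : X ⟶ S) (g : S' ⟶ S) (g' : X' ⟶ X) (f' : X' ⟶ S')
  (F : X.Modules)

/-- The part of an open inside `W`, as the image of its preimage. -/
abbrev part {Y : Scheme.{u}} (W U : Y.Opens) : Y.Opens := W.ι ''ᵁ (W.ι ⁻¹ᵁ U)

theorem part_eq {Y : Scheme.{u}} (W U : Y.Opens) : part W U = W ⊓ U := by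
  show W.ι ''ᵁ (W.ι ⁻¹ᵁ U) = _
  rw [Scheme.Hom.image_preimage_eq_opensRange_inf, Scheme.Opens.opensRange_ι]

variable {W : X.Opens} {W' : X'.Opens} (h : W' ≤ g' ⁻¹ᵁ W)

include h in
theorem part_le_preimage (U : X.Opens) : part W' (g' ⁻¹ᵁ U) ≤ g' ⁻¹ᵁ part W U := by
  rw [part_eq, part_eq, Scheme.Hom.preimage_inf]
  exact inf_le_inf_right _ h

/-- Pullback of sections, on underlying presheaves. -/
def ηPre : ((CechOX.pushRestr W).obj F).presheaf ⟶
    ((Scheme.Modules.pushforward g').obj ((CechOX.pushRestr W').obj ((Scheme.Modules.pullback g').obj F))).presheaf where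
  app U := AddCommGrpCat.ofHom
    (AddMonoidHom.mk' (fun s => rs ((Scheme.Modules.pullback g').obj F) (part_le_preimage g' h U.unop) (pull g' F (part W U.unop) s)) fun a b =>
      (congrArg (rs ((Scheme.Modules.pullback g').obj F) (part_le_preimage g' h U.unop)) (map_add
        (((Scheme.Modules.pullbackPushforwardAdjunction g').unit.app F).app (part W U.unop)).hom a b)).trans
        (map_add (((Scheme.Modules.pullback g').obj F).presheaf.map (homOfLE (part_le_preimage g' h U.unop)).op).hom _ _))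
  naturality U V i := by
    ext s
    show rs ((Scheme.Modules.pullback g').obj F) (part_le_preimage g' h V.unop) (pull g' F (part W V.unop)
        (rs F (W.ι.image_mono (W.ι.preimage_mono i.unop.le)) (show Γ(F, part W U.unop) from s))) =
      rs ((Scheme.Modules.pullback g').obj F) (W'.ι.image_mono (W'.ι.preimage_mono (g'.preimage_mono i.unop.le)))
        (rs ((Scheme.Modules.pullback g').obj F) (part_le_preimage g' h U.unop) (pull g' F (part W U.unop) s))
    rw [← pull_rs, rs_rs, rs_rs]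

/-- Pullback of sections over intersections with an open. -/
def η : (CechOX.pushRestr W).obj F ⟶ (Scheme.Modules.pushforward g').obj ((CechOX.pushRestr W').obj ((Scheme.Modules.pullback g').obj F)) :=
  ⟨PresheafOfModules.homMk (ηPre g' F h) (fun U r m => by
    obtain ⟨U⟩ := U
    change ↑(Γ(X, U)) at r
    change rs ((Scheme.Modules.pullback g').obj F) (part_le_preimage g' h U) (pull g' F (part W U)
        (((W.ι.appIso (W.ι ⁻¹ᵁ U)).inv (W.ι.app U r)) • (show Γ(F, part W U) from m))) =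
      ((W'.ι.appIso (W'.ι ⁻¹ᵁ (g' ⁻¹ᵁ U))).inv (W'.ι.app (g' ⁻¹ᵁ U) (g'.app U r))) •
        rs ((Scheme.Modules.pullback g').obj F) (part_le_preimage g' h U) (pull g' F (part W U) (show Γ(F, part W U) from m))
    rw [pull_smul, rs_smul]
    congr 1
    have h1 := ConcreteCategory.congr_hom (W.ι.app_appIso_inv U) r
    have h2 := ConcreteCategory.congr_hom (W'.ι.app_appIso_inv (g' ⁻¹ᵁ U)) (g'.app U r)
    have h3 := ConcreteCategory.congr_hom
      (g'.naturality (homOfLE (Set.image_preimage_subset W.ι.base U.1) : part W U ⟶ U).op) r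
    simp only [CategoryTheory.comp_apply] at h1 h2 h3
    erw [h1, h2, h3]
    exact ro_ro _ _ _)⟩

theorem η_app (U : X.Opens) (s : Γ(F, part W U)) :
    (η g' F h).app U s = rs ((Scheme.Modules.pullback g').obj F) (part_le_preimage g' h U) (pull g' F (part W U) s) := rfl

variable (w : g' ≫ f = f' ≫ g)

include w in
theorem pre_w (U : S.Opens) : f' ⁻¹ᵁ (g ⁻¹ᵁ U) ≤ g' ⁻¹ᵁ (f ⁻¹ᵁ U) := fun x hx => by
  show f (g' x) ∈ U
  rw [← Scheme.Hom.comp_apply, w, Scheme.Hom.comp_apply]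
  exact hx

/-- The map `f_* (W-part of F) ⟶ g_* f'_* (W'-part of g'^* F)`. -/
def vW : (Scheme.Modules.pushforward f).obj ((CechOX.pushRestr W).obj F) ⟶
    (Scheme.Modules.pushforward g).obj ((Scheme.Modules.pushforward f').obj ((CechOX.pushRestr W').obj ((Scheme.Modules.pullback g').obj F))) :=
  (Scheme.Modules.pushforward f).map (η g' F h) ≫
    (Scheme.Modules.pushforwardComp g' f).hom.app ((CechOX.pushRestr W').obj ((Scheme.Modules.pullback g').obj F)) ≫
    (Scheme.Modules.pushforwardCongr w).hom.app ((CechOX.pushRestr W').obj ((Scheme.Modules.pullback g').obj F)) ≫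
    (Scheme.Modules.pushforwardComp f' g).inv.app ((CechOX.pushRestr W').obj ((Scheme.Modules.pullback g').obj F))

include h w in
theorem part_le_part (U : S.Opens) : part W' (f' ⁻¹ᵁ (g ⁻¹ᵁ U)) ≤ g' ⁻¹ᵁ part W (f ⁻¹ᵁ U) :=
  (W'.ι.image_mono (W'.ι.preimage_mono (pre_w f g g' f' w U))).trans (part_le_preimage g' h _)

theorem vW_app (U : S.Opens) (s : Γ(F, part W (f ⁻¹ᵁ U))) :
    (vW f g g' f' F h w).app U s =
      rs ((Scheme.Modules.pullback g').obj F) (part_le_part f g g' f' h w U) (pull g' F (part W (f ⁻¹ᵁ U)) s) := by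
  simp only [vW, Scheme.Modules.Hom.comp_app]
  exact rs_rs ((Scheme.Modules.pullback g').obj F) (part_le_preimage g' h (f ⁻¹ᵁ U))
    (W'.ι.image_mono (W'.ι.preimage_mono (pre_w f g g' f' w U))) (pull g' F (part W (f ⁻¹ᵁ U)) s)

/-- The base change map on one factor. -/
def ψW : (Scheme.Modules.pullback g).obj ((Scheme.Modules.pushforward f).obj ((CechOX.pushRestr W).obj F)) ⟶
    (Scheme.Modules.pushforward f').obj ((CechOX.pushRestr W').obj ((Scheme.Modules.pullback g').obj F)) :=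
  ((Scheme.Modules.pullbackPushforwardAdjunction g).homEquiv _ _).symm (vW f g g' f' F h w)

theorem ψW_natural {W₂ : X.Opens} {W₂' : X'.Opens} (h₂ : W₂' ≤ g' ⁻¹ᵁ W₂) (i : W₂ ≤ W) (i' : W₂' ≤ W') :
    (Scheme.Modules.pullback g).map ((Scheme.Modules.pushforward f).map (CechOX.pushRestrMapApp i F)) ≫
        ψW f g g' f' F h₂ w =
      ψW f g g' f' F h w ≫ (Scheme.Modules.pushforward f').map (CechOX.pushRestrMapApp i' ((Scheme.Modules.pullback g').obj F)) := by
  rw [ψW, ψW, ← Adjunction.homEquiv_naturality_left_symm, ← Adjunction.homEquiv_naturality_right_symm]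
  congr 1
  apply Scheme.Modules.hom_ext
  intro U
  ext s
  show (vW f g g' f' F h₂ w).app U (rs F (CechOX.image_preimage_mono i (f ⁻¹ᵁ U)) s) =
    rs ((Scheme.Modules.pullback g').obj F) (CechOX.image_preimage_mono i' (f' ⁻¹ᵁ (g ⁻¹ᵁ U))) ((vW f g g' f' F h w).app U s)
  rw [vW_app, vW_app, ← pull_rs, rs_rs, rs_rs]

theorem isIso_ψW (hc : IsPullback g' f' f g) (hW' : W' = g' ⁻¹ᵁ W) [IsAffineHom W.ι] [IsAffineHom (W.ι ≫ f)]
    [Coh.IsQCoh F] : IsIso (ψW f g g' f' F h hc.w) := by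
  subst hW'
  haveI : Coh.IsQCoh (F.restrict W.ι) := Scheme.Modules.isQuasicoherent_restrictFunctor W.ι F
  let N := (Scheme.Modules.pushforward f).obj ((CechOX.pushRestr W).obj F)
  haveI : Coh.IsQCoh N :=
    (SheafOfModules.isQuasicoherent S.ringCatSheaf).prop_of_iso
      ((Scheme.Modules.pushforwardComp W.ι f).app (F.restrict W.ι)).symm
      (Groth.L16.QcqsPush.isQCoh_push (F.restrict W.ι) (W.ι ≫ f))
  refine Groth.L17.DegZero.isIso_of_affine _ fun z => ?_
  obtain ⟨_, ⟨V, hV, rfl⟩, hzV, -⟩ :=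
    S.isBasis_affineOpens.exists_subset_of_mem_open (Set.mem_univ (g z)) isOpen_univ
  refine ⟨g ⁻¹ᵁ V, hzV, fun V' eV hV' => ?_⟩
  set u₀ := ψW f g g' f' F h hc.w
  letI alg : Algebra Γ(S, V) Γ(S', V') := (g.appLE V V' eV).hom.toAlgebra
  have eW : part W (f ⁻¹ᵁ V) ≤ f ⁻¹ᵁ V := W.ι.image_preimage_le _
  have hWV : IsAffineOpen (part W (f ⁻¹ᵁ V)) := (hV.preimage (W.ι ≫ f)).image_of_isOpenImmersion W.ι
  let T := part (g' ⁻¹ᵁ W) (f' ⁻¹ᵁ V')
  have he : T ≤ g' ⁻¹ᵁ part W (f ⁻¹ᵁ V) :=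
    ((g' ⁻¹ᵁ W).ι.image_mono ((g' ⁻¹ᵁ W).ι.preimage_mono (f'.preimage_mono eV))).trans
      (part_le_part f g g' f' h hc.w V)
  have he' : T ≤ f' ⁻¹ᵁ V' := (g' ⁻¹ᵁ W).ι.image_preimage_le _
  have hb : Function.Bijective (Groth.L17.DegZero.β f g g' f' hc.w F eV alg rfl eW T he he') := by
    have hg := Groth.L17.DegZero.good_affine f g g' f' hc.w F eV alg rfl hc hV hV' hWV eW
    have heq : ∀ (O : X'.Opens) (a : O ≤ g' ⁻¹ᵁ part W (f ⁻¹ᵁ V)) (b : O ≤ f' ⁻¹ᵁ V'), O = T →
        Function.Bijective (Groth.L17.DegZero.β f g g' f' hc.w F eV alg rfl eW O a b) →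
        Function.Bijective (Groth.L17.DegZero.β f g g' f' hc.w F eV alg rfl eW T he he') := by
      rintro O a b rfl hb; exact hb
    refine heq _ _ _ (le_antisymm ?_ (le_inf he he')) hg
    rintro x ⟨hx, hx'⟩
    rw [part_eq] at hx
    show x ∈ part (g' ⁻¹ᵁ W) (f' ⁻¹ᵁ V')
    rw [part_eq]
    exact ⟨hx.1, hx'⟩
  letI : Module Γ(S, V) Γ((Scheme.Modules.pullback g).obj N, V') := Module.compHom _ (g.appLE V V' eV).hom
  haveI : IsScalarTower Γ(S, V) Γ(S', V') Γ((Scheme.Modules.pullback g).obj N, V') :=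
    IsScalarTower.of_algebraMap_smul fun _ _ => rfl
  have hpr := Groth.L16.AffineBC.isBaseChange_pull g N hV hV' eV
  let e : Groth.L17.DegZero.SecA f F eW →ₗ[Γ(S, V)] Γ(N, V) :=
    { toFun := id, map_add' := fun _ _ => rfl,
      map_smul' := fun a m => by
        show (f.appLE V (part W (f ⁻¹ᵁ V)) eW).hom a • (show Γ(F, part W (f ⁻¹ᵁ V)) from m) =
          ((W.ι.appIso (W.ι ⁻¹ᵁ (f ⁻¹ᵁ V))).inv (W.ι.app (f ⁻¹ᵁ V) (f.app V a))) •
            (show Γ(F, part W (f ⁻¹ᵁ V)) from m)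
        congr 1
        exact (ConcreteCategory.congr_hom (W.ι.app_appIso_inv (f ⁻¹ᵁ V)) (f.app V a)).symm }
  let E : Γ(S', V') ⊗[Γ(S, V)] Groth.L17.DegZero.SecA f F eW ≃ₗ[Γ(S, V)] Γ(S', V') ⊗[Γ(S, V)] Γ(N, V) :=
    TensorProduct.congr (LinearEquiv.refl _ _) (LinearEquiv.ofBijective e Function.bijective_id)
  have key : ∀ x, u₀.app V' (hpr.equiv (E x)) =
      Groth.L17.DegZero.β f g g' f' hc.w F eV alg rfl eW T he he' x := by
    intro x
    induction x using TensorProduct.induction_on with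
    | zero => simp only [map_zero]
    | add a b ha hb =>
      rw [map_add, map_add, map_add, ha, hb]
      exact (map_add (Groth.L17.DegZero.β f g g' f' hc.w F eV alg rfl eW T he he') a b).symm
    | tmul c t =>
      show u₀.app V' (hpr.equiv (c ⊗ₜ (show Γ(N, V) from t))) = _
      rw [IsBaseChange.equiv_tmul, Groth.L17.DegZero.β_tmul]
      refine (u₀.app_smul c _).trans ?_
      show ((g' ⁻¹ᵁ W).ι.appIso ((g' ⁻¹ᵁ W).ι ⁻¹ᵁ (f' ⁻¹ᵁ V'))).inv
          ((g' ⁻¹ᵁ W).ι.app (f' ⁻¹ᵁ V') (f'.app V' c)) •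
        (show Γ(((Scheme.Modules.pullback g').obj F), T) from u₀.app V' (rs _ eV (pull g N V t))) = _
      refine congrArg₂ (fun (a : Γ(X', T)) (b : Γ(((Scheme.Modules.pullback g').obj F), T)) => a • b) ?_ ?_
      · exact ConcreteCategory.congr_hom ((g' ⁻¹ᵁ W).ι.app_appIso_inv (f' ⁻¹ᵁ V')) (f'.app V' c)
      · refine (Groth.L17.DegZero.app_rs u₀ eV _).trans ?_
        refine (congrArg (rs _ eV) ((Groth.L17.DegZero.transpose_app g (vW f g g' f' F h hc.w) V t).trans
          (vW_app f g g' f' F h hc.w V t))).trans ?_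
        exact rs_rs ((Scheme.Modules.pullback g').obj F) _ ((g' ⁻¹ᵁ W).ι.image_mono ((g' ⁻¹ᵁ W).ι.preimage_mono (f'.preimage_mono eV))) _
  have : Function.Bijective (fun x => u₀.app V' (hpr.equiv (E x))) := by
    rw [funext key]
    exact hb
  exact (Function.Bijective.of_comp_iff _ (hpr.equiv.bijective.comp E.bijective)).1 this

section Complex

attribute [local instance] Groth.L17.PushQCoh.additive_push

variable {ι : Type u} (𝒰 : ι → X.Opens)

theorem preimage_tup {n : ℕ} (a : Fin (n + 1) → ι) :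
    tup (fun i => g' ⁻¹ᵁ 𝒰 i) a = g' ⁻¹ᵁ tup 𝒰 a := by
  refine le_antisymm ?_ (CechShRes.le_tup _ fun k => g'.preimage_mono (CechShRes.tup_le 𝒰 a k))
  have h : (Finset.univ.inf fun k => 𝒰 (a k)) ≤ tup 𝒰 a :=
    CechShRes.le_tup 𝒰 fun k => Finset.inf_le (Finset.mem_univ k)
  refine le_trans ?_ (g'.preimage_mono h)
  intro x hx
  show g' x ∈ ((Finset.univ.inf fun k => 𝒰 (a k) : X.Opens) : Set X)
  rw [TopologicalSpace.Opens.coe_finset_inf, Finset.inf_set_eq_iInter]
  exact Set.mem_iInter₂.2 fun k _ => CechShRes.tup_le (fun i => g' ⁻¹ᵁ 𝒰 i) a k hx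

theorem nonempty_iso (hc : IsPullback g' f' f g) [Coh.IsQCoh F] [Finite ι]
    [(Scheme.Modules.pullback g).Additive]
    (hU : ∀ (n : ℕ) (a : Fin (n + 1) → ι), IsAffineHom (tup 𝒰 a).ι ∧ IsAffineHom ((tup 𝒰 a).ι ≫ f)) :
    Nonempty (((Scheme.Modules.pullback g).mapHomologicalComplex (ComplexShape.up ℕ)).obj
        ((CechOX.relCech 𝒰 f).obj F) ≅
      (CechOX.relCech (fun i => g' ⁻¹ᵁ (𝒰 i)) f').obj ((Scheme.Modules.pullback g').obj F)) := by
  let G' := (Scheme.Modules.pullback g').obj F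
  let 𝒰' := fun i => g' ⁻¹ᵁ 𝒰 i
  let A := Scheme.Modules.pushforward f ⋙ Scheme.Modules.pullback g
  let B := Scheme.Modules.pushforward f'
  haveI : A.Additive := inferInstanceAs (Scheme.Modules.pushforward f ⋙ Scheme.Modules.pullback g).Additive
  haveI : PreservesFiniteProducts A := inferInstance
  haveI : PreservesFiniteProducts B := inferInstance
  have hle : ∀ {n : ℕ} (a : Fin (n + 1) → ι), tup 𝒰' a ≤ g' ⁻¹ᵁ tup 𝒰 a := fun a => (preimage_tup g' 𝒰 a).le
  let ψ : ∀ {n : ℕ} (a : Fin (n + 1) → ι),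
      A.obj (CechShRes.factor 𝒰 F a) ⟶ B.obj (CechShRes.factor 𝒰' G' a) := fun a =>
    ψW f g g' f' F (hle a) hc.w
  have hiso : ∀ {n : ℕ} (a : Fin (n + 1) → ι), IsIso (ψ a) := fun {n} a =>
    haveI := (hU n a).1
    haveI := (hU n a).2
    isIso_ψW f g g' f' F (hle a) hc (preimage_tup g' 𝒰 a)
  let π := fun {n : ℕ} (a : Fin (n + 1) → ι) => Pi.π (fun b : Fin (n + 1) → ι => CechShRes.factor 𝒰 F b) a
  let π' := fun {n : ℕ} (a : Fin (n + 1) → ι) => Pi.π (fun b : Fin (n + 1) → ι => CechShRes.factor 𝒰' G' b) a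
  have hex : ∀ n : ℕ, ∃ e : A.obj ((CechShRes.K 𝒰 F).X n) ≅ B.obj ((CechShRes.K 𝒰' G').X n),
      ∀ a : Fin (n + 1) → ι, e.hom ≫ B.map (π' a) = A.map (π a) ≫ ψ a := by
    intro n
    let M := fun b : Fin (n + 1) → ι => CechShRes.factor 𝒰 F b
    let M' := fun b : Fin (n + 1) → ι => CechShRes.factor 𝒰' G' b
    haveI := fun b : Fin (n + 1) → ι => hiso b
    refine ⟨PreservesProduct.iso A M ≪≫ Pi.mapIso (fun b => asIso (ψ b)) ≪≫ (PreservesProduct.iso B M').symm,
      fun a => ?_⟩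
    have hB : (PreservesProduct.iso B M').inv ≫ B.map (Pi.π M' a) = Pi.π _ a := by
      rw [Iso.inv_comp_eq, PreservesProduct.iso_hom, piComparison_comp_π]
    simp only [Iso.trans_hom, Iso.symm_hom, Category.assoc]
    erw [hB]
    have hA : (PreservesProduct.iso A M).hom ≫ (Pi.mapIso fun b => asIso (ψ b)).hom ≫ Pi.π (fun b => B.obj (M' b)) a =
        A.map (Pi.π M a) ≫ ψ a := by
      rw [show (Pi.mapIso fun b => asIso (ψ b)).hom = Limits.Pi.map (fun b => ψ b) from rfl, Limits.Pi.map_π, ← Category.assoc, PreservesProduct.iso_hom, piComparison_comp_π]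
    exact hA
  choose e he using hex
  refine ⟨HomologicalComplex.Hom.isoOfComponents e fun i j hij => ?_⟩
  obtain rfl : i + 1 = j := hij
  show (e i).hom ≫ B.map ((CechShRes.K 𝒰' G').d i (i + 1)) = A.map ((CechShRes.K 𝒰 F).d i (i + 1)) ≫ (e (i + 1)).hom
  let M' := fun b : Fin (i + 1 + 1) → ι => CechShRes.factor 𝒰' G' b
  rw [← cancel_mono (PreservesProduct.iso B M').hom]
  refine Pi.hom_ext _ _ fun a => ?_
  simp only [Category.assoc, PreservesProduct.iso_hom, piComparison_comp_π]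
  erw [he (i + 1) a]
  rw [← B.map_comp, ← Category.assoc (A.map _), ← A.map_comp, CechShRes.d_π, CechShRes.d_π, B.map_sum, A.map_sum,
    Preadditive.comp_sum, Preadditive.sum_comp]
  refine Finset.sum_congr rfl fun j _ => ?_
  rw [B.map_zsmul, A.map_zsmul, Preadditive.comp_zsmul, Preadditive.zsmul_comp, B.map_comp, A.map_comp,
    ← Category.assoc, he i, Category.assoc, Category.assoc]
  congr 2
  exact (ψW_natural f g g' f' F (hle (a ∘ j.succAbove)) hc.w (hle a) (CechShRes.face_le 𝒰 j a)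
    (CechShRes.face_le 𝒰' j a)).symm

theorem isAffineHom_preimage (hc : IsPullback g' f' f g) (W : X.Opens) [IsAffineHom W.ι] [IsAffineHom (W.ι ≫ f)] :
    IsAffineHom (g' ⁻¹ᵁ W).ι ∧ IsAffineHom ((g' ⁻¹ᵁ W).ι ≫ f') := by
  have h1 : IsPullback (g' ∣_ W) (g' ⁻¹ᵁ W).ι W.ι g' := isPullback_morphismRestrict g' W
  exact ⟨MorphismProperty.of_isPullback h1 ‹_›, MorphismProperty.of_isPullback (h1.paste_vert hc) ‹_›⟩

theorem iSup_preimage (hcov : ⨆ i, 𝒰 i = ⊤) : ⨆ i, g' ⁻¹ᵁ 𝒰 i = ⊤ := by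
  rw [← Scheme.Hom.preimage_iSup, hcov, Scheme.Hom.preimage_top]

attribute [local instance] HasDerivedCategory.standard

theorem nonempty_iso_Rpush (hc : IsPullback g' f' f g) [Coh.IsQCoh F] [Finite ι]
    [(Scheme.Modules.pullback g).Additive]
    (hU : ∀ (n : ℕ) (a : Fin (n + 1) → ι), IsAffineHom (tup 𝒰 a).ι ∧ IsAffineHom ((tup 𝒰 a).ι ≫ f))
    (hcov : ⨆ i, 𝒰 i = ⊤) [DCoh.HasRpush f'] :
    Nonempty (DCoh.toD S' ((((Scheme.Modules.pullback g).mapHomologicalComplex (ComplexShape.up ℕ)).obj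
        ((CechOX.relCech 𝒰 f).obj F)).extend ComplexShape.embeddingUpNat) ≅
      (DCoh.Rpush f').obj (DCoh.inD X' ((Scheme.Modules.pullback g').obj F))) := by
  obtain ⟨e⟩ := nonempty_iso f g g' f' F 𝒰 hc hU
  haveI : Coh.IsQCoh ((Scheme.Modules.pullback g').obj F) := Groth.L16.AffineBC.isQCoh_pullback g' F
  obtain ⟨e'⟩ := Groth.L17.CechRpush.relCech_iso_Rpush_of_affineHom f' ((Scheme.Modules.pullback g').obj F)
    (fun i => g' ⁻¹ᵁ 𝒰 i) (fun n a => by
      have key : ∀ O : X'.Opens, O = g' ⁻¹ᵁ tup 𝒰 a → IsAffineHom O.ι ∧ IsAffineHom (O.ι ≫ f') := by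
        rintro O rfl
        haveI := (hU n a).1
        haveI := (hU n a).2
        exact isAffineHom_preimage f g g' f' hc (tup 𝒰 a)
      exact key _ (preimage_tup g' 𝒰 a)) (iSup_preimage g' 𝒰 hcov)
  exact ⟨DerivedCategory.Q.mapIso ((ComplexShape.embeddingUpNat.extendFunctor S'.Modules).mapIso e) ≪≫ e'⟩

end Complex

end Groth.L17.CechBC
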