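import Groth.Prelude.Def_CechOX
import Groth.Agent.L21.Mod.Stalks
import Mathlib.CategoryTheory.Limits.Shapes.ConcreteCategory
import Mathlib.Algebra.Category.Grp.Limits
import Mathlib.Algebra.Homology.ShortComplex.Ab

/-!
# The Čech complex of sheaves is a resolution
-/

set_option autoImplicit false
set_option backward.defeqAttrib.useBackward true
set_option backward.isDefEq.respectTransparency false
set_option backward.isDefEq.respectTransparency.types false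
set_option linter.style.haveILetI false

universe u

open CategoryTheory CategoryTheory.Limits AlgebraicGeometry TopologicalSpace Opposite Simplicial

noncomputable section

namespace Groth.L17.CechShRes

variable {X : Scheme.{u}} {ι : Type u} (𝒰 : ι → X.Opens) (F : X.Modules)

/-- The intersection indexed by a tuple. -/
abbrev tup {n : ℕ} (a : Fin (n + 1) → ι) : X.Opens := ∏ᶜ (𝒰 ∘ a)

theorem tup_le {n : ℕ} (a : Fin (n + 1) → ι) (k : Fin (n + 1)) : tup 𝒰 a ≤ 𝒰 (a k) := leOfHom (Pi.π (𝒰 ∘ a) k)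

theorem le_tup {n : ℕ} {a : Fin (n + 1) → ι} {V : X.Opens} (h : ∀ k, V ≤ 𝒰 (a k)) : V ≤ tup 𝒰 a :=
  leOfHom (Pi.lift (f := 𝒰 ∘ a) fun k => homOfLE (h k))

theorem face_le {n : ℕ} (j : Fin (n + 2)) (a : Fin (n + 2) → ι) : tup 𝒰 a ≤ tup 𝒰 (a ∘ j.succAbove) :=
  le_tup 𝒰 fun k => tup_le 𝒰 a (j.succAbove k)

/-- The factors of the terms of the complex. -/
abbrev factor {n : ℕ} (a : Fin (n + 1) → ι) : X.Modules := (CechOX.pushRestr (tup 𝒰 a)).obj F

/-- The complex. -/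
abbrev K : CochainComplex X.Modules ℕ := (CechOX.cechSh 𝒰).obj F

theorem d_π {n : ℕ} (a : Fin (n + 2) → ι) :
    (K 𝒰 F).d n (n + 1) ≫ Pi.π (fun b : Fin (n + 2) → ι => factor 𝒰 F b) a =
      ∑ j : Fin (n + 2), (-1 : ℤ) ^ (j : ℕ) •
        (Pi.π (fun b : Fin (n + 1) → ι => factor 𝒰 F b) (a ∘ j.succAbove) ≫
          CechOX.pushRestrMapApp (face_le 𝒰 j a) F) := by
  let Z : CosimplicialObject X.Modules :=
    (FormalCoproduct.cosimplicialObjectFunctor (FormalCoproduct.mk _ 𝒰).cech).obj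
      ((CechOX.pushRestrFam (X := X)).flip.obj F)
  have hd : (K 𝒰 F).d n (n + 1) = AlgebraicTopology.AlternatingCofaceMapComplex.objD Z n :=
    @CochainComplex.of_d X.Modules _ _ ℕ _ _ _ (fun m : ℕ => (Z.obj (SimplexCategory.mk m) : X.Modules))
      (AlgebraicTopology.AlternatingCofaceMapComplex.objD Z) n
  rw [hd, AlgebraicTopology.AlternatingCofaceMapComplex.objD, Preadditive.sum_comp]
  refine Finset.sum_congr rfl fun j _ => ?_
  rw [Preadditive.zsmul_comp]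
  congr 1
  simp [Z, CosimplicialObject.δ]
  exact (Pi.lift_π _ a).trans rfl

theorem part_le {W W' V : X.Opens} (h : W ⊓ V ≤ W') : W.ι ''ᵁ (W.ι ⁻¹ᵁ V) ≤ W'.ι ''ᵁ (W'.ι ⁻¹ᵁ V) := by
  rw [Scheme.Hom.image_preimage_eq_opensRange_inf, Scheme.Hom.image_preimage_eq_opensRange_inf,
    Scheme.Opens.opensRange_ι, Scheme.Opens.opensRange_ι]
  exact le_inf h inf_le_right

theorem part_le_self (W V : X.Opens) : W.ι ''ᵁ (W.ι ⁻¹ᵁ V) ≤ V := W.ι.image_preimage_le V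

theorem le_part {W V : X.Opens} (h : V ≤ W) : V ≤ W.ι ''ᵁ (W.ι ⁻¹ᵁ V) := by
  rw [Scheme.Hom.image_preimage_eq_opensRange_inf, Scheme.Opens.opensRange_ι]
  exact le_inf h le_rfl

/-- Restriction. -/
abbrev r {A B : X.Opens} (h : A ≤ B) : Γ(F, B) ⟶ Γ(F, A) := F.presheaf.map (homOfLE h).op

theorem r_r {A B C : X.Opens} (h : A ≤ B) (h' : B ≤ C) (x : Γ(F, C)) : r F h (r F h' x) = r F (h.trans h') x := by
  rw [← ConcreteCategory.comp_apply, ← F.presheaf.map_comp]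
  rfl

theorem r_refl {A : X.Opens} (h : A ≤ A) (x : Γ(F, A)) : r F h x = x := by
  change F.presheaf.map (𝟙 (op A)) x = x
  rw [F.presheaf.map_id]
  rfl

/-- Sections over an open. -/
abbrev ev (V : X.Opens) : X.Modules ⥤ AddCommGrpCat.{u} :=
  Scheme.Modules.toPresheaf X ⋙ (evaluation (TopologicalSpace.Opens X)ᵒᵖ AddCommGrpCat.{u}).obj (op V)

instance (V : X.Opens) : (ev V).Additive where
  map_add := rfl

instance (V : X.Opens) (κ : Type u) : PreservesLimitsOfShape (Discrete κ) (ev (X := X) V) := by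
  haveI : PreservesLimitsOfShape (Discrete κ) (Scheme.Modules.toPresheaf X) := inferInstance
  haveI : PreservesLimitsOfShape (Discrete κ)
      ((evaluation (TopologicalSpace.Opens X)ᵒᵖ AddCommGrpCat.{u}).obj (op V)) :=
    evaluation_preservesLimitsOfShape _
  exact comp_preservesLimitsOfShape _ _

variable {n : ℕ} {V : X.Opens}

/-- The coordinate of a section. -/
def co (a : Fin (n + 1) → ι) :
    (Γ((K 𝒰 F).X n, V) : Type u) →+ Γ(F, (tup 𝒰 a).ι ''ᵁ ((tup 𝒰 a).ι ⁻¹ᵁ V)) :=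
  ((ev V).map (Pi.π (fun b : Fin (n + 1) → ι => factor 𝒰 F b) a)).hom

theorem co_d (a : Fin (n + 2) → ι) (x : Γ((K 𝒰 F).X n, V)) :
    co 𝒰 F a (((K 𝒰 F).d n (n + 1)).app V x) =
      ∑ j : Fin (n + 2), (-1 : ℤ) ^ (j : ℕ) •
        r F (part_le ((inf_le_left : tup 𝒰 a ⊓ V ≤ _).trans (face_le 𝒰 j a))) (co 𝒰 F (a ∘ j.succAbove) x) := by
  have h := congrArg (ev V).map (d_π 𝒰 F a)
  rw [Functor.map_comp, Functor.map_sum] at h
  refine (ConcreteCategory.congr_hom h x).trans ?_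
  refine (DFunLike.congr_fun (map_sum AddCommGrpCat.homAddEquiv _ _) x).trans ?_
  rw [AddMonoidHom.finsetSum_apply]
  refine Finset.sum_congr rfl fun j _ => ?_
  rw [Functor.map_zsmul]
  rfl

theorem co_ext {x y : Γ((K 𝒰 F).X n, V)} (h : ∀ a, co 𝒰 F a x = co 𝒰 F a y) : x = y := by
  let M := fun b : Fin (n + 1) → ι => factor 𝒰 F b
  let e := PreservesProduct.iso (ev V) M
  apply ((ConcreteCategory.isIso_iff_bijective e.hom).1 inferInstance).1
  refine (Concrete.productEquiv fun b => (ev V).obj (M b)).injective (funext fun a => ?_)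
  rw [Concrete.productEquiv_apply_apply, Concrete.productEquiv_apply_apply, ← ConcreteCategory.comp_apply, ← ConcreteCategory.comp_apply, PreservesProduct.iso_hom, piComparison_comp_π]
  exact h a

theorem exists_co (x : ∀ a : Fin (n + 1) → ι, Γ(F, (tup 𝒰 a).ι ''ᵁ ((tup 𝒰 a).ι ⁻¹ᵁ V))) :
    ∃ s : Γ((K 𝒰 F).X n, V), ∀ a, co 𝒰 F a s = x a := by
  let M := fun b : Fin (n + 1) → ι => factor 𝒰 F b
  let e := PreservesProduct.iso (ev V) M
  refine ⟨e.inv ((Concrete.productEquiv fun b => (ev V).obj (M b)).symm x), fun a => ?_⟩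
  have h : e.hom ≫ Pi.π (fun b => (ev V).obj (M b)) a = (ev V).map (Pi.π M a) := by
    rw [PreservesProduct.iso_hom, piComparison_comp_π]
  show (ev V).map (Pi.π M a) _ = x a
  rw [← h, ConcreteCategory.comp_apply, ← ConcreteCategory.comp_apply e.inv e.hom, e.inv_hom_id]
  exact Concrete.productEquiv_symm_apply_π _ _ _

theorem co_aug (a : Fin 1 → ι) (t : Γ(F, V)) :
    co 𝒰 F a ((CechOX.cechShAug 𝒰 F).app V t) = r F (part_le_self (tup 𝒰 a) V) t := by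
  have h : CechOX.cechShAug 𝒰 F ≫ Pi.π (fun b : Fin 1 → ι => factor 𝒰 F b) a =
      (Scheme.Modules.restrictAdjunction (tup 𝒰 a).ι).unit.app F := Pi.lift_π _ _
  exact ConcreteCategory.congr_hom (congrArg (fun φ => Scheme.Modules.Hom.app φ V) h) t

theorem aug_d : CechOX.cechShAug 𝒰 F ≫ (K 𝒰 F).d 0 1 = 0 := by
  apply Scheme.Modules.hom_ext
  intro V
  ext t
  refine co_ext 𝒰 F fun a => ?_
  change co 𝒰 F a (((K 𝒰 F).d 0 (0 + 1)).app V ((CechOX.cechShAug 𝒰 F).app V t)) = co 𝒰 F a 0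
  rw [co_d, map_zero]
  simp [Fin.sum_univ_two, co_aug, r_r]

section Local

variable {i : ι} (hi : V ≤ 𝒰 i)

include hi in
theorem aug_injective (t : Γ(F, V)) (h : (CechOX.cechShAug 𝒰 F).app V t = 0) : t = 0 := by
  have h' := co_aug 𝒰 F (fun _ => i) t
  rw [h, map_zero] at h'
  have h2 := congrArg (r F (le_part (le_tup 𝒰 fun _ => hi) (W := tup 𝒰 fun _ : Fin 1 => i))) h'
  rw [map_zero, r_r, r_refl] at h2
  exact h2.symm

include hi in
theorem cons_le {n : ℕ} (a : Fin (n + 1) → ι) :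
    tup 𝒰 a ⊓ V ≤ tup 𝒰 (Fin.cons i a : Fin (n + 2) → ι) := le_tup 𝒰 fun k => by
  refine Fin.cases ?_ (fun l => ?_) k
  · rw [Fin.cons_zero]; exact inf_le_right.trans hi
  · rw [Fin.cons_succ]; exact inf_le_left.trans (tup_le 𝒰 a l)

theorem co_congr {n : ℕ} {a b : Fin (n + 1) → ι} (hab : a = b) {A : X.Opens}
    (h : A ≤ (tup 𝒰 a).ι ''ᵁ ((tup 𝒰 a).ι ⁻¹ᵁ V)) (h' : A ≤ (tup 𝒰 b).ι ''ᵁ ((tup 𝒰 b).ι ⁻¹ᵁ V))
    (x : Γ((K 𝒰 F).X n, V)) : r F h (co 𝒰 F a x) = r F h' (co 𝒰 F b x) := by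
  subst hab
  rfl

include hi in
theorem exists_aug_of_cycle (x : Γ((K 𝒰 F).X 0, V)) (h : ((K 𝒰 F).d 0 1).app V x = 0) :
    ∃ t, (CechOX.cechShAug 𝒰 F).app V t = x := by
  refine ⟨r F (le_part (le_tup 𝒰 fun _ => hi) (W := tup 𝒰 fun _ : Fin 1 => i)) (co 𝒰 F (fun _ => i) x),
    co_ext 𝒰 F fun a => ?_⟩
  rw [co_aug, r_r]
  have h2 := congrArg (fun y => r F (part_le (cons_le 𝒰 hi a)) (co 𝒰 F (Fin.cons i a : Fin 2 → ι) y)) h
  change r F _ (co 𝒰 F _ (((K 𝒰 F).d 0 (0 + 1)).app V x)) = r F _ (co 𝒰 F _ 0) at h2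
  rw [map_zero, map_zero, co_d, Fin.sum_univ_two, map_add, map_zsmul, map_zsmul, r_r, r_r] at h2
  simp only [Fin.val_zero, Fin.val_one, pow_zero, pow_one, one_smul, neg_smul, add_neg_eq_zero] at h2
  refine Eq.trans ?_ ((h2.symm).trans ?_)
  · exact co_congr 𝒰 F (funext fun k => by fin_cases k; simp) _ _ x
  · exact (co_congr 𝒰 F (funext fun k => by simp) _ le_rfl x).trans (r_refl F _ _)

include hi in
theorem exists_d_of_cycle (n : ℕ) (x : Γ((K 𝒰 F).X (n + 1), V))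
    (h : ((K 𝒰 F).d (n + 1) (n + 2)).app V x = 0) : ∃ y, ((K 𝒰 F).d n (n + 1)).app V y = x := by
  obtain ⟨y, hy⟩ := exists_co 𝒰 F (n := n) (V := V) fun a =>
    r F (part_le (cons_le 𝒰 hi a)) (co 𝒰 F (Fin.cons i a : Fin (n + 2) → ι) x)
  refine ⟨y, co_ext 𝒰 F fun a => ?_⟩
  have h2 := congrArg (fun z => r F (part_le (cons_le 𝒰 hi a)) (co 𝒰 F (Fin.cons i a : Fin (n + 3) → ι) z)) h
  simp only [map_zero] at h2
  rw [co_d, Fin.sum_univ_succ, map_add, map_sum] at h2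
  rw [co_d]
  simp only [Fin.val_zero, pow_zero, one_smul, r_r] at h2
  rw [(co_congr 𝒰 F (funext fun k => by simp :
    (Fin.cons i a : Fin (n + 3) → ι) ∘ (0 : Fin (n + 3)).succAbove = a) _ le_rfl x).trans (r_refl F _ _)] at h2
  rw [eq_neg_of_add_eq_zero_left h2, ← Finset.sum_neg_distrib]
  refine Finset.sum_congr rfl fun j _ => ?_
  rw [hy, map_zsmul, r_r, r_r, Fin.val_succ, pow_succ, mul_neg_one, neg_smul, neg_neg]
  congr 1
  exact co_congr 𝒰 F (funext fun k => by refine Fin.cases ?_ (fun l => ?_) k <;> simp) _ _ x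

end Local

variable (h𝒰 : ⨆ i, 𝒰 i = ⊤)

include h𝒰 in
theorem mono_aug : Mono (CechOX.cechShAug 𝒰 F) := by
  refine (Groth.L21.Mod.mono_iff_stalk_injective _).2 fun p => ?_
  refine (injective_iff_map_eq_zero _).2 fun v hv => ?_
  obtain ⟨U, hU, s, rfl⟩ := TopCat.Presheaf.exists_germ_eq (F := F.presheaf) (x := p) v
  obtain ⟨i, hi⟩ := Opens.mem_iSup.1 (h𝒰.symm ▸ Opens.mem_top p : p ∈ ⨆ i, 𝒰 i)
  rw [Groth.L21.Mod.stalkF_map_germ] at hv
  obtain ⟨W, hpW, j, j', e⟩ := TopCat.Presheaf.germ_eq (F := ((K 𝒰 F).X 0).presheaf) p hU hU _ 0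
    (hv.trans (map_zero _).symm)
  rw [map_zero] at e
  have hz : r F (inf_le_left.trans j.le : W ⊓ 𝒰 i ≤ U) s = 0 := by
    refine aug_injective 𝒰 F (inf_le_right : W ⊓ 𝒰 i ≤ 𝒰 i) _ ?_
    have hn := ConcreteCategory.congr_hom (CechOX.app_naturality (CechOX.cechShAug 𝒰 F)
      (homOfLE (inf_le_left.trans j.le : W ⊓ 𝒰 i ≤ U)).op) s
    rw [ConcreteCategory.comp_apply, ConcreteCategory.comp_apply] at hn
    refine hn.trans ?_
    rw [show (homOfLE (inf_le_left.trans j.le : W ⊓ 𝒰 i ≤ U)).op = j.op ≫ (homOfLE inf_le_left).op from rfl,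
      Functor.map_comp, ConcreteCategory.comp_apply, e, map_zero]
  rw [← TopCat.Presheaf.germ_res_apply F.presheaf (homOfLE (inf_le_left.trans j.le : W ⊓ 𝒰 i ≤ U)) p ⟨hpW, hi⟩]
  exact (congrArg _ hz).trans (map_zero _)

omit 𝒰 F in
theorem exact_of_local (S : ShortComplex X.Modules)
    (h : ∀ p : X, ∃ U : X.Opens, p ∈ U ∧ ∀ W ≤ U, ∀ s : Γ(S.X₂, W), S.g.app W s = 0 → ∃ t, S.f.app W t = s) :
    S.Exact := by
  refine (Groth.L21.Mod.exact_iff_stalk S).2 fun p => ?_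
  refine (ShortComplex.ab_exact_iff _).2 fun v hv => ?_
  obtain ⟨U, hU, s, rfl⟩ := TopCat.Presheaf.exists_germ_eq (F := S.X₂.presheaf) (x := p) v
  obtain ⟨U', hpU', hU'⟩ := h p
  have hv' := (Groth.L21.Mod.stalkF_map_germ S.g U p hU s).symm.trans hv
  obtain ⟨W, hpW, j, j', e⟩ := TopCat.Presheaf.germ_eq (F := S.X₃.presheaf) p hU hU _ 0
    (hv'.trans (map_zero _).symm)
  rw [map_zero] at e
  let k : W ⊓ U' ⟶ U := homOfLE (inf_le_left.trans j.le)
  obtain ⟨t, ht⟩ := hU' (W ⊓ U') inf_le_right (S.X₂.presheaf.map k.op s) (by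
    have hn := ConcreteCategory.congr_hom (CechOX.app_naturality S.g k.op) s
    rw [ConcreteCategory.comp_apply, ConcreteCategory.comp_apply] at hn
    refine hn.trans ?_
    rw [show k.op = j.op ≫ (homOfLE inf_le_left).op from rfl, Functor.map_comp, ConcreteCategory.comp_apply, e,
      map_zero])
  refine ⟨S.X₁.presheaf.germ (W ⊓ U') p ⟨hpW, hpU'⟩ t, ?_⟩
  refine (Groth.L21.Mod.stalkF_map_germ S.f _ p _ t).trans ?_
  rw [ht]
  exact TopCat.Presheaf.germ_res_apply S.X₂.presheaf k p _ s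

include h𝒰 in
theorem exact_aug : (ShortComplex.mk (CechOX.cechShAug 𝒰 F) ((K 𝒰 F).d 0 1) (aug_d 𝒰 F)).Exact := by
  refine exact_of_local _ fun p => ?_
  obtain ⟨i, hi⟩ := Opens.mem_iSup.1 (h𝒰.symm ▸ Opens.mem_top p : p ∈ ⨆ i, 𝒰 i)
  exact ⟨𝒰 i, hi, fun W hW s hs => exists_aug_of_cycle 𝒰 F hW s hs⟩

include h𝒰 in
theorem isZero_homology (n : ℕ) : IsZero ((K 𝒰 F).homology (n + 1)) := by
  rw [← HomologicalComplex.exactAt_iff_isZero_homology,
    HomologicalComplex.exactAt_iff' _ n (n + 1) (n + 2) (by simp) (by simp)]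
  refine exact_of_local _ fun p => ?_
  obtain ⟨i, hi⟩ := Opens.mem_iSup.1 (h𝒰.symm ▸ Opens.mem_top p : p ∈ ⨆ i, 𝒰 i)
  exact ⟨𝒰 i, hi, fun W hW s hs => exists_d_of_cycle 𝒰 F hW n s hs⟩

include h𝒰 in
theorem resolution :
    Mono (CechOX.cechShAug 𝒰 F) ∧
    CechOX.cechShAug 𝒰 F ≫ (K 𝒰 F).d 0 1 = 0 ∧
    (∀ (G : X.Modules) (g : G ⟶ (K 𝒰 F).X 0), g ≫ (K 𝒰 F).d 0 1 = 0 →
      ∃! g' : G ⟶ F, g' ≫ CechOX.cechShAug 𝒰 F = g) ∧
    ∀ p : ℕ, IsZero ((K 𝒰 F).homology (p + 1)) := by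
  haveI := mono_aug 𝒰 F h𝒰
  refine ⟨inferInstance, aug_d 𝒰 F, fun G g hg => ?_, isZero_homology 𝒰 F h𝒰⟩
  haveI : Mono (ShortComplex.mk _ _ (aug_d 𝒰 F)).f := ‹_›
  refine ⟨(exact_aug 𝒰 F h𝒰).lift g hg, (exact_aug 𝒰 F h𝒰).lift_f g hg, fun g' hg' => ?_⟩
  rw [← cancel_mono (CechOX.cechShAug 𝒰 F), hg']
  exact ((exact_aug 𝒰 F h𝒰).lift_f g hg).symm

end Groth.L17.CechShRes
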