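import Groth.Agent.L17.CechShQCoh
import Groth.Agent.L17.CechShRes
import Groth.Agent.L17.PushQCoh
import Groth.Agent.L17.AcyclicThen
import Groth.Agent.L17.AcyclicCx
import Groth.Agent.L00.RDerLES
import Groth.Agent.L29.DCoh.RpushAcyclic
import Mathlib.CategoryTheory.Abelian.Injective.Resolution
import Mathlib.CategoryTheory.Abelian.Injective.Extend

/-!
# The relative Čech complex computes `Rf_*`
-/

set_option autoImplicit false
set_option backward.defeqAttrib.useBackward true
set_option backward.isDefEq.respectTransparency false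
set_option backward.isDefEq.respectTransparency.types false
set_option linter.style.haveILetI false

universe u v w

open CategoryTheory CategoryTheory.Limits AlgebraicGeometry TopologicalSpace Opposite

noncomputable section

namespace Groth.L17.CechRpush

section Abstract

variable {C : Type w} [Category.{v} C] [Abelian C]

/-- A resolution is quasi-isomorphic to the resolved object. -/
theorem quasiIso_single₀ {A : C} (K : CochainComplex C ℕ) (aug : A ⟶ K.X 0) (h : aug ≫ K.d 0 1 = 0) [Mono aug]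
    (h0 : (ShortComplex.mk aug (K.d 0 1) h).Exact) (hn : ∀ n, IsZero (K.homology (n + 1))) :
    QuasiIso ((K.fromSingle₀Equiv A).symm ⟨aug, h⟩) := by
  refine ⟨fun n => ?_⟩
  cases n
  · rw [CochainComplex.quasiIsoAt₀_iff, ShortComplex.quasiIso_iff_of_zeros]
    · refine (ShortComplex.exact_and_mono_f_iff_of_iso ?_).2 ⟨h0, ‹Mono aug›⟩
      exact ShortComplex.isoMk (Iso.refl _) (Iso.refl _) (Iso.refl _) (by simp) (by simp)
    all_goals first | rfl | exact K.shape _ _ (by simp)
  · rw [quasiIsoAt_iff_exactAt]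
    · exact (HomologicalComplex.exactAt_iff_isZero_homology _ _).2 (hn _)
    · apply CochainComplex.exactAt_succ_single_obj

/-- The map from the object in degree zero to a complex extended to all integers. -/
theorem exists_quasiIso_extend {A : C} (K : CochainComplex C ℕ) (aug : A ⟶ K.X 0) (h : aug ≫ K.d 0 1 = 0)
    [Mono aug] (h0 : (ShortComplex.mk aug (K.d 0 1) h).Exact) (hn : ∀ n, IsZero (K.homology (n + 1))) :
    ∃ φ : (CochainComplex.singleFunctor C 0).obj A ⟶ K.extend ComplexShape.embeddingUpNat, QuasiIso φ := by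
  haveI := quasiIso_single₀ K aug h h0 hn
  haveI : QuasiIso (HomologicalComplex.extendMap ((K.fromSingle₀Equiv A).symm ⟨aug, h⟩)
      ComplexShape.embeddingUpNat) := by
    rw [HomologicalComplex.quasiIso_extendMap_iff]; infer_instance
  exact ⟨(HomologicalComplex.extendSingleIso _ _ _ _ (by simp)).inv ≫
    (ComplexShape.embeddingUpNat.extendFunctor C).map ((K.fromSingle₀Equiv A).symm ⟨aug, h⟩),
    by
      haveI : QuasiIso ((ComplexShape.embeddingUpNat.extendFunctor C).map ((K.fromSingle₀Equiv A).symm ⟨aug, h⟩)) := ‹_›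
      infer_instance⟩

end Abstract

attribute [local instance] Groth.L17.PushQCoh.additive_push

variable {X S : Scheme.{u}}

theorem isAffineHom_of_affine_diagonal [IsAffineHom (pullback.diagonal (terminal.from S))] {W : Scheme.{u}}
    [IsAffine W] (g : W ⟶ S) : IsAffineHom g := by
  haveI : IsAffineHom (g ≫ terminal.from S) := by
    rw [terminal.comp_from]; infer_instance
  haveI := (MorphismProperty.hasOfPostcompProperty_iff_le_diagonal (P := @IsAffineHom)
    (Q := MorphismProperty.diagonal @IsAffineHom)).2 le_rfl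
  exact MorphismProperty.of_postcomp (W' := MorphismProperty.diagonal @IsAffineHom)
    @IsAffineHom g (terminal.from S) (show IsAffineHom (pullback.diagonal (terminal.from S)) from ‹_›) ‹_›

/-- Acyclicity of the factors. -/
theorem isZero_rightDerived_pushRestr (f : X ⟶ S) (W : X.Opens) [IsAffineHom W.ι] [IsAffineHom (W.ι ≫ f)]
    (F : X.Modules) [Coh.IsQCoh F] (n : ℕ) [HasInjectiveResolutions X.Modules] :
    IsZero ((Coh.Rpush f (n + 1)).obj ((CechOX.pushRestr W).obj F)) := by
  haveI : Coh.IsQCoh (F.restrict W.ι) := Scheme.Modules.isQuasicoherent_restrictFunctor W.ι F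
  haveI := Groth.L17.PushQCoh.hasInjectiveResolutions (W : Scheme.{u})
  letI := HasDerivedCategory.standard X.Modules
  haveI : (Scheme.Modules.pushforward W.ι).IsRightAdjoint :=
    (Scheme.Modules.pullbackPushforwardAdjunction W.ι).isRightAdjoint
  haveI : (Scheme.Modules.pushforward f).IsRightAdjoint :=
    (Scheme.Modules.pullbackPushforwardAdjunction f).isRightAdjoint
  obtain ⟨e⟩ := Groth.L17.GrothSS.nonempty_rightDerived_comp_of_acyclic (Scheme.Modules.pushforward W.ι)
    (Scheme.Modules.pushforward f)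
    (fun Q hQ q hq => by
      obtain ⟨k, rfl⟩ : ∃ k, q = k + 1 := ⟨q - 1, by omega⟩
      haveI := hQ
      haveI : TopCat.Sheaf.IsFlasque (Coh.toAb Q) := Groth.L17.PushMV.isFlasque_of_injective Q
      exact Groth.L17.PushQCoh.isZero_Rpush_of_flasque f _
        (show TopCat.Sheaf.IsFlasque (Coh.toAb ((Scheme.Modules.pushforward W.ι).obj Q)) from
          TopCat.Sheaf.IsFlasque.pushforward_isFlasque (Y := X.toTopCat) (Coh.toAb Q) W.ι.base) k)
    (F.restrict W.ι)
    (fun q hq => by
      obtain ⟨k, rfl⟩ : ∃ k, q = k + 1 := ⟨q - 1, by omega⟩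
      obtain ⟨e⟩ := Groth.L17.nonempty_toAb_Rpush_iso W.ι (F.restrict W.ι) (k + 1)
      exact Groth.L17.PushQCoh.isZero_of_toAb
        (IsZero.of_iso (Groth.L17.isZero_RpushAb_of_isAffineHom W.ι _ k) e)) (n + 1)
  obtain ⟨e'⟩ := Groth.L17.nonempty_toAb_Rpush_iso (W.ι ≫ f) (F.restrict W.ι) (n + 1)
  refine IsZero.of_iso (Groth.L17.PushQCoh.isZero_of_toAb
    (IsZero.of_iso (Groth.L17.isZero_RpushAb_of_isAffineHom (W.ι ≫ f) _ n) e')) ?_
  exact e.symm ≪≫ (Groth.L10.SiteCoh.rightDerivedCongr (Scheme.Modules.pushforwardComp W.ι f) (n + 1)).app _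

theorem isZero_map_pi {A : Type w} [Category.{v} A] [Abelian A] {B : Type w} [Category.{v} B] [Abelian B]
    (G : A ⥤ B) [G.Additive] {κ : Type u} [Finite κ] (M : κ → A) [HasProduct M] (h : ∀ k, IsZero (G.obj (M k))) :
    IsZero (G.obj (∏ᶜ M)) := by
  haveI : PreservesFiniteProducts G := inferInstance
  haveI : PreservesLimit (Discrete.functor M) G := inferInstance
  haveI : HasProduct fun k => G.obj (M k) := inferInstance
  refine IsZero.of_iso ?_ (PreservesProduct.iso G M)
  rw [IsZero.iff_id_eq_zero]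
  exact Pi.hom_ext _ _ fun k => (h k).eq_of_tgt _ _

attribute [local instance] HasDerivedCategory.standard

/-- The relative Čech complex computes `Rf_*` when all intersections are affine over source and target. -/
theorem relCech_iso_Rpush_of_affineHom (f : X ⟶ S) (F : X.Modules) [Coh.IsQCoh F] {ι : Type u} [Finite ι]
    (𝒰 : ι → X.Opens) (h𝒰 : ∀ (n : ℕ) (a : Fin (n + 1) → ι),
      IsAffineHom (∏ᶜ (𝒰 ∘ a) : X.Opens).ι ∧ IsAffineHom ((∏ᶜ (𝒰 ∘ a) : X.Opens).ι ≫ f))
    (hcov : ⨆ i, 𝒰 i = ⊤) [DCoh.HasRpush f] :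
    Nonempty (DCoh.toD S (CechOX.relCechZ 𝒰 f F) ≅ (DCoh.Rpush f).obj (DCoh.inD X F)) := by
  haveI := Groth.L17.PushQCoh.hasInjectiveResolutions X
  let K := (CechOX.cechSh 𝒰).obj F
  let push := Scheme.Modules.pushforward f
  obtain ⟨hm, hd, -, hn⟩ := Groth.L17.CechShRes.resolution 𝒰 F hcov
  haveI := hm
  obtain ⟨φ, hφ⟩ := exists_quasiIso_extend K (CechOX.cechShAug 𝒰 F) hd
    (Groth.L17.CechShRes.exact_aug 𝒰 F hcov) hn
  let KZ : CochainComplex X.Modules ℤ := K.extend ComplexShape.embeddingUpNat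
  have hac : ∀ n, Groth.L17.GrothSS.RAcyclic push (KZ.X n) := fun n => by
    by_cases hn : 0 ≤ n
    · obtain ⟨k, rfl⟩ := Int.eq_ofNat_of_zero_le hn
      intro q hq
      refine IsZero.of_iso ?_ ((push.rightDerived q).mapIso (K.extendXIso ComplexShape.embeddingUpNat rfl))
      obtain ⟨q, rfl⟩ : ∃ q', q = q' + 1 := ⟨q - 1, by omega⟩
      haveI : Finite (Fin (k + 1) → ι) := inferInstance
      haveI : (push.rightDerived (q + 1)).Additive := Groth.L00.RDerLES.additive _ _
      exact isZero_map_pi (push.rightDerived (q + 1))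
        (fun i : Fin (k + 1) → ι => (CechOX.pushRestr (∏ᶜ (𝒰 ∘ i))).obj F)
        fun i => by
          haveI := (h𝒰 k i).1
          haveI := (h𝒰 k i).2
          exact isZero_rightDerived_pushRestr f _ F q
    · exact Groth.L17.GrothSS.rAcyclic_of_isZero push
        (CochainComplex.isZero_of_isStrictlyGE _ 0 _ (by omega))
  haveI : KZ.IsStrictlyGE 0 := by
    show CochainComplex.IsStrictlyGE (K.extend ComplexShape.embeddingUpNat) 0
    infer_instance
  haveI := Groth.L29.DC.RpushQC.isIso_unit_bddBelow f KZ 0 hac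
  let eu := asIso (((DCoh.pushKh f).totalRightDerivedUnit DerivedCategory.Qh
    (HomotopyCategory.quasiIso X.Modules (ComplexShape.up ℤ))).app
      ((HomotopyCategory.quotient X.Modules (ComplexShape.up ℤ)).obj KZ))
  haveI : IsIso (DerivedCategory.Q.map φ) := inferInstance
  refine ⟨DerivedCategory.Q.mapIso (Groth.L17.GrothSS.mapExtendIso push K ComplexShape.embeddingUpNat).symm ≪≫
    ((DerivedCategory.quotientCompQhIso S.Modules).app _).symm ≪≫ eu ≪≫
    (DCoh.Rpush f).mapIso ((DerivedCategory.quotientCompQhIso X.Modules).app KZ ≪≫ (asIso (DerivedCategory.Q.map φ)).symm ≪≫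
      ((DerivedCategory.singleFunctorIsoCompQ X.Modules 0).app F).symm)⟩

theorem relCech_iso_Rpush (f : X ⟶ S) [IsAffineHom (pullback.diagonal (terminal.from X))]
    [IsAffineHom (pullback.diagonal (terminal.from S))] (F : X.Modules) [Coh.IsQCoh F] {ι : Type u} [Finite ι]
    (𝒰 : ι → X.Opens) (h𝒰 : ∀ i, IsAffineOpen (𝒰 i)) (hcov : ⨆ i, 𝒰 i = ⊤) [DCoh.HasRpush f] :
    Nonempty (DCoh.toD S (CechOX.relCechZ 𝒰 f F) ≅ (DCoh.Rpush f).obj (DCoh.inD X F)) := by
  refine relCech_iso_Rpush_of_affineHom f F 𝒰 (fun n a => ?_) hcov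
  haveI : IsAffine (∏ᶜ (𝒰 ∘ a) : X.Opens).toScheme := Groth.L17.CechShQCoh.isAffineOpen_prod 𝒰 h𝒰 a
  exact ⟨isAffineHom_of_affine_diagonal _, isAffineHom_of_affine_diagonal _⟩

end Groth.L17.CechRpush
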