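import Groth.Prelude.Def_CechOX
import Groth.Agent.L16.QcqsPush
import Groth.Agent.L17.SerreCriterion
import Mathlib.AlgebraicGeometry.Morphisms.Affine

/-!
# Terms of Čech complexes of sheaves are quasi-coherent
-/

set_option autoImplicit false
set_option linter.style.haveILetI false
set_option backward.isDefEq.respectTransparency false
set_option backward.isDefEq.respectTransparency.types false

universe u

open CategoryTheory CategoryTheory.Limits AlgebraicGeometry TopologicalSpace Opposite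

noncomputable section

namespace Groth.L17.CechShQCoh

variable {X : Scheme.{u}}

theorem prod_eq_iInf {κ : Type u} (W : κ → X.Opens) : (∏ᶜ W : X.Opens) = ⨅ k, W k :=
  le_antisymm (le_iInf fun k => leOfHom (Pi.π W k)) (leOfHom (Pi.lift fun k => homOfLE (iInf_le W k)))

theorem isAffineOpen_prod [IsAffineHom (pullback.diagonal (terminal.from X))] {ι : Type u} (𝒰 : ι → X.Opens)
    (h𝒰 : ∀ i, IsAffineOpen (𝒰 i)) {p : ℕ} (i : Fin (p + 1) → ι) : IsAffineOpen (∏ᶜ (𝒰 ∘ i) : X.Opens) := by
  rw [show (∏ᶜ (𝒰 ∘ i) : X.Opens) = ⨅ k, 𝒰 (i k) from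
    le_antisymm (le_iInf fun k => leOfHom (Pi.π (𝒰 ∘ i) k)) (leOfHom (Pi.lift fun k => homOfLE (iInf_le _ k)))]
  exact IsAffineOpen.iInf fun k => h𝒰 _

theorem isQCoh_pushRestr [IsAffineHom (pullback.diagonal (terminal.from X))] {W : X.Opens} (hW : IsAffineOpen W)
    (F : X.Modules) [Coh.IsQCoh F] : Coh.IsQCoh ((CechOX.pushRestr W).obj F) := by
  haveI : CompactSpace W.toScheme := isCompact_iff_compactSpace.1 hW.isCompact
  haveI : IsAffine W.toScheme := hW
  haveI : QuasiCompact (pullback.diagonal (terminal.from X)) := inferInstance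
  haveI : QuasiSeparated (terminal.from X) := ⟨inferInstance⟩
  haveI : QuasiSeparatedSpace X := (quasiSeparatedSpace_iff_quasiSeparated X).2 inferInstance
  haveI : QuasiCompact W.ι := inferInstance
  exact Groth.L16.QcqsPush.isQCoh_push _ W.ι

theorem isQCoh_cechSh_X [IsAffineHom (pullback.diagonal (terminal.from X))] {ι : Type u} [Finite ι]
    (𝒰 : ι → X.Opens) (h𝒰 : ∀ i, IsAffineOpen (𝒰 i)) (F : X.Modules) [Coh.IsQCoh F] (p : ℕ) :
    Coh.IsQCoh (((CechOX.cechSh 𝒰).obj F).X p) :=
  haveI : Finite (Fin (p + 1) → ι) := inferInstance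
  @Groth.L17.Serre.isQCoh_piObj X (Fin (p + 1) → ι) ‹_› _ fun i => isQCoh_pushRestr (isAffineOpen_prod 𝒰 h𝒰 i) F

end Groth.L17.CechShQCoh
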