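import Groth.Agent.L07.PrinParts.Mod
import Mathlib.AlgebraicGeometry.FunctionField

/-!
Coherent modules on a finite cover pushing forward to modules with prescribed irreducible support.
-/

set_option autoImplicit false
set_option linter.style.haveILetI false
set_option backward.isDefEq.respectTransparency false

universe u

open CategoryTheory CategoryTheory.Limits AlgebraicGeometry TopologicalSpace Opposite

namespace Groth.L17.ClosedSupp

theorem isField_stalk_genericPoint (Z : Scheme.{u}) [IsIntegral Z] :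
    IsField (Z.presheaf.stalk (genericPoint Z)) :=
  Field.toIsField Z.functionField

variable {X Y P Z : Scheme.{u}} (f : Y ⟶ X) (i : Z ⟶ X) (j : P ⟶ Y) (q : P ⟶ Z) (w : j ≫ f = q ≫ i)

/-- the pushforward of the structure sheaf of `P` to `X` -/
noncomputable abbrev MX : X.Modules := (Coh.push f).obj ((Coh.push j).obj (Coh.structureModule P))

include w in
theorem support_MX [IsClosedImmersion i] (hq : Function.Surjective q.base) :
    CohB1.support (MX f j) = Set.range i := by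
  ext x
  constructor
  · intro hx
    by_contra hxi
    refine hx ?_
    have key : ∀ (a : (MX f j).presheaf.stalk x), a = 0 := fun a => by
      obtain ⟨V, hxV, s, rfl⟩ := TopCat.Presheaf.exists_germ_eq (MX f j).presheaf a
      let W : X.Opens := ⟨(Set.range i)ᶜ, i.isClosedEmbedding.isClosed_range.isOpen_compl⟩
      have hW : j ⁻¹ᵁ (f ⁻¹ᵁ (V ⊓ W)) = ⊥ := eq_bot_iff.2 fun p hp => hp.2
        ⟨q p, by rw [← Scheme.Hom.comp_apply, ← w, Scheme.Hom.comp_apply]⟩
      have : Subsingleton Γ(P, j ⁻¹ᵁ (f ⁻¹ᵁ (V ⊓ W))) := by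
        rw [hW]; infer_instance
      rw [← (MX f j).presheaf.germ_res_apply (homOfLE (inf_le_left : V ⊓ W ≤ V)) x ⟨hxV, hxi⟩ s]
      rw [show (MX f j).presheaf.map (homOfLE (inf_le_left : V ⊓ W ≤ V)).op s = 0 from this.elim _ _, map_zero]
    exact ⟨fun a b => (key a).trans (key b).symm⟩
  · rintro ⟨z, rfl⟩ hsub
    obtain ⟨p, rfl⟩ := hq z
    let one : Γ(MX f j, ⊤) := (1 : Γ(P, j ⁻¹ᵁ (f ⁻¹ᵁ ⊤)))
    obtain ⟨V, hxV, iU, iV, e⟩ := TopCat.Presheaf.germ_eq (MX f j).presheaf (U := (⊤ : X.Opens)) (V := (⊤ : X.Opens)) (i (q p)) trivial trivial one (0 : Γ(MX f j, ⊤))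
      (hsub.elim _ _)
    have hp : p ∈ j ⁻¹ᵁ (f ⁻¹ᵁ V) := by
      show f (j p) ∈ V
      rw [← Scheme.Hom.comp_apply, w, Scheme.Hom.comp_apply]
      exact hxV
    rw [map_zero] at e
    have e' : P.presheaf.map (homOfLE (j.preimage_mono (f.preimage_mono iU.le))).op
        (1 : Γ(P, j ⁻¹ᵁ (f ⁻¹ᵁ ⊤))) = 0 := e
    rw [map_one] at e'
    have := congrArg (P.presheaf.germ _ p hp) e'
    rw [map_one, map_zero] at this
    exact one_ne_zero this

include w in
theorem maximal_smul_eq_zero [IsIntegral Z] [IsClosedImmersion i]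
    (a : X.presheaf.stalk (i (genericPoint Z))) (ha : a ∈ IsLocalRing.maximalIdeal _)
    (m : (MX f j).presheaf.stalk (i (genericPoint Z))) : a • m = 0 := by
  obtain ⟨U, hxU, t, rfl⟩ := X.presheaf.exists_germ_eq a
  obtain ⟨V, hxV, s, rfl⟩ := TopCat.Presheaf.exists_germ_eq (MX f j).presheaf m
  have ht : Z.presheaf.germ (i ⁻¹ᵁ U) (genericPoint Z) hxU (i.app U t) = 0 := by
    rw [← Scheme.Hom.germ_stalkMap_apply]
    by_contra h
    refine (IsLocalRing.mem_maximalIdeal _).1 ha (isUnit_of_map_unit (i.stalkMap (genericPoint Z)).hom _ ?_)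
    exact (isField_stalk_genericPoint Z).mul_inv_cancel h |>.elim fun b hb => IsUnit.of_mul_eq_one b hb
  have hzU : genericPoint Z ∈ i ⁻¹ᵁ U := hxU
  obtain ⟨W, hzW, iU, iV, e⟩ := Z.presheaf.germ_eq (genericPoint Z) hzU hzU (i.app U t) 0 (by rw [ht, map_zero])
  rw [map_zero] at e
  obtain ⟨W', hW'o, hW'⟩ := i.isClosedEmbedding.isInducing.isOpen_iff.1 W.2
  let T : X.Opens := U ⊓ V ⊓ ⟨W', hW'o⟩
  have hxT : (i (genericPoint Z)) ∈ T := ⟨⟨hxU, hxV⟩, hW'.ge hzW⟩
  have hTW : i ⁻¹ᵁ T ≤ W := fun z hz => hW'.le hz.2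
  rw [← X.presheaf.germ_res_apply (homOfLE (inf_le_left.trans inf_le_left : T ≤ U)) (i (genericPoint Z)) hxT t,
    ← (MX f j).presheaf.germ_res_apply (homOfLE (inf_le_left.trans inf_le_right : T ≤ V)) (i (genericPoint Z)) hxT s]
  refine (Groth.L20.ModStalk.germ_smul (MX f j) hxT _ _).symm.trans ?_
  set t' := X.presheaf.map (homOfLE (inf_le_left.trans inf_le_left : T ≤ U)).op t with ht'
  have h0 : i.app T t' = 0 := by
    have h1 := congrArg (Z.presheaf.map (homOfLE hTW).op) e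
    rw [map_zero, ← ConcreteCategory.comp_apply, ← Functor.map_comp] at h1
    refine Eq.trans ?_ h1
    rw [ht']
    exact congr($(i.naturality (homOfLE (inf_le_left.trans inf_le_left : T ≤ U)).op) t)
  have h2 : (j ≫ f).app T t' = 0 := by
    rw [Scheme.Hom.congr_app w T]
    simp [h0]
  have : t' • (MX f j).presheaf.map (homOfLE (inf_le_left.trans inf_le_right : T ≤ V)).op s = 0 :=
    show (show Γ(P, j ⁻¹ᵁ (f ⁻¹ᵁ T)) from (j ≫ f).app T t') * (show Γ(P, j ⁻¹ᵁ (f ⁻¹ᵁ T)) from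
      (MX f j).presheaf.map (homOfLE (inf_le_left.trans inf_le_right : T ≤ V)).op s) = 0 by
      rw [h2, zero_mul]
  rw [this, map_zero]

end Groth.L17.ClosedSupp
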