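import Groth.Agent.L17.AcyclicHomology
import Mathlib.Algebra.Homology.DerivedCategory.Ext.ExactSequences
import Mathlib.CategoryTheory.Preadditive.Yoneda.Limits
import Mathlib.Algebra.Category.Grp.Abelian
import Mathlib.Algebra.Homology.ShortComplex.Ab
import Mathlib.Algebra.Category.Grp.EpiMono

/-!
`R^n (A ⋙ Hom(Z, -)) = Ext^n(Z, A -)`, naturally, for exact `A` sending injectives to acyclic objects.
-/

set_option autoImplicit false
set_option backward.isDefEq.respectTransparency false

universe v u v'' u''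

open CategoryTheory CategoryTheory.Limits CategoryTheory.Abelian Opposite

namespace Groth.L17.ExtExact

variable {C : Type u''} [Category.{v''} C] [Abelian C] [HasInjectiveResolutions C]
  {D : Type u} [Category.{v} D] [Abelian D] [HasExt.{v} D]
  (A : C ⥤ D) [A.Additive] [PreservesFiniteLimits A] [PreservesFiniteColimits A] (W : D)

variable {M : C} (R : InjectiveResolution M)

/-- The cocycles of a resolution. -/
noncomputable abbrev Zc (n : ℕ) : C := kernel (R.cocomplex.d n (n + 1))

/-- The map onto the next cocycles. -/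
noncomputable abbrev tc (n : ℕ) : R.cocomplex.X n ⟶ Zc R (n + 1) := AcyclicHomology.t R.cocomplex n

omit [HasInjectiveResolutions C] in
theorem ι_tc (n : ℕ) : kernel.ι (R.cocomplex.d n (n + 1)) ≫ tc R n = 0 := AcyclicHomology.ι_t R.cocomplex n

/-- The short exact sequence of cocycles. -/
noncomputable abbrev seq (n : ℕ) : ShortComplex C :=
  ShortComplex.mk (kernel.ι (R.cocomplex.d n (n + 1))) (tc R n) (ι_tc R n)

omit [HasInjectiveResolutions C] in
theorem shortExact_seq (n : ℕ) : (seq R n).ShortExact := by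
  have hm : Mono (kernel.ι (R.cocomplex.d (n + 1) (n + 1 + 1))) := inferInstance
  have h0 : (ShortComplex.mk (kernel.ι (R.cocomplex.d n (n + 1))) (R.cocomplex.d n (n + 1))
      (kernel.condition _)).Exact := ShortComplex.exact_of_f_is_kernel _ (kernelIsKernel _)
  have h1 : (ShortComplex.mk _ _ (R.cocomplex.d_comp_d n (n + 1) (n + 1 + 1))).Exact :=
    ((R.cocomplex.exactAt_iff' n (n + 1) (n + 1 + 1) (by simp) (by simp)).1 (R.cocomplex_exactAt_succ n))
  refine ShortComplex.ShortExact.mk' ?_ inferInstance h1.epi_kernelLift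
  exact (ShortComplex.exact_iff_of_epi_of_isIso_of_mono
    (S₁ := seq R n)
    (S₂ := ShortComplex.mk (kernel.ι (R.cocomplex.d n (n + 1))) (R.cocomplex.d n (n + 1)) (kernel.condition _))
    { τ₁ := 𝟙 _, τ₂ := 𝟙 _, τ₃ := kernel.ι (R.cocomplex.d (n + 1) (n + 1 + 1))
      comm₁₂ := by simp, comm₂₃ := by simp [AcyclicHomology.t] }).2 h0

omit [HasInjectiveResolutions C] [HasExt.{v} D] in
theorem shortExact_map_seq (n : ℕ) : ((seq R n).map A).ShortExact :=
  (shortExact_seq R n).map_of_exact A

/-- The cocycles in degree zero are the resolved object. -/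
noncomputable def z0Iso : M ≅ Zc R 0 :=
  R.exact₀.fIsKernel.conePointUniqueUpToIso (limit.isLimit (parallelPair (R.cocomplex.d 0 1) 0))

omit [HasInjectiveResolutions C] in
theorem z0Iso_hom_ι : (z0Iso R).hom ≫ kernel.ι (R.cocomplex.d 0 1) = R.ι.f 0 :=
  IsLimit.conePointUniqueUpToIso_hom_comp R.exact₀.fIsKernel (limit.isLimit (parallelPair (R.cocomplex.d 0 1) 0))
    WalkingParallelPair.zero

/-- The iterated extension class. -/
noncomputable def ξ : (n : ℕ) → Ext (A.obj (Zc R n)) (A.obj M) n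
  | 0 => Ext.mk₀ (A.map (z0Iso R).inv)
  | n + 1 => (shortExact_map_seq A R n).extClass.comp (ξ n) (add_comm 1 n)

/-- The class of a cocycle. -/
noncomputable def θ (n : ℕ) : (W ⟶ A.obj (Zc R n)) →+ Ext W (A.obj M) n where
  toFun z := (Ext.mk₀ z).comp (ξ A R n) (zero_add n)
  map_zero' := by simp
  map_add' x y := by simp [Ext.mk₀_add]

variable (hA : ∀ I : C, Injective I → ∀ k : ℕ, Subsingleton (Ext W (A.obj I) (k + 1)))

include hA in
omit [HasInjectiveResolutions C] in
/-- Composition with `ξ` identifies `Ext^(k+1)` of the cocycles with higher `Ext` of the object. -/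
theorem bijective_comp_ξ : ∀ (n k : ℕ) (m : ℕ) (hm : (k + 1) + n = m),
    Function.Bijective fun x : Ext W (A.obj (Zc R n)) (k + 1) => x.comp (ξ A R n) hm
  | 0, k, m, hm => by
    obtain rfl : m = k + 1 := by omega
    refine Function.bijective_iff_has_inverse.2
      ⟨fun y => y.comp (Ext.mk₀ (A.map (z0Iso R).hom)) (add_zero _), fun x => ?_, fun y => ?_⟩
    · simp [ξ, ← A.map_comp]
    · simp [ξ, ← A.map_comp]
  | n + 1, k, m, hm => by
    obtain ⟨h1, h2⟩ : Function.Injective (fun x : Ext W (A.obj (Zc R (n + 1))) (k + 1) =>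
        x.comp (shortExact_map_seq A R n).extClass (rfl : k + 1 + 1 = k + 1 + 1)) ∧
        Function.Surjective (fun x : Ext W (A.obj (Zc R (n + 1))) (k + 1) =>
        x.comp (shortExact_map_seq A R n).extClass (rfl : k + 1 + 1 = k + 1 + 1)) := by
      constructor
      · intro x y hxy
        haveI := hA _ (R.injective n) k
        obtain ⟨z, hz⟩ := Ext.covariant_sequence_exact₃ W (shortExact_map_seq A R n) (x - y)
          (rfl : k + 1 + 1 = k + 1 + 1) (by
            rw [sub_eq_add_neg, Ext.add_comp, Ext.neg_comp]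
            exact (congrArg (· + -_) hxy).trans (add_neg_cancel _))
        rw [Subsingleton.elim (α := Ext W (A.obj (R.cocomplex.X n)) (k + 1)) z 0, Ext.zero_comp] at hz
        exact sub_eq_zero.1 hz.symm
      · intro y
        haveI := hA _ (R.injective n) (k + 1)
        exact Ext.covariant_sequence_exact₁ W (shortExact_map_seq A R n) y
          (Subsingleton.elim (α := Ext W (A.obj (R.cocomplex.X n)) (k + 1 + 1)) _ _)
          (rfl : k + 1 + 1 = k + 1 + 1)
    have ih := bijective_comp_ξ n (k + 1) m (by omega)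
    convert ih.comp ⟨h1, h2⟩ using 1
    funext x
    exact (Ext.comp_assoc x (shortExact_map_seq A R n).extClass (ξ A R n) rfl (add_comm 1 n) (by omega)).symm

include hA in
omit [HasInjectiveResolutions C] in
theorem surjective_θ (n : ℕ) : Function.Surjective (θ A W R n) := by
  intro y
  cases n with
  | zero =>
    obtain ⟨z, rfl⟩ := (Ext.mk₀_bijective _ _).2 y
    exact ⟨z ≫ A.map (z0Iso R).hom, by simp [θ, ξ, ← A.map_comp]⟩
  | succ n =>
    obtain ⟨x, hx⟩ := (bijective_comp_ξ A W R hA n 0 (n + 1) (by omega)).2 y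
    haveI := hA _ (R.injective n) 0
    obtain ⟨z, hz⟩ := Ext.covariant_sequence_exact₁ W (shortExact_map_seq A R n) x
      (Subsingleton.elim (α := Ext W (A.obj (R.cocomplex.X n)) (0 + 1)) _ _) (zero_add 1)
    obtain ⟨z, rfl⟩ := (Ext.mk₀_bijective _ _).2 z
    refine ⟨z, ?_⟩
    rw [← hx, ← hz]
    exact (Ext.comp_assoc (Ext.mk₀ z) (shortExact_map_seq A R n).extClass (ξ A R n) (zero_add 1)
      (add_comm 1 n) (by omega)).symm

omit [HasInjectiveResolutions C] in
theorem injective_θ_zero : Function.Injective (θ A W R 0) := by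
  intro x y h
  simp only [θ, ξ, AddMonoidHom.coe_mk, ZeroHom.coe_mk, Ext.mk₀_comp_mk₀] at h
  exact (cancel_mono (A.map (z0Iso R).inv)).1 ((Ext.mk₀_bijective _ _).1 h)

include hA in
omit [HasInjectiveResolutions C] in
theorem θ_eq_zero_iff (n : ℕ) (z : W ⟶ A.obj (Zc R (n + 1))) :
    θ A W R (n + 1) z = 0 ↔ ∃ w : W ⟶ A.obj (R.cocomplex.X n), w ≫ A.map (tc R n) = z := by
  have e : θ A W R (n + 1) z = ((Ext.mk₀ z).comp (shortExact_map_seq A R n).extClass (zero_add 1)).comp
      (ξ A R n) (by omega) :=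
    (Ext.comp_assoc (Ext.mk₀ z) (shortExact_map_seq A R n).extClass (ξ A R n) (zero_add 1)
      (add_comm 1 n) (by omega)).symm
  rw [e]
  constructor
  · intro h
    have h' : (Ext.mk₀ z).comp (shortExact_map_seq A R n).extClass (zero_add 1) = 0 :=
      (bijective_comp_ξ A W R hA n 0 (n + 1) (by omega)).1 (h.trans (by simp))
    obtain ⟨w, hw⟩ := Ext.covariant_sequence_exact₃ W (shortExact_map_seq A R n) (Ext.mk₀ z) (zero_add 1) h'
    obtain ⟨w, rfl⟩ := (Ext.mk₀_bijective _ _).2 w
    rw [Ext.mk₀_comp_mk₀] at hw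
    exact ⟨w, (Ext.mk₀_bijective _ _).1 hw⟩
  · rintro ⟨w, rfl⟩
    have h1 : (Ext.mk₀ (w ≫ A.map (tc R n))).comp (shortExact_map_seq A R n).extClass (zero_add 1) = 0 := by
      rw [← Ext.mk₀_comp_mk₀]
      refine (Ext.comp_assoc_of_second_deg_zero _ _ _ _).trans ?_
      exact (congrArg (fun r => (Ext.mk₀ w).comp r (zero_add 1)) (shortExact_map_seq A R n).comp_extClass).trans
        (Ext.comp_zero _ _ _ _ _)
    rw [h1, Ext.zero_comp]

/-- `Hom(W, A R)`. -/
noncomputable abbrev cxH : CochainComplex AddCommGrpCat.{v} ℕ :=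
  ((A ⋙ preadditiveCoyoneda.obj (op W)).mapHomologicalComplex _).obj R.cocomplex

omit [HasInjectiveResolutions C] [HasExt.{v} D] in
theorem iCycles_d (n : ℕ) (x : (cxH A W R).cycles n) :
    ((cxH A W R).iCycles n x : W ⟶ A.obj (R.cocomplex.X n)) ≫ A.map (R.cocomplex.d n (n + 1)) = 0 :=
  congr($((cxH A W R).iCycles_d n (n + 1)) x)

/-- A cocycle of `Hom(W, A R)` as a map to the cocycles. -/
noncomputable def zOf (n : ℕ) : ((cxH A W R).cycles n : Type v) →+ (W ⟶ A.obj (Zc R n)) where
  toFun x := kernel.lift (A.map (R.cocomplex.d n (n + 1))) ((cxH A W R).iCycles n x) (iCycles_d A W R n x) ≫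
    (PreservesKernel.iso A (R.cocomplex.d n (n + 1))).inv
  map_zero' := by
    rw [← cancel_mono (PreservesKernel.iso A (R.cocomplex.d n (n + 1))).hom, ← cancel_mono (kernel.ι _)]
    simp
  map_add' x y := by
    rw [← cancel_mono (PreservesKernel.iso A (R.cocomplex.d n (n + 1))).hom, ← cancel_mono (kernel.ι _)]
    simp

omit [HasInjectiveResolutions C] [HasExt.{v} D] in
theorem zOf_ι (n : ℕ) (x : (cxH A W R).cycles n) :
    zOf A W R n x ≫ A.map (kernel.ι (R.cocomplex.d n (n + 1))) = (cxH A W R).iCycles n x := by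
  simp [zOf]

omit [HasInjectiveResolutions C] [HasExt.{v} D] in
theorem iCycles_injective (n : ℕ) : Function.Injective ((cxH A W R).iCycles n) :=
  (AddCommGrpCat.mono_iff_injective _).1 inferInstance

omit [HasInjectiveResolutions C] [HasExt.{v} D] in
theorem bijective_zOf (n : ℕ) : Function.Bijective (zOf A W R n) := by
  refine ⟨fun x y h => iCycles_injective A W R n ?_, fun z => ?_⟩
  · rw [← zOf_ι, ← zOf_ι, h]
  · have hk : (ShortComplex.mk _ _ ((cxH A W R).iCycles_d n (n + 1))).Exact :=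
      ShortComplex.exact_of_f_is_kernel _ ((cxH A W R).cyclesIsKernel n (n + 1) (by simp))
    rw [ShortComplex.ab_exact_iff] at hk
    obtain ⟨x, hx⟩ := hk (z ≫ A.map (kernel.ι (R.cocomplex.d n (n + 1)))) (by
      change (z ≫ A.map (kernel.ι (R.cocomplex.d n (n + 1)))) ≫ A.map (R.cocomplex.d n (n + 1)) = 0
      rw [Category.assoc, ← A.map_comp, kernel.condition, A.map_zero, comp_zero])
    refine ⟨x, (cancel_mono (A.map (kernel.ι (R.cocomplex.d n (n + 1))))).1 ?_⟩
    rw [zOf_ι]; exact hx

omit [HasInjectiveResolutions C] [HasExt.{v} D] in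
theorem zOf_toCycles (n : ℕ) (w : W ⟶ A.obj (R.cocomplex.X n)) :
    zOf A W R (n + 1) ((cxH A W R).toCycles n (n + 1) w) = w ≫ A.map (tc R n) := by
  rw [← cancel_mono (A.map (kernel.ι (R.cocomplex.d (n + 1) (n + 1 + 1)))), zOf_ι, Category.assoc,
    ← A.map_comp]
  erw [kernel.lift_ι]
  exact congr($((cxH A W R).toCycles_i n (n + 1)) w)

/-- The class map on cycles. -/
noncomputable def ψ (n : ℕ) : (cxH A W R).cycles n ⟶ AddCommGrpCat.of (Ext W (A.obj M) n) :=
  AddCommGrpCat.ofHom ((θ A W R n).comp (zOf A W R n))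

include hA in
omit [HasInjectiveResolutions C] in
theorem exists_homologyIso (n : ℕ) : ∃ e : (cxH A W R).homology n ≅ AddCommGrpCat.of (Ext W (A.obj M) n),
    (cxH A W R).homologyπ n ≫ e.hom = ψ A W R n := by
  cases n with
  | zero =>
    haveI := (cxH A W R).isIso_homologyπ 0 0 (by simp) ((cxH A W R).shape _ _ (by simp))
    haveI : IsIso (ψ A W R 0) := (ConcreteCategory.isIso_iff_bijective _).2
      (show Function.Bijective (θ A W R 0 ∘ zOf A W R 0) from
        Function.Bijective.comp ⟨injective_θ_zero A W R, surjective_θ A W R hA 0⟩ (bijective_zOf A W R 0))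
    exact ⟨(asIso ((cxH A W R).homologyπ 0)).symm ≪≫ asIso (ψ A W R 0), by simp⟩
  | succ n =>
    have w : (cxH A W R).toCycles n (n + 1) ≫ ψ A W R (n + 1) = 0 := by
      ext x
      change θ A W R (n + 1) (zOf A W R (n + 1) ((cxH A W R).toCycles n (n + 1) x)) = 0
      rw [zOf_toCycles]
      exact (θ_eq_zero_iff A W R hA n _).2 ⟨x, rfl⟩
    haveI : Epi (ψ A W R (n + 1)) := (AddCommGrpCat.epi_iff_surjective _).2
      ((surjective_θ A W R hA (n + 1)).comp (bijective_zOf A W R (n + 1)).2)
    have hex : (ShortComplex.mk _ _ w).Exact := by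
      rw [ShortComplex.ab_exact_iff]
      intro x hx
      obtain ⟨y, hy⟩ := (θ_eq_zero_iff A W R hA n _).1 hx
      exact ⟨y, (bijective_zOf A W R (n + 1)).1 ((zOf_toCycles A W R n y).trans hy)⟩
    exact ⟨((cxH A W R).homologyIsCokernel n (n + 1) (by simp)).coconePointUniqueUpToIso hex.gIsCokernel,
      IsColimit.comp_coconePointUniqueUpToIso_hom ((cxH A W R).homologyIsCokernel n (n + 1) (by simp))
        hex.gIsCokernel WalkingParallelPair.one⟩

variable {A} {M' : C} {R' : InjectiveResolution M'} {g : M ⟶ M'}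

/-- The induced map on cocycles. -/
noncomputable abbrev zMap (φ : R.cocomplex ⟶ R'.cocomplex) (n : ℕ) : Zc R n ⟶ Zc R' n :=
  kernel.map _ _ (φ.f n) (φ.f (n + 1)) (φ.comm n (n + 1)).symm

omit [HasInjectiveResolutions C] in
theorem ξ_naturality (φ : R.cocomplex ⟶ R'.cocomplex) (hφ : R.ι.f 0 ≫ φ.f 0 = g ≫ R'.ι.f 0) :
    ∀ n, (ξ A R n).comp (Ext.mk₀ (A.map g)) (add_zero n) =
      (Ext.mk₀ (A.map (zMap R φ n))).comp (ξ A R' n) (zero_add n)
  | 0 => by
    have h : (z0Iso R).inv ≫ g = zMap R φ 0 ≫ (z0Iso R').inv := by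
      rw [Iso.inv_comp_eq, ← Category.assoc, Iso.eq_comp_inv, ← cancel_mono (kernel.ι (R'.cocomplex.d 0 1))]
      simp only [Category.assoc, z0Iso_hom_ι, kernel.lift_ι, kernel.map]
      rw [← hφ, ← z0Iso_hom_ι, Category.assoc]
    simp only [ξ, Ext.mk₀_comp_mk₀, ← A.map_comp, h]
  | n + 1 => by
    let τ : seq R n ⟶ seq R' n :=
      { τ₁ := zMap R φ n, τ₂ := φ.f n, τ₃ := zMap R φ (n + 1)
        comm₁₂ := kernel.lift_ι _ _ _
        comm₂₃ := by
          rw [← cancel_mono (kernel.ι (R'.cocomplex.d (n + 1) (n + 1 + 1)))]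
          simp [AcyclicHomology.t, kernel.map] }
    have hE := ShortComplex.ShortExact.extClass_naturality (shortExact_map_seq A R n)
      (shortExact_map_seq A R' n) (A.mapShortComplex.map τ)
    simp only [ξ]
    rw [Ext.comp_assoc_of_third_deg_zero, ξ_naturality φ hφ n]
    refine (Ext.comp_assoc_of_second_deg_zero _ _ _ _).symm.trans ?_
    refine (congrArg (fun r => Ext.comp r (ξ A R' n) (add_comm 1 n)) hE).trans ?_
    exact Ext.comp_assoc _ _ _ (zero_add 1) (add_comm 1 n) (by omega)

omit [HasInjectiveResolutions C] in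
theorem ψ_naturality (φ : R.cocomplex ⟶ R'.cocomplex) (hφ : R.ι.f 0 ≫ φ.f 0 = g ≫ R'.ι.f 0) (n : ℕ)
    (x : (cxH A W R).cycles n) :
    ψ A W R' n (HomologicalComplex.cyclesMap
        (((A ⋙ preadditiveCoyoneda.obj (op W)).mapHomologicalComplex _).map φ) n x) =
      (ψ A W R n x : Ext W (A.obj M) n).comp (Ext.mk₀ (A.map g)) (add_zero n) := by
  have h : zOf A W R' n (HomologicalComplex.cyclesMap
      (((A ⋙ preadditiveCoyoneda.obj (op W)).mapHomologicalComplex _).map φ) n x) =
      zOf A W R n x ≫ A.map (zMap R φ n) := by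
    rw [← cancel_mono (A.map (kernel.ι (R'.cocomplex.d n (n + 1)))), zOf_ι, Category.assoc, ← A.map_comp,
      kernel.lift_ι, A.map_comp, ← Category.assoc, zOf_ι]
    exact congr($(HomologicalComplex.cyclesMap_i
      (((A ⋙ preadditiveCoyoneda.obj (op W)).mapHomologicalComplex _).map φ) n) x)
  change (Ext.mk₀ (zOf A W R' n _)).comp (ξ A R' n) (zero_add n) =
    ((Ext.mk₀ (zOf A W R n x)).comp (ξ A R n) (zero_add n)).comp (Ext.mk₀ (A.map g)) (add_zero n)
  rw [Ext.comp_assoc_of_third_deg_zero, ξ_naturality R φ hφ n, h, ← Ext.mk₀_comp_mk₀,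
    Ext.comp_assoc_of_second_deg_zero]

variable (A)

/-- `R^n (A ⋙ Hom(W, -)) M = Ext^n(W, A M)`. -/
noncomputable def equiv (M : C) (n : ℕ) :
    (((A ⋙ preadditiveCoyoneda.obj (op W)).rightDerived n).obj M : Type v) ≃+ Ext W (A.obj M) n :=
  ((injectiveResolution M).isoRightDerivedObj _ n ≪≫
    (exists_homologyIso A W (injectiveResolution M) hA n).choose).addCommGroupIsoToAddEquiv

theorem equiv_naturality {M M' : C} (g : M ⟶ M') (n : ℕ)
    (x : ((A ⋙ preadditiveCoyoneda.obj (op W)).rightDerived n).obj M) :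
    equiv A W hA M' n (((A ⋙ preadditiveCoyoneda.obj (op W)).rightDerived n).map g x) =
      (equiv A W hA M n x).comp (Ext.mk₀ (A.map g)) (add_zero n) := by
  let R := injectiveResolution M
  let R' := injectiveResolution M'
  let F := A ⋙ preadditiveCoyoneda.obj (op W)
  let φ := InjectiveResolution.desc g R' R
  have comm : R.ι.f 0 ≫ φ.f 0 = g ≫ R'.ι.f 0 := by simp [φ]
  have e1 := InjectiveResolution.isoRightDerivedObj_hom_naturality g R R' φ comm F n
  obtain ⟨y, hy⟩ := (R.isoRightDerivedObj F n).addCommGroupIsoToAddEquiv.symm.surjective x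
  subst hy
  obtain ⟨z, rfl⟩ := (AddCommGrpCat.epi_iff_surjective ((cxH A W R).homologyπ n)).1 inferInstance y
  change (exists_homologyIso A W R' hA n).choose.hom
      (((F.rightDerived n).map g ≫ (R'.isoRightDerivedObj F n).hom)
        ((R.isoRightDerivedObj F n).inv ((cxH A W R).homologyπ n z))) =
    Ext.comp ((exists_homologyIso A W R hA n).choose.hom ((R.isoRightDerivedObj F n).hom
      ((R.isoRightDerivedObj F n).inv ((cxH A W R).homologyπ n z)))) _ _
  rw [e1]
  simp only [ConcreteCategory.comp_apply, Iso.inv_hom_id_apply]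
  have h2 : HomologicalComplex.homologyMap ((F.mapHomologicalComplex _).map φ) n
      ((cxH A W R).homologyπ n z) = (cxH A W R').homologyπ n
        (HomologicalComplex.cyclesMap ((F.mapHomologicalComplex _).map φ) n z) :=
    congr($(HomologicalComplex.homologyπ_naturality ((F.mapHomologicalComplex _).map φ) n) z)
  erw [h2]
  have k1 := congr($((exists_homologyIso A W R' hA n).choose_spec)
    ((HomologicalComplex.cyclesMap ((F.mapHomologicalComplex _).map φ) n).hom z))
  have k2 := congr($((exists_homologyIso A W R hA n).choose_spec) z)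
  refine k1.trans ((ψ_naturality W R φ comm n z).trans ?_)
  exact congrArg (fun r => Ext.comp r (Ext.mk₀ (A.map g)) (add_zero n)) k2.symm

end Groth.L17.ExtExact
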