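import Groth.Agent.L17.HomologyCompare
import Groth.Agent.L17.ExtExact
import Groth.Agent.L10.SiteRightDerived
import Groth.Agent.L17.SheafExt
import Groth.Agent.L17.FSheaf.CohCat
import Groth.Agent.L10.InjTA
import Groth.Agent.L10.ModAcyc
import Groth.Agent.L15.ExtSupp.Acyclic
import Groth.Agent.L04.DerComp.Exists
import Groth.Prelude.Def_ModSite

/-!
# Sections of higher direct images of modules on topological ringed spaces

The canonical map from the derived functors of sections over the preimage of `V` to the sections over `V` of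
the higher direct image: natural, locally surjective, bijective when the higher direct images are acyclic on `V`.
-/

set_option autoImplicit false
set_option linter.style.haveILetI false
set_option linter.unusedSectionVars false
set_option backward.isDefEq.respectTransparency false
set_option backward.isDefEq.respectTransparency.types false

universe u

open CategoryTheory CategoryTheory.Limits TopologicalSpace Opposite CategoryTheory.Abelian

noncomputable section

namespace Groth.L17.RpushSect

open Groth.L17.HomologyCompare Groth.L10.SiteCoh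

variable {X Y : TopCat.{u}} {OX : Sheaf (Opens.grothendieckTopology X) CommRingCat.{u}}
  {OY : Sheaf (Opens.grothendieckTopology Y) CommRingCat.{u}}

/-- The sections over an open. -/
abbrev secM (O : Sheaf (Opens.grothendieckTopology Y) CommRingCat.{u}) (V : Opens Y) :
    ModSite.Mod O ⥤ AddCommGrpCat.{u} :=
  SheafOfModules.evaluation.{u} (ModSite.ringSh O) (op V) ⋙ forget₂ _ AddCommGrpCat.{u}

instance additive_secM (O : Sheaf (Opens.grothendieckTopology Y) CommRingCat.{u}) (V : Opens Y) :
    (secM O V).Additive where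

/-- Restriction, as a natural transformation. -/
def secRes (O : Sheaf (Opens.grothendieckTopology Y) CommRingCat.{u}) {V V' : Opens Y} (h : V' ≤ V) :
    secM O V ⟶ secM O V' where
  app M := AddCommGrpCat.ofHom (M.val.map (homOfLE h).op).hom.toAddMonoidHom
  naturality M N g := by
    ext x
    exact (PresheafOfModules.naturality_apply g.val (homOfLE h).op x).symm

theorem secRes_app (O : Sheaf (Opens.grothendieckTopology Y) CommRingCat.{u}) {V V' : Opens Y} (h : V' ≤ V)
    (M : ModSite.Mod O) (x : M.val.obj (op V)) :
    (secRes O h).app M x = Groth.L17.FSheaf.res (R := ModSite.ringSh O) M h x := rfl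

variable (φ : ModSite.RMor OX OY) [HasInjectiveResolutions (ModSite.Mod OX)] (q : ℕ)

/-- The derived functors of sections over the preimage. -/
abbrev PU (V : Opens Y) : ModSite.Mod OX ⥤ AddCommGrpCat.{u} := (φ.push ⋙ secM OY V).rightDerived q

/-- The canonical map to the sections of the higher direct image. -/
abbrev ΦV (V : Opens Y) : PU φ q V ⟶ φ.Rpush q ⋙ secM OY V := Φ (secM OY V) φ.push q

/-- Restriction on the derived functors of sections. -/
abbrev puRes {V V' : Opens Y} (h : V' ≤ V) : PU φ q V ⟶ PU φ q V' :=
  NatTrans.rightDerived (Functor.whiskerLeft φ.push (secRes OY h)) q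

theorem ΦV_res {V V' : Opens Y} (h : V' ≤ V) (M : ModSite.Mod OX) (x : (PU φ q V).obj M) :
    (ΦV φ q V').app M ((puRes φ q h).app M x) =
      Groth.L17.FSheaf.res (R := ModSite.ringSh OY) ((φ.Rpush q).obj M) h ((ΦV φ q V).app M x) :=
  ConcreteCategory.congr_hom (Φ_natTrans (secM OY V) φ.push q (secRes OY h) M) x

/-- Sections of higher direct images come locally from cohomology classes. -/
theorem exists_local_preimage (M : ModSite.Mod OX) {V : Opens Y} (y : ((φ.Rpush q).obj M).val.obj (op V))
    (x : Y) (hx : x ∈ V) :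
    ∃ (V' : Opens Y) (hV : V' ≤ V), x ∈ V' ∧ ∃ p : (PU φ q V').obj M,
      (ΦV φ q V').app M p = Groth.L17.FSheaf.res (R := ModSite.ringSh OY) ((φ.Rpush q).obj M) hV y := by
  let I := injectiveResolution M
  let K := AcyclicHomology.cxA φ.push M
  let π : K.cycles q ⟶ (φ.Rpush q).obj M := K.homologyπ q ≫ (I.isoRightDerivedObj φ.push q).inv
  obtain ⟨V', hV, hxV, z, hz⟩ := Groth.L17.FSheaf.exists_lift (R := ModSite.ringSh OY) π y x hx
  refine ⟨V', hV, hxV, ?_⟩
  haveI := isIso_cyc (secM OY V') K q
  obtain ⟨z', hz'⟩ := (ConcreteCategory.bijective_of_isIso (cyc (secM OY V') K q)).2 z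
  refine ⟨(I.isoRightDerivedObj (φ.push ⋙ secM OY V') q).inv
    ((((secM OY V').mapHomologicalComplex _).obj K).homologyπ q z'), ?_⟩
  refine Eq.trans ?_ hz
  have h1 : (((secM OY V').mapHomologicalComplex _).obj K).homologyπ q ≫
      (I.isoRightDerivedObj (φ.push ⋙ secM OY V') q).inv ≫ (ΦV φ q V').app M =
      cyc (secM OY V') K q ≫ (secM OY V').map π := by
    rw [ΦV, Φ_app, Iso.inv_hom_id_assoc, π_η_assoc, ← Functor.map_comp]
  exact (ConcreteCategory.congr_hom h1 z').trans (congrArg ((secM OY V').map π) hz')

/-- The sections over an open as maps from the free abelian sheaf on it. -/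
def secIsoCoy (O : Sheaf (Opens.grothendieckTopology Y) CommRingCat.{u}) (V : Opens Y) :
    secM O V ≅ SheafOfModules.toSheaf.{u} (ModSite.ringSh O) ⋙ preadditiveCoyoneda.obj (op (zFree V)) :=
  NatIso.ofComponents (fun M => (zAddEquiv V ((SheafOfModules.toSheaf _).obj M)).symm.toAddCommGrpIso)
    fun {M N} g => by
      ext x
      apply (zAddEquiv V ((SheafOfModules.toSheaf _).obj N)).injective
      show zAddEquiv V _ ((zAddEquiv V _).symm ((g.val.app (op V)).hom x)) =
        zEquiv V _ ((zAddEquiv V _).symm x ≫ (SheafOfModules.toSheaf _).map g)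
      rw [AddEquiv.apply_symm_apply, zEquiv_comp]
      exact (congrArg (((SheafOfModules.toSheaf _).map g).hom.app (op V))
        ((zAddEquiv V ((SheafOfModules.toSheaf _).obj M)).apply_symm_apply x)).symm

theorem subsingleton_hu_of_injective (O : Sheaf (Opens.grothendieckTopology Y) CommRingCat.{u}) (I : ModSite.Mod O)
    [Injective I] (V : Opens Y) (m : ℕ) : Subsingleton (HU V ((SheafOfModules.toSheaf _).obj I) (m + 1)) := by
  haveI : Subsingleton (Ext ((Groth.L10.SiteFr.fr (Opens.grothendieckTopology Y)).obj
      (Groth.L10.SiteFr.rep (Opens.grothendieckTopology Y) V)) ((SheafOfModules.toSheaf _).obj I) (m + 1)) :=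
    Groth.L10.InjTA.isTotallyAcyclic (C := Opens Y) O I (Groth.L10.SiteFr.rep _ V) m
  exact (Groth.L10.SiteFr.extFsRep (J := Opens.grothendieckTopology Y) V _ (m + 1)).toEquiv.subsingleton

instance enoughInjectives_mod (O : Sheaf (Opens.grothendieckTopology Y) CommRingCat.{u}) :
    EnoughInjectives (ModSite.Mod O) :=
  haveI : IsGrothendieckAbelian.{u} (ModSite.Mod O) := Groth.L10.shMod_isGrothendieckAbelian _
  IsGrothendieckAbelian.enoughInjectives.{u}

/-- Modules without cohomology over an open are acyclic for sections over it. -/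
theorem acyclic_secM (O : Sheaf (Opens.grothendieckTopology Y) CommRingCat.{u}) (V : Opens Y) (N : ModSite.Mod O)
    [HasInjectiveResolutions (ModSite.Mod O)]
    (h : ∀ (m : ℕ) (x : HU V ((SheafOfModules.toSheaf _).obj N) (m + 1)), x = 0) :
    AcyclicHomology.Acyclic (secM O V) N := fun k => by
  haveI : PreservesFiniteColimits (SheafOfModules.toSheaf.{u} (ModSite.ringSh O)) :=
    Groth.L15.ExtSupp.preservesFiniteColimits_toSheaf
  haveI : Subsingleton (HU V ((SheafOfModules.toSheaf _).obj N) (k + 1)) := subsingleton_of_forall_eq 0 (h k)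
  let e := ExtExact.equiv (SheafOfModules.toSheaf.{u} (ModSite.ringSh O)) (zFree V)
    (fun I hI m => subsingleton_hu_of_injective O I V m) N (k + 1)
  haveI : Subsingleton (((SheafOfModules.toSheaf.{u} (ModSite.ringSh O) ⋙
      preadditiveCoyoneda.obj (op (zFree V))).rightDerived (k + 1)).obj N) := e.toEquiv.subsingleton
  exact (AddCommGrpCat.isZero_of_subsingleton _).of_iso ((rightDerivedCongr (secIsoCoy O V) (k + 1)).app N)

/-- The canonical map is bijective when the higher direct images are acyclic on the open. -/
theorem bijective_ΦV (V : Opens Y) (M : ModSite.Mod OX)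
    (hM : ∀ (p m : ℕ) (x : HU V ((SheafOfModules.toSheaf _).obj ((φ.Rpush p).obj M)) (m + 1)), x = 0) :
    Function.Bijective ((ΦV φ q V).app M) := by
  haveI : HasInjectiveResolutions (ModSite.Mod OY) := inferInstance
  haveI := isIso_Φ_app (secM OY V) φ.push q (fun I hI => acyclic_secM OY V _ fun m x => by
      haveI := hI
      haveI : Subsingleton (Ext ((Groth.L10.SiteFr.fr (Opens.grothendieckTopology Y)).obj
          (Groth.L10.SiteFr.rep (Opens.grothendieckTopology Y) V)) (ModSite.toAb (φ.push.obj I)) (m + 1)) :=
        Groth.L10.InjTA.isTotallyAcyclic_push OX φ I (Groth.L10.SiteFr.rep _ V) m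
      haveI : Subsingleton (HU V ((SheafOfModules.toSheaf _).obj (φ.push.obj I)) (m + 1)) :=
        (Groth.L10.SiteFr.extFsRep (J := Opens.grothendieckTopology Y) V _ (m + 1)).toEquiv.subsingleton
      exact Subsingleton.elim _ _)
    M (fun p => acyclic_secM OY V _ (hM p))
  exact ConcreteCategory.bijective_of_isIso ((ΦV φ q V).app M)

/-- The derived functors of sections over the preimage are its cohomology. -/
def puEquiv (V : Opens Y) (M : ModSite.Mod OX) :
    (PU φ q V).obj M ≃+ HU (φ.fn.obj V) ((SheafOfModules.toSheaf _).obj M) q :=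
  haveI : PreservesFiniteColimits (SheafOfModules.toSheaf.{u} (ModSite.ringSh OX)) :=
    Groth.L15.ExtSupp.preservesFiniteColimits_toSheaf
  ((rightDerivedCongr (show φ.push ⋙ secM OY V ≅ _ from secIsoCoy OX (φ.fn.obj V)) q).app
      M).addCommGroupIsoToAddEquiv.trans
    (ExtExact.equiv (SheafOfModules.toSheaf.{u} (ModSite.ringSh OX)) (zFree (φ.fn.obj V))
      (fun I hI m => subsingleton_hu_of_injective OX I (φ.fn.obj V) m) M q)

/-- Higher direct images of modules without cohomology vanish. -/
theorem isZero_Rpush_of_acyclic {q : ℕ} (M : ModSite.Mod OX)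
    (h : ∀ (W : Opens X) (x : HU W ((SheafOfModules.toSheaf _).obj M) q), x = 0) :
    IsZero ((φ.Rpush q).obj M) := by
  rw [IsZero.iff_id_eq_zero]
  apply SheafOfModules.hom_ext
  apply PresheafOfModules.hom_ext
  intro W
  ext y
  show y = 0
  refine Groth.L17.FSheaf.eq_of_locally (R := ModSite.ringSh OY) _ _ _ fun x hx => ?_
  obtain ⟨V', hV, hxV, p, hp⟩ := exists_local_preimage φ q M y x hx
  refine ⟨V', hV, hxV, hp.symm.trans ?_⟩
  rw [show p = 0 from (puEquiv φ q V' M).injective ((h _ _).trans (map_zero _).symm), map_zero,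
    Groth.L17.FSheaf.res_zero]


end Groth.L17.RpushSect
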