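import Groth.Agent.L17.ExtExact

/-!
# `R^n (A ⋙ Hom(W, -)) = Ext^n(W, A -)` commutes with endomorphisms of `A`
-/

set_option autoImplicit false
set_option backward.isDefEq.respectTransparency false

universe v u v'' u''

open CategoryTheory CategoryTheory.Limits CategoryTheory.Abelian Opposite

namespace Groth.L17.ExtExact

variable {C : Type u''} [Category.{v''} C] [Abelian C] [HasInjectiveResolutions C]
  {D : Type u} [Category.{v} D] [Abelian D] [HasExt.{v} D]
  (A : C ⥤ D) [A.Additive] [PreservesFiniteLimits A] [PreservesFiniteColimits A] (W : D)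
  {M : C} (R : InjectiveResolution M) (μ : A ⟶ A)

omit [HasInjectiveResolutions C] in
theorem ξ_endo : ∀ n, (ξ A R n).comp (Ext.mk₀ (μ.app M)) (add_zero n) =
      (Ext.mk₀ (μ.app (Zc R n))).comp (ξ A R n) (zero_add n)
  | 0 => by simp only [ξ, Ext.mk₀_comp_mk₀, μ.naturality]
  | n + 1 => by
    let τ : (seq R n).map A ⟶ (seq R n).map A :=
      { τ₁ := μ.app _, τ₂ := μ.app _, τ₃ := μ.app _
        comm₁₂ := (μ.naturality _).symm, comm₂₃ := (μ.naturality _).symm }
    have hE := ShortComplex.ShortExact.extClass_naturality (shortExact_map_seq A R n)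
      (shortExact_map_seq A R n) τ
    simp only [ξ]
    rw [Ext.comp_assoc_of_third_deg_zero, ξ_endo n]
    refine (Ext.comp_assoc_of_second_deg_zero _ _ _ _).symm.trans ?_
    refine (congrArg (fun r => Ext.comp r (ξ A R n) (add_comm 1 n)) hE).trans ?_
    exact Ext.comp_assoc _ _ _ (zero_add 1) (add_comm 1 n) (by omega)

omit [HasInjectiveResolutions C] in
theorem ψ_endo (n : ℕ) (x : (cxH A W R).cycles n) :
    ψ A W R n (HomologicalComplex.cyclesMap ((NatTrans.mapHomologicalComplex
        (Functor.whiskerRight μ (preadditiveCoyoneda.obj (op W))) _).app R.cocomplex) n x) =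
      (ψ A W R n x : Ext W (A.obj M) n).comp (Ext.mk₀ (μ.app M)) (add_zero n) := by
  let x' := HomologicalComplex.cyclesMap ((NatTrans.mapHomologicalComplex
    (Functor.whiskerRight μ (preadditiveCoyoneda.obj (op W))) _).app R.cocomplex) n x
  have h : zOf A W R n x' = zOf A W R n x ≫ μ.app (Zc R n) := by
    rw [← cancel_mono (A.map (kernel.ι (R.cocomplex.d n (n + 1)))), zOf_ι, Category.assoc, ← μ.naturality,
      ← Category.assoc, zOf_ι]
    exact congr($(HomologicalComplex.cyclesMap_i ((NatTrans.mapHomologicalComplex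
      (Functor.whiskerRight μ (preadditiveCoyoneda.obj (op W))) _).app R.cocomplex) n) x)
  change (Ext.mk₀ (zOf A W R n x')).comp (ξ A R n) (zero_add n) =
    ((Ext.mk₀ (zOf A W R n x)).comp (ξ A R n) (zero_add n)).comp (Ext.mk₀ (μ.app M)) (add_zero n)
  rw [Ext.comp_assoc_of_third_deg_zero, ξ_endo, h, ← Ext.mk₀_comp_mk₀, Ext.comp_assoc_of_second_deg_zero]

variable (hA : ∀ I : C, Injective I → ∀ k : ℕ, Subsingleton (Ext W (A.obj I) (k + 1)))

/-- The identification commutes with endomorphisms of `A`. -/
theorem equiv_endo (M : C) (n : ℕ)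
    (x : ((A ⋙ preadditiveCoyoneda.obj (op W)).rightDerived n).obj M) :
    equiv A W hA M n ((NatTrans.rightDerived
        (Functor.whiskerRight μ (preadditiveCoyoneda.obj (op W))) n).app M x) =
      (equiv A W hA M n x).comp (Ext.mk₀ (μ.app M)) (add_zero n) := by
  let R := injectiveResolution M
  let F := A ⋙ preadditiveCoyoneda.obj (op W)
  obtain ⟨y, hy⟩ := (R.isoRightDerivedObj F n).addCommGroupIsoToAddEquiv.symm.surjective x
  subst hy
  obtain ⟨z, rfl⟩ := (AddCommGrpCat.epi_iff_surjective ((cxH A W R).homologyπ n)).1 inferInstance y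
  rw [InjectiveResolution.rightDerived_app_eq _ R n]
  let Ψ := (NatTrans.mapHomologicalComplex (Functor.whiskerRight μ (preadditiveCoyoneda.obj (op W))) _).app
    R.cocomplex
  change (exists_homologyIso A W R hA n).choose.hom ((R.isoRightDerivedObj F n).hom
      ((R.isoRightDerivedObj F n).inv (HomologicalComplex.homologyMap Ψ n
        ((R.isoRightDerivedObj F n).hom ((R.isoRightDerivedObj F n).inv ((cxH A W R).homologyπ n z)))))) =
    Ext.comp ((exists_homologyIso A W R hA n).choose.hom ((R.isoRightDerivedObj F n).hom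
      ((R.isoRightDerivedObj F n).inv ((cxH A W R).homologyπ n z)))) _ _
  simp only [Iso.inv_hom_id_apply]
  have h2 : HomologicalComplex.homologyMap Ψ n ((cxH A W R).homologyπ n z) = (cxH A W R).homologyπ n
      (HomologicalComplex.cyclesMap Ψ n z) :=
    congr($(HomologicalComplex.homologyπ_naturality Ψ n) z)
  erw [h2]
  have k1 := congr($((exists_homologyIso A W R hA n).choose_spec)
    ((HomologicalComplex.cyclesMap Ψ n).hom z))
  have k2 := congr($((exists_homologyIso A W R hA n).choose_spec) z)
  refine k1.trans ((ψ_endo A W R μ n z).trans ?_)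
  exact congrArg (fun r => Ext.comp r (Ext.mk₀ (μ.app M)) (add_zero n)) k2.symm

end Groth.L17.ExtExact
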