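import Mathlib.Algebra.Homology.DerivedCategory.DerivabilityStructureInjectives
import Mathlib.Algebra.Homology.HomotopyCategory.HomologicalFunctor
import Mathlib.Algebra.Homology.HomotopyCategory.ShiftSequence
import Mathlib.CategoryTheory.Triangulated.Adjunction
import Mathlib.CategoryTheory.Shift.Adjunction

/-!
`D⁺(C)` as the homotopy category of bounded below complexes of injectives, and the triangulated
functor `D⁺(C) ⥤ K(D)` given by applying an additive functor to injective resolutions.
-/

set_option autoImplicit false

universe w v u v' u'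

open CategoryTheory CategoryTheory.Limits

namespace Groth.L17.GrothSS

variable (C : Type u) [Category.{v} C] [Abelian C] [HasDerivedCategory.{w} C]

/-- `K⁺(Inj C) ⥤ D⁺(C)`. -/
noncomputable abbrev toDPlus :
    HomotopyCategory.Plus (InjectiveObject C) ⥤ DerivedCategory.Plus C :=
  (InjectiveObject.ι C).mapHomotopyCategoryPlus ⋙ DerivedCategory.Plus.Qh

omit [HasDerivedCategory.{w} C] in
theorem isKInjective_obj (X : HomotopyCategory.Plus (InjectiveObject C)) :
    CochainComplex.IsKInjective ((InjectiveObject.ι C).mapHomotopyCategoryPlus.obj X).obj.as := by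
  obtain ⟨K, rfl⟩ := HomotopyCategory.Plus.quotient_obj_surjective X
  exact inferInstanceAs (CochainComplex.IsKInjective
    (((InjectiveObject.ι C).mapHomologicalComplex (.up ℤ)).obj K.obj))

instance : (toDPlus C).Full where
  map_surjective {X Y} f := by
    obtain ⟨g, hg⟩ := (DerivedCategory.Plus.Qh_map_bijective_of_isKInjective
      ((InjectiveObject.ι C).mapHomotopyCategoryPlus.obj X) _ (isKInjective_obj C Y)).2 f
    exact ⟨(InjectiveObject.ι C).mapHomotopyCategoryPlus.preimage g, by
      simp only [Functor.comp_map, Functor.map_preimage, hg]⟩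

instance : (toDPlus C).Faithful where
  map_injective {X Y} _ _ h :=
    (InjectiveObject.ι C).mapHomotopyCategoryPlus.map_injective
      ((DerivedCategory.Plus.Qh_map_bijective_of_isKInjective
        ((InjectiveObject.ι C).mapHomotopyCategoryPlus.obj X) _ (isKInjective_obj C Y)).1 h)

variable [EnoughInjectives C]

instance : (toDPlus C).IsEquivalence where

/-- `K⁺(Inj C) ≌ D⁺(C)`. -/
noncomputable def equivDPlus : HomotopyCategory.Plus (InjectiveObject C) ≌ DerivedCategory.Plus C :=
  (toDPlus C).asEquivalence

noncomputable instance : (equivDPlus C).functor.CommShift ℤ :=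
  inferInstanceAs ((toDPlus C).CommShift ℤ)

instance : (equivDPlus C).functor.IsTriangulated :=
  inferInstanceAs ((toDPlus C).IsTriangulated)

noncomputable instance : (equivDPlus C).inverse.CommShift ℤ :=
  (equivDPlus C).commShiftInverse ℤ

instance : (equivDPlus C).CommShift ℤ := (equivDPlus C).commShift_of_functor ℤ

instance : (equivDPlus C).IsTriangulated :=
  Equivalence.IsTriangulated.mk' _ inferInstance

variable {C} {D : Type u'} [Category.{v'} D] [Abelian D] (S : C ⥤ D) [S.Additive]

/-- `S` applied to injective resolutions, as a functor `D⁺(C) ⥤ K(D)`. -/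
noncomputable abbrev RK : DerivedCategory.Plus C ⥤ HomotopyCategory D (.up ℤ) :=
  (equivDPlus C).inverse ⋙ (InjectiveObject.ι C ⋙ S).mapHomotopyCategoryPlus ⋙
    HomotopyCategory.Plus.ι D

instance : (RK S).IsTriangulated := by infer_instance

/-- Hyperderived functors `H^n(R S)` on `D⁺(C)`. -/
noncomputable abbrev HH (n : ℤ) : DerivedCategory.Plus C ⥤ D :=
  RK S ⋙ HomotopyCategory.homologyFunctor D (.up ℤ) n

/-- Computation by a bounded below complex of injectives. -/
noncomputable def hhInjIso (K : CochainComplex C ℤ) (hK : CochainComplex.plus C K)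
    (hI : ∀ n, Injective (K.X n)) (n : ℤ) :
    (HH S n).obj (DerivedCategory.Plus.Q.obj ⟨K, hK⟩) ≅
      ((S.mapHomologicalComplex _).obj K).homology n :=
  let L : CochainComplex.Plus (InjectiveObject C) :=
    ⟨HomologicalComplex.liftObjectProperty _ K hI, by
      obtain ⟨m, hm⟩ := hK
      exact ⟨m, (CochainComplex.isStrictlyGE_mapHomologicalComplex_obj_iff _
        (InjectiveObject.ι C) m).1 hm⟩⟩
  (HomotopyCategory.homologyFunctor D (.up ℤ) n).mapIso
    (((InjectiveObject.ι C ⋙ S).mapHomotopyCategoryPlus ⋙ HomotopyCategory.Plus.ι D).mapIso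
      ((equivDPlus C).unitIso.app ((HomotopyCategory.Plus.quotient _).obj L)).symm) ≪≫
    (HomotopyCategory.homologyFunctorFactors D (.up ℤ) n).app
      (((InjectiveObject.ι C ⋙ S).mapHomologicalComplex _).obj L.obj)

end Groth.L17.GrothSS
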