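import Groth.Agent.L17.PushMV
import Groth.Agent.L21.Mod.Locality
import Groth.Agent.L17.AffinePush

/-!
The Mayer–Vietoris sequence of higher direct images, in the form needed for closure properties.
-/

set_option autoImplicit false
set_option backward.isDefEq.respectTransparency false

universe v u v' u'

open CategoryTheory CategoryTheory.Limits

namespace Groth.L17.DerivedMV

variable {C : Type u} [Category.{v} C] [Abelian C] [HasInjectiveResolutions C]
  {D : Type u'} [Category.{v'} D] [Abelian D]
  {F₁ F₂ F₃ : C ⥤ D} [F₁.Additive] [F₂.Additive] [F₃.Additive] (φ : F₁ ⟶ F₂) (ψ : F₂ ⟶ F₃)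
  (w : φ ≫ ψ = 0)

/-- A short exact sequence of functors on injectives gives a long exact sequence of derived functors:
any property stable under isomorphisms, kernels, cokernels and extensions passes to `R^{n+1} F₁`. -/
theorem prop_rightDerived_succ
    (hex : ∀ I : C, Injective I → (ShortComplex.mk (φ.app I) (ψ.app I) (by
      rw [← NatTrans.comp_app, w, zero_app])).ShortExact)
    (P : ObjectProperty D) [P.IsClosedUnderIsomorphisms]
    (hker : ∀ {A B : D} (f : A ⟶ B), P A → P B → P (kernel f))
    (hcoker : ∀ {A B : D} (f : A ⟶ B), P A → P B → P (cokernel f))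
    (hext : ∀ S : ShortComplex D, S.ShortExact → P S.X₁ → P S.X₃ → P S.X₂)
    (M : C) (n : ℕ) (h2 : P ((F₂.rightDerived n).obj M)) (h3 : P ((F₃.rightDerived n).obj M))
    (h2' : P ((F₂.rightDerived (n + 1)).obj M)) (h3' : P ((F₃.rightDerived (n + 1)).obj M)) :
    P ((F₁.rightDerived (n + 1)).obj M) := by
  let I := injectiveResolution M
  let S : ShortComplex (CochainComplex D ℕ) := ShortComplex.mk
    ((NatTrans.mapHomologicalComplex φ (.up ℕ)).app I.cocomplex)
    ((NatTrans.mapHomologicalComplex ψ (.up ℕ)).app I.cocomplex) (by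
      ext i
      show φ.app _ ≫ ψ.app _ = 0
      rw [← NatTrans.comp_app, w, zero_app])
  have hS : S.ShortExact :=
    HomologicalComplex.shortExact_of_degreewise_shortExact S fun i => hex _ (I.injective i)
  have hij : (ComplexShape.up ℕ).Rel n (n + 1) := rfl
  have k2 : P (S.X₂.homology n) := P.prop_of_iso (I.isoRightDerivedObj F₂ n) h2
  have k3 : P (S.X₃.homology n) := P.prop_of_iso (I.isoRightDerivedObj F₃ n) h3
  have k2' : P (S.X₂.homology (n + 1)) := P.prop_of_iso (I.isoRightDerivedObj F₂ (n + 1)) h2'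
  have k3' : P (S.X₃.homology (n + 1)) := P.prop_of_iso (I.isoRightDerivedObj F₃ (n + 1)) h3'
  refine P.prop_of_iso (I.isoRightDerivedObj F₁ (n + 1)).symm ?_
  let g := HomologicalComplex.homologyMap S.g n
  let f' := HomologicalComplex.homologyMap S.f (n + 1)
  let g' := HomologicalComplex.homologyMap S.g (n + 1)
  let δ := hS.δ n (n + 1) hij
  have e1 : (ShortComplex.mk δ f' (hS.δ_comp n (n + 1) hij)).Exact := hS.homology_exact₁ n (n + 1) hij
  have e3 : (ShortComplex.mk g δ (hS.comp_δ n (n + 1) hij)).Exact := hS.homology_exact₃ n (n + 1) hij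
  have e2 := hS.homology_exact₂ (n + 1)
  let a := cokernel.desc g δ (hS.comp_δ n (n + 1) hij)
  let b : S.X₁.homology (n + 1) ⟶ kernel g' := kernel.lift g' f' (by
    rw [← HomologicalComplex.homologyMap_comp, S.zero, HomologicalComplex.homologyMap_zero])
  haveI : Mono a := e3.mono_cokernelDesc
  haveI : Epi b := e2.epi_kernelLift
  have hab : a ≫ b = 0 := by
    rw [← cancel_mono (kernel.ι g'), Category.assoc, kernel.lift_ι, zero_comp, ← cancel_epi (cokernel.π g),
      cokernel.π_desc_assoc, comp_zero]
    exact hS.δ_comp n (n + 1) hij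
  have hδb : δ ≫ b = 0 := by
    rw [← cancel_mono (kernel.ι g'), Category.assoc, kernel.lift_ι, zero_comp]
    exact hS.δ_comp n (n + 1) hij
  have e1' : (ShortComplex.mk δ b hδb).Exact :=
    (ShortComplex.exact_iff_of_epi_of_isIso_of_mono (S₂ := ShortComplex.mk δ f' (hS.δ_comp n (n + 1) hij))
      (S₁ := ShortComplex.mk δ b hδb)
      { τ₁ := 𝟙 _, τ₂ := 𝟙 _, τ₃ := kernel.ι g', comm₁₂ := by simp, comm₂₃ := by simp [b] }).2 e1
  have e1'' : (ShortComplex.mk a b hab).Exact :=
    (ShortComplex.exact_iff_of_epi_of_isIso_of_mono (S₂ := ShortComplex.mk a b hab)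
      (S₁ := ShortComplex.mk δ b hδb)
      { τ₁ := cokernel.π g, τ₂ := 𝟙 _, τ₃ := 𝟙 _, comm₁₂ := by simp [a], comm₂₃ := by simp }).1 e1'
  exact hext (ShortComplex.mk a b hab) (ShortComplex.ShortExact.mk' e1'' inferInstance inferInstance)
    (hcoker g k2 k3) (hker g' k2' k3')

section Biprod

variable {G₁ G₂ G₃ : C ⥤ D} [G₁.Additive] [G₂.Additive] [G₃.Additive]
  (i₁ : G₁ ⟶ G₂) (p₁ : G₂ ⟶ G₁) (i₃ : G₃ ⟶ G₂) (p₃ : G₂ ⟶ G₃)

/-- The derived functors of a sum of two functors. -/
theorem prop_rightDerived_biprod (h11 : ∀ X, i₁.app X ≫ p₁.app X = 𝟙 _) (h33 : ∀ X, i₃.app X ≫ p₃.app X = 𝟙 _)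
    (h13 : ∀ X, i₁.app X ≫ p₃.app X = 0) (h31 : ∀ X, i₃.app X ≫ p₁.app X = 0)
    (htot : ∀ X, p₁.app X ≫ i₁.app X + p₃.app X ≫ i₃.app X = 𝟙 _)
    (P : ObjectProperty D) [P.IsClosedUnderIsomorphisms] (hbi : ∀ {A B : D}, P A → P B → P (A ⊞ B))
    (M : C) (n : ℕ) (h1 : P ((G₁.rightDerived n).obj M)) (h3 : P ((G₃.rightDerived n).obj M)) :
    P ((G₂.rightDerived n).obj M) := by
  let I := injectiveResolution M
  let m : ∀ {A B : C ⥤ D} [A.Additive] [B.Additive], (A ⟶ B) →
      (((A.mapHomologicalComplex (.up ℕ)).obj I.cocomplex).homology n ⟶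
        ((B.mapHomologicalComplex (.up ℕ)).obj I.cocomplex).homology n) :=
    fun {A B} _ _ t => HomologicalComplex.homologyMap ((NatTrans.mapHomologicalComplex t (.up ℕ)).app I.cocomplex) n
  let b : BinaryBicone (((G₁.mapHomologicalComplex (.up ℕ)).obj I.cocomplex).homology n)
      (((G₃.mapHomologicalComplex (.up ℕ)).obj I.cocomplex).homology n) :=
    { pt := ((G₂.mapHomologicalComplex (.up ℕ)).obj I.cocomplex).homology n
      fst := m p₁
      snd := m p₃
      inl := m i₁
      inr := m i₃
      inl_fst := by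
        simp only [m, ← HomologicalComplex.homologyMap_comp]
        rw [← HomologicalComplex.homologyMap_id]
        exact congrArg (HomologicalComplex.homologyMap · n) (HomologicalComplex.hom_ext _ _ fun i => h11 _)
      inl_snd := by
        simp only [m, ← HomologicalComplex.homologyMap_comp]
        rw [← HomologicalComplex.homologyMap_zero]
        exact congrArg (HomologicalComplex.homologyMap · n) (HomologicalComplex.hom_ext _ _ fun i => h13 _)
      inr_fst := by
        simp only [m, ← HomologicalComplex.homologyMap_comp]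
        rw [← HomologicalComplex.homologyMap_zero]
        exact congrArg (HomologicalComplex.homologyMap · n) (HomologicalComplex.hom_ext _ _ fun i => h31 _)
      inr_snd := by
        simp only [m, ← HomologicalComplex.homologyMap_comp]
        rw [← HomologicalComplex.homologyMap_id]
        exact congrArg (HomologicalComplex.homologyMap · n) (HomologicalComplex.hom_ext _ _ fun i => h33 _) }
  have hb : b.IsBilimit := isBinaryBilimitOfTotal b (by
    simp only [b, m]
    rw [← HomologicalComplex.homologyMap_comp, ← HomologicalComplex.homologyMap_comp,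
      ← HomologicalComplex.homologyMap_add, ← HomologicalComplex.homologyMap_id]
    exact congrArg (HomologicalComplex.homologyMap · n) (HomologicalComplex.hom_ext _ _ fun i => htot _))
  refine P.prop_of_iso (I.isoRightDerivedObj G₂ n).symm
    (P.prop_of_iso (biprod.uniqueUpToIso _ _ hb).symm
      (hbi (P.prop_of_iso (I.isoRightDerivedObj G₁ n) h1) (P.prop_of_iso (I.isoRightDerivedObj G₃ n) h3)))

end Biprod

end Groth.L17.DerivedMV
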