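import Groth.Agent.L17.HomologyCompare
import Groth.Agent.L04.SupportSh.Restrict

/-!
# The canonical comparison `H^n(T K) ⟶ T (H^n K)`, composed and precomposed

Compatibility of the comparison for derived functors with natural transformations of the first functor, with
composition of left exact functors and with precomposition by exact functors preserving injectives.
-/

set_option autoImplicit false
set_option linter.unusedSectionVars false
set_option backward.isDefEq.respectTransparency false
set_option backward.isDefEq.respectTransparency.types false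

universe v u v' u' v'' u'' v₀ u₀

open CategoryTheory CategoryTheory.Limits

noncomputable section

namespace Groth.L17.HomologyCompare

variable {C : Type u''} [Category.{v''} C] [Abelian C] [HasInjectiveResolutions C]
  {D : Type u} [Category.{v} D] [Abelian D] {E : Type u'} [Category.{v'} E] [Abelian E]
  (T : D ⥤ E) [T.Additive] [PreservesFiniteLimits T] (A : C ⥤ D) [A.Additive] (n : ℕ)

/-- The comparison does not depend on the resolution. -/
theorem Φ_app_eq {M : C} (J : InjectiveResolution M) :
    (Φ T A n).app M = (J.isoRightDerivedObj (A ⋙ T) n).hom ≫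
      η T ((A.mapHomologicalComplex _).obj J.cocomplex) n ≫ T.map (J.isoRightDerivedObj A n).inv := by
  let I := injectiveResolution M
  let φ := InjectiveResolution.desc (𝟙 M) J I
  have comm : I.ι.f 0 ≫ φ.f 0 = 𝟙 M ≫ J.ι.f 0 := InjectiveResolution.desc_commutes_zero (𝟙 M) J I
  have e1 := InjectiveResolution.isoRightDerivedObj_hom_naturality (𝟙 M) I J φ comm (A ⋙ T) n
  have e2 := InjectiveResolution.isoRightDerivedObj_inv_naturality (𝟙 M) I J φ comm A n
  simp only [Functor.comp_map, HomologicalComplex.homologyFunctor_map, CategoryTheory.Functor.map_id,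
    Category.id_comp, Category.comp_id] at e1 e2
  rw [Φ_app, e1, e2]
  simp only [Functor.map_comp, Category.assoc]
  refine congrArg (_ ≫ ·) ?_
  have e3 : HomologicalComplex.homologyMap
      (((A ⋙ T).mapHomologicalComplex (ComplexShape.up ℕ)).map φ) n ≫
        η T ((A.mapHomologicalComplex _).obj J.cocomplex) n =
      η T (AcyclicHomology.cxA A M) n ≫
        T.map (HomologicalComplex.homologyMap ((A.mapHomologicalComplex _).map φ) n) :=
    η_naturality T n ((A.mapHomologicalComplex _).map φ)
  exact ((reassoc_of% e3) _).symm

/-- The comparison commutes with natural transformations of the first functor. -/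
theorem Φ_natTrans_src {A' : C ⥤ D} [A'.Additive] (τ : A ⟶ A') (M : C) :
    (NatTrans.rightDerived (Functor.whiskerRight τ T) n).app M ≫ (Φ T A' n).app M =
      (Φ T A n).app M ≫ T.map ((NatTrans.rightDerived τ n).app M) := by
  let P := injectiveResolution M
  rw [InjectiveResolution.rightDerived_app_eq (Functor.whiskerRight τ T) P n,
    InjectiveResolution.rightDerived_app_eq τ P n, Φ_app, Φ_app]
  simp only [Category.assoc, Iso.inv_hom_id_assoc, Functor.map_comp]
  refine congrArg (_ ≫ ·) ?_
  rw [← T.map_comp_assoc (P.isoRightDerivedObj A n).inv, Iso.inv_hom_id, CategoryTheory.Functor.map_id,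
    Category.id_comp]
  have e3 : (HomologicalComplex.homologyFunctor E (ComplexShape.up ℕ) n).map
      ((NatTrans.mapHomologicalComplex (Functor.whiskerRight τ T) _).app P.cocomplex) ≫
        η T (AcyclicHomology.cxA A' M) n =
      η T (AcyclicHomology.cxA A M) n ≫
        T.map ((HomologicalComplex.homologyFunctor D (ComplexShape.up ℕ) n).map
          ((NatTrans.mapHomologicalComplex τ _).app P.cocomplex)) :=
    η_naturality T n ((NatTrans.mapHomologicalComplex τ _).app P.cocomplex)
  exact (congrArg (_ ≫ ·) (Iso.inv_hom_id_assoc (P.isoRightDerivedObj (A' ⋙ T) n) _)).trans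
    ((reassoc_of% e3) _)

variable {F : Type u₀} [Category.{v₀} F] [Abelian F] (S : E ⥤ F) [S.Additive] [PreservesFiniteLimits S]

theorem cyc_comp (K : CochainComplex D ℕ) :
    cyc (T ⋙ S) K n = cyc S ((T.mapHomologicalComplex _).obj K) n ≫ S.map (cyc T K n) := by
  haveI : PreservesFiniteLimits (T ⋙ S) := comp_preservesFiniteLimits T S
  rw [← cancel_mono ((T ⋙ S).map (K.iCycles n)), cyc_ι, Category.assoc, Functor.comp_map, ← S.map_comp, cyc_ι,
    cyc_ι]
  rfl

theorem η_comp (K : CochainComplex D ℕ) :
    η (T ⋙ S) K n = η S ((T.mapHomologicalComplex _).obj K) n ≫ S.map (η T K n) := by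
  rw [← cancel_epi ((((T ⋙ S).mapHomologicalComplex _).obj K).homologyπ n), π_η]
  refine Eq.trans ?_ (π_η_assoc S ((T.mapHomologicalComplex _).obj K) n (S.map (η T K n))).symm
  rw [← S.map_comp, π_η, S.map_comp, cyc_comp, Category.assoc]
  rfl

/-- The comparison of a composite. -/
theorem Φ_comp (M : C) :
    (Φ S (A ⋙ T) n).app M ≫ S.map ((Φ T A n).app M) = (Φ (T ⋙ S) A n).app M := by
  rw [Φ_app, Φ_app, Φ_app]
  simp only [Category.assoc, Functor.map_comp]
  refine congrArg (_ ≫ ·) ?_
  rw [← S.map_comp_assoc, Iso.inv_hom_id, CategoryTheory.Functor.map_id, Category.id_comp, η_comp]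
  simp only [Category.assoc]
  rfl

section Pre

variable {B : Type u₀} [Category.{v₀} B] [Abelian B] [HasInjectiveResolutions B] (G : B ⥤ C) [G.Additive]
  [PreservesFiniteLimits G] [PreservesFiniteColimits G] [G.PreservesInjectiveObjects]

open Groth.L04.FunctorLES

/-- Derived functors after an exact functor preserving injectives. -/
def pre : G ⋙ A.rightDerived n ≅ (G ⋙ A).rightDerived n :=
  NatIso.ofComponents (fun M => (mapResolution G (injectiveResolution M)).isoRightDerivedObj A n ≪≫
    ((injectiveResolution M).isoRightDerivedObj (G ⋙ A) n).symm) fun {X Y} f => by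
  let g := InjectiveResolution.desc f (injectiveResolution Y) (injectiveResolution X)
  have hg : (injectiveResolution X).ι.f 0 ≫ g.f 0 = f ≫ (injectiveResolution Y).ι.f 0 :=
    InjectiveResolution.desc_commutes_zero f _ _
  have hg' : (mapResolution G (injectiveResolution X)).ι.f 0 ≫ ((G.mapHomologicalComplex _).map g).f 0 =
      G.map f ≫ (mapResolution G (injectiveResolution Y)).ι.f 0 := by
    rw [mapResolution_ι_f_zero, mapResolution_ι_f_zero]
    exact (G.map_comp _ _).symm.trans ((congrArg G.map hg).trans (G.map_comp _ _))
  simp only [Iso.trans_hom, Iso.symm_hom, Functor.comp_map, Category.assoc]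
  rw [InjectiveResolution.isoRightDerivedObj_hom_naturality_assoc (G.map f)
    (mapResolution G (injectiveResolution X)) (mapResolution G (injectiveResolution Y))
    ((G.mapHomologicalComplex _).map g) hg' A n]
  rw [InjectiveResolution.isoRightDerivedObj_inv_naturality f (injectiveResolution X) (injectiveResolution Y) g hg
    (G ⋙ A) n]
  rfl

/-- The comparison after an exact functor preserving injectives. -/
theorem pre_Φ (M : B) :
    (Φ T A n).app (G.obj M) ≫ T.map ((pre A n G).hom.app M) =
      (pre (A ⋙ T) n G).hom.app M ≫ (Φ T (G ⋙ A) n).app M := by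
  rw [Φ_app_eq T A n (mapResolution G (injectiveResolution M)), Φ_app]
  simp only [pre, NatIso.ofComponents_hom_app, Iso.trans_hom, Iso.symm_hom, Category.assoc, Functor.map_comp]
  rw [← T.map_comp_assoc, Iso.inv_hom_id, CategoryTheory.Functor.map_id, Category.id_comp]
  refine congrArg (_ ≫ ·) ?_
  refine Eq.trans ?_ (Iso.inv_hom_id_assoc _ _).symm
  rfl

end Pre

end Groth.L17.HomologyCompare
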