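import Groth.Agent.L22.CurveDeg.Det.ExtPow
import Groth.Agent.L12.ExtSh.TensorLine
import Groth.Agent.L12.ExtSh.TensBasis
import Mathlib.LinearAlgebra.Matrix.Kronecker

/-!
The determinant of a tensor product of locally free modules.
-/

set_option autoImplicit false
set_option linter.style.haveILetI false
set_option maxHeartbeats 800000
set_option backward.isDefEq.respectTransparency false
set_option backward.isDefEq.respectTransparency.types false

universe u

open CategoryTheory AlgebraicGeometry TopologicalSpace Opposite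
open scoped Kronecker

noncomputable section

namespace Groth.L17.DetTensor

open Groth.L18.Frame (rs ro rs_rs rs_self rs_smul IsFrame)
open Groth.L18.GenLoc (tens tens_rs tens_smul_left tens_smul_right isFrame_tens)
open Groth.L22.CurveDeg.Det (IsBasisS wedge wedge_comb isFrame_wedge rs_wedge)

variable {X : Scheme.{u}}

theorem tens_sum_left {M N : X.Modules} {U : X.Opens} {ι : Type} (s : Finset ι) (m : ι → Γ(M, U)) (n : Γ(N, U)) :
    tens M N U (∑ i ∈ s, m i) n = ∑ i ∈ s, tens M N U (m i) n :=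
  map_sum (AddMonoidHom.mk' (fun m => tens M N U m n) fun _ _ => Groth.L00.Tensor.ev_add₁ _ _ _ _ _) m s

theorem tens_sum_right {M N : X.Modules} {U : X.Opens} {ι : Type} (s : Finset ι) (m : Γ(M, U)) (n : ι → Γ(N, U)) :
    tens M N U m (∑ i ∈ s, n i) = ∑ i ∈ s, tens M N U m (n i) :=
  map_sum (AddMonoidHom.mk' (fun n => tens M N U m n) fun _ _ => Groth.L00.Tensor.ev_add₂ _ _ _ _ _) n s

/-- Tensor powers of a section. -/
def tp (L : X.Modules) (q : ℕ) (U : X.Opens) (s : Γ(L, U)) : Γ(CohB1.tensorPow L q, U) :=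
  KoszTw.tprod L q U fun _ => s

theorem tp_rs (L : X.Modules) (q : ℕ) {U V : X.Opens} (h : V ≤ U) (s : Γ(L, U)) :
    rs (CohB1.tensorPow L q) h (tp L q U s) = tp L q V (rs L h s) :=
  KoszTw.map_tprod L q (homOfLE h) fun _ => s

theorem tp_smul (L : X.Modules) (q : ℕ) (U : X.Opens) (a : Γ(X, U)) (s : Γ(L, U)) :
    tp L q U (a • s) = a ^ q • tp L q U s :=
  Groth.L12.ExtSh.tprod_smul L U a s q

variable {E F DE DF D : X.Modules} {e f : ℕ}

/-- Bases of both modules. -/
def Good (E F : X.Modules) (e f : ℕ) (U : X.affineOpens) : Prop :=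
  Nonempty ({b : Fin e → Γ(E, U.1) // IsBasisS E b} × {c : Fin f → Γ(F, U.1) // IsBasisS F c})

/-- Pure tensors of two families. -/
def pairs {U : X.Opens} (b : Fin e → Γ(E, U)) (c : Fin f → Γ(F, U)) :
    Fin (e * f) → Γ(CohB1.tensorMod E F, U) := fun a =>
  tens E F U (b (finProdFinEquiv.symm a).1) (c (finProdFinEquiv.symm a).2)

theorem isBasisS_pairs {U : X.Opens} {b : Fin e → Γ(E, U)} {c : Fin f → Γ(F, U)} (hb : IsBasisS E b)
    (hc : IsBasisS F c) : IsBasisS (CohB1.tensorMod E F) (pairs b c) :=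
  Groth.L12.ExtSh.isBasisOn_tens hb hc

theorem pairs_comb {U : X.Opens} (b : Fin e → Γ(E, U)) (c : Fin f → Γ(F, U)) (A : Matrix (Fin e) (Fin e) Γ(X, U))
    (B : Matrix (Fin f) (Fin f) Γ(X, U)) :
    pairs (fun i => ∑ j, A i j • b j) (fun i => ∑ j, B i j • c j) =
      fun i => ∑ j, (A ⊗ₖ B).submatrix finProdFinEquiv.symm finProdFinEquiv.symm i j • pairs b c j := by
  funext i
  show tens E F U (∑ j, A (finProdFinEquiv.symm i).1 j • b j) (∑ j, B (finProdFinEquiv.symm i).2 j • c j) = _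
  rw [tens_sum_left, ← finProdFinEquiv.sum_comp, Fintype.sum_prod_type]
  refine Finset.sum_congr rfl fun j _ => ?_
  rw [tens_sum_right]
  refine Finset.sum_congr rfl fun l _ => ?_
  rw [tens_smul_left, tens_smul_right, smul_smul]
  simp only [pairs, Matrix.submatrix_apply, Matrix.kroneckerMap_apply, Equiv.symm_apply_apply]

/-- The line isomorphism attached to frames. -/
def frameLin {L M : X.Modules} {U : X.Opens} {s : Γ(L, U)} {t : Γ(M, U)} (hs : IsFrame L U s) (ht : IsFrame M U t) :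
    Γ(L, U) ≃ₗ[Γ(X, U)] Γ(M, U) :=
  (LinearEquiv.ofBijective (LinearMap.toSpanSingleton Γ(X, U) _ s) (by
      have := hs U le_rfl
      simp only [rs_self] at this
      exact this)).symm ≪≫ₗ
    LinearEquiv.ofBijective (LinearMap.toSpanSingleton Γ(X, U) _ t) (by
      have := ht U le_rfl
      simp only [rs_self] at this
      exact this)

theorem frameLin_smul {L M : X.Modules} {U : X.Opens} {s : Γ(L, U)} {t : Γ(M, U)} (hs : IsFrame L U s)
    (ht : IsFrame M U t) (r : Γ(X, U)) : frameLin hs ht (r • s) = r • t := by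
  rw [frameLin, LinearEquiv.trans_apply]
  rw [show (LinearEquiv.ofBijective (LinearMap.toSpanSingleton Γ(X, U) _ s) _).symm (r • s) = r from
    (LinearEquiv.symm_apply_eq _).2 rfl]
  rfl

/-- `det (E ⊗ F) ≅ (det E)^f ⊗ (det F)^e`. -/
theorem nonempty_det_tensor_iso (hE : FlatMod.IsFinLocFreeOfRank e E) (hF : FlatMod.IsFinLocFreeOfRank f F)
    (hDE : ExtPow.IsExtPow e E DE) (hDF : ExtPow.IsExtPow f F DF)
    (hD : ExtPow.IsExtPow (e * f) (CohB1.tensorMod E F) D) :
    Nonempty (D ≅ CohB1.tensorMod (CohB1.tensorPow DE f) (CohB1.tensorPow DF e)) := by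
  obtain ⟨φE, hφE⟩ := hDE
  obtain ⟨φF, hφF⟩ := hDF
  obtain ⟨φ, hφ⟩ := hD
  let w : ∀ U : X.affineOpens, Good E F e f U → Γ(D, U.1) := fun U hU =>
    wedge φ U (pairs hU.some.1.1 hU.some.2.1)
  let t : ∀ U : X.affineOpens, Good E F e f U →
      Γ(CohB1.tensorMod (CohB1.tensorPow DE f) (CohB1.tensorPow DF e), U.1) := fun U hU =>
    tens _ _ U.1 (tp DE f U.1 (wedge φE U hU.some.1.1)) (tp DF e U.1 (wedge φF U hU.some.2.1))
  have hw : ∀ U hU, IsFrame D U.1 (w U hU) := fun U hU =>
    isFrame_wedge φ hφ U _ (isBasisS_pairs hU.some.1.2 hU.some.2.2)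
  have ht : ∀ U hU, IsFrame _ U.1 (t U hU) := fun U hU =>
    isFrame_tens (Groth.L04.KSh.isFrame_tprod (isFrame_wedge φE hφE U _ hU.some.1.2) f)
      (Groth.L04.KSh.isFrame_tprod (isFrame_wedge φF hφF U _ hU.some.2.2) e)
  obtain ⟨i, -⟩ := Groth.L12.ExtSh.exists_iso_of_good (M := D)
    (N := CohB1.tensorMod (CohB1.tensorPow DE f) (CohB1.tensorPow DF e)) (G := Good E F e f)
    (fun x W hx => by
      obtain ⟨U₁, b, hx₁, hU₁, hb⟩ := Groth.L22.CurveDeg.Det.exists_affine_basis hE x W hx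
      obtain ⟨U₂, c, hx₂, hU₂, hc⟩ := Groth.L22.CurveDeg.Det.exists_affine_basis hF x U₁.1 hx₁
      exact ⟨U₂, ⟨⟨_, hb.mono hU₂⟩, ⟨c, hc⟩⟩, hx₂, hU₂.trans hU₁⟩)
    (fun U hU => frameLin (hw U hU) (ht U hU))
    fun U V hU hV h s => by
      obtain ⟨r, rfl⟩ := (hw U hU U.1 le_rfl).2 s
      simp only [rs_self]
      rw [frameLin_smul, rs_smul, rs_smul, map_smul]
      congr 1
      have hcoef : ∀ {n : ℕ} {M : X.Modules} (b' : Fin n → Γ(M, V.1)) (_ : IsBasisS M b') (b : Fin n → Γ(M, U.1)),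
          ∃ A : Matrix (Fin n) (Fin n) Γ(X, V.1), (fun i => rs M h (b i)) = fun i => ∑ j, A i j • b' j := by
        intro n M b' hb' b
        choose A hA using fun i => (hb' V.1 le_rfl).2 (rs M h (b i))
        simp only [rs_self] at hA
        exact ⟨A, funext fun i => (hA i).symm⟩
      obtain ⟨A, hA⟩ := hcoef hV.some.1.1 hV.some.1.2 hU.some.1.1
      obtain ⟨B, hB⟩ := hcoef hV.some.2.1 hV.some.2.2 hU.some.2.1
      have h1 : rs D h (w U hU) = (A.det ^ f * B.det ^ e) • w V hV := by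
        show rs D h (wedge φ U (pairs hU.some.1.1 hU.some.2.1)) = _
        rw [rs_wedge φ hφ U V h,
          show (fun a => rs (CohB1.tensorMod E F) h (pairs hU.some.1.1 hU.some.2.1 a)) =
            pairs (fun i => rs E h (hU.some.1.1 i)) (fun i => rs F h (hU.some.2.1 i)) from
            funext fun a => tens_rs h _ _, hA, hB, pairs_comb, wedge_comb, Matrix.det_submatrix_equiv_self,
          Matrix.det_kronecker, Fintype.card_fin, Fintype.card_fin]
      have h2 : rs _ h (t U hU) = (A.det ^ f * B.det ^ e) • t V hV := by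
        show rs _ h (tens _ _ U.1 (tp DE f U.1 (wedge φE U hU.some.1.1)) (tp DF e U.1 (wedge φF U hU.some.2.1))) = _
        rw [tens_rs, tp_rs, tp_rs, rs_wedge φE hφE U V h, rs_wedge φF hφF U V h, hA, hB, wedge_comb, wedge_comb,
          tp_smul, tp_smul, tens_smul_left, tens_smul_right, smul_smul]
      rw [h1, h2, frameLin_smul]
  exact ⟨i⟩

end Groth.L17.DetTensor
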