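import Groth.Agent.L17.DevissageGen
import Groth.Agent.L17.CohClass

/-!
# Coherence of direct images from integral closed subschemes
-/

set_option autoImplicit false
set_option backward.isDefEq.respectTransparency false
set_option backward.isDefEq.respectTransparency.types false
set_option linter.style.haveILetI false

universe u

open CategoryTheory CategoryTheory.Limits AlgebraicGeometry TopologicalSpace Opposite

noncomputable section

namespace Groth.L17.DevissagePush

theorem isCoh_pushforward {X Y : Scheme.{u}} [AlgebraicGeometry.IsNoetherian X] [AlgebraicGeometry.IsNoetherian Y]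
    (f : X ⟶ Y)
    (hgen : ∀ (Z : Scheme.{u}) (i : Z ⟶ X) [IsClosedImmersion i] [IsIntegral Z],
      ∃ H : Z.Modules, Coh.IsCoh H ∧ Nontrivial (H.presheaf.stalk (genericPoint Z)) ∧
        Coh.IsCoh ((Scheme.Modules.pushforward (i ≫ f)).obj H))
    (F : X.Modules) (hF : Coh.IsCoh F) : Coh.IsCoh ((Scheme.Modules.pushforward f).obj F) := by
  let push := Scheme.Modules.pushforward f
  haveI : push.IsRightAdjoint := (Scheme.Modules.pullbackPushforwardAdjunction f).isRightAdjoint
  haveI : push.Additive := inferInstance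
  have qpush : ∀ M : X.Modules, Coh.IsCoh M → Coh.IsQCoh (push.obj M) := fun M hM =>
    haveI := hM.1
    Groth.L16.QcqsPush.isQCoh_push M f
  rcases isEmpty_or_nonempty X with hX | hX
  · haveI := qpush F hF
    refine Groth.L16.CohClosedPush.isCoh_of_finite_sections _ fun y => ?_
    obtain ⟨V, hV, hyV, -⟩ := exists_isAffineOpen_mem_and_subset (TopologicalSpace.Opens.mem_top y)
    haveI : Subsingleton Γ(F, f ⁻¹ᵁ V) := by
      rw [show f ⁻¹ᵁ V = ⊥ from TopologicalSpace.Opens.ext (Set.eq_empty_iff_forall_notMem.2 fun x _ => hX.false x)]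
      exact AddCommGrpCat.subsingleton_of_isZero (TopCat.Sheaf.isTerminalOfEmpty ⟨F.presheaf, F.isSheaf⟩).isZero
    haveI : Subsingleton Γ((Scheme.Modules.pushforward f).obj F, V) := ‹Subsingleton Γ(F, f ⁻¹ᵁ V)›
    exact ⟨V, hyV, hV, Module.Finite.of_fg_top (by
      rw [Subsingleton.elim (⊤ : Submodule Γ(Y, V) Γ((Scheme.Modules.pushforward f).obj F, V)) ⊥]
      exact Submodule.fg_bot)⟩
  refine Groth.L17.DevissageGen.devissage_class (fun M => Coh.IsCoh (push.obj M))
    (fun M N ⟨e⟩ h => Groth.L16.CohSupport.isCoh_of_iso (push.mapIso e) h) ?_ ?_ ?_ F hF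
  · intro S hS a b c
    haveI := qpush _ a
    haveI := qpush _ b
    haveI := qpush _ c
    haveI : PreservesFiniteLimits push := inferInstance
    haveI := hS.mono_f
    haveI : Mono (push.map S.f) := inferInstance
    refine ⟨fun h₂ _ => Groth.L16.Rees.RelVanish.isCoh_of_mono (push.map S.f) h₂, fun h₁ h₃ => ?_⟩
    haveI : Coh.IsQCoh (cokernel (push.map S.f)) := (Groth.L00.AlgQCoh.isQCoh_kernel_cokernel _ ‹_› ‹_›).2
    have hex : (S.map push).Exact := by
      have := hS.exact
      exact ShortComplex.exact_of_f_is_kernel _ (isLimitForkMapOfIsLimit' push _ hS.fIsKernel)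
    haveI : Mono (S.map push).f := ‹Mono (push.map S.f)›
    let d : cokernel (push.map S.f) ⟶ push.obj S.X₃ :=
      cokernel.desc _ (push.map S.g) (S.map push).zero
    haveI : Mono d := hex.mono_cokernelDesc
    have hc : Coh.IsCoh (cokernel (push.map S.f)) := Groth.L16.Rees.RelVanish.isCoh_of_mono d h₃
    exact Groth.L17.CohClass.isCoh_of_shortExact
      (ShortComplex.mk (push.map S.f) (cokernel.π _) (cokernel.condition _))
      { exact := ShortComplex.exact_cokernel _ } h₁ hc
  · intro M d hd hM h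
    haveI := qpush M hM
    haveI : IsSplitEpi (Sigma.desc fun _ : Fin d => 𝟙 M) :=
      IsSplitEpi.mk' ⟨Sigma.ι (fun _ : Fin d => M) ⟨0, hd⟩, Sigma.ι_desc _ _⟩
    haveI : Epi (push.map (Sigma.desc fun _ : Fin d => 𝟙 M)) := inferInstance
    exact ⟨qpush M hM, Groth.L17.Approx.isFT_of_epi (push.map (Sigma.desc fun _ : Fin d => 𝟙 M)) h.2⟩
  · intro Z i _ _
    obtain ⟨H, hH, hn, hc⟩ := hgen Z i
    exact ⟨H, hH, hn, Groth.L16.CohSupport.isCoh_of_iso ((Scheme.Modules.pushforwardComp i f).app H).symm hc⟩

end Groth.L17.DevissagePush
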