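import Groth.Agent.L17.IdealMulSec
import Groth.Agent.L19.Ass.Basic
import Groth.Agent.L16.SchSupport
import Groth.Agent.L16.Devissage
import Groth.Agent.L18.DirImg
import Mathlib.RingTheory.Filtration
import Mathlib.RingTheory.Ideal.AssociatedPrime.Finiteness
import Mathlib.Algebra.Module.Torsion.Basic

/-!
# Morphisms of coherent modules defined on an open extend to coherent submodules

For a coherent module `M` and an open `U`, an ideal built from powers of the maximal ideals at the associated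
points of `M` outside `U` cuts out a coherent submodule equal to `M` over `U` without sections supported off `U`.
-/

set_option autoImplicit false
set_option linter.style.haveILetI false
set_option linter.unusedSectionVars false
set_option backward.isDefEq.respectTransparency false
set_option backward.isDefEq.respectTransparency.types false

universe u

open CategoryTheory CategoryTheory.Limits AlgebraicGeometry TopologicalSpace Opposite IsLocalRing

noncomputable section

namespace Groth.L17.ExtendHom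

variable {X : Scheme.{u}} [IsLocallyNoetherian X]

theorem exists_pow_inter_socle {R N : Type u} [CommRing R] [IsNoetherianRing R] [AddCommGroup N] [Module R N]
    [Module.Finite R N] (m : Ideal R) :
    ∃ n : ℕ, ∀ v ∈ m ^ n • (⊤ : Submodule R N), (∀ r ∈ m, r • v = 0) → v = 0 := by
  let T : Submodule R N := Submodule.torsionBySet R N m
  obtain ⟨k, hk⟩ := m.exists_pow_inf_eq_pow_smul T
  refine ⟨k + 1, fun v hv hr => ?_⟩
  have h1 : v ∈ m ^ (k + 1) • (⊤ : Submodule R N) ⊓ T :=
    ⟨hv, (Submodule.mem_torsionBySet_iff _ _).2 fun a => hr a a.2⟩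
  rw [hk (k + 1) (by omega), Nat.add_sub_cancel_left, pow_one] at h1
  refine (Submodule.mem_bot R).1 ((?_ : _ ≤ (⊥ : Submodule R N)) h1)
  refine Submodule.smul_le.2 fun r hr' n hn => (Submodule.mem_bot R).2 ?_
  exact (Submodule.mem_torsionBySet_iff _ _).1 hn.2 ⟨r, hr'⟩

theorem app_rs {M N : X.Modules} (φ : M ⟶ N) {U V : X.Opens} (h : V ≤ U) (s : Γ(M, U)) :
    φ.app V (Groth.L18.Frame.rs M h s) = Groth.L18.Frame.rs N h (φ.app U s) :=
  NatTrans.naturality_apply (φ := φ.mapPresheaf) (homOfLE h).op s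

variable (M : X.Modules) (hM : Coh.IsCoh M) (U : X.Opens)

include hM in
theorem exists_stalk_pow (x : X) : ∃ n : ℕ,
    ∀ v ∈ maximalIdeal (X.presheaf.stalk x) ^ n • (⊤ : Submodule (X.presheaf.stalk x) (M.presheaf.stalk x)),
      (∀ r ∈ maximalIdeal (X.presheaf.stalk x), r • v = 0) → v = 0 := by
  haveI : Coh.IsQCoh M := hM.1
  obtain ⟨_, ⟨V, hV, rfl⟩, hx, -⟩ := X.isBasis_affineOpens.exists_subset_of_mem_open (Set.mem_univ x) isOpen_univ
  letI := Groth.L20.ModStalk.stalkModule M hx
  letI := X.presheaf.algebra_section_stalk ⟨x, hx⟩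
  haveI := hV.isLocalization_stalk ⟨x, hx⟩
  haveI := Groth.L20.ModStalk.isLocalizedModule_germ M hV hx
  haveI : IsScalarTower Γ(X, V) (X.presheaf.stalk x) (M.presheaf.stalk x) :=
    IsScalarTower.of_algebraMap_smul fun _ _ => rfl
  haveI : IsNoetherianRing Γ(X, V) := IsLocallyNoetherian.component_noetherian ⟨V, hV⟩
  haveI := Groth.L16.SchSupport.finite_sections M hM ⟨V, hV⟩
  haveI : IsNoetherianRing (X.presheaf.stalk x) :=
    IsLocalization.isNoetherianRing (hV.primeIdealOf ⟨x, hx⟩).asIdeal.primeCompl _ inferInstance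
  haveI : Module.Finite (X.presheaf.stalk x) (M.presheaf.stalk x) :=
    Module.Finite.of_isLocalizedModule (hV.primeIdealOf ⟨x, hx⟩).asIdeal.primeCompl (Groth.L20.ModStalk.germₗ M hx)
  exact exists_pow_inter_socle _

/-- The exponent at a point. -/
def expo (x : X) : ℕ := (exists_stalk_pow M hM x).choose

/-- Germ conditions at the associated points outside `U`. -/
def pts (V : X.Opens) : Set X := {x | x ∈ V ∧ x ∈ AssSch.Ass M ∧ x ∉ U}

include hM in
theorem finite_pts {V : X.Opens} (hV : IsAffineOpen V) : (pts M U V).Finite := by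
  haveI : Coh.IsQCoh M := hM.1
  haveI : IsNoetherianRing Γ(X, V) := IsLocallyNoetherian.component_noetherian ⟨V, hV⟩
  haveI := Groth.L16.SchSupport.finite_sections M hM ⟨V, hV⟩
  refine (((associatedPrimes.finite Γ(X, V) Γ(M, V)).preimage (f := PrimeSpectrum.asIdeal)
    (fun a _ b _ h => PrimeSpectrum.ext h)).image hV.fromSpec).subset ?_
  rintro x ⟨hx, hA, -⟩
  exact ⟨hV.primeIdealOf ⟨x, hx⟩, (Groth.L19.Ass.mem_iff_of_affine M hV hx).1 hA, hV.fromSpec_primeIdealOf _⟩

/-- The ideal of functions vanishing to high order at the associated points outside `U`. -/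
def idl (V : X.affineOpens) : Ideal Γ(X, V.1) :=
  ⨅ (x : X) (hx : x ∈ pts M U V.1), (maximalIdeal (X.presheaf.stalk x) ^ expo M hM x).comap
    (X.presheaf.germ V.1 x hx.1).hom

theorem mem_idl {V : X.affineOpens} {a : Γ(X, V.1)} : a ∈ idl M hM U V ↔
    ∀ (x : X) (hx : x ∈ pts M U V.1), X.presheaf.germ V.1 x hx.1 a ∈ maximalIdeal (X.presheaf.stalk x) ^ expo M hM x := by
  simp [idl, Submodule.mem_iInf]

theorem map_idl (V : X.affineOpens) (f : Γ(X, V.1)) :
    (idl M hM U V).map (X.presheaf.map (homOfLE <| X.basicOpen_le f).op).hom = idl M hM U (X.affineBasicOpen f) := by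
  apply le_antisymm
  · rw [Ideal.map_le_iff_le_comap]
    intro a ha
    rw [Ideal.mem_comap, mem_idl]
    rintro x ⟨hx, hA, hU⟩
    have := (mem_idl M hM U).1 ha x ⟨X.basicOpen_le f hx, hA, hU⟩
    exact Eq.mpr (congrArg (· ∈ _) (TopCat.Presheaf.germ_res_apply X.presheaf (homOfLE (X.basicOpen_le f)) x hx a)) this
  · intro b hb
    letI : Algebra Γ(X, V.1) Γ(X, X.basicOpen f) := (X.presheaf.map (homOfLE <| X.basicOpen_le f).op).hom.toAlgebra
    haveI := V.2.isLocalization_basicOpen f
    obtain ⟨⟨a, ⟨_, k, rfl⟩⟩, hab⟩ := IsLocalization.surj (Submonoid.powers f) b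
    obtain ⟨N, hN⟩ := ((finite_pts M hM U V.2).image (expo M hM)).bddAbove
    refine (IsLocalization.mem_map_algebraMap_iff (Submonoid.powers f) Γ(X, X.basicOpen f)).2
      ⟨⟨⟨a * f ^ N, ?_⟩, ⟨f ^ (k + N), k + N, rfl⟩⟩, ?_⟩
    swap
    · show b * algebraMap Γ(X, V.1) Γ(X, X.basicOpen f) (f ^ (k + N)) = algebraMap Γ(X, V.1) Γ(X, X.basicOpen f) (a * f ^ N)
      rw [pow_add, map_mul, map_mul, ← mul_assoc]
      exact congrArg (· * _) hab
    rw [mem_idl]
    rintro x hx
    rw [map_mul, map_pow]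
    by_cases hxf : x ∈ X.basicOpen f
    · refine Ideal.mul_mem_right _ _ ?_
      have hb' := (mem_idl M hM U).1 hb x ⟨hxf, hx.2⟩
      have := congrArg (X.presheaf.germ (X.basicOpen f) x hxf) hab
      rw [map_mul, RingHom.algebraMap_toAlgebra,
        show X.presheaf.germ (X.basicOpen f) x hxf ((X.presheaf.map (homOfLE <| X.basicOpen_le f).op).hom a) =
          X.presheaf.germ V.1 x hx.1 a from TopCat.Presheaf.germ_res_apply X.presheaf _ x hxf a] at this
      rw [← this]
      exact Ideal.mul_mem_right _ _ hb'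
    · refine Ideal.mul_mem_left _ _ (Ideal.pow_le_pow_right (hN ⟨x, hx, rfl⟩) (Ideal.pow_mem_pow ?_ N))
      rw [X.mem_basicOpen f x hx.1] at hxf
      exact (IsLocalRing.mem_maximalIdeal _).2 hxf

/-- The ideal sheaf. -/
def ideal : X.IdealSheafData where
  ideal := idl M hM U
  map_ideal_basicOpen := map_idl M hM U

theorem one_mem_idl {V : X.affineOpens} (hV : V.1 ≤ U) : (1 : Γ(X, V.1)) ∈ idl M hM U V :=
  (mem_idl M hM U).2 fun _ hx => absurd (hV hx.1) hx.2.2

/-- Sections of the submodule vanishing on `U` are zero. -/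
theorem eq_zero_of_vanish {V : X.Opens} (hV : IsAffineOpen V) {s : Γ(M, V)}
    (hs : s ∈ idl M hM U ⟨V, hV⟩ • (⊤ : Submodule Γ(X, V) Γ(M, V)))
    (h0 : ∀ (x : X) (hx : x ∈ V), x ∈ U → M.presheaf.germ V x hx s = 0) : s = 0 := by
  haveI : Coh.IsQCoh M := hM.1
  haveI : IsNoetherianRing Γ(X, V) := IsLocallyNoetherian.component_noetherian ⟨V, hV⟩
  by_contra hne
  haveI : Nontrivial (Submodule.span Γ(X, V) {s}) :=
    (Submodule.nontrivial_iff_ne_bot).2 (by simp [hne])
  obtain ⟨p, hp⟩ := associatedPrimes.nonempty Γ(X, V) (Submodule.span Γ(X, V) {s})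
  obtain ⟨hpp, ⟨⟨z, hz⟩, hpz⟩⟩ := isAssociatedPrime_iff.1 hp
  haveI := hpp
  have hpM : p ∈ associatedPrimes Γ(X, V) Γ(M, V) :=
    associatedPrimes.subset_of_injective (Submodule.injective_subtype _) hp
  obtain ⟨c, rfl⟩ := Submodule.mem_span_singleton.1 hz
  let x : X := hV.fromSpec ⟨p, hpp⟩
  have hx : x ∈ V := Groth.L19.Ass.fromSpec_mem hV _
  have hA : x ∈ AssSch.Ass M := Groth.L19.Ass.fromSpec_mem_ass M hV hpM
  have hP : (hV.primeIdealOf ⟨x, hx⟩).asIdeal = p :=
    congrArg PrimeSpectrum.asIdeal (Groth.L19.Ass.primeIdealOf_fromSpec hV ⟨p, hpp⟩ hx)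
  have hann : ∀ r : Γ(X, V), r ∈ p ↔ r • (c • s) = 0 := fun r => by
    rw [hpz, Submodule.mem_colon_singleton, Submodule.mem_bot, ← Subtype.coe_inj]
    rfl
  letI := Groth.L20.ModStalk.stalkModule M hx
  letI := X.presheaf.algebra_section_stalk ⟨x, hx⟩
  haveI := hV.isLocalization_stalk ⟨x, hx⟩
  haveI := Groth.L20.ModStalk.isLocalizedModule_germ M hV hx
  let g := M.presheaf.germ V x hx (c • s)
  have hg : g ≠ 0 := fun h => by
    obtain ⟨t, ht⟩ := (IsLocalizedModule.eq_zero_iff (hV.primeIdealOf ⟨x, hx⟩).asIdeal.primeCompl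
      (Groth.L20.ModStalk.germₗ M hx)).1 h
    exact t.2 (hP.ge ((hann _).2 ht))
  have hxU : x ∉ U := fun hxU => hg (by rw [show g = _ from Groth.L20.ModStalk.germ_smul M hx c s, h0 x hx hxU, smul_zero])
  have hgm : g ∈ maximalIdeal (X.presheaf.stalk x) ^ expo M hM x •
      (⊤ : Submodule (X.presheaf.stalk x) (M.presheaf.stalk x)) := by
    have key : ∀ v ∈ idl M hM U ⟨V, hV⟩ • (⊤ : Submodule Γ(X, V) Γ(M, V)), M.presheaf.germ V x hx v ∈
        maximalIdeal (X.presheaf.stalk x) ^ expo M hM x • (⊤ : Submodule (X.presheaf.stalk x) (M.presheaf.stalk x)) := by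
      intro v hv
      induction hv using Submodule.smul_induction_on' with
      | smul r hr n _ =>
        rw [Groth.L20.ModStalk.germ_smul M hx r n]
        exact Submodule.smul_mem_smul ((mem_idl M hM U).1 hr x ⟨hx, hA, hxU⟩) Submodule.mem_top
      | add a _ b _ ha hb => rw [map_add]; exact add_mem ha hb
    exact key _ (Submodule.smul_mem _ c hs)
  refine hg ((exists_stalk_pow M hM x).choose_spec g hgm fun r hr => ?_)
  rw [← IsLocalization.AtPrime.map_eq_maximalIdeal (hV.primeIdealOf ⟨x, hx⟩).asIdeal (X.presheaf.stalk x), hP] at hr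
  induction hr using Submodule.span_induction with
  | mem r hr =>
    obtain ⟨a, ha, rfl⟩ := hr
    exact (Groth.L20.ModStalk.germ_smul M hx a (c • s)).symm.trans (by rw [(hann a).1 ha, map_zero])
  | zero => exact zero_smul _ _
  | add a b _ _ ha hb => rw [add_smul, ha, hb, add_zero]
  | smul a b _ hb => rw [smul_eq_mul, mul_smul, hb, smul_zero]

/-- The inclusion of the submodule is an isomorphism on sections over affines in `U`. -/
theorem app_bijective {V : X.Opens} (hV : IsAffineOpen V) (h : V ≤ U) :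
    Function.Bijective ((Dual3.idealMulι (ideal M hM U) M).app V) := by
  haveI : Coh.IsQCoh M := hM.1
  refine ⟨Groth.L17.IdealMulSec.ι_app_injective _ _ V, fun s => (Groth.L17.IdealMulSec.exists_app_eq_iff _ _ hV s).2 ?_⟩
  rw [← one_smul Γ(X, V) s]
  exact Submodule.smul_mem_smul (one_mem_idl M hM U (V := ⟨V, hV⟩) h) Submodule.mem_top

theorem isIso_restrict : IsIso ((Scheme.Modules.restrictFunctor U.ι).map (Dual3.idealMulι (ideal M hM U) M)) :=
  Groth.L18.DirImg.isIso_of_isIso_affine _ fun W hW => (ConcreteCategory.isIso_iff_bijective _).2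
    (app_bijective M hM U (hW.image_of_isOpenImmersion U.ι) (by rintro _ ⟨y, -, rfl⟩; exact y.2))

theorem injective_app_of_restrict {N N' : X.Modules} (ψ : N ⟶ N')
    (hψ : IsIso ((Scheme.Modules.restrictFunctor U.ι).map ψ)) {W : X.Opens} (hW : W ≤ U) :
    Function.Injective (ψ.app W) := by
  have e : U.ι ''ᵁ (U.ι ⁻¹ᵁ W) = W := by
    rw [Scheme.Hom.image_preimage_eq_opensRange_inf, Scheme.Opens.opensRange_ι, inf_eq_right.2 hW]
  have h : Function.Injective (ψ.app (U.ι ''ᵁ (U.ι ⁻¹ᵁ W))) := by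
    intro a b hab
    haveI := hψ
    exact (((ConcreteCategory.isIso_iff_bijective (((Scheme.Modules.restrictFunctor U.ι).map ψ).app (U.ι ⁻¹ᵁ W))).1
      inferInstance).1 : _) hab
  rw [e] at h
  exact h

/-- The submodule maps injectively along any morphism which is an isomorphism over `U`. -/
theorem mono_comp_of_isIso_restrict {F : X.Modules} (ψ : M ⟶ F)
    (hψ : IsIso ((Scheme.Modules.restrictFunctor U.ι).map ψ)) :
    Mono (Dual3.idealMulι (ideal M hM U) M ≫ ψ) := by
  haveI : Coh.IsQCoh M := hM.1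
  refine Preadditive.mono_of_cancel_zero _ fun {A} a ha => ?_
  refine Groth.L16.AffineBC.hom_ext_affine _ _ fun V hV m => ?_
  apply Groth.L17.IdealMulSec.ι_app_injective (ideal M hM U) M V
  let t : Γ(M, V) := (Dual3.idealMulι (ideal M hM U) M).app V (a.app V m)
  have h1 : ψ.app V t = 0 := congr($(ha).app V m)
  let W := V ⊓ U
  have hinj : Function.Injective (ψ.app W) := injective_app_of_restrict U ψ hψ (inf_le_right : W ≤ U)
  have h3 : Groth.L18.Frame.rs M (inf_le_left : W ≤ V) t = 0 := hinj (by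
    rw [map_zero, app_rs ψ (inf_le_left : W ≤ V) t, h1]
    exact map_zero _)
  have h4 : t = 0 := by
    refine eq_zero_of_vanish M hM U hV
      ((Groth.L17.IdealMulSec.exists_app_eq_iff (ideal M hM U) M hV t).1 ⟨a.app V m, rfl⟩) fun x hx hxU => ?_
    rw [← Groth.L20.ModStalk.germ_rs M (inf_le_left : W ≤ V) (x := x) ⟨hx, hxU⟩, h3, map_zero]
  have h5 : (0 : A ⟶ (Dual3.idealMul (ideal M hM U)).obj M).app V m = 0 := rfl
  rw [h5, map_zero]
  exact h4

variable {M}

theorem isQCoh_restrict {G : X.Modules} (hG : Coh.IsCoh G) (V : X.Opens) : Coh.IsQCoh (G.restrict V.ι) := by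
  haveI := hG.1
  exact Scheme.Modules.isQuasicoherent_restrictFunctor _ _

theorem exists_extend (F G : X.Modules) (hF : Coh.IsCoh F) (hG : Coh.IsCoh G)
    (φ : (Scheme.Modules.restrictFunctor U.ι).obj F ⟶ (Scheme.Modules.restrictFunctor U.ι).obj G) :
    ∃ (F' : X.Modules) (ι : F' ⟶ F) (φ' : F' ⟶ G), Mono ι ∧ Coh.IsCoh F' ∧
      IsIso ((Scheme.Modules.restrictFunctor U.ι).map ι) ∧
      (Scheme.Modules.restrictFunctor U.ι).map φ' = (Scheme.Modules.restrictFunctor U.ι).map ι ≫ φ := by
  haveI := hF.1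
  haveI := hG.1
  let R := Scheme.Modules.restrictFunctor U.ι
  let adj := Scheme.Modules.restrictAdjunction U.ι
  haveI : R.Additive := adj.left_adjoint_additive
  let θ : F ⊞ G ⟶ (Scheme.Modules.pushforward U.ι).obj (R.obj G) :=
    (adj.homEquiv _ _) (R.map biprod.fst ≫ φ - R.map biprod.snd)
  haveI : Coh.IsQCoh (R.obj G) := isQCoh_restrict hG U
  haveI : Coh.IsQCoh ((Scheme.Modules.pushforward U.ι).obj (R.obj G)) := Groth.L16.QcqsPush.isQCoh_push _ U.ι
  have hB : Coh.IsCoh (F ⊞ G) := Groth.L16.Devissage.isCoh_biprod hF hG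
  have hH : Coh.IsCoh (kernel θ) := Groth.L16.CohSupport.isCoh_kernel hB θ
  have hθ : R.map (kernel.ι θ) ≫ (R.map biprod.fst ≫ φ - R.map biprod.snd) = 0 := by
    have h : kernel.ι θ ≫ θ = 0 := kernel.condition θ
    apply (adj.homEquiv _ _).injective
    rw [adj.homEquiv_naturality_left]
    exact h.trans ((adj.homAddEquiv _ _).map_zero).symm
  have hR : R.map (kernel.ι θ ≫ biprod.snd) = R.map (kernel.ι θ ≫ biprod.fst) ≫ φ := by
    rw [Preadditive.comp_sub, sub_eq_zero] at hθ
    rw [R.map_comp, R.map_comp, Category.assoc]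
    exact hθ.symm
  haveI hiso : IsIso (R.map (kernel.ι θ ≫ biprod.fst)) := by
    haveI : PreservesFiniteLimits R := inferInstance
    have hk : IsLimit (KernelFork.ofι (R.map (kernel.ι θ)) (show R.map (kernel.ι θ) ≫ R.map θ = 0 by
        rw [← R.map_comp, kernel.condition, R.map_zero])) :=
      isLimitForkMapOfIsLimit' R (kernel.condition θ) (kernelIsKernel θ)
    let v : R.obj F ⟶ R.obj (F ⊞ G) := R.map biprod.inl + φ ≫ R.map biprod.inr
    have hv : v ≫ R.map θ = 0 := by
      have h1 : R.map θ ≫ adj.counit.app (R.obj G) = R.map biprod.fst ≫ φ - R.map biprod.snd :=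
        (adj.homEquiv_counit (g := θ)).symm.trans (Equiv.symm_apply_apply _ _)
      rw [← cancel_mono (adj.counit.app (R.obj G)), Category.assoc, zero_comp]
      rw [h1]
      simp only [v, Preadditive.add_comp, Preadditive.comp_sub, Category.assoc, ← R.map_comp_assoc,
        ← R.map_comp, biprod.inl_fst, biprod.inl_snd, biprod.inr_fst, biprod.inr_snd, R.map_id, R.map_zero,
        Category.id_comp, zero_comp, comp_zero, add_zero, zero_add]
      exact sub_eq_zero.2 (Category.comp_id φ).symm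
    let w := hk.lift (KernelFork.ofι v hv)
    have hw : w ≫ R.map (kernel.ι θ) = v := hk.fac _ WalkingParallelPair.zero
    refine ⟨w, ?_, ?_⟩
    · apply Fork.IsLimit.hom_ext hk
      change (R.map (kernel.ι θ ≫ biprod.fst) ≫ w) ≫ R.map (kernel.ι θ) = 𝟙 _ ≫ R.map (kernel.ι θ)
      rw [Category.assoc, hw, Category.id_comp]
      calc R.map (kernel.ι θ ≫ biprod.fst) ≫ v
          = R.map (kernel.ι θ ≫ biprod.fst ≫ biprod.inl) + R.map (kernel.ι θ ≫ biprod.snd ≫ biprod.inr) := by
            rw [Preadditive.comp_add, ← R.map_comp, ← Category.assoc (kernel.ι θ) biprod.snd, ← Category.assoc _ φ,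
              ← hR, ← R.map_comp, Category.assoc, Category.assoc]
        _ = R.map (kernel.ι θ) := by
            rw [← R.map_add, ← Preadditive.comp_add, biprod.total, Category.comp_id]
    · rw [R.map_comp, ← Category.assoc, hw]
      simp only [v, Preadditive.add_comp, Category.assoc, ← R.map_comp, biprod.inl_fst, biprod.inr_fst,
        R.map_id, R.map_zero, comp_zero, add_zero]
  let H := kernel θ
  let i := Dual3.idealMulι (ideal H hH U) H
  haveI hi : IsIso (R.map i) := isIso_restrict H hH U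
  refine ⟨(Dual3.idealMul (ideal H hH U)).obj H, i ≫ kernel.ι θ ≫ biprod.fst, i ≫ kernel.ι θ ≫ biprod.snd,
    ?_, Groth.L17.IdealMulSec.isCoh_idealMul _ _ hH, ?_, ?_⟩
  · exact mono_comp_of_isIso_restrict (kernel θ) hH U (kernel.ι θ ≫ biprod.fst) hiso
  · rw [R.map_comp]; infer_instance
  · rw [R.map_comp, R.map_comp i (kernel.ι θ ≫ biprod.fst), hR, Category.assoc]

end Groth.L17.ExtendHom
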