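import Groth.Agent.L17.Transfer
import Groth.Agent.L17.SpecVanishing
import Groth.Agent.L17.Tower
import Mathlib.CategoryTheory.Limits.Shapes.Products
import Mathlib.CategoryTheory.Preadditive.Injective.Basic

/-!
# Cohomology of limits of inverse systems of sheaves acyclic on a basis
-/

set_option autoImplicit false
set_option linter.style.haveILetI false
set_option maxHeartbeats 400000

universe u

open CategoryTheory CategoryTheory.Limits TopologicalSpace Opposite Abelian

noncomputable section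

namespace Groth.L17.LimCoh

variable {X : TopCat.{u}} {B : Set (Opens X)} (hB : Opens.IsBasis B)

lemma huMap_huMap {U : Opens X} {F G H : AbSheaf X} (f : F ⟶ G) (g : G ⟶ H) {n : ℕ} (x : HU U F n) :
    huMap g (huMap f x) = huMap (f ≫ g) x := by
  simp [huMap]

lemma huMap_add {U : Opens X} {F G : AbSheaf X} (f : F ⟶ G) {n : ℕ} (x y : HU U F n) :
    huMap f (x + y) = huMap f x + huMap f y :=
  Ext.add_comp _ _ _ _

lemma huMap_zero {U : Opens X} {F G : AbSheaf X} (f : F ⟶ G) {n : ℕ} :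
    huMap f (0 : HU U F n) = 0 :=
  by simp [huMap]

lemma huMap_sub {U : Opens X} {F G : AbSheaf X} (f : F ⟶ G) {n : ℕ} (x y : HU U F n) :
    huMap f (x - y) = huMap f x - huMap f y :=
  map_sub (AddMonoidHom.mk' (fun z : HU U F n => huMap f z) (huMap_add f)) x y

lemma huMap_sub_map {U : Opens X} {F G : AbSheaf X} (f g : F ⟶ G) {n : ℕ} (x : HU U F n) :
    huMap (f - g) x = huMap f x - huMap g x := by
  rw [eq_sub_iff_add_eq, huMap, huMap, ← Ext.comp_add, ← Ext.mk₀_add, sub_add_cancel]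

/-- Connecting maps. -/
abbrev δ {U : Opens X} {S : ShortComplex (AbSheaf X)} (hS : S.ShortExact) {n : ℕ} (x : HU U S.X₃ n) :
    HU U S.X₁ (n + 1) :=
  x.comp hS.extClass rfl

lemma δ_sub {U : Opens X} {S : ShortComplex (AbSheaf X)} (hS : S.ShortExact) {n : ℕ} (x y : HU U S.X₃ n) :
    δ hS (x - y) = δ hS x - δ hS y :=
  map_sub (AddMonoidHom.mk' (fun z : HU U S.X₃ n => δ hS z) fun _ _ => Ext.add_comp _ _ _ _) x y

lemma δ_natural {U : Opens X} {S S' : ShortComplex (AbSheaf X)} (hS : S.ShortExact) (hS' : S'.ShortExact)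
    (τ : S ⟶ S') {n : ℕ} (x : HU U S.X₃ n) : huMap τ.τ₁ (δ hS x) = δ hS' (huMap τ.τ₃ x) := by
  rw [huMap, δ, δ, huMap, Ext.comp_assoc_of_third_deg_zero,
    ShortComplex.ShortExact.extClass_naturality hS hS' τ, Ext.comp_assoc_of_second_deg_zero]

lemma δ_huMap {U : Opens X} {S : ShortComplex (AbSheaf X)} (hS : S.ShortExact) {n : ℕ} (x : HU U S.X₂ n) :
    δ hS (huMap S.g x) = 0 := by
  rw [δ, huMap, Ext.comp_assoc_of_second_deg_zero, hS.comp_extClass, Ext.comp_zero]

lemma exists_δ {U : Opens X} {S : ShortComplex (AbSheaf X)} (hS : S.ShortExact) {n : ℕ} (x : HU U S.X₁ (n + 1))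
    (h : huMap S.f x = 0) : ∃ y : HU U S.X₃ n, δ hS y = x :=
  Ext.covariant_sequence_exact₁ _ hS x h rfl

lemma exists_huMap_g {U : Opens X} {S : ShortComplex (AbSheaf X)} (hS : S.ShortExact) {n : ℕ} (y : HU U S.X₃ n)
    (h : δ hS y = 0) : ∃ w : HU U S.X₂ n, huMap S.g w = y :=
  Ext.covariant_sequence_exact₃ _ hS y rfl h

lemma exists_huMap_f {U : Opens X} {S : ShortComplex (AbSheaf X)} (hS : S.ShortExact) {n : ℕ} (x : HU U S.X₂ n)
    (h : huMap S.g x = 0) : ∃ w : HU U S.X₁ n, huMap S.f w = x :=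
  Ext.covariant_sequence_exact₂ _ hS x h

/-- Sheaves without higher cohomology on the members of a family of opens. -/
def AcyclicOn (B : Set (Opens X)) (F : AbSheaf X) : Prop :=
  ∀ W ∈ B, ∀ (n : ℕ) (x : HU W F (n + 1)), x = 0

lemma acyclicOn_injective (B : Set (Opens X)) (I : AbSheaf X) [Injective I] : AcyclicOn B I :=
  fun _ _ _ x => Ext.eq_zero_of_injective x

lemma exists_lift_of_acyclicOn {S : ShortComplex (AbSheaf X)} (hS : S.ShortExact) {W : Opens X}
    (h : ∀ x : HU W S.X₁ 1, x = 0) (a : zFree W ⟶ S.X₃) : ∃ b : zFree W ⟶ S.X₂, b ≫ S.g = a := by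
  obtain ⟨w, hw⟩ := exists_huMap_g hS (Ext.mk₀ a) (h _)
  obtain ⟨b, rfl⟩ := (Ext.mk₀_bijective _ _).2 w
  exact ⟨b, (Ext.mk₀_bijective _ _).1 ((Ext.mk₀_comp_mk₀ b S.g).symm.trans hw)⟩

include hB in
lemma epi_of_lift {F G : AbSheaf X} (f : F ⟶ G)
    (h : ∀ W ∈ B, ∀ a : zFree W ⟶ G, ∃ b, b ≫ f = a) : Epi f :=
  epi_of_basis hB f fun W hW s => by
    obtain ⟨a, rfl⟩ := (zEquiv W G).surjective s
    obtain ⟨b, rfl⟩ := h W hW a
    exact ⟨zEquiv W F b, (zEquiv_comp W b f).symm⟩

section Product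

variable {ι : Type} (G : ι → AbSheaf X)

/-- The products of the injective presentations. -/
abbrev prodSeq : ShortComplex (AbSheaf X) :=
  ShortComplex.mk (Limits.Pi.map fun i => (injSeq (G i)).f) (Limits.Pi.map fun i => (injSeq (G i)).g)
    (Pi.hom_ext _ _ fun i => by simp)

include hB in
lemma prodSeq_shortExact (hG : ∀ i, AcyclicOn B (G i)) : (prodSeq G).ShortExact where
  mono_f := ⟨fun a b hab => Pi.hom_ext _ _ fun i => by
    have h := congrArg (· ≫ Pi.π (fun i => (injSeq (G i)).X₂) i) hab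
    simp only [Category.assoc] at h
    erw [Limits.Pi.map_π, ← Category.assoc, ← Category.assoc] at h
    haveI := (injSeq_shortExact (G i)).mono_f
    exact (cancel_mono (injSeq (G i)).f).1 h⟩
  epi_g := by
    refine epi_of_lift hB _ fun W hW a => ?_
    choose b hb using fun i => exists_lift_of_acyclicOn (injSeq_shortExact (G i))
      (hG i W hW 0) (a ≫ Pi.π _ i)
    refine ⟨Pi.lift b, Pi.hom_ext _ _ fun i => ?_⟩
    simp only [Category.assoc]
    erw [Limits.Pi.map_π, Pi.lift_π_assoc]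
    exact hb i
  exact := by
    refine exact_of_basis hB _ fun W _ s hs => ?_
    obtain ⟨a, rfl⟩ := (zEquiv W (prodSeq G).X₂).surjective s
    have h0 : a ≫ (prodSeq G).g = 0 := (zEquiv W _).injective (by
      rw [zEquiv_comp]
      exact hs.trans (map_zero (zAddEquiv W _)).symm)
    have hi : ∀ i, (a ≫ Pi.π _ i) ≫ (injSeq (G i)).g = 0 := fun i => by
      have h := congrArg (· ≫ Pi.π (fun i => (injSeq (G i)).X₃) i) h0
      simp only [Category.assoc, zero_comp] at h
      erw [Limits.Pi.map_π] at h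
      rw [Category.assoc]
      exact h
    haveI := fun i => (injSeq_shortExact (G i)).mono_f
    let b : zFree W ⟶ ∏ᶜ G := Pi.lift fun i => (injSeq_shortExact (G i)).exact.lift (a ≫ Pi.π _ i) (hi i)
    refine ⟨zEquiv W _ b, ?_⟩
    rw [← zEquiv_comp]
    refine congrArg (zEquiv W _) (Pi.hom_ext _ _ fun i => ?_)
    simp only [b, Category.assoc]
    erw [Limits.Pi.map_π, Pi.lift_π_assoc]
    exact (injSeq_shortExact (G i)).exact.lift_f _ _

/-- The projection of the product of the presentations to a presentation. -/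
abbrev prodSeqπ (i : ι) : prodSeq G ⟶ injSeq (G i) where
  τ₁ := Pi.π _ i
  τ₂ := Pi.π _ i
  τ₃ := Pi.π _ i
  comm₁₂ := (Limits.Pi.map_π (fun i => (injSeq (G i)).f) i).symm
  comm₂₃ := (Limits.Pi.map_π (fun i => (injSeq (G i)).g) i).symm

/-- The comparison with the product of the cohomologies. -/
abbrev toPiHU (U : Opens X) (n : ℕ) (x : HU U (∏ᶜ G) n) (i : ι) : HU U (G i) n :=
  huMap (Pi.π G i) x

end Product

include hB in
/-- Cohomology commutes with products of sheaves acyclic on a basis. -/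
theorem bijective_toPiHU {ι : Type} (U : Opens X) :
    ∀ (n : ℕ) (G : ι → AbSheaf X), (∀ i, AcyclicOn B (G i)) → Function.Bijective (toPiHU G U n) := by
  intro n
  induction n with
  | zero =>
    intro G _
    refine ⟨fun x y h => ?_, fun y => ?_⟩
    · obtain ⟨a, rfl⟩ := (Ext.mk₀_bijective _ _).2 x
      obtain ⟨b, rfl⟩ := (Ext.mk₀_bijective _ _).2 y
      refine congrArg _ (Pi.hom_ext _ _ fun i => (Ext.mk₀_bijective _ _).1 ?_)
      have h' := congrFun h i
      simp only [toPiHU, huMap, Ext.mk₀_comp_mk₀] at h'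
      exact h'
    · choose a ha using fun i => (Ext.mk₀_bijective _ _).2 (y i)
      refine ⟨Ext.mk₀ (Pi.lift a), funext fun i => ?_⟩
      simp only [toPiHU, huMap, Ext.mk₀_comp_mk₀, Pi.lift_π]
      exact ha i
  | succ n ih =>
    intro G hG
    have hS := prodSeq_shortExact hB G hG
    have hQ : ∀ i, AcyclicOn B (injSeq (G i)).X₃ := fun i W hW m x => acyclic_injSeq_X₃ (hG i W hW) m x
    haveI : ∀ i, Injective (injSeq (G i)).X₂ := fun i => inferInstanceAs (Injective (Injective.under _))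
    haveI : Injective (prodSeq G).X₂ :=
      inferInstanceAs (Injective (∏ᶜ fun i => (injSeq (G i)).X₂))
    have ihQ := ih (fun i => (injSeq (G i)).X₃) hQ
    have ihI := ih (fun i => (injSeq (G i)).X₂) fun i => acyclicOn_injective B _
    have hδ : ∀ (z : HU U (prodSeq G).X₃ n) (i : ι), huMap (Pi.π G i) (δ hS z) =
        δ (injSeq_shortExact (G i)) (huMap (Pi.π (fun i => (injSeq (G i)).X₃) i) z) :=
      fun z i => δ_natural hS (injSeq_shortExact (G i)) (prodSeqπ G i) z
    have key : ∀ x : HU U (∏ᶜ G) (n + 1), (∀ i, huMap (Pi.π G i) x = 0) → x = 0 := by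
      intro x hx
      obtain ⟨z, rfl⟩ := exists_δ hS x (Ext.eq_zero_of_injective _)
      choose w hw using fun i => exists_huMap_g (injSeq_shortExact (G i))
        (huMap (Pi.π (fun i => (injSeq (G i)).X₃) i) z) ((hδ z i).symm.trans (hx i))
      obtain ⟨W, hW⟩ := ihI.2 w
      have hz : z = huMap (prodSeq G).g W := ihQ.1 (funext fun i => by
        show huMap _ z = huMap _ (huMap _ W)
        rw [huMap_huMap, ← hw i, ← congrFun hW i]
        show huMap _ (huMap _ W) = _
        rw [huMap_huMap]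
        exact congrArg (huMap · W) (Limits.Pi.map_π (fun i => (injSeq (G i)).g) i).symm)
      rw [hz]
      exact δ_huMap hS W
    refine ⟨fun x y h => sub_eq_zero.1 (key _ fun i => ?_), fun y => ?_⟩
    · rw [huMap_sub, sub_eq_zero]
      exact congrFun h i
    · choose z hz using fun i => exists_δ (injSeq_shortExact (G i)) (y i) (Ext.eq_zero_of_injective _)
      obtain ⟨Z, hZ⟩ := ihQ.2 z
      exact ⟨δ hS Z, funext fun i => by
        show huMap _ _ = _
        rw [hδ, ← hz i, ← congrFun hZ i]⟩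

section Limit

variable (G : ℕ → AbSheaf X) (t : ∀ k, G (k + 1) ⟶ G k) {L : AbSheaf X} (π : ∀ k, L ⟶ G k)

/-- The difference map of a tower. -/
abbrev shiftDiff : ∏ᶜ G ⟶ ∏ᶜ G := Pi.lift fun k => Pi.π G k - Pi.π G (k + 1) ≫ t k

variable (hπ : ∀ k, π (k + 1) ≫ t k = π k)

/-- The sequence of a limit. -/
abbrev limSeq : ShortComplex (AbSheaf X) :=
  ShortComplex.mk (Pi.lift π) (shiftDiff G t) (Pi.hom_ext _ _ fun k => by simp [hπ k])

lemma huMap_shiftDiff {U : Opens X} {n : ℕ} (x : HU U (∏ᶜ G) n) (k : ℕ) :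
    huMap (Pi.π G k) (huMap (shiftDiff G t) x) =
      huMap (Pi.π G k) x - huMap (t k) (huMap (Pi.π G (k + 1)) x) := by
  rw [huMap_huMap, Pi.lift_π, huMap_sub_map, huMap_huMap]

variable
  (hext : ∀ (W : Opens X) (x y : L.obj.obj (op W)),
    (∀ k, (π k).hom.app (op W) x = (π k).hom.app (op W) y) → x = y)
  (hex : ∀ (W : Opens X) (y : ∀ k, (G k).obj.obj (op W)),
    (∀ k, (t k).hom.app (op W) (y (k + 1)) = y k) → ∃ x, ∀ k, (π k).hom.app (op W) x = y k)
  (hsurj : ∀ W ∈ B, ∀ k, Function.Surjective ((t k).hom.app (op W)))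

include hB hext hex hsurj in
lemma limSeq_shortExact : (limSeq G t π hπ).ShortExact where
  mono_f := mono_of_injective_app _ fun W x y h => hext W x y fun k => by
    have e : Pi.lift π ≫ Pi.π G k = π k := Pi.lift_π _ _
    rw [← e]
    exact congrArg ((Pi.π G k).hom.app (op W)) h
  epi_g := by
    refine epi_of_lift hB _ fun W hW a => ?_
    have hl : ∀ k (c : zFree W ⟶ G k), ∃ d : zFree W ⟶ G (k + 1), d ≫ t k = c := fun k c => by
      obtain ⟨s, hs⟩ := hsurj W hW k (zEquiv W _ c)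
      exact ⟨(zEquiv W _).symm s, (zEquiv W _).injective (by rw [zEquiv_comp, Equiv.apply_symm_apply, hs])⟩
    choose d hd using hl
    let b : ∀ k, zFree W ⟶ G k := fun k =>
      Nat.rec (motive := fun k => zFree W ⟶ G k) 0 (fun k c => d k (c - a ≫ Pi.π G k)) k
    refine ⟨Pi.lift b, Pi.hom_ext _ _ fun k => ?_⟩
    simp only [Category.assoc, Pi.lift_π, Preadditive.comp_sub, Pi.lift_π_assoc]
    rw [show b (k + 1) ≫ t k = b k - a ≫ Pi.π G k from hd k _]
    abel
  exact := by
    refine exact_of_basis hB _ fun W _ s hs => ?_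
    obtain ⟨a, rfl⟩ := (zEquiv W (∏ᶜ G)).surjective s
    have h0 : a ≫ shiftDiff G t = 0 := (zEquiv W _).injective (by
      rw [zEquiv_comp]
      exact hs.trans (map_zero (zAddEquiv W _)).symm)
    obtain ⟨x, hx⟩ := hex W (fun k => zEquiv W _ (a ≫ Pi.π G k)) fun k => by
      rw [← zEquiv_comp]
      refine congrArg (zEquiv W _) ?_
      have h1 := congrArg (· ≫ Pi.π G k) h0
      simp only [Category.assoc, Pi.lift_π, Preadditive.comp_sub, zero_comp, sub_eq_zero] at h1
      rw [Category.assoc]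
      exact h1.symm
    refine ⟨x, ?_⟩
    obtain ⟨b, rfl⟩ := (zEquiv W L).surjective x
    rw [← zEquiv_comp]
    refine congrArg (zEquiv W _) (Pi.hom_ext _ _ fun k => (zEquiv W _).injective ?_)
    rw [Category.assoc, Pi.lift_π, zEquiv_comp]
    exact hx k

include hB hext hex hsurj hπ in
/-- The cohomology of a limit is the limit of the cohomologies when the cohomologies one degree lower satisfy
the Mittag-Leffler condition. -/
theorem hu_lim (hG : ∀ k, AcyclicOn B (G k)) (U : Opens X) (n : ℕ) :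
    ((∀ m : ℕ, m + 1 = n → ∀ y : ∀ k, HU U (G k) m, ∃ x : ∀ k, HU U (G k) m,
        ∀ k, x k - huMap (t k) (x (k + 1)) = y k) →
      ∀ x : HU U L n, (∀ k, huMap (π k) x = 0) → x = 0) ∧
    ∀ y : ∀ k, HU U (G k) n, (∀ k, huMap (t k) (y (k + 1)) = y k) → ∃ x : HU U L n, ∀ k, huMap (π k) x = y k := by
  have hS := limSeq_shortExact hB G t π hπ hext hex hsurj
  have hP := fun n => bijective_toPiHU hB U n G hG
  have hcomp : ∀ {m : ℕ} (x : HU U L m) (k : ℕ), huMap (Pi.π G k) (huMap (Pi.lift π) x) = huMap (π k) x :=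
    fun x k => by rw [huMap_huMap, Pi.lift_π]
  refine ⟨fun hml x hx => ?_, fun y hy => ?_⟩
  · have h0 : huMap (limSeq G t π hπ).f x = 0 := (hP n).1 (funext fun k =>
      (hcomp x k).trans ((hx k).trans (huMap_zero _).symm))
    cases n with
    | zero =>
      obtain ⟨a, rfl⟩ := (Ext.mk₀_bijective _ _).2 x
      haveI := hS.mono_f
      rw [huMap, Ext.mk₀_comp_mk₀, Ext.mk₀_eq_zero_iff] at h0
      rw [(cancel_mono (limSeq G t π hπ).f).1 (h0.trans zero_comp.symm), Ext.mk₀_zero]
    | succ m =>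
      obtain ⟨w, rfl⟩ := exists_δ hS x h0
      obtain ⟨a, ha⟩ := hml m rfl fun k => huMap (Pi.π G k) w
      obtain ⟨A, hA⟩ := (hP m).2 a
      have hw : w = huMap (limSeq G t π hπ).g A := (hP m).1 (funext fun k => by
        show huMap (Pi.π G k) w = huMap (Pi.π G k) (huMap (shiftDiff G t) A)
        rw [huMap_shiftDiff, show huMap (Pi.π G k) A = a k from congrFun hA k,
          show huMap (Pi.π G (k + 1)) A = a (k + 1) from congrFun hA (k + 1), ha k])
      rw [hw]
      exact δ_huMap hS A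
  · obtain ⟨Y, hY⟩ := (hP n).2 y
    obtain ⟨x, hx⟩ := exists_huMap_f hS Y ((hP n).1 (funext fun k => by
      show huMap (Pi.π G k) (huMap (shiftDiff G t) Y) = huMap (Pi.π G k) 0
      rw [huMap_shiftDiff, show huMap (Pi.π G k) Y = y k from congrFun hY k,
        show huMap (Pi.π G (k + 1)) Y = y (k + 1) from congrFun hY (k + 1), hy k, sub_self, huMap_zero]))
    exact ⟨x, fun k => by rw [← hcomp x k, hx]; exact congrFun hY k⟩

end Limit

end Groth.L17.LimCoh
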