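import Mathlib.Algebra.Homology.DerivedCategory.Ext.ExactSequences
import Mathlib.Algebra.Homology.ShortComplex.ExactFunctor

/-!
# Mittag-Leffler for the cohomology of a tower from stationarity of the obstructions
-/

set_option autoImplicit false

universe w v u v' u'

open CategoryTheory CategoryTheory.Limits Abelian

noncomputable section

namespace Groth.L17.TowerObstruction

variable {C : Type u} [Category.{v} C] [Abelian C]
  {D : Type u'} [Category.{v'} D] [Abelian D] [HasExt.{w} D] (Z : D)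
  (T : C ⥤ D) [T.Additive] [PreservesFiniteLimits T] [PreservesFiniteColimits T]
  (Q : ℕ → C) (tr : ∀ {i j : ℕ}, i ≤ j → (Q j ⟶ Q i))
  (hcomp : ∀ {i j l : ℕ} (h : i ≤ j) (h' : j ≤ l), tr h' ≫ tr h = tr (h.trans h'))

include hcomp in
theorem ι_tr {i j l : ℕ} (h : i ≤ j) (h' : j ≤ l) : kernel.ι (tr h') ≫ tr (h.trans h') = 0 := by
  rw [← hcomp h h', kernel.condition_assoc, zero_comp]

/-- The inclusion of the kernel of a shorter transition into that of a longer one. -/
def kerIncl {i j l : ℕ} (h : i ≤ j) (h' : j ≤ l) : kernel (tr h') ⟶ kernel (tr (h.trans h')) :=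
  kernel.lift _ (kernel.ι _) (ι_tr Q tr hcomp h h')

/-- The short exact sequence of a transition. -/
abbrev seq {i j : ℕ} (h : i ≤ j) : ShortComplex C :=
  ShortComplex.mk (kernel.ι (tr h)) (tr h) (kernel.condition _)

include hcomp in
/-- If the obstructions in the graded pieces are stationary with shift `r`, every class at a level `l ≥ i + r`
has, at the level `i`, the same image as a class at the level `l + 1`. -/
theorem exists_next (hepi : ∀ {i j : ℕ} (h : i ≤ j), Epi (tr h)) (n r : ℕ)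
    (hstat : ∀ (m l : ℕ) (h : m ≤ l), m + r ≤ l →
      ∀ x : Ext Z (T.obj (kernel (tr l.le_succ))) (n + 1),
        x.comp (Ext.mk₀ (T.map (kernel.ι (tr l.le_succ)))) (add_zero _) = 0 →
        x.comp (Ext.mk₀ (T.map (kerIncl Q tr hcomp h l.le_succ))) (add_zero _) = 0)
    (i l : ℕ) (h : i ≤ l) (hr : i + r ≤ l) (y : Ext Z (T.obj (Q l)) n) :
    ∃ y' : Ext Z (T.obj (Q (l + 1))) n,
      y'.comp (Ext.mk₀ (T.map (tr (h.trans l.le_succ)))) (add_zero _) =
        y.comp (Ext.mk₀ (T.map (tr h))) (add_zero _) := by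
  haveI := fun (a b : ℕ) (hab : a ≤ b) => hepi hab
  have hse : ∀ (a b : ℕ) (hab : a ≤ b), ((seq Q tr hab).map T).ShortExact := fun a b hab =>
    ShortComplex.ShortExact.map_of_exact { exact := ShortComplex.exact_kernel _ } T
  let S := seq Q tr l.le_succ
  let S' := seq Q tr (h.trans l.le_succ)
  let σ : S ⟶ S' :=
    { τ₁ := kerIncl Q tr hcomp h l.le_succ
      τ₂ := 𝟙 _
      τ₃ := tr h
      comm₁₂ := by
        show kerIncl Q tr hcomp h l.le_succ ≫ kernel.ι _ = kernel.ι _ ≫ 𝟙 _
        rw [kerIncl, kernel.lift_ι, Category.comp_id]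
      comm₂₃ := by
        show 𝟙 _ ≫ tr (h.trans l.le_succ) = tr l.le_succ ≫ tr h
        rw [Category.id_comp, hcomp] }
  let x := y.comp (hse _ _ l.le_succ).extClass (rfl : n + 1 = n + 1)
  have hx : x.comp (Ext.mk₀ (T.map (kernel.ι (tr l.le_succ)))) (add_zero _) = 0 := by
    refine (Ext.comp_assoc_of_third_deg_zero _ _ _ _).trans ?_
    exact (congrArg (fun z => y.comp z _) (hse _ _ l.le_succ).extClass_comp).trans (Ext.comp_zero _ _ _ _ _)
  have hx' := hstat i l h hr x hx
  have hnat := ShortComplex.ShortExact.extClass_naturality (hse _ _ l.le_succ) (hse _ _ (h.trans l.le_succ))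
    (T.mapShortComplex.map σ)
  have h0 : (y.comp (Ext.mk₀ (T.map (tr h))) (add_zero _)).comp (hse _ _ (h.trans l.le_succ)).extClass
      (rfl : n + 1 = n + 1) = 0 := by
    rw [Ext.comp_assoc_of_second_deg_zero]
    refine Eq.trans ?_ hx'
    refine Eq.trans ?_ (Ext.comp_assoc_of_third_deg_zero _ _ _ _).symm
    exact congrArg (fun z => y.comp z (rfl : n + 1 = n + 1)) hnat.symm
  exact Ext.covariant_sequence_exact₃ Z (hse _ _ (h.trans l.le_succ)) _ rfl h0

include hcomp in
/-- The images at a level are stationary from the shift on. -/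
theorem exists_of_le (hepi : ∀ {i j : ℕ} (h : i ≤ j), Epi (tr h)) (n r : ℕ)
    (hstat : ∀ (m l : ℕ) (h : m ≤ l), m + r ≤ l →
      ∀ x : Ext Z (T.obj (kernel (tr l.le_succ))) (n + 1),
        x.comp (Ext.mk₀ (T.map (kernel.ι (tr l.le_succ)))) (add_zero _) = 0 →
        x.comp (Ext.mk₀ (T.map (kerIncl Q tr hcomp h l.le_succ))) (add_zero _) = 0)
    (i l : ℕ) (hil : i + r ≤ l) (y : Ext Z (T.obj (Q (i + r))) n) :
    ∃ y' : Ext Z (T.obj (Q l)) n,
      y'.comp (Ext.mk₀ (T.map (tr ((Nat.le_add_right i r).trans hil)))) (add_zero _) =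
        y.comp (Ext.mk₀ (T.map (tr (Nat.le_add_right i r)))) (add_zero _) := by
  induction l, hil using Nat.le_induction with
  | base => exact ⟨y, rfl⟩
  | succ l hl ih =>
    obtain ⟨y', hy'⟩ := ih
    obtain ⟨y'', hy''⟩ := exists_next Z T Q tr hcomp hepi n r hstat i l ((Nat.le_add_right i r).trans hl) hl y'
    exact ⟨y'', hy''.trans hy'⟩

end Groth.L17.TowerObstruction
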