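import Groth.Agent.L16.Rees.Setup
import Groth.Agent.L00.AlgQCoh
import Groth.Agent.L19.FPExtend.Colim

/-!
# Finiteness of the cohomology of a graded quasi-coherent module

A family `E k` of quasi-coherent modules on a proper `A`-scheme with an action of the Rees algebra of
an ideal, generated by the coherent module `E 0`, has cohomology which is finite over the Rees algebra.
-/

set_option autoImplicit false
set_option linter.style.haveILetI false

universe u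

open CategoryTheory CategoryTheory.Limits AlgebraicGeometry TopologicalSpace Opposite Polynomial
open scoped TensorProduct

noncomputable section

namespace Groth.L17.GradedFinite

open Groth.L16 (CohLinear.hmap)
open Groth.L16.AffineBC (Xb gb η β scal)
open Formal (smulMod)

variable {A : Type u} [CommRing A] {I : Ideal A} {X : Scheme.{u}} [X.Over (Spec (CommRingCat.of A))]

/-- A graded module over the Rees algebra, by its pieces and multiplication maps. -/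
structure GrMod (A : Type u) [CommRing A] (I : Ideal A) (X : Scheme.{u})
    [X.Over (Spec (CommRingCat.of A))] : Type (u + 1) where
  /-- The pieces. -/
  E : ℕ → X.Modules
  /-- Multiplication by an element of `I ^ (l - k)`. -/
  mul : ∀ {k l : ℕ}, k ≤ l → ∀ a : A, a ∈ I ^ (l - k) → (E k ⟶ E l)
  mul_add : ∀ {k l : ℕ} (h : k ≤ l) (a b : A) (ha : a ∈ I ^ (l - k)) (hb : b ∈ I ^ (l - k)),
    mul h (a + b) (add_mem ha hb) = mul h a ha + mul h b hb
  mul_smul : ∀ {k l : ℕ} (h : k ≤ l) (r a : A) (ha : a ∈ I ^ (l - k)),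
    mul h (r * a) (Ideal.mul_mem_left _ r ha) = mul h a ha ≫ smulMod A (E l) r
  mul_comp : ∀ {k m l : ℕ} (h : k ≤ m) (h' : m ≤ l) (a : A) (ha : a ∈ I ^ (m - k)) (a' : A)
    (ha' : a' ∈ I ^ (l - m)) (hc : a' * a ∈ I ^ (l - k)),
    mul h a ha ≫ mul h' a' ha' = mul (h.trans h') (a' * a) hc
  mul_one : ∀ (k : ℕ) (h1 : (1 : A) ∈ I ^ (k - k)), mul (le_refl k) 1 h1 = 𝟙 _
  coh : Coh.IsCoh (E 0)
  qcoh : ∀ k, Coh.IsQCoh (E k)
  gen : ∀ k, Epi (Sigma.desc (fun a : ↥(I ^ k) =>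
    mul (Nat.zero_le k) (a : A) (by rw [Nat.sub_zero]; exact a.2)))

variable (𝒢 : GrMod A I X)

namespace GrMod

theorem mem₀ {k : ℕ} {a : A} (ha : a ∈ I ^ k) : a ∈ I ^ (k - 0) := by rwa [Nat.sub_zero]

theorem mul_zero {k l : ℕ} (h : k ≤ l) (h0 : (0 : A) ∈ I ^ (l - k)) : 𝒢.mul h 0 h0 = 0 := by
  have e := 𝒢.mul_add h 0 0 h0 h0
  simp only [add_zero] at e
  exact left_eq_add.1 e

theorem mul_congr {k l : ℕ} (h : k ≤ l) {a b : A} (e : a = b) (ha : a ∈ I ^ (l - k)) (hb : b ∈ I ^ (l - k)) :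
    𝒢.mul h a ha = 𝒢.mul h b hb := by subst e; rfl

/-- The multiplication map of a coefficient of an element of the Rees algebra. -/
def cmul (k l : ℕ) (b : reesAlgebra I) : 𝒢.E k ⟶ 𝒢.E l :=
  if h : k ≤ l then 𝒢.mul h ((b : A[X]).coeff (l - k)) (b.2 _) else 0

end GrMod

/-- The surjection onto a piece. -/
abbrev gMap (k : ℕ) : (∐ fun _ : ↥(I ^ k) => 𝒢.E 0) ⟶ 𝒢.E k :=
  Sigma.desc fun a : ↥(I ^ k) => 𝒢.mul (Nat.zero_le k) (a : A) (GrMod.mem₀ a.2)

/-- The base change to the Rees algebra. -/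
abbrev GB : X.Modules := Groth.L16.AffineBC.G A (reesAlgebra I) X (𝒢.E 0)

/-- The monomials. -/
abbrev mon {k : ℕ} (a : ↥(I ^ k)) : reesAlgebra I := ⟨monomial k (a : A), reesAlgebra.monomial_mem.2 a.2⟩

/-- The monomial components of the free module. -/
abbrev lMap (k : ℕ) : (∐ fun _ : ↥(I ^ k) => 𝒢.E 0) ⟶ GB 𝒢 :=
  Sigma.desc fun a : ↥(I ^ k) => η A (reesAlgebra I) X (𝒢.E 0) ≫ β A (reesAlgebra I) X (𝒢.E 0) (mon a)

/-- The relations. -/
abbrev Rel : X.Modules := ∐ fun k : ULift.{u} ℕ => kernel (gMap 𝒢 k.down)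

/-- The relations in the free module. -/
abbrev relMap : Rel 𝒢 ⟶ GB 𝒢 := Sigma.desc fun k : ULift.{u} ℕ => kernel.ι (gMap 𝒢 k.down) ≫ lMap 𝒢 k.down

/-- The relations on the base change. -/
abbrev relB : (Scheme.Modules.pullback (gb A (reesAlgebra I) X)).obj (Rel 𝒢) ⟶
    (Scheme.Modules.pullback (gb A (reesAlgebra I) X)).obj (𝒢.E 0) :=
  ((Scheme.Modules.pullbackPushforwardAdjunction (gb A (reesAlgebra I) X)).homEquiv _ _).symm (relMap 𝒢)

/-- The module on the base change. -/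
abbrev MB : (Xb A (reesAlgebra I) X).Modules := cokernel (relB 𝒢)

/-- Its direct image. -/
abbrev GM : X.Modules := (Coh.push (gb A (reesAlgebra I) X)).obj (MB 𝒢)

/-- The projection. -/
abbrev pm : GB 𝒢 ⟶ GM 𝒢 := (Coh.push (gb A (reesAlgebra I) X)).map (cokernel.π (relB 𝒢))

/-- The action of the Rees algebra. -/
abbrev βM (b : reesAlgebra I) : GM 𝒢 ⟶ GM 𝒢 :=
  (Coh.push (gb A (reesAlgebra I) X)).map (smulMod (reesAlgebra I) (MB 𝒢) b)

theorem β_pm (b : reesAlgebra I) :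
    β A (reesAlgebra I) X (𝒢.E 0) b ≫ pm 𝒢 = pm 𝒢 ≫ βM 𝒢 b := by
  rw [pm, β, βM, ← Functor.map_comp, ← Functor.map_comp, Groth.L16.Rees.smulMod_naturality]

theorem η_relB :
    η A (reesAlgebra I) X (Rel 𝒢) ≫ (Coh.push (gb A (reesAlgebra I) X)).map (relB 𝒢) = relMap 𝒢 :=
  ((Scheme.Modules.pullbackPushforwardAdjunction (gb A (reesAlgebra I) X)).homEquiv_unit _ _ _).symm.trans
    (Equiv.apply_symm_apply _ _)

theorem relMap_pm : relMap 𝒢 ≫ pm 𝒢 = 0 := by
  rw [← η_relB, Category.assoc, pm, ← Functor.map_comp, cokernel.condition]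
  haveI : (Coh.push (gb A (reesAlgebra I) X)).IsRightAdjoint :=
    (Scheme.Modules.pullbackPushforwardAdjunction (gb A (reesAlgebra I) X)).isRightAdjoint
  rw [Functor.map_zero, Limits.comp_zero]

theorem exists_φ (k : ℕ) : ∃ φ : 𝒢.E k ⟶ GM 𝒢, gMap 𝒢 k ≫ φ = lMap 𝒢 k ≫ pm 𝒢 := by
  haveI : Epi (gMap 𝒢 k) := 𝒢.gen k
  have h0 : kernel.ι (gMap 𝒢 k) ≫ lMap 𝒢 k ≫ pm 𝒢 = 0 := by
    have h := congrArg (fun t => Sigma.ι (fun j : ULift.{u} ℕ => kernel (gMap 𝒢 j.down)) (ULift.up k) ≫ t) (relMap_pm 𝒢)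
    simp only [Sigma.ι_desc_assoc, Limits.comp_zero, Category.assoc] at h
    exact h
  exact ⟨Abelian.epiDesc (gMap 𝒢 k) (lMap 𝒢 k ≫ pm 𝒢) h0, Abelian.comp_epiDesc _ _ _⟩

/-- The components of the free module. -/
theorem exists_coeff (l : ℕ) :
    ∃ c : GB 𝒢 ⟶ 𝒢.E l, ∀ b : reesAlgebra I,
      η A (reesAlgebra I) X (𝒢.E 0) ≫ β A (reesAlgebra I) X (𝒢.E 0) b ≫ c =
        𝒢.mul (Nat.zero_le l) ((b : A[X]).coeff l) (GrMod.mem₀ (b.2 l)) := by
  classical
  haveI : Coh.IsQCoh (𝒢.E 0) := 𝒢.qcoh 0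
  let F := 𝒢.E 0
  let M : reesAlgebra I → (F ⟶ 𝒢.E l) := fun b =>
    𝒢.mul (Nat.zero_le l) ((b : A[X]).coeff l) (GrMod.mem₀ (b.2 l))
  have hadd : ∀ b b', M (b + b') = M b + M b' := fun b b' =>
    (𝒢.mul_congr _ (coeff_add _ _ _) _ (add_mem (GrMod.mem₀ (b.2 l)) (GrMod.mem₀ (b'.2 l)))).trans
      (𝒢.mul_add _ _ _ _ _)
  have hsmul : ∀ (r : A) b, M (r • b) = M b ≫ smulMod A (𝒢.E l) r := fun r b =>
    (𝒢.mul_congr _ (coeff_smul r _ _) _ (Ideal.mul_mem_left _ r (GrMod.mem₀ (b.2 l)))).trans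
      (𝒢.mul_smul _ _ _ _)
  have ex : ∀ (U : X.Opens) (_ : IsAffineOpen U), ∃ cU : Γ(GB 𝒢, U) →+ Γ(𝒢.E l, U),
      ∀ (b : reesAlgebra I) (m : Γ(F, U)),
        cU ((β A (reesAlgebra I) X F b).app U ((η A (reesAlgebra I) X F).app U m)) = (M b).app U m := by
    intro U hU
    letI : Module A Γ(F, U) := Module.compHom Γ(F, U) (scal A X U)
    letI : Module A Γ(𝒢.E l, U) := Module.compHom Γ(𝒢.E l, U) (scal A X U)
    obtain ⟨E, hE⟩ := Groth.L16.AffineBC.exists_equiv A (reesAlgebra I) X F hU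
    let Lb : reesAlgebra I →ₗ[A] Γ(F, U) →ₗ[A] Γ(𝒢.E l, U) :=
      LinearMap.mk₂ A (fun b m => (M b).app U m)
        (fun b b' m => by rw [hadd]; rfl)
        (fun r b m => by
          rw [hsmul]
          show (smulMod A (𝒢.E l) r).app U ((M b).app U m) = scal A X U r • (M b).app U m
          exact Groth.L16.Rees.smulModΓ_app (𝒢.E l) _ U _)
        (fun b m m' => map_add _ _ _)
        (fun r b m => (M b).app_smul (scal A X U r) m)
    let L : reesAlgebra I ⊗[A] Γ(F, U) →ₗ[A] Γ(𝒢.E l, U) := TensorProduct.lift Lb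
    refine ⟨L.toAddMonoidHom.comp E.symm.toAddMonoidHom, fun b m => ?_⟩
    show L (E.symm _) = _
    rw [← hE b m, AddEquiv.symm_apply_apply]
    exact TensorProduct.lift.tmul _ _
  choose cU hcU using ex
  have gen : ∀ (U : X.Opens) (_ : IsAffineOpen U) (P : Γ(GB 𝒢, U) → Prop), P 0 →
      (∀ a b, P a → P b → P (a + b)) →
      (∀ b m, P ((β A (reesAlgebra I) X F b).app U ((η A (reesAlgebra I) X F).app U m))) → ∀ t, P t := by
    intro U hU P h0 hadd' hb t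
    letI : Module A Γ(F, U) := Module.compHom Γ(F, U) (scal A X U)
    obtain ⟨E, hE⟩ := Groth.L16.AffineBC.exists_equiv A (reesAlgebra I) X F hU
    obtain ⟨s, rfl⟩ := E.surjective t
    induction s using TensorProduct.induction_on with
    | zero => rwa [map_zero]
    | add x y hx hy => rw [map_add]; exact hadd' _ _ hx hy
    | tmul b m => rw [hE]; exact hb b m
  obtain ⟨c, hc⟩ := Groth.L16.AffineBC.exists_hom_affine cU (fun U V hU hV h m => by
    refine gen U hU (fun m => cU V hV ((GB 𝒢).presheaf.map (homOfLE h).op m) =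
      (𝒢.E l).presheaf.map (homOfLE h).op (cU U hU m)) ?_ ?_ ?_ m
    · rw [map_zero, map_zero, map_zero, map_zero]
    · intro a b ha hb
      rw [map_add, map_add, ha, hb, map_add, map_add]
    · intro b m
      have n1 := ConcreteCategory.congr_hom
        ((η A (reesAlgebra I) X F ≫ β A (reesAlgebra I) X F b).mapPresheaf.naturality (homOfLE h).op) m
      have n2 := ConcreteCategory.congr_hom ((M b).mapPresheaf.naturality (homOfLE h).op) m
      refine (congrArg (cU V hV) n1.symm).trans ?_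
      refine (hcU V hV b _).trans ?_
      refine n2.trans ?_
      exact congrArg ((𝒢.E l).presheaf.map (homOfLE h).op) (hcU U hU b m).symm) (fun U hU r m => by
    refine gen U hU (fun m => cU U hU (r • m) = r • cU U hU m) ?_ ?_ ?_ m
    · rw [smul_zero, map_zero, smul_zero]
    · intro a b ha hb
      rw [smul_add, map_add, ha, hb, map_add, smul_add]
    · intro b m
      rw [← (β A (reesAlgebra I) X F b).app_smul, ← (η A (reesAlgebra I) X F).app_smul, hcU, hcU]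
      exact (M b).app_smul r m)
  refine ⟨c, fun b => Groth.L16.AffineBC.hom_ext_affine _ _ fun U hU m => ?_⟩
  exact (hc U hU _).trans (hcU U hU b m)

theorem lMap_coeff (k l : ℕ) (b : reesAlgebra I) (c : GB 𝒢 ⟶ 𝒢.E l)
    (hc : ∀ b : reesAlgebra I, η A (reesAlgebra I) X (𝒢.E 0) ≫ β A (reesAlgebra I) X (𝒢.E 0) b ≫ c =
        𝒢.mul (Nat.zero_le l) ((b : A[X]).coeff l) (GrMod.mem₀ (b.2 l))) :
    lMap 𝒢 k ≫ β A (reesAlgebra I) X (𝒢.E 0) b ≫ c = gMap 𝒢 k ≫ 𝒢.cmul k l b := by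
  refine Sigma.hom_ext _ _ fun a => ?_
  simp only [Sigma.ι_desc_assoc, Category.assoc]
  rw [← reassoc_of% Groth.L16.Rees.β_mul X (𝒢.E 0) (reesAlgebra I) b (mon a), hc]
  have hcoeff : ((b * mon a : reesAlgebra I) : A[X]).coeff l =
      if k ≤ l then (b : A[X]).coeff (l - k) * (a : A) else 0 := by
    show ((b : A[X]) * monomial k (a : A)).coeff l = _
    rw [← C_mul_X_pow_eq_monomial, ← mul_assoc, coeff_mul_X_pow']
    split <;> simp
  rw [GrMod.cmul]
  split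
  · next h =>
    rw [if_pos h] at hcoeff
    rw [𝒢.mul_comp (Nat.zero_le k) h (a : A) (GrMod.mem₀ a.2) ((b : A[X]).coeff (l - k)) (b.2 _)
      (hcoeff ▸ GrMod.mem₀ ((b * mon a).2 l))]
    exact 𝒢.mul_congr _ hcoeff _ _
  · next h =>
    rw [if_neg h] at hcoeff
    rw [Limits.comp_zero]
    exact (𝒢.mul_congr _ hcoeff _ (Submodule.zero_mem _)).trans (𝒢.mul_zero _ _)

variable [IsNoetherianRing A] [IsProper (X ↘ Spec (CommRingCat.of A))]

theorem isCoh_MB : Coh.IsCoh (MB 𝒢) := by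
  haveI : IsLocallyNoetherian (Xb A (reesAlgebra I) X) :=
    LocallyOfFiniteType.isLocallyNoetherian (Xb A (reesAlgebra I) X ↘ Spec (CommRingCat.of (reesAlgebra I)))
  haveI : Coh.IsQCoh (𝒢.E 0) := 𝒢.qcoh 0
  haveI hR : Coh.IsQCoh (Rel 𝒢) := Groth.L00.AlgQCoh.isQCoh_sigma _ fun k =>
    (Groth.L00.AlgQCoh.isQCoh_kernel_cokernel (gMap 𝒢 k.down)
      (Groth.L00.AlgQCoh.isQCoh_sigma _ fun _ => 𝒢.qcoh 0) (𝒢.qcoh _)).1
  haveI hq : Coh.IsQCoh (MB 𝒢) := (Groth.L00.AlgQCoh.isQCoh_kernel_cokernel (relB 𝒢)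
    (Groth.L16.AffineBC.isQCoh_pullback _ _) (Groth.L16.AffineBC.isQCoh_pullback _ _)).2
  have h := Groth.L16.CohSupport.isCoh_image
    (Groth.L16.AffineBC.isCoh_pullback (gb A (reesAlgebra I) X) 𝒢.coh) (cokernel.π (relB 𝒢))
  haveI : IsIso (Abelian.image.ι (cokernel.π (relB 𝒢))) := by
    haveI : Epi (Abelian.image.ι (cokernel.π (relB 𝒢))) :=
      epi_of_epi_fac (Abelian.image.fac (cokernel.π (relB 𝒢)))
    exact isIso_of_mono_of_epi _
  exact Groth.L16.CohSupport.isCoh_of_iso (asIso (Abelian.image.ι (cokernel.π (relB 𝒢)))) h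

/-- The components of the graded module. -/
theorem exists_components :
    ∃ (φ : ∀ k, 𝒢.E k ⟶ GM 𝒢) (ψ : ∀ l, GM 𝒢 ⟶ 𝒢.E l),
      ∀ k l (b : reesAlgebra I), φ k ≫ βM 𝒢 b ≫ ψ l = 𝒢.cmul k l b := by
  choose φ hφ using exists_φ 𝒢
  choose c hc using exists_coeff 𝒢
  haveI : Coh.IsQCoh (𝒢.E 0) := 𝒢.qcoh 0
  haveI hR : Coh.IsQCoh (Rel 𝒢) := Groth.L00.AlgQCoh.isQCoh_sigma _ fun k =>
    (Groth.L00.AlgQCoh.isQCoh_kernel_cokernel (gMap 𝒢 k.down)
      (Groth.L00.AlgQCoh.isQCoh_sigma _ fun _ => 𝒢.qcoh 0) (𝒢.qcoh _)).1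
  let g := gb A (reesAlgebra I) X
  haveI hPR : Coh.IsQCoh ((Scheme.Modules.pullback g).obj (Rel 𝒢)) := Groth.L16.AffineBC.isQCoh_pullback _ _
  haveI hPB : Coh.IsQCoh ((Scheme.Modules.pullback g).obj (𝒢.E 0)) := Groth.L16.AffineBC.isQCoh_pullback _ _
  haveI hM : Coh.IsQCoh (MB 𝒢) := (isCoh_MB 𝒢).1
  haveI : (Coh.push g).IsRightAdjoint :=
    (Scheme.Modules.pullbackPushforwardAdjunction g).isRightAdjoint
  have hsurj : ∀ U : X.Opens, IsAffineOpen U → Function.Surjective ((pm 𝒢).app U) := fun U hU m =>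
    Groth.L16.AffineBC.surjective_app_of_epi (cokernel.π (relB 𝒢)) (hU.preimage g) m
  haveI : Epi (pm 𝒢) := ⟨fun a a' h => Groth.L16.AffineBC.hom_ext_affine _ _ fun U hU m => by
    obtain ⟨n, rfl⟩ := hsurj U hU m
    exact congr(($h).app U n)⟩
  have hkill : ∀ l, (Coh.push g).map (relB 𝒢) ≫ c l = 0 := fun l => by
    refine Groth.L16.Rees.hom_zero_of_generators X (Rel 𝒢) (reesAlgebra I) _ fun b => ?_
    have n : β A (reesAlgebra I) X (Rel 𝒢) b ≫ (Coh.push g).map (relB 𝒢) =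
        (Coh.push g).map (relB 𝒢) ≫ β A (reesAlgebra I) X (𝒢.E 0) b := by
      rw [β, β, ← Functor.map_comp, ← Functor.map_comp, Groth.L16.Rees.smulMod_naturality]
    rw [reassoc_of% n, reassoc_of% η_relB 𝒢]
    refine Sigma.hom_ext _ _ fun k => ?_
    simp only [Sigma.ι_desc_assoc, Category.assoc, Limits.comp_zero]
    rw [lMap_coeff 𝒢 k.down l b (c l) (hc l), kernel.condition_assoc, Limits.zero_comp]
  have hz : ∀ l, kernel.ι (pm 𝒢) ≫ c l = 0 := fun l => by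
    refine Groth.L16.AffineBC.hom_ext_affine _ _ fun U hU y => ?_
    have hU' := hU.preimage g
    let z : Γ((Scheme.Modules.pullback g).obj (𝒢.E 0), g ⁻¹ᵁ U) := (kernel.ι (pm 𝒢)).app U y
    have hz0 : (cokernel.π (relB 𝒢)).app (g ⁻¹ᵁ U) z = 0 :=
      ConcreteCategory.congr_hom (congrArg (fun t => Scheme.Modules.Hom.app t U) (kernel.condition (pm 𝒢))) y
    haveI : Coh.IsQCoh (kernel (cokernel.π (relB 𝒢))) :=
      (Groth.L00.AlgQCoh.isQCoh_kernel_cokernel (cokernel.π (relB 𝒢)) hPB hM).1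
    obtain ⟨w, hw⟩ := Groth.L19.FPExtend.exists_kernel_section (cokernel.π (relB 𝒢)) z hz0
    haveI : Epi (Abelian.factorThruImage (relB 𝒢)) := inferInstance
    obtain ⟨t, ht⟩ := Groth.L16.AffineBC.surjective_app_of_epi (Abelian.factorThruImage (relB 𝒢)) hU' w
    have e : (relB 𝒢).app (g ⁻¹ᵁ U) t = z := by
      rw [← hw, ← ht]
      exact (ConcreteCategory.congr_hom
        (congrArg (fun s => Scheme.Modules.Hom.app s (g ⁻¹ᵁ U)) (Abelian.image.fac (relB 𝒢))) t).symm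
    show (c l).app U z = _
    rw [← e]
    exact congr(($(hkill l)).app U t)
  let ψ := fun l => Abelian.epiDesc (pm 𝒢) (c l) (hz l)
  have hψ : ∀ l, pm 𝒢 ≫ ψ l = c l := fun l => Abelian.comp_epiDesc _ _ _
  refine ⟨φ, ψ, fun k l b => ?_⟩
  haveI : Epi (gMap 𝒢 k) := 𝒢.gen k
  rw [← cancel_epi (gMap 𝒢 k), reassoc_of% hφ k, ← reassoc_of% β_pm 𝒢 b, hψ]
  exact lMap_coeff 𝒢 k l b (c l) (hc l)

/-- The cohomology of a graded module is cut out of a finite module over the Rees algebra. -/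
theorem exists_model (p : ℕ) :
    ∃ (N : Type u) (_ : AddCommGroup N) (_ : Module (reesAlgebra I) N),
      Module.Finite (reesAlgebra I) N ∧
      ∃ (φ : ∀ k, Coh.HH X (𝒢.E k) p →+ N) (ψ : ∀ l, N →+ Coh.HH X (𝒢.E l) p),
        ∀ k l (b : reesAlgebra I) x, ψ l (b • φ k x) = CohLinear.hmap (𝒢.cmul k l b) p x := by
  obtain ⟨φ, ψ, h⟩ := exists_components 𝒢
  haveI : Coh.IsQCoh (MB 𝒢) := (isCoh_MB 𝒢).1
  haveI : X.IsSeparated := ⟨by rw [← terminal.comp_from (X ↘ Spec (CommRingCat.of A))]; infer_instance⟩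
  obtain ⟨e, he⟩ := Groth.L16.Rees.exists_push_endo (gb A (reesAlgebra I) X) (MB 𝒢) p
  refine ⟨_, inferInstance, inferInstance,
    Groth.L16.ProperFinite.finite_HH (reesAlgebra I) (isCoh_MB 𝒢) p,
    fun k => e.symm.toAddMonoidHom.comp (CohLinear.hmap (φ k) p).toAddMonoidHom,
    fun l => (CohLinear.hmap (ψ l) p).toAddMonoidHom.comp e.toAddMonoidHom, fun k l b x => ?_⟩
  show CohLinear.hmap (ψ l) p (e (b • e.symm (CohLinear.hmap (φ k) p x))) = _
  rw [← Groth.L16.Rees.hmap_smulMod (reesAlgebra I) (MB 𝒢) b p, he, e.apply_symm_apply,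
    ← Groth.L16.CohLinear.hmap_comp, ← Groth.L16.CohLinear.hmap_comp, h]

/-- An increasing chain of families of subgroups stable under the multiplications is stationary. -/
theorem exists_stationary (p : ℕ) (Q : ℕ → ∀ k, AddSubgroup (Coh.HH X (𝒢.E k) p))
    (hmono : ∀ r k, Q r k ≤ Q (r + 1) k)
    (hQ : ∀ (r k l : ℕ) (h : k ≤ l) (a : A) (ha : a ∈ I ^ (l - k)), ∀ y ∈ Q r k,
      CohLinear.hmap (𝒢.mul h a ha) p y ∈ Q r l) :
    ∃ r₀, ∀ r, r₀ ≤ r → ∀ k, Q r k = Q r₀ k := by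
  obtain ⟨N, _, _, hfin, φ, ψ, h⟩ := exists_model 𝒢 p
  haveI := hfin
  let S : ℕ →o Submodule (reesAlgebra I) N :=
    { toFun := fun r => Submodule.span _ {n | ∃ k, ∃ y ∈ Q r k, φ k y = n}
      monotone' := monotone_nat_of_le_succ fun r => Submodule.span_mono
        fun n ⟨k, y, hy, hn⟩ => ⟨k, y, hmono r k hy, hn⟩ }
  obtain ⟨r₀, hr₀⟩ := monotone_stabilizes_iff_noetherian.2 inferInstance S
  refine ⟨r₀, fun r hr l => le_antisymm (fun y hy => ?_)
    (monotone_nat_of_le_succ (f := fun r => Q r l) (fun r => hmono r l) hr)⟩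
  have key : ∀ n ∈ S r₀, ∀ b : reesAlgebra I, ψ l (b • n) ∈ Q r₀ l := by
    intro n hn
    induction hn using Submodule.span_induction with
    | mem n hn =>
      intro b
      obtain ⟨k, x, hx, rfl⟩ := hn
      rw [h, GrMod.cmul]
      split
      · exact hQ r₀ k l _ _ _ x hx
      · rw [Groth.L16.Rees.hmap_zero]
        exact zero_mem _
    | zero => intro b; rw [smul_zero, map_zero]; exact zero_mem _
    | add x y _ _ h1 h2 => intro b; rw [smul_add, map_add]; exact add_mem (h1 b) (h2 b)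
    | smul c x _ hx => intro b; rw [smul_smul]; exact hx _
  have hmem : φ l y ∈ S r₀ := by
    rw [hr₀ r hr]
    exact Submodule.subset_span ⟨l, y, hy, rfl⟩
  have h1 := key _ hmem 1
  rw [h, GrMod.cmul, dif_pos le_rfl] at h1
  rw [𝒢.mul_congr le_rfl (b := (1 : A)) (by simp) _ (by simp), 𝒢.mul_one,
    Groth.L16.CohLinear.hmap_id] at h1
  exact h1

end Groth.L17.GradedFinite
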