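import Groth.Agent.L17.ThickSys
import Groth.Agent.L20.ThickeningDescent
import Groth.Agent.L20.ThickeningTopology
import Groth.Agent.L20.ThickeningProps
import Groth.Agent.S1305
import Groth.Agent.S1309
import Groth.Agent.S1313

/-!
Properties of the levels of an adic morphism of formal systems are detected at level 0.
-/

set_option autoImplicit false
universe u

open CategoryTheory CategoryTheory.Limits AlgebraicGeometry

namespace Groth.L17.ThickLevels

open Groth.L17.Thick

variable {𝔛 𝔜 : FSch.Sys.{u}}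

theorem pow_ker_toX (hF : 𝔜.IsFormal) (hA : 𝔜.IsAdic) (n : ℕ) :
    (𝔜.toX (n + 1)).ker ^ (n + 1 + 1) = 0 := by
  have := (hF (n + 1)).1
  have := isClosedImmersion_toX hF (n + 1 + 1)
  have h1 := ker_of_comp_mono (𝔜.toX (n + 1)) (𝔜.ι (n + 1)) (𝔜.toX (n + 1 + 1)) rfl
  have h2 := ker_of_comp_mono (𝟙 (𝔜.X (n + 1))) (𝔜.ι (n + 1)) (𝔜.ι (n + 1)) (Category.id_comp _)
  rw [h1, ← comap_pow, ← hA (n + 1), ← h2]
  exact Scheme.Hom.ker_eq_bot_of_isIso _

theorem isFiniteOrderThickening_ι (hF : 𝔜.IsFormal) (hA : 𝔜.IsAdic) (n : ℕ) :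
    MoreMor.IsFiniteOrderThickening (𝔜.ι n) := by
  refine ⟨⟨(hF n).1, ⟨(hF n).2⟩⟩, n + 1 + 1, ?_⟩
  rw [hA n, ← pow_mul, mul_comm, pow_mul, pow_ker_toX hF hA n]
  exact zero_pow (Nat.succ_ne_zero n)

variable (f : 𝔛 ⟶ 𝔜) (hF : 𝔜.IsFormal) (hA : 𝔜.IsAdic) (hf : FSch.IsAdicHom f)
include hF hA hf

/-- A property descending along cartesian finite order thickening squares holds at every level
once it holds at level 0. -/
theorem induction (P : MorphismProperty Scheme.{u})
    (hP : ∀ {X X' S S' : Scheme.{u}} (iX : X ⟶ X') (iS : S ⟶ S') (g : X ⟶ S) (g' : X' ⟶ S'),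
      MoreMor.IsFiniteOrderThickening iS → IsPullback iX g g' iS → P g → P g')
    (h : P ((f : FSch.Hom 𝔛 𝔜).app 0)) : ∀ n, P ((f : FSch.Hom 𝔛 𝔜).app n)
  | 0 => h
  | n + 1 => hP _ _ _ _ (isFiniteOrderThickening_ι hF hA n) (hf n) (induction P hP h n)

theorem isClosedImmersion_app [IsClosedImmersion ((f : FSch.Hom 𝔛 𝔜).app 0)] (n : ℕ) :
    IsClosedImmersion ((f : FSch.Hom 𝔛 𝔜).app n) := by
  refine induction f hF hA hf @IsClosedImmersion (fun iX iS g g' hS hc h => ?_) inferInstance n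
  have : LocallyOfFiniteType g' := (Groth.Agent.S1309.result iX iS g g' hS hc).mp inferInstance
  exact (Groth.Agent.S1313.result iX iS g g' hS.1 hc).mp h

theorem isFinite_app [IsFinite ((f : FSch.Hom 𝔛 𝔜).app 0)] (n : ℕ) :
    IsFinite ((f : FSch.Hom 𝔛 𝔜).app n) := by
  refine induction f hF hA hf @IsFinite (fun iX iS g g' hS hc h => ?_) inferInstance n
  have : LocallyOfFiniteType g' := (Groth.Agent.S1309.result iX iS g g' hS hc).mp inferInstance
  have := (Groth.Agent.S1305.result iX iS g g' (Groth.L20.Thick.isThickening_of_isPullback hS.1 hc)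
    hS.1 hc.w).mp inferInstance
  exact (IsFinite.iff_isIntegralHom_and_locallyOfFiniteType g').mpr ⟨this, inferInstance⟩

theorem isProper_app [IsProper ((f : FSch.Hom 𝔛 𝔜).app 0)] (n : ℕ) :
    IsProper ((f : FSch.Hom 𝔛 𝔜).app n) := by
  refine induction f hF hA hf @IsProper (fun iX iS g g' hS hc h => ?_) inferInstance n
  have : LocallyOfFiniteType g' := (Groth.Agent.S1309.result iX iS g g' hS hc).mp inferInstance
  have hX := Groth.L20.Thick.isThickening_of_isPullback hS.1 hc
  have : UniversallyClosed g' :=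
    Groth.L20.Thick.universallyClosed_of_thickening hS.1 hX hc.w
  obtain ⟨_, _⟩ := hX
  obtain ⟨_, _⟩ := hS.1
  have : IsSeparated (iX ≫ g') := by rw [hc.w]; infer_instance
  have : IsSeparated g' := Groth.L20.Thick.isSeparated_of_comp_surjective iX g'
  exact {}

end Groth.L17.ThickLevels
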