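import Groth.Agent.L17.IdealMulArtinRees
import Groth.Agent.L22.Ideal

/-!
# `I · f_* F = f_* (f⁻¹I · F)` for affine `f`
-/

set_option autoImplicit false
set_option backward.isDefEq.respectTransparency false
set_option backward.isDefEq.respectTransparency.types false
set_option linter.style.haveILetI false

universe u

open CategoryTheory CategoryTheory.Limits AlgebraicGeometry Opposite TopologicalSpace

noncomputable section

namespace Groth.L17.IdealMulPush

open Groth.L17.IdealMulSec Groth.L17.IdealMulExtend Groth.L17.IdealMulArtinRees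

theorem exists_iso {Y X : Scheme.{u}} (f : Y ⟶ X) [IsAffineHom f] (F : Y.Modules) [Coh.IsQCoh F]
    (I : X.IdealSheafData) :
    ∃ e : (Dual3.idealMul I).obj ((Scheme.Modules.pushforward f).obj F) ≅
        (Scheme.Modules.pushforward f).obj ((Dual3.idealMul (I.comap f)).obj F),
      e.hom ≫ (Scheme.Modules.pushforward f).map (Dual3.idealMulι (I.comap f) F) =
        Dual3.idealMulι I ((Scheme.Modules.pushforward f).obj F) := by
  haveI : Coh.IsQCoh ((Scheme.Modules.pushforward f).obj F) := Groth.L16.QcqsPush.isQCoh_push _ f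
  haveI := isQCoh_idealMul I ((Scheme.Modules.pushforward f).obj F)
  haveI := isQCoh_idealMul (I.comap f) F
  haveI : Coh.IsQCoh ((Scheme.Modules.pushforward f).obj ((Dual3.idealMul (I.comap f)).obj F)) :=
    Groth.L16.QcqsPush.isQCoh_push _ f
  haveI := (Scheme.Modules.pullbackPushforwardAdjunction f).rightAdjoint_preservesLimits
  haveI : Mono ((Scheme.Modules.pushforward f).map (Dual3.idealMulι (I.comap f) F)) :=
    (Scheme.Modules.pushforward f).map_mono _
  let a := Dual3.idealMulι I ((Scheme.Modules.pushforward f).obj F)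
  let b := (Scheme.Modules.pushforward f).map (Dual3.idealMulι (I.comap f) F)
  have key : ∀ x : X, ∃ V : X.Opens, IsAffineOpen V ∧ x ∈ V ∧
      LinearMap.range (lapp a V) = LinearMap.range (lapp b V) := fun x => by
    obtain ⟨_, ⟨V, hV, rfl⟩, hxV, -⟩ :=
      X.isBasis_affineOpens.exists_subset_of_mem_open (Set.mem_univ x) isOpen_univ
    refine ⟨V, hV, hxV, SetLike.ext fun t => ?_⟩
    refine (exists_app_eq_iff I ((Scheme.Modules.pushforward f).obj F) hV t).trans ?_
    refine Iff.trans ?_ (exists_app_eq_iff (I.comap f) F (hV.preimage f) (show Γ(F, f ⁻¹ᵁ V) from t)).symm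
    have hJ : (I.comap f).ideal ⟨f ⁻¹ᵁ V, hV.preimage f⟩ = (I.ideal ⟨V, hV⟩).map (f.app V).hom := by
      rw [Groth.L22.Ideals.comap_ideal f I ⟨V, hV⟩ ⟨f ⁻¹ᵁ V, hV.preimage f⟩ le_rfl, Scheme.Hom.app_eq_appLE]
    rw [hJ]
    letI := (f.app V).hom.toAlgebra
    letI : Module Γ(X, V) Γ(F, f ⁻¹ᵁ V) := Module.compHom _ (f.app V).hom
    haveI : IsScalarTower Γ(X, V) Γ(Y, f ⁻¹ᵁ V) Γ(F, f ⁻¹ᵁ V) := .of_algebraMap_smul fun _ _ => rfl
    have h1 := Ideal.smul_restrictScalars (R := Γ(X, V)) (S := Γ(Y, f ⁻¹ᵁ V)) (I.ideal ⟨V, hV⟩)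
      (⊤ : Submodule Γ(Y, f ⁻¹ᵁ V) Γ(F, f ⁻¹ᵁ V))
    rw [Submodule.restrictScalars_top] at h1
    exact Iff.symm ((Submodule.restrictScalars_mem Γ(X, V) _ (show Γ(F, f ⁻¹ᵁ V) from t)).symm.trans
      (iff_of_eq (congrArg (fun N : Submodule Γ(X, V) Γ(F, f ⁻¹ᵁ V) => (show Γ(F, f ⁻¹ᵁ V) from t) ∈ N) h1)))
  obtain ⟨l, hl⟩ := exists_factor a b fun x => by
    obtain ⟨V, hV, hx, he⟩ := key x; exact ⟨V, hV, hx, he.le⟩
  obtain ⟨l', hl'⟩ := exists_factor b a fun x => by
    obtain ⟨V, hV, hx, he⟩ := key x; exact ⟨V, hV, hx, he.ge⟩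
  exact ⟨⟨l, l', by rw [← cancel_mono a, Category.assoc, hl', hl, Category.id_comp],
    by rw [← cancel_mono b, Category.assoc, hl, hl', Category.id_comp]⟩, hl⟩

end Groth.L17.IdealMulPush
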