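import Groth.Agent.L17.StalkSpread
import Groth.Agent.L17.IdealMulPush
import Groth.Agent.L15.Ref.Reflexive
import Groth.Agent.L07.PrinParts.Mod
import Groth.Agent.L16.DevissageKilled
import Mathlib.LinearAlgebra.FiniteDimensional.Basic

/-!
# Direct images along finite morphisms at the generic point
-/

set_option autoImplicit false
set_option backward.isDefEq.respectTransparency false
set_option backward.isDefEq.respectTransparency.types false
set_option linter.style.haveILetI false

universe u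

open CategoryTheory CategoryTheory.Limits AlgebraicGeometry TopologicalSpace Opposite

noncomputable section

namespace Groth.L17.GenericTrivPush

open Groth.L18.Frame (rs ro)
open Groth.L17.IdealMulSec
open Groth.L21.Mod (stalkF)

variable {X Y : Scheme.{u}}

/-- Off the zero set of `I` the inclusion `I · G ⟶ G` is an isomorphism of stalks. -/
theorem isIso_stalk_idealMulι (I : Y.IdealSheafData) (G : Y.Modules) [Coh.IsQCoh G] {x : Y} (hx : x ∉ I.support) :
    IsIso ((stalkF Y x).map (Dual3.idealMulι I G)) := by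
  haveI : Mono ((stalkF Y x).map (Dual3.idealMulι I G)) := (Groth.L21.Mod.mono_iff_stalk _).1 inferInstance x
  refine (ConcreteCategory.isIso_iff_bijective _).2 ⟨(AddCommGrpCat.mono_iff_injective _).1 inferInstance, fun g => ?_⟩
  obtain ⟨_, ⟨V, hV, rfl⟩, hxV, -⟩ := Y.isBasis_affineOpens.exists_subset_of_mem_open (Set.mem_univ x) isOpen_univ
  rw [I.mem_support_iff_of_mem (U := ⟨V, hV⟩) hxV, Scheme.mem_zeroLocus_iff] at hx
  push Not at hx
  obtain ⟨a, ha, hxa⟩ := hx
  obtain ⟨b, hb⟩ := ((Y.mem_basicOpen a x hxV).1 hxa).exists_left_inv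
  obtain ⟨W, hxW, m, rfl⟩ := TopCat.Presheaf.exists_germ_eq (F := G.presheaf) g
  obtain ⟨O, hxO, c, rfl⟩ := TopCat.Presheaf.exists_germ_eq (F := Y.presheaf) b
  obtain ⟨V', hV', hxV', hle⟩ := exists_isAffineOpen_mem_and_subset (x := x) (U := W ⊓ V ⊓ O) ⟨⟨hxW, hxV⟩, hxO⟩
  have h1 : V' ≤ W := fun y hy => (hle hy).1.1
  have h2 : V' ≤ V := fun y hy => (hle hy).1.2
  have h3 : V' ≤ O := fun y hy => (hle hy).2
  have ha' : ro h2 a ∈ I.ideal ⟨V', hV'⟩ := by
    rw [← I.map_ideal (U := ⟨V', hV'⟩) (V := ⟨V, hV⟩) h2]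
    exact Ideal.mem_map_of_mem _ ha
  obtain ⟨t, ht⟩ := (exists_app_eq_iff I G hV' (ro h3 c • ro h2 a • rs G h1 m)).2
    (Submodule.smul_mem _ _ (Submodule.smul_mem_smul ha' Submodule.mem_top))
  refine ⟨(((Dual3.idealMul I).obj G).presheaf.germ V' x hxV') t, ?_⟩
  refine (Groth.L21.Mod.stalkF_map_germ (Dual3.idealMulι I G) V' x hxV' t).trans ?_
  rw [ht, Groth.L20.ModStalk.germ_smul, Groth.L20.ModStalk.germ_smul, Groth.L20.ModStalk.germ_rs G h1 hxV', smul_smul]
  refine (congrArg (· • G.presheaf.germ W x hxW m) ?_).trans (one_smul _ _)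
  rw [show Y.presheaf.germ V' x hxV' (ro h3 c) = Y.presheaf.germ O x hxO c from
      TopCat.Presheaf.germ_res_apply Y.presheaf (homOfLE h3) x hxV' c,
    show Y.presheaf.germ V' x hxV' (ro h2 a) = Y.presheaf.germ V x hxV a from
      TopCat.Presheaf.germ_res_apply Y.presheaf (homOfLE h2) x hxV' a]
  exact hb

variable [IsNoetherian Y]

/-- A map of stalks of coherent modules extends from a power of an ideal invertible at the point. -/
theorem exists_idealMul_hom (A B : Y.Modules) (hA : Coh.IsCoh A) (hB : Coh.IsCoh B) (y : Y)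
    (ψ : ↑(A.presheaf.stalk y) ≃ₗ[Y.presheaf.stalk y] ↑(B.presheaf.stalk y)) :
    ∃ (I : Y.IdealSheafData) (φ : (Dual3.idealMul I).obj A ⟶ B), y ∉ I.support ∧ IsIso ((stalkF Y y).map φ) := by
  haveI := hA.1
  haveI := hB.1
  obtain ⟨U, hyU, φ₀, hφ₀⟩ := Groth.L17.StalkSpread.exists_hom_stalk B A hB hA y ψ.toLinearMap
  let J : Y.IdealSheafData := Scheme.IdealSheafData.vanishingIdeal ⟨(U : Set Y)ᶜ, U.2.isClosed_compl⟩
  have hJ : (U : Set Y) = (J.support : Set Y)ᶜ := (compl_compl (U : Set Y)).symm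
  obtain ⟨n, φ, hφ⟩ := Groth.L17.IdealMulExtend.exists_extend B A hA J U hJ φ₀
  have hy : y ∉ (J ^ n).support := by
    intro h
    rcases n with _ | n
    · rw [pow_zero, Scheme.IdealSheafData.one_eq_top, Scheme.IdealSheafData.support_top] at h
      exact h
    · rw [Scheme.IdealSheafData.support_pow_succ] at h
      exact (hJ.le hyU) h
  haveI := isIso_stalk_idealMulι (J ^ n) A hy
  refine ⟨J ^ n, φ, hy, ?_⟩
  let z : U.toScheme := ⟨y, hyU⟩
  have h1 : IsIso ((stalkF U.toScheme z).map φ₀) := by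
    have : IsIso (AddCommGrpCat.ofHom ψ.toLinearMap.toAddMonoidHom) :=
      (ConcreteCategory.isIso_iff_bijective _).2 ψ.bijective
    rw [← hφ₀] at this
    exact ((MorphismProperty.isomorphisms AddCommGrpCat.{u}).cancel_right_of_respectsIso _ _).1
      (((MorphismProperty.isomorphisms AddCommGrpCat.{u}).cancel_left_of_respectsIso _ _).1 this)
  have h2 : IsIso ((stalkF U.toScheme z).map ((Scheme.Modules.restrictFunctor U.ι).map φ)) := by
    rw [hφ, Functor.map_comp]
    haveI := h1
    haveI : IsIso ((stalkF U.toScheme z).map ((Scheme.Modules.restrictFunctor U.ι).map (Dual3.idealMulι (J ^ n) A))) := by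
      rw [Groth.L21.Mod.restrict_stalk_map]
      haveI : IsIso ((stalkF Y (U.ι z)).map (Dual3.idealMulι (J ^ n) A)) := ‹_›
      infer_instance
    infer_instance
  rw [Groth.L21.Mod.restrict_stalk_map] at h2
  exact ((MorphismProperty.isomorphisms AddCommGrpCat.{u}).cancel_right_of_respectsIso _ _).1
    (((MorphismProperty.isomorphisms AddCommGrpCat.{u}).cancel_left_of_respectsIso _ _).1 h2)

variable [IsIntegral Y]

abbrev dim (M : Y.Modules) : ℕ :=
  Module.finrank (Y.presheaf.stalk (genericPoint Y)) ((Groth.L00.Stk.F Y (genericPoint Y)).obj M)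

omit [AlgebraicGeometry.IsNoetherian Y] in
theorem dim_congr {M N : Y.Modules} (e : M ≅ N) : dim M = dim N :=
  ((Groth.L00.Stk.F Y (genericPoint Y)).mapIso e).toLinearEquiv.finrank_eq

theorem dim_sigma {r : ℕ} (M : Y.Modules) (hM : Coh.IsCoh M) : dim (∐ fun _ : Fin r => M) = r * dim M := by
  let F := Groth.L00.Stk.F Y (genericPoint Y)
  haveI : PreservesColimitsOfSize.{0, 0} F := preservesColimitsOfSize_shrink.{0, u, 0, u} _
  haveI : Module.Finite (Y.presheaf.stalk (genericPoint Y)) (F.obj M) := Groth.L15.Ref.finite_stalk hM _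
  letI : Field (Y.presheaf.stalk (genericPoint Y)) := inferInstanceAs (Field Y.functionField)
  let e := (PreservesCoproduct.iso F (fun _ : Fin r => M) ≪≫ (biproduct.isoCoproduct _).symm ≪≫
    ModuleCat.biproductIsoPi fun _ : Fin r => F.obj M).toLinearEquiv
  refine e.finrank_eq.trans ?_
  show Module.finrank _ (Fin r → F.obj M) = _
  rw [Module.finrank_pi_fintype, Finset.sum_const, Finset.card_fin, smul_eq_mul]

/-- Coherent modules with the same generic rank are comparable. -/
theorem exists_idealMul_hom_of_dim {A B : Y.Modules} (hA : Coh.IsCoh A) (hB : Coh.IsCoh B) (h : dim A = dim B) :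
    ∃ (I : Y.IdealSheafData) (φ : (Dual3.idealMul I).obj A ⟶ B),
      IsIso ((stalkF Y (genericPoint Y)).map φ) := by
  letI : Field (Y.presheaf.stalk (genericPoint Y)) := inferInstanceAs (Field Y.functionField)
  haveI := Groth.L15.Ref.finite_stalk hA (genericPoint Y)
  haveI := Groth.L15.Ref.finite_stalk hB (genericPoint Y)
  obtain ⟨I, φ, -, hφ⟩ := exists_idealMul_hom A B hA hB (genericPoint Y)
    (LinearEquiv.ofFinrankEq (R := Y.presheaf.stalk (genericPoint Y))
      (A.presheaf.stalk (genericPoint Y)) (B.presheaf.stalk (genericPoint Y)) h)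
  exact ⟨I, φ, hφ⟩

theorem dim_push_pos [IsLocallyNoetherian X] [Nonempty X] (f : X ⟶ Y) [IsFinite f] [Surjective f] :
    0 < dim ((Scheme.Modules.pushforward f).obj (Coh.structureModule X)) := by
  let B := (Scheme.Modules.pushforward f).obj (Coh.structureModule X)
  letI : Field (Y.presheaf.stalk (genericPoint Y)) := inferInstanceAs (Field Y.functionField)
  haveI : Module.Finite (Y.presheaf.stalk (genericPoint Y)) ((Groth.L00.Stk.F Y (genericPoint Y)).obj B) :=
    Groth.L15.Ref.finite_stalk (Groth.L07.PrinParts.isCoh_pushforward_finite f Groth.L16.CohClosedPush.isCoh_structure) _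
  refine Nat.pos_of_ne_zero fun h0 => ?_
  haveI : Subsingleton (B.presheaf.stalk (genericPoint Y)) :=
    (Module.finrank_zero_iff (R := Y.presheaf.stalk (genericPoint Y)) (M := (Groth.L00.Stk.F Y (genericPoint Y)).obj B)).1 h0
  have h : B.presheaf.germ ⊤ (genericPoint Y) trivial (1 : Γ(X, f ⁻¹ᵁ ⊤)) =
      B.presheaf.germ ⊤ (genericPoint Y) trivial 0 := Subsingleton.elim _ _
  obtain ⟨W, hW, i, i', he⟩ := B.presheaf.germ_eq (genericPoint Y) (U := ⊤) (V := ⊤) trivial trivial _ _ h
  obtain ⟨x, hx⟩ := f.surjective (genericPoint Y)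
  have hxW : x ∈ f ⁻¹ᵁ W := by show f x ∈ W; rw [hx]; exact hW
  haveI : Nontrivial Γ(X, f ⁻¹ᵁ W) := by
    haveI : Nonempty (f ⁻¹ᵁ W : X.Opens) := ⟨⟨x, hxW⟩⟩
    infer_instance
  apply one_ne_zero (α := Γ(X, f ⁻¹ᵁ W))
  have he' : X.presheaf.map ((Opens.map f.base).map i).op (1 : Γ(X, f ⁻¹ᵁ ⊤)) = 0 := he.trans (map_zero _)
  rwa [map_one] at he'

/-- `(f_* G)^{generic} ≅ (F^r)^{generic}`. -/
theorem exists_push_hom [IsLocallyNoetherian X] [Nonempty X] (f : X ⟶ Y) [IsFinite f] [Surjective f]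
    (F : Y.Modules) (hF : Coh.IsCoh F) :
    ∃ (r : ℕ) (G : X.Modules) (β : (Scheme.Modules.pushforward f).obj G ⟶ ∐ fun _ : ULift.{u} (Fin r) => F),
      0 < r ∧ Coh.IsCoh G ∧ IsIso ((stalkF Y (genericPoint Y)).map β) := by
  let B := (Scheme.Modules.pushforward f).obj (Coh.structureModule X)
  have hB : Coh.IsCoh B := Groth.L07.PrinParts.isCoh_pushforward_finite f Groth.L16.CohClosedPush.isCoh_structure
  let G₀ : X.Modules := ∐ fun _ : Fin (dim F) => Coh.structureModule X
  have hG₀ : Coh.IsCoh G₀ := Groth.L16.Devissage.isCoh_sigma _ fun _ => Groth.L16.CohClosedPush.isCoh_structure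
  haveI := hG₀.1
  haveI : (Scheme.Modules.pushforward f).Additive := inferInstance
  let e₀ : (Scheme.Modules.pushforward f).obj G₀ ≅ ∐ fun _ : Fin (dim F) => B :=
    (Scheme.Modules.pushforward f).mapIso (biproduct.isoCoproduct _).symm ≪≫
      Functor.mapBiproduct (Scheme.Modules.pushforward f) (fun _ : Fin (dim F) => Coh.structureModule X) ≪≫
        biproduct.isoCoproduct _
  have hd : dim ((Scheme.Modules.pushforward f).obj G₀) = dim (∐ fun _ : Fin (dim B) => F) := by
    rw [dim_congr e₀, dim_sigma B hB, dim_sigma F hF, mul_comm]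
  obtain ⟨I, φ, hφ⟩ := exists_idealMul_hom_of_dim (Groth.L07.PrinParts.isCoh_pushforward_finite f hG₀)
    (Groth.L16.Devissage.isCoh_sigma (fun _ : Fin (dim B) => F) fun _ => hF) hd
  obtain ⟨e, -⟩ := Groth.L17.IdealMulPush.exists_iso f G₀ I
  let e₁ : (∐ fun _ : Fin (dim B) => F) ≅ ∐ fun _ : ULift.{u} (Fin (dim B)) => F :=
    Sigma.whiskerEquiv (f := fun _ : Fin (dim B) => F) (g := fun _ : ULift.{u} (Fin (dim B)) => F)
      Equiv.ulift.symm fun _ => Iso.refl _
  refine ⟨dim B, (Dual3.idealMul (I.comap f)).obj G₀, e.inv ≫ φ ≫ e₁.hom, dim_push_pos f,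
    isCoh_idealMul _ _ hG₀, ?_⟩
  rw [Functor.map_comp, Functor.map_comp]
  haveI := hφ
  infer_instance

end Groth.L17.GenericTrivPush
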