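import Groth.Agent.L17.AcyclicHomology

/-!
# The canonical comparison between the homology of `T K` and `T` of the homology of `K`

For a left exact functor `T` and a complex `K` there is a canonical map `H^n(T K) ⟶ T (H^n K)`; it is an
isomorphism when the terms and the homology of `K` are `T`-acyclic.
-/

set_option autoImplicit false
set_option linter.unusedSectionVars false
set_option backward.isDefEq.respectTransparency false
set_option backward.isDefEq.respectTransparency.types false

universe v u v' u' v'' u''

open CategoryTheory CategoryTheory.Limits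

noncomputable section

namespace Groth.L17.HomologyCompare

variable {D : Type u} [Category.{v} D] [Abelian D] {E : Type u'} [Category.{v'} E] [Abelian E]
  (T : D ⥤ E) [T.Additive] [PreservesFiniteLimits T] (K : CochainComplex D ℕ) (n : ℕ)

theorem iCycles_d_map :
    ((T.mapHomologicalComplex _).obj K).iCycles n ≫ T.map (K.d n (n + 1)) = 0 :=
  ((T.mapHomologicalComplex _).obj K).iCycles_d n (n + 1)

/-- The cocycles of `T K` as `T` of the cocycles. -/
def cyc : ((T.mapHomologicalComplex _).obj K).cycles n ⟶ T.obj (K.cycles n) :=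
  (KernelFork.mapIsLimit _ (K.cyclesIsKernel n (n + 1) (by simp)) T).lift
    (KernelFork.ofι (((T.mapHomologicalComplex _).obj K).iCycles n) (iCycles_d_map T K n))

@[reassoc (attr := simp)]
theorem cyc_ι : cyc T K n ≫ T.map (K.iCycles n) = ((T.mapHomologicalComplex _).obj K).iCycles n :=
  (KernelFork.mapIsLimit _ (K.cyclesIsKernel n (n + 1) (by simp)) T).fac
    (KernelFork.ofι (((T.mapHomologicalComplex _).obj K).iCycles n) (iCycles_d_map T K n))
    WalkingParallelPair.zero

instance mono_map_iCycles : Mono (T.map (K.iCycles n)) := inferInstance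

theorem isIso_cyc : IsIso (cyc T K n) := by
  let l : T.obj (K.cycles n) ⟶ ((T.mapHomologicalComplex _).obj K).cycles n :=
    ((T.mapHomologicalComplex _).obj K).liftCycles (T.map (K.iCycles n)) (n + 1) (by simp)
      (by show T.map _ ≫ T.map _ = 0
          rw [← T.map_comp, K.iCycles_d, T.map_zero])
  have hl : l ≫ ((T.mapHomologicalComplex _).obj K).iCycles n = T.map (K.iCycles n) :=
    ((T.mapHomologicalComplex _).obj K).liftCycles_i _ _ _ _
  exact ⟨l, by rw [← cancel_mono (((T.mapHomologicalComplex _).obj K).iCycles n), Category.assoc, hl,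
    cyc_ι, Category.id_comp], by rw [← cancel_mono (T.map (K.iCycles n)), Category.assoc, cyc_ι, hl,
    Category.id_comp]⟩

theorem toCycles_cyc (i : ℕ) :
    ((T.mapHomologicalComplex _).obj K).toCycles i n ≫ cyc T K n = T.map (K.toCycles i n) := by
  rw [← cancel_mono (T.map (K.iCycles n)), Category.assoc, cyc_ι, HomologicalComplex.toCycles_i,
    ← T.map_comp, HomologicalComplex.toCycles_i]
  rfl

theorem toCycles_cyc_π :
    ((T.mapHomologicalComplex _).obj K).toCycles ((ComplexShape.up ℕ).prev n) n ≫ cyc T K n ≫
      T.map (K.homologyπ n) = 0 := by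
  rw [← Category.assoc, toCycles_cyc, ← T.map_comp, HomologicalComplex.toCycles_comp_homologyπ, T.map_zero]

/-- The comparison. -/
def η : ((T.mapHomologicalComplex _).obj K).homology n ⟶ T.obj (K.homology n) :=
  (((T.mapHomologicalComplex _).obj K).homologyIsCokernel ((ComplexShape.up ℕ).prev n) n rfl).desc
    (CokernelCofork.ofπ (cyc T K n ≫ T.map (K.homologyπ n)) (toCycles_cyc_π T K n))

@[reassoc (attr := simp)]
theorem π_η : ((T.mapHomologicalComplex _).obj K).homologyπ n ≫ η T K n = cyc T K n ≫ T.map (K.homologyπ n) :=
  (((T.mapHomologicalComplex _).obj K).homologyIsCokernel ((ComplexShape.up ℕ).prev n) n rfl).fac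
    (CokernelCofork.ofπ (cyc T K n ≫ T.map (K.homologyπ n)) (toCycles_cyc_π T K n))
    WalkingParallelPair.one

variable {K} in
theorem cyc_naturality {L : CochainComplex D ℕ} (φ : K ⟶ L) :
    HomologicalComplex.cyclesMap ((T.mapHomologicalComplex _).map φ) n ≫ cyc T L n =
      cyc T K n ≫ T.map (HomologicalComplex.cyclesMap φ n) := by
  rw [← cancel_mono (T.map (L.iCycles n)), Category.assoc, Category.assoc, cyc_ι, ← T.map_comp,
    HomologicalComplex.cyclesMap_i, HomologicalComplex.cyclesMap_i, T.map_comp, cyc_ι_assoc]
  rfl

variable {K} in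
theorem η_naturality {L : CochainComplex D ℕ} (φ : K ⟶ L) :
    HomologicalComplex.homologyMap ((T.mapHomologicalComplex _).map φ) n ≫ η T L n =
      η T K n ≫ T.map (HomologicalComplex.homologyMap φ n) := by
  rw [← cancel_epi (((T.mapHomologicalComplex _).obj K).homologyπ n),
    HomologicalComplex.homologyπ_naturality_assoc, π_η, π_η_assoc, reassoc_of% cyc_naturality T n φ,
    ← T.map_comp, ← T.map_comp, HomologicalComplex.homologyπ_naturality]

theorem cyc_natTrans {T' : D ⥤ E} [T'.Additive] [PreservesFiniteLimits T'] (τ : T ⟶ T') :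
    HomologicalComplex.cyclesMap ((NatTrans.mapHomologicalComplex τ _).app K) n ≫ cyc T' K n =
      cyc T K n ≫ τ.app (K.cycles n) := by
  rw [← cancel_mono (T'.map (K.iCycles n)), Category.assoc, Category.assoc, cyc_ι, ← τ.naturality,
    cyc_ι_assoc, HomologicalComplex.cyclesMap_i]
  rfl

theorem η_natTrans {T' : D ⥤ E} [T'.Additive] [PreservesFiniteLimits T'] (τ : T ⟶ T') :
    HomologicalComplex.homologyMap ((NatTrans.mapHomologicalComplex τ _).app K) n ≫ η T' K n =
      η T K n ≫ τ.app (K.homology n) := by
  rw [← cancel_epi (((T.mapHomologicalComplex _).obj K).homologyπ n),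
    HomologicalComplex.homologyπ_naturality_assoc, π_η, π_η_assoc, reassoc_of% cyc_natTrans T K n τ,
    τ.naturality]

/-- The comparison is an isomorphism when the terms and the homology are acyclic. -/
theorem isIso_η [EnoughInjectives D] (hX : ∀ n, AcyclicHomology.Acyclic T (K.X n))
    (hH : ∀ n, AcyclicHomology.Acyclic T (K.homology n)) : IsIso (η T K n) := by
  haveI := AcyclicHomology.preservesLeftHomologyOf_sc T K hX hH n
  have key : η T K n = ((K.sc n).mapHomologyIso T).hom := by
    refine (cancel_epi (((T.mapHomologicalComplex _).obj K).homologyπ n)).1 ?_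
    rw [π_η]
    have e1 : cyc T K n = ((K.sc n).mapCyclesIso T).hom := by
      rw [← cancel_mono (T.map (K.iCycles n)), cyc_ι]
      exact ((K.sc n).mapCyclesIso_hom_iCycles T).symm
    rw [e1]
    let hl := (K.sc n).leftHomologyData
    rw [ShortComplex.LeftHomologyData.mapHomologyIso_eq hl T, ShortComplex.LeftHomologyData.mapCyclesIso_eq hl T]
    simp only [Iso.trans_hom, Functor.mapIso_hom, Iso.symm_hom]
    refine Eq.trans ?_ (congrArg (· ≫ T.map hl.homologyIso.inv) ((hl.map T).homologyπ_comp_homologyIso_hom).symm)
      |>.trans (Category.assoc _ _ _)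
    rw [Category.assoc, ShortComplex.LeftHomologyData.map_π, Category.assoc, ← T.map_comp, ← T.map_comp]
    exact congrArg (fun t => (hl.map T).cyclesIso.hom ≫ T.map t) (hl.π_comp_homologyIso_inv).symm
  rw [key]
  infer_instance

section Derived

variable {C : Type u''} [Category.{v''} C] [Abelian C] [HasInjectiveResolutions C]
  (A : C ⥤ D) [A.Additive] (n : ℕ)

/-- The comparison for right derived functors. -/
def Φ : (A ⋙ T).rightDerived n ⟶ A.rightDerived n ⋙ T where
  app M := ((injectiveResolution M).isoRightDerivedObj (A ⋙ T) n).hom ≫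
    η T (AcyclicHomology.cxA A M) n ≫ T.map ((injectiveResolution M).isoRightDerivedObj A n).inv
  naturality M M' g := by
    let φ := InjectiveResolution.desc g (injectiveResolution M') (injectiveResolution M)
    have comm : (injectiveResolution M).ι.f 0 ≫ φ.f 0 = g ≫ (injectiveResolution M').ι.f 0 := by
      simp [φ]
    have e1 := InjectiveResolution.isoRightDerivedObj_hom_naturality g (injectiveResolution M)
      (injectiveResolution M') φ comm (A ⋙ T) n
    have e2 := InjectiveResolution.isoRightDerivedObj_inv_naturality g (injectiveResolution M)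
      (injectiveResolution M') φ comm A n
    simp only [Functor.comp_map, HomologicalComplex.homologyFunctor_map] at e1 e2
    rw [reassoc_of% e1]
    refine Eq.trans (congrArg (_ ≫ ·) ?_) (Category.assoc _ _ _).symm
    have e3 : HomologicalComplex.homologyMap
        (((A ⋙ T).mapHomologicalComplex (ComplexShape.up ℕ)).map φ) n ≫ η T (AcyclicHomology.cxA A M') n =
        η T (AcyclicHomology.cxA A M) n ≫
          T.map (HomologicalComplex.homologyMap ((A.mapHomologicalComplex _).map φ) n) :=
      η_naturality T n ((A.mapHomologicalComplex _).map φ)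
    refine (reassoc_of% e3) _ |>.trans ?_
    rw [Category.assoc]
    refine congrArg (η T _ n ≫ ·) ?_
    rw [Functor.comp_map, ← T.map_comp, ← T.map_comp, e2]

theorem Φ_app (M : C) : (Φ T A n).app M = ((injectiveResolution M).isoRightDerivedObj (A ⋙ T) n).hom ≫
    η T (AcyclicHomology.cxA A M) n ≫ T.map ((injectiveResolution M).isoRightDerivedObj A n).inv := rfl

theorem isIso_Φ_app [EnoughInjectives D] (hA : ∀ I : C, Injective I → AcyclicHomology.Acyclic T (A.obj I)) (M : C)
    (hM : ∀ q, AcyclicHomology.Acyclic T ((A.rightDerived q).obj M)) : IsIso ((Φ T A n).app M) := by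
  haveI := isIso_η T (AcyclicHomology.cxA A M) n (AcyclicHomology.acyclic_cxA T A hA M)
    (AcyclicHomology.acyclic_homology_cxA T A M hM)
  rw [Φ_app]
  infer_instance

/-- The comparison commutes with natural transformations of the left exact functor. -/
theorem Φ_natTrans {T' : D ⥤ E} [T'.Additive] [PreservesFiniteLimits T'] (τ : T ⟶ T') (M : C) :
    (NatTrans.rightDerived (Functor.whiskerLeft A τ) n).app M ≫ (Φ T' A n).app M =
      (Φ T A n).app M ≫ τ.app ((A.rightDerived n).obj M) := by
  rw [InjectiveResolution.rightDerived_app_eq (Functor.whiskerLeft A τ) (injectiveResolution M) n, Φ_app, Φ_app]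
  simp only [Category.assoc, Iso.inv_hom_id_assoc]
  refine congrArg (_ ≫ ·) ?_
  have e3 : (HomologicalComplex.homologyFunctor E (ComplexShape.up ℕ) n).map
      ((NatTrans.mapHomologicalComplex (Functor.whiskerLeft A τ) _).app (injectiveResolution M).cocomplex) ≫
        η T' (AcyclicHomology.cxA A M) n =
      η T (AcyclicHomology.cxA A M) n ≫ τ.app _ := η_natTrans T (AcyclicHomology.cxA A M) n τ
  refine ((reassoc_of% e3) _).trans ?_
  rw [τ.naturality]

end Derived

end Groth.L17.HomologyCompare
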