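import Groth.Agent.L17.IdealMulExtend
import Mathlib.CategoryTheory.Subobject.Lattice

/-!
# Artin–Rees for coherent modules on Noetherian schemes
-/

set_option autoImplicit false
set_option backward.isDefEq.respectTransparency false
set_option backward.isDefEq.respectTransparency.types false
set_option linter.style.haveILetI false

universe u

open CategoryTheory CategoryTheory.Limits AlgebraicGeometry Opposite TopologicalSpace

noncomputable section

namespace Groth.L17.IdealMulArtinRees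

open Groth.L17.IdealMulSec Groth.L17.IdealMulExtend

variable {X : Scheme.{u}} {F : X.Modules}

theorem range_comp_iso {A A' : X.Modules} (e : A ≅ A') (f : A' ⟶ F) (V : X.Opens) :
    LinearMap.range (lapp (e.hom ≫ f) V) = LinearMap.range (lapp f V) := by
  refine le_antisymm ?_ ?_
  · rintro _ ⟨a, rfl⟩; exact ⟨e.hom.app V a, rfl⟩
  · rintro _ ⟨a, rfl⟩
    refine ⟨e.inv.app V a, ?_⟩
    show (e.inv ≫ e.hom ≫ f).app V a = f.app V a
    rw [e.inv_hom_id_assoc]

/-- Factor through a monomorphism when sections over an affine cover do. -/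
theorem exists_factor {A B : X.Modules} [Coh.IsQCoh A] [Coh.IsQCoh B] [Coh.IsQCoh F] (f : A ⟶ F) (g : B ⟶ F)
    [Mono g] (h : ∀ x : X, ∃ V : X.Opens, IsAffineOpen V ∧ x ∈ V ∧
      LinearMap.range (lapp f V) ≤ LinearMap.range (lapp g V)) :
    ∃ l : A ⟶ B, l ≫ g = f := by
  refine ⟨Abelian.monoLift g f (Groth.L20.ResDescent.eq_zero_of_affine _ fun x => ?_), Abelian.monoLift_comp g f _⟩
  obtain ⟨V, hV, hx, hle⟩ := h x
  refine ⟨V, hV, hx, fun m => ?_⟩
  obtain ⟨b, hb⟩ := hle ⟨m, rfl⟩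
  show (cokernel.π g).app V (f.app V m) = 0
  rw [show f.app V m = g.app V b from hb.symm]
  show (g ≫ cokernel.π g).app V b = 0
  rw [cokernel.condition]
  rfl

theorem mk_eq_of_range {A B : X.Modules} [Coh.IsQCoh A] [Coh.IsQCoh B] [Coh.IsQCoh F] (f : A ⟶ F) (g : B ⟶ F)
    [Mono f] [Mono g] (h : ∀ x : X, ∃ V : X.Opens, IsAffineOpen V ∧ x ∈ V ∧
      LinearMap.range (lapp f V) = LinearMap.range (lapp g V)) :
    Subobject.mk f = Subobject.mk g := by
  obtain ⟨l, hl⟩ := exists_factor f g fun x => by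
    obtain ⟨V, hV, hx, he⟩ := h x; exact ⟨V, hV, hx, he.le⟩
  obtain ⟨l', hl'⟩ := exists_factor g f fun x => by
    obtain ⟨V, hV, hx, he⟩ := h x; exact ⟨V, hV, hx, he.ge⟩
  exact le_antisymm (Subobject.mk_le_mk_of_comm l hl) (Subobject.mk_le_mk_of_comm l' hl')

/-- Intersection of two subobjects. -/
theorem inf_mk {A B : X.Modules} (f : A ⟶ F) (g : B ⟶ F) [Mono f] [Mono g] :
    Subobject.mk f ⊓ Subobject.mk g = Subobject.mk (kernel.ι (f ≫ cokernel.π g) ≫ f) := by
  refine le_antisymm ?_ (le_inf ?_ ?_)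
  · set S := Subobject.mk f ⊓ Subobject.mk g
    let a : (S : X.Modules) ⟶ A := Subobject.ofLE S _ inf_le_left ≫ (Subobject.underlyingIso f).hom
    let b : (S : X.Modules) ⟶ B := Subobject.ofLE S _ inf_le_right ≫ (Subobject.underlyingIso g).hom
    have ha : a ≫ f = S.arrow := by simp [a]
    have hb : b ≫ g = S.arrow := by simp [b]
    refine Subobject.le_mk_of_comm (kernel.lift _ a ?_) (by rw [kernel.lift_ι_assoc, ha])
    rw [← Category.assoc, ha, ← hb, Category.assoc, cokernel.condition, comp_zero]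
  · exact Subobject.mk_le_mk_of_comm (kernel.ι _) rfl
  · exact Subobject.mk_le_mk_of_comm (Abelian.monoLift g (kernel.ι (f ≫ cokernel.π g) ≫ f)
      (by rw [Category.assoc, kernel.condition])) (Abelian.monoLift_comp _ _ _)

theorem range_inf {A B : X.Modules} [Coh.IsQCoh B] [Coh.IsQCoh F] (f : A ⟶ F) (g : B ⟶ F)
    {V : X.Opens} (hV : IsAffineOpen V) :
    LinearMap.range (lapp (kernel.ι (f ≫ cokernel.π g) ≫ f) V) =
      LinearMap.range (lapp f V) ⊓ LinearMap.range (lapp g V) := by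
  refine le_antisymm ?_ ?_
  · rintro _ ⟨a, rfl⟩
    refine ⟨⟨(kernel.ι (f ≫ cokernel.π g)).app V a, rfl⟩, mem_range_of_cokernel g hV _ ?_⟩
    show ((kernel.ι (f ≫ cokernel.π g) ≫ f) ≫ cokernel.π g).app V a = 0
    rw [Category.assoc, kernel.condition]
    rfl
  · rintro t ⟨⟨a, ha⟩, ⟨b, hb⟩⟩
    have h0 : (f ≫ cokernel.π g).app V a = 0 := by
      show (cokernel.π g).app V (f.app V a) = 0
      rw [show f.app V a = g.app V b from ha.trans hb.symm]
      show (g ≫ cokernel.π g).app V b = 0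
      rw [cokernel.condition]
      rfl
    obtain ⟨m, hm⟩ := ((kernel_sections (f ≫ cokernel.π g) V).2 a).1 h0
    exact ⟨m, (congrArg (f.app V) hm).trans ha⟩

theorem range_idealMul (I : X.IdealSheafData) (n : ℕ) (A : X.Modules) [Coh.IsQCoh A] {V : X.Opens}
    (hV : IsAffineOpen V) :
    LinearMap.range (lapp (Dual3.idealMulι (I ^ n) A) V) = I.ideal ⟨V, hV⟩ ^ n • ⊤ := by
  ext s
  have := exists_app_eq_iff (I ^ n) A hV s
  rw [Scheme.IdealSheafData.ideal_pow, Pi.pow_apply] at this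
  exact this

theorem artinRees [IsNoetherian X] (G : X.Modules) (hF : Coh.IsCoh F) [Coh.IsQCoh G] (ι : G ⟶ F) [Mono ι]
    (I : X.IdealSheafData) :
    ∃ c : ℕ, ∀ n : ℕ, c ≤ n →
      Subobject.mk (Dual3.idealMulι (I ^ (n - c))
          (Subobject.underlying.obj (Subobject.mk (Dual3.idealMulι (I ^ c) F) ⊓ Subobject.mk ι)) ≫
        (Subobject.mk (Dual3.idealMulι (I ^ c) F) ⊓ Subobject.mk ι).arrow) =
      Subobject.mk (Dual3.idealMulι (I ^ n) F) ⊓ Subobject.mk ι := by
  haveI := hF.1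
  obtain ⟨s, hs⟩ := exists_cover X
  have hAR : ∀ V : X.affineOpens, ∃ k : ℕ, ∀ n ≥ k,
      I.ideal V ^ n • ⊤ ⊓ LinearMap.range (lapp ι V.1) =
        I.ideal V ^ (n - k) • (I.ideal V ^ k • ⊤ ⊓ LinearMap.range (lapp ι V.1)) := fun V => by
    haveI : IsNoetherianRing Γ(X, V.1) := IsLocallyNoetherian.component_noetherian V
    haveI := Groth.L20.ModStalk.finite_sections F hF V.2
    exact Ideal.exists_pow_inf_eq_pow_smul _ _
  choose k hk using hAR
  refine ⟨s.sup k, fun n hn => ?_⟩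
  let c := s.sup k
  haveI hQ : ∀ j, Coh.IsQCoh ((Dual3.idealMul (I ^ j)).obj F) := fun j => isQCoh_idealMul (I ^ j) F
  haveI hC : ∀ j, Coh.IsQCoh (kernel (Dual3.idealMulι (I ^ j) F ≫ cokernel.π ι)) := fun j => by
    haveI : Coh.IsQCoh (cokernel ι) := (Groth.L00.AlgQCoh.isQCoh_kernel_cokernel ι ‹_› hF.1).2
    exact Groth.L18.IdealModule.isQCoh_kernel _
  set S := Subobject.mk (Dual3.idealMulι (I ^ c) F) ⊓ Subobject.mk ι with hS
  have hS' := inf_mk (Dual3.idealMulι (I ^ c) F) ι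
  let e : (S : X.Modules) ≅ kernel (Dual3.idealMulι (I ^ c) F ≫ cokernel.π ι) :=
    Subobject.isoOfEqMk S (kernel.ι _ ≫ Dual3.idealMulι (I ^ c) F) hS'
  haveI : Coh.IsQCoh (S : X.Modules) :=
    (SheafOfModules.isQuasicoherent X.ringCatSheaf).prop_of_iso e.symm (hC c)
  haveI := isQCoh_idealMul (I ^ (n - c)) (S : X.Modules)
  rw [inf_mk (Dual3.idealMulι (I ^ n) F) ι]
  refine mk_eq_of_range _ _ fun x => ?_
  obtain ⟨V, hVs, hxV⟩ := hs x
  refine ⟨V.1, V.2, hxV, ?_⟩
  have hSr : LinearMap.range (lapp S.arrow V.1) = I.ideal V ^ c • ⊤ ⊓ LinearMap.range (lapp ι V.1) := by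
    have : e.hom ≫ kernel.ι _ ≫ Dual3.idealMulι (I ^ c) F = S.arrow := Subobject.ofLEMk_comp _
    rw [← this, range_comp_iso, range_inf _ _ V.2, range_idealMul I c F V.2]
  rw [range_inf _ _ V.2, range_idealMul I n F V.2]
  have : lapp (Dual3.idealMulι (I ^ (n - c)) (S : X.Modules) ≫ S.arrow) V.1 =
      (lapp S.arrow V.1).comp (lapp (Dual3.idealMulι (I ^ (n - c)) (S : X.Modules)) V.1) := rfl
  rw [this, LinearMap.range_comp, range_idealMul I (n - c) _ V.2, Submodule.map_smul'', Submodule.map_top, hSr,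
    hk V c (Finset.le_sup hVs), hk V n (le_trans (Finset.le_sup hVs) hn), ← Submodule.smul_assoc, smul_eq_mul,
    ← pow_add]
  congr 2
  have := Finset.le_sup (f := k) hVs
  omega

end Groth.L17.IdealMulArtinRees
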