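import Groth.Agent.L17.IdealMulExtend

/-!
# Sections in all `Iⁿ F` are those vanishing near the zero set of `I`
-/

set_option autoImplicit false
set_option backward.isDefEq.respectTransparency false
set_option backward.isDefEq.respectTransparency.types false
set_option linter.style.haveILetI false

universe u

open CategoryTheory CategoryTheory.Limits AlgebraicGeometry Opposite TopologicalSpace

noncomputable section

namespace Groth.L17.IdealMulVanishNear

open Groth.L18.Frame (rs)
open Groth.L17.IdealMulSec Groth.L17.IdealMulExtend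

variable {X : Scheme.{u}}

theorem forall_mem_pow_iff [IsLocallyNoetherian X] {F : X.Modules} (hF : Coh.IsCoh F) (I : X.IdealSheafData)
    (s : Γ(F, ⊤)) :
    (∀ n : ℕ, ∃ t, (Dual3.idealMulι (I ^ n) F).app ⊤ t = s) ↔
      ∃ V : X.Opens, (I.support : Set X) ⊆ V ∧ rs F (le_top : V ≤ ⊤) s = 0 := by
  haveI := hF.1
  constructor
  · intro h
    have key : ∀ z : X, z ∈ I.support → ∃ W : X.Opens, z ∈ W ∧ rs F (le_top : W ≤ ⊤) s = 0 := by
      intro z hz
      obtain ⟨_, ⟨U, hU, rfl⟩, hzU, -⟩ :=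
        X.isBasis_affineOpens.exists_subset_of_mem_open (Set.mem_univ z) isOpen_univ
      haveI : IsNoetherianRing Γ(X, U) := IsLocallyNoetherian.component_noetherian ⟨U, hU⟩
      haveI := Groth.L20.ModStalk.finite_sections F hF hU
      letI := X.presheaf.algebra_section_stalk ⟨z, hzU⟩
      haveI := hU.isLocalization_stalk ⟨z, hzU⟩
      let p := (hU.primeIdealOf ⟨z, hzU⟩).asIdeal
      have hIp : I.ideal ⟨U, hU⟩ ≤ p := fun a ha => by
        by_contra hap
        have hu : IsUnit (X.presheaf.germ U z hzU a) :=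
          IsLocalization.map_units (X.presheaf.stalk z) (⟨a, hap⟩ : p.primeCompl)
        have h2 := (I.mem_support_iff_of_mem (U := ⟨U, hU⟩) hzU).1 hz
        rw [Scheme.mem_zeroLocus_iff] at h2
        exact h2 a ha ((X.mem_basicOpen a z hzU).2 hu)
      have hm : rs F (le_top : U ≤ ⊤) s ∈ (⨅ n : ℕ, I.ideal ⟨U, hU⟩ ^ n • ⊤ : Submodule Γ(X, U) Γ(F, U)) := by
        refine (Submodule.mem_iInf _).2 fun n => ?_
        obtain ⟨t, ht⟩ := h n
        have h3 := (exists_app_eq_iff (I ^ n) F hU _).1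
          ⟨rs _ (le_top : U ≤ ⊤) t, (Groth.L19.ProjBdl.app_rs (Dual3.idealMulι (I ^ n) F) le_top t).trans
            (congrArg (rs F le_top) ht)⟩
        rw [Scheme.IdealSheafData.ideal_pow, Pi.pow_apply] at h3
        exact h3
      obtain ⟨⟨r, hr⟩, hrx⟩ := ((I.ideal ⟨U, hU⟩).mem_iInf_smul_pow_eq_bot_iff _).1 hm
      have hg : F.presheaf.germ U z hzU (rs F (le_top : U ≤ ⊤) s) = 0 := by
        have hu : IsUnit (X.presheaf.germ U z hzU (1 - r)) :=
          IsLocalization.map_units (X.presheaf.stalk z) (⟨1 - r, fun h1 =>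
            (hU.primeIdealOf ⟨z, hzU⟩).2.ne_top ((Ideal.eq_top_iff_one p).2
              (by simpa using add_mem h1 (hIp hr)))⟩ : p.primeCompl)
        refine hu.smul_eq_zero.1 ?_
        rw [← Groth.L20.ModStalk.germ_smul, sub_smul, one_smul]
        exact (congrArg _ (sub_eq_zero.2 hrx.symm)).trans (map_zero _)
      obtain ⟨W, hzW, i, i', hW⟩ := F.presheaf.germ_eq z hzU hzU (rs F (le_top : U ≤ ⊤) s) 0
        (hg.trans (map_zero (F.presheaf.germ U z hzU).hom).symm)
      refine ⟨W, hzW, ?_⟩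
      rw [map_zero] at hW
      exact (Groth.L18.Frame.rs_rs F le_top i.le s).symm.trans hW
    choose W hzW hW using key
    refine ⟨⨆ z : {z : X // z ∈ I.support}, W z.1 z.2, fun z hz => Opens.mem_iSup.2 ⟨⟨z, hz⟩, hzW z hz⟩, ?_⟩
    refine TopCat.Presheaf.section_ext ⟨F.presheaf, F.isSheaf⟩ _ _ _ fun x hx => ?_
    obtain ⟨⟨z, hz⟩, hxW⟩ := Opens.mem_iSup.1 hx
    refine (Groth.L20.ModStalk.germ_rs F le_top hx s).trans ?_
    refine ((Groth.L20.ModStalk.germ_rs F (le_top : W z hz ≤ ⊤) hxW s).symm.trans ?_).trans (map_zero _).symm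
    rw [hW z hz, map_zero]
  · rintro ⟨V, hV, hs⟩ n
    refine ((kernel_sections (η (I ^ n) F) ⊤).2 s).1 ?_
    refine TopCat.Presheaf.section_ext (X := X) ⟨((Scheme.Modules.pullback (I ^ n).subschemeι ⋙
      Scheme.Modules.pushforward (I ^ n).subschemeι).obj F).presheaf, Scheme.Modules.isSheaf _⟩ ⊤ _ _ fun x hx => ?_
    obtain ⟨_, ⟨U, hU, rfl⟩, hxU, -⟩ :=
      X.isBasis_affineOpens.exists_subset_of_mem_open (Set.mem_univ x) isOpen_univ
    set sU := rs F (le_top : U ≤ ⊤) s
    have hsup : Ideal.span {r : Γ(X, U) | r • sU = 0} ⊔ I.ideal ⟨U, hU⟩ ^ n = ⊤ := by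
      by_contra hne
      obtain ⟨P, hP, hle⟩ := Ideal.exists_le_maximal _ hne
      obtain ⟨y, hyU, hy⟩ := Groth.L16.AffineBC.exists_point hU P
      letI := X.presheaf.algebra_section_stalk ⟨y, hyU⟩
      haveI := hU.isLocalization_stalk ⟨y, hyU⟩
      by_cases hyV : y ∈ V
      · letI := Groth.L20.ModStalk.stalkModule F hyU
        haveI := Groth.L20.ModStalk.isLocalizedModule_germ F hU hyU
        have h0 : Groth.L20.ModStalk.germₗ F hyU sU = Groth.L20.ModStalk.germₗ F hyU 0 := by
          rw [map_zero]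
          refine (Groth.L20.ModStalk.germ_rs F le_top hyU s).trans ?_
          refine (Groth.L20.ModStalk.germ_rs F (le_top : V ≤ ⊤) hyV s).symm.trans ?_
          rw [hs, map_zero]
        obtain ⟨c, hc⟩ := IsLocalizedModule.exists_of_eq (S := (hU.primeIdealOf ⟨y, hyU⟩).asIdeal.primeCompl) h0
        rw [smul_zero] at hc
        exact c.2 (hy.ge (hle (Submodule.mem_sup_left (Ideal.subset_span hc))))
      · have hns : y ∉ I.support := fun h => hyV (hV h)
        rw [I.mem_support_iff_of_mem (U := ⟨U, hU⟩) hyU, Scheme.mem_zeroLocus_iff] at hns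
        push Not at hns
        obtain ⟨a, ha, hya⟩ := hns
        have hap : a ^ n ∈ (hU.primeIdealOf ⟨y, hyU⟩).asIdeal :=
          hy.ge (hle (Submodule.mem_sup_right (Ideal.pow_mem_pow ha n)))
        exact (IsLocalRing.mem_maximalIdeal _).1
          ((IsLocalization.AtPrime.to_map_mem_maximal_iff (X.presheaf.stalk y)
            (hU.primeIdealOf ⟨y, hyU⟩).asIdeal a).2 ((hU.primeIdealOf ⟨y, hyU⟩).2.mem_of_pow_mem n hap))
          ((X.mem_basicOpen a y hyU).1 hya)
    have h1 : (1 : Γ(X, U)) ∈ Ideal.span {r : Γ(X, U) | r • sU = 0} ⊔ I.ideal ⟨U, hU⟩ ^ n := by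
      rw [hsup]; exact Submodule.mem_top
    obtain ⟨r, hr, e, he, hre⟩ := Submodule.mem_sup.1 h1
    have hr0 : r • sU = 0 := by
      clear hre
      induction hr using Submodule.span_induction with
      | mem r hr => exact hr
      | zero => exact zero_smul _ _
      | add p q _ _ hp hq => rw [add_smul, hp, hq, add_zero]
      | smul p q _ hq => rw [smul_eq_mul, mul_smul, hq, smul_zero]
    have hmem : sU ∈ (I ^ n).ideal ⟨U, hU⟩ • (⊤ : Submodule Γ(X, U) Γ(F, U)) := by
      rw [Scheme.IdealSheafData.ideal_pow, Pi.pow_apply, ← one_smul Γ(X, U) sU, ← hre, add_smul, hr0, zero_add]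
      exact Submodule.smul_mem_smul he Submodule.mem_top
    have h2 := (η_app_eq_zero_iff (I ^ n) F hU sU).2 hmem
    have h3 := (Groth.L19.ProjBdl.app_rs (η (I ^ n) F) (le_top : U ≤ ⊤) s).symm.trans h2
    refine ((Groth.L20.ModStalk.germ_rs _ (le_top : U ≤ ⊤) hxU _).symm.trans ?_).trans (map_zero _).symm
    exact (congrArg _ h3).trans (map_zero _)

end Groth.L17.IdealMulVanishNear
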