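import Groth.Agent.L17.StalkGen
import Groth.Agent.L21.Mod.Stalks
import Mathlib.CategoryTheory.Abelian.Images

/-!
Chains of ideal subsheaves on a Noetherian scheme are stationary.
-/

set_option autoImplicit false
set_option linter.style.haveILetI false
set_option backward.isDefEq.respectTransparency false

universe u

open CategoryTheory CategoryTheory.Limits AlgebraicGeometry TopologicalSpace Opposite

noncomputable section

namespace Groth.L17.StalkGen

theorem θ_of_comp {X : Scheme.{u}} {A B : X.Modules} {g : A ⟶ B} {α : A ⟶ Coh.structureModule X}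
    {β : B ⟶ Coh.structureModule X} (h : g ≫ β = α) (x : X) (a : (Groth.L00.Stk.F X x).obj A) :
    θ α x a = θ β x (((Groth.L00.Stk.F X x).map g).hom a) := by
  subst h
  show (e X x).symm _ = (e X x).symm _
  rw [Functor.map_comp]
  rfl

variable {X : Scheme.{u}} (G : ℕ → X.Modules) (ι : ∀ n, G n ⟶ Coh.structureModule X)

/-- the sum of a family of maps, as a map on the coproduct -/
abbrev total : (∐ fun k : ULift.{u} ℕ => G k.down) ⟶ Coh.structureModule X :=
  Sigma.desc fun k => ι k.down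

theorem range_total_le (x : X) :
    LinearMap.range (θ (total G ι) x) ≤ ⨆ n, LinearMap.range (θ (ι n) x) := by
  let S : Submodule (X.presheaf.stalk x) (X.presheaf.stalk x) := ⨆ n, LinearMap.range (θ (ι n) x)
  let q : (Groth.L00.Stk.F X x).obj (Coh.structureModule X) ⟶ ModuleCat.of (X.presheaf.stalk x) ((X.presheaf.stalk x) ⧸ S) :=
    ModuleCat.ofHom (S.mkQ.comp (e X x).symm.toLinearMap)
  have h : (Groth.L00.Stk.F X x).map (total G ι) ≫ q = 0 := by
    refine (isColimitOfPreserves (Groth.L00.Stk.F X x) (coproductIsCoproduct fun k : ULift.{u} ℕ => G k.down)).hom_ext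
      fun k => ?_
    rw [comp_zero, Functor.mapCocone_ι_app, ← Category.assoc, ← Functor.map_comp]
    refine ModuleCat.hom_ext (LinearMap.ext fun a => (Submodule.Quotient.mk_eq_zero S).2 ?_)
    refine le_iSup (fun n => LinearMap.range (θ (ι n) x)) k.as.down ⟨a, ?_⟩
    simp [θ]
    rfl
  rintro _ ⟨a, rfl⟩
  exact (Submodule.Quotient.mk_eq_zero S).1 (LinearMap.congr_fun (congrArg ModuleCat.Hom.hom h) a)

theorem exists_stationary [IsNoetherian X] [∀ n, Mono (ι n)] (f : ∀ n m, n ≤ m → (G n ⟶ G m))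
    (hf : ∀ n m (h : n ≤ m), f n m h ≫ ι m = ι n) :
    ∃ N, ∀ m (h : N ≤ m), IsIso (f N m h) := by
  classical
  have hmono : ∀ x : X, Monotone fun n => LinearMap.range (θ (ι n) x) := fun x n m h => by
    rintro _ ⟨a, rfl⟩
    exact ⟨((Groth.L00.Stk.F X x).map (f n m h)).hom a, (θ_of_comp (hf n m h) x a).symm⟩
  let T := Abelian.image (total G ι)
  obtain ⟨S, hS⟩ := exists_fam (G := T) (Abelian.image.ι (total G ι))
  have hsec : ∀ p : Fam T, ∃ N, ∀ (x : X) (hx : x ∈ p.1),
      θ (Abelian.image.ι (total G ι)) x (T.presheaf.germ p.1 x hx p.2) ∈ LinearMap.range (θ (ι N) x) := by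
    rintro ⟨U, s⟩
    have hloc : ∀ x : U, ∃ (n : ℕ) (W : X.Opens), x.1 ∈ W ∧ ∀ (y : X) (hyU : y ∈ U), y ∈ W →
        θ (Abelian.image.ι (total G ι)) y (T.presheaf.germ U y hyU s) ∈ LinearMap.range (θ (ι n) y) := by
      rintro ⟨x, hx⟩
      haveI : Epi ((Groth.L00.Stk.F X x).map (Abelian.factorThruImage (total G ι))) := inferInstance
      obtain ⟨a, ha⟩ := (ModuleCat.epi_iff_surjective _).1 this (T.presheaf.germ U x hx s)
      have h1 : θ (Abelian.image.ι (total G ι)) x (T.presheaf.germ U x hx s) ∈ LinearMap.range (θ (total G ι) x) := by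
        refine ⟨a, ?_⟩
        rw [← ha]
        exact θ_of_comp (Abelian.image.fac (total G ι)) x a
      obtain ⟨n, b, hb⟩ := (Submodule.mem_iSup_of_directed _ (hmono x).directed_le).1 (range_total_le G ι x h1)
      obtain ⟨V, hxV, σ, rfl⟩ := TopCat.Presheaf.exists_germ_eq (G n).presheaf b
      rw [θ_germ, θ_germ] at hb
      obtain ⟨W, hxW, iV, iU, he⟩ := X.presheaf.germ_eq x hxV hx _ _ hb
      refine ⟨n, W, hxW, fun y hyU hyW => ⟨(G n).presheaf.germ V y (iV.le hyW) σ, ?_⟩⟩
      rw [θ_germ, θ_germ, ← X.presheaf.germ_res_apply iV y hyW, ← X.presheaf.germ_res_apply iU y hyW, he]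
    choose n W hxW hW using hloc
    obtain ⟨t, ht⟩ := (NoetherianSpace.isCompact (U : Set X)).elim_finite_subcover (fun x : U => (W x : Set X))
      (fun x => (W x).2) fun x hx => Set.mem_iUnion.2 ⟨⟨x, hx⟩, hxW ⟨x, hx⟩⟩
    refine ⟨t.sup n, fun y hy => ?_⟩
    obtain ⟨x, hxt, hyW⟩ := Set.mem_iUnion₂.1 (ht hy)
    exact hmono y (Finset.le_sup hxt) (hW x y hy hyW)
  choose N hN using hsec
  refine ⟨S.sup N, fun m hm => (Groth.L21.Mod.isIso_iff_stalk_bijective _).2 fun x => ?_⟩
  show Function.Bijective ((Groth.L00.Stk.F X x).map (f (S.sup N) m hm)).hom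
  constructor
  · intro a b hab
    refine θ_injective (ι (S.sup N)) x ?_
    rw [θ_of_comp (hf _ m hm) x a, θ_of_comp (hf _ m hm) x b, hab]
  · intro b
    have hT : θ (ι m) x b ∈ LinearMap.range (θ (Abelian.image.ι (total G ι)) x) := by
      refine ⟨((Groth.L00.Stk.F X x).map (Sigma.ι (fun k : ULift.{u} ℕ => G k.down) ⟨m⟩ ≫
        Abelian.factorThruImage (total G ι))).hom b, ?_⟩
      exact (θ_of_comp (by simp) x b).symm
    obtain ⟨g, hg⟩ := hT
    have hgN : θ (Abelian.image.ι (total G ι)) x g ∈ LinearMap.range (θ (ι (S.sup N)) x) := by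
      have : g ∈ Submodule.span (X.presheaf.stalk x) (germs S x) := hS x ▸ Submodule.mem_top
      refine (Submodule.span_le.2 ?_ :
        _ ≤ (LinearMap.range (θ (ι (S.sup N)) x)).comap (θ (Abelian.image.ι (total G ι)) x)) this
      rintro _ ⟨p, hp, hx, rfl⟩
      exact hmono x (Finset.le_sup hp) (hN p x hx)
    obtain ⟨a, ha⟩ := hgN
    refine ⟨a, θ_injective (ι m) x ?_⟩
    rw [← hg, ← ha]
    exact (θ_of_comp (hf _ m hm) x a).symm

end Groth.L17.StalkGen
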