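import Groth.Agent.L17.InjUniform
import Groth.Agent.L29.Sib.InjSum
import Groth.Agent.S11158
import Groth.Agent.L00.SheafHom
import Mathlib.LinearAlgebra.Finsupp.LinearCombination

/-!
Injective modules on locally Noetherian schemes are sums of indecomposable injectives.
-/

set_option autoImplicit false
set_option linter.style.haveILetI false
set_option backward.isDefEq.respectTransparency false

universe u

open CategoryTheory CategoryTheory.Limits AlgebraicGeometry TopologicalSpace

noncomputable section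

namespace Groth.L17.InjDecomp

open Groth.L17.InjUniform (IsIndec)

variable {X : Scheme.{u}} {J : X.Modules}

/-- the image of a stalk of a subobject -/
def R (s : Subobject J) (x : X) : Submodule (X.presheaf.stalk x) (J.presheaf.stalk x) :=
  LinearMap.range ((Groth.L00.Stk.F X x).map s.arrow).hom

/-- admissible sets of summands -/
def Indep (S : Set (Subobject J)) : Prop :=
  (∀ s ∈ S, Injective (s : X.Modules) ∧ IsIndec (s : X.Modules)) ∧
    ∀ (x : X) (T : Finset (Subobject J)), ↑T ⊆ S → ∀ v : Subobject J → J.presheaf.stalk x,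
      (∀ s ∈ T, v s ∈ R s x) → ∑ s ∈ T, v s = 0 → ∀ s ∈ T, v s = 0

theorem indep_sUnion {c : Set (Set (Subobject J))} (hc : ∀ S ∈ c, Indep S) (hch : IsChain (· ⊆ ·) c) :
    Indep (⋃₀ c) := by
  classical
  refine ⟨fun s ⟨S, hS, hs⟩ => (hc S hS).1 s hs, fun x T hT v hv hsum s hs => ?_⟩
  have h : ∃ S ∈ c, ↑T ⊆ S :=
    DirectedOn.exists_mem_subset_of_finset_subset_biUnion ⟨_, (hT hs).choose_spec.1⟩ hch.directedOn
      (by simpa [Set.sUnion_eq_biUnion] using hT)
  obtain ⟨S, hS, hTS⟩ := h
  exact (hc S hS).2 x T hTS v hv hsum s hs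

theorem exists_repr {α : Type u} (M : α → X.Modules) (x : X) (g : (∐ M).presheaf.stalk x) :
    ∃ (t : Finset α) (a : ∀ k, (M k).presheaf.stalk x),
      g = ∑ k ∈ t, ((Groth.L00.Stk.F X x).map (Sigma.ι M k)).hom (a k) := by
  classical
  let P : Submodule (X.presheaf.stalk x) ((∐ M).presheaf.stalk x) :=
    ⨆ k, LinearMap.range ((Groth.L00.Stk.F X x).map (Sigma.ι M k)).hom
  have h0 : (ModuleCat.ofHom P.mkQ : (Groth.L00.Stk.F X x).obj (∐ M) ⟶ _) = 0 := by
    refine (isColimitOfPreserves (Groth.L00.Stk.F X x) (coproductIsCoproduct M)).hom_ext fun k => ?_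
    rw [comp_zero, Functor.mapCocone_ι_app]
    exact ModuleCat.hom_ext (LinearMap.ext fun a => (Submodule.Quotient.mk_eq_zero P).2
      (le_iSup (fun k => LinearMap.range ((Groth.L00.Stk.F X x).map (Sigma.ι M k)).hom) k.as ⟨a, rfl⟩))
  have hg : g ∈ P := (Submodule.Quotient.mk_eq_zero P).1 (LinearMap.congr_fun (congrArg ModuleCat.Hom.hom h0) g)
  obtain ⟨f, hf, hsum⟩ := (Submodule.mem_iSup_iff_exists_finsupp _ _).1 hg
  choose a ha using hf
  refine ⟨f.support, a, hsum.symm.trans (Finset.sum_congr rfl fun k _ => (ha k).symm)⟩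

variable [IsLocallyNoetherian X]

theorem decomposition (hJ : Injective J) :
    ∃ (ι : Type u) (E : ι → X.Modules), (∀ i, Injective (E i)) ∧ (∀ i, IsIndec (E i)) ∧ Nonempty (J ≅ ∐ E) := by
  classical
  haveI := Groth.L00.Tensor.grothendieckAbelian_modules X
  obtain ⟨S, -, hSmax⟩ := zorn_subset_nonempty {S : Set (Subobject J) | Indep S}
    (fun c hc hch _ => ⟨⋃₀ c, indep_sUnion (fun S hS => hc hS) hch, fun S hS => Set.subset_sUnion_of_mem hS⟩) ∅
    ⟨fun s hs => hs.elim, fun x T hT v _ _ s hs => (hT hs).elim⟩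
  have hS : Indep S := hSmax.1
  let e := (equivShrink.{u} S).symm
  let M : Shrink.{u} S → X.Modules := fun k => ((e k).1 : X.Modules)
  let φ : ∐ M ⟶ J := Sigma.desc fun k => (e k).1.arrow
  have hfac : ∀ k, Sigma.ι M k ≫ φ = (e k).1.arrow := fun k => Sigma.ι_desc (fun k => (e k).1.arrow) k
  have hι : ∀ k (x : X) (a : (M k).presheaf.stalk x),
      ((Groth.L00.Stk.F X x).map φ).hom (((Groth.L00.Stk.F X x).map (Sigma.ι M k)).hom a) =
        ((Groth.L00.Stk.F X x).map (e k).1.arrow).hom a := by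
    intro k x a
    rw [show (e k).1.arrow = Sigma.ι M k ≫ φ from (hfac k).symm, Functor.map_comp]
    rfl
  haveI hφ : Mono φ := by
    rw [Groth.L21.Mod.mono_iff_stalk_injective]
    intro x
    refine (injective_iff_map_eq_zero _).2 fun g hg => ?_
    obtain ⟨t, a, rfl⟩ := exists_repr M x g
    change ((Groth.L00.Stk.F X x).map φ).hom _ = 0 at hg
    rw [map_sum] at hg
    simp only [hι] at hg
    let idx : Subobject J → J.presheaf.stalk x := fun s =>
      if h : s ∈ S then ((Groth.L00.Stk.F X x).map (e (equivShrink.{u} S ⟨s, h⟩)).1.arrow).hom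
        (a (equivShrink.{u} S ⟨s, h⟩)) else 0
    have hidx : ∀ k, idx (e k).1 = ((Groth.L00.Stk.F X x).map (e k).1.arrow).hom (a k) := fun k => by
      have hk : equivShrink.{u} S ⟨(e k).1, (e k).2⟩ = k := (equivShrink.{u} S).apply_symm_apply k
      simp only [idx, dif_pos (e k).2]
      rw [hk]
    have hsum : ∑ s ∈ t.image (fun k => (e k).1), idx s = 0 := by
      rw [Finset.sum_image fun k _ k' _ h => e.injective (Subtype.ext h)]
      simpa [hidx] using hg
    have hz := hS.2 x (t.image fun k => (e k).1) (by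
      intro s hs
      obtain ⟨k, -, rfl⟩ := Finset.mem_image.1 (Finset.mem_coe.1 hs)
      exact (e k).2) idx (fun s hs => by
      obtain ⟨k, -, rfl⟩ := Finset.mem_image.1 hs
      rw [hidx]; exact ⟨_, rfl⟩) hsum
    refine Finset.sum_eq_zero fun k hk => ?_
    have h1 := hz (e k).1 (Finset.mem_image_of_mem _ hk)
    rw [hidx] at h1
    have : a k = 0 := (injective_iff_map_eq_zero _).1
      ((ModuleCat.mono_iff_injective _).1 (inferInstance : Mono ((Groth.L00.Stk.F X x).map (e k).1.arrow))) _ h1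
    rw [this, map_zero]
  haveI hT : Injective (∐ M) := Groth.L29.LocNoeth.injective_coproduct M fun k => (hS.1 _ (e k).2).1
  let r : J ⟶ ∐ M := Injective.factorThru (𝟙 _) φ
  have hr : φ ≫ r = 𝟙 _ := Injective.comp_factorThru _ _
  refine ⟨Shrink.{u} S, M, fun k => (hS.1 _ (e k).2).1, fun k => (hS.1 _ (e k).2).2, ?_⟩
  suffices hr0 : kernel.ι r = 0 by
    haveI : Mono r := Preadditive.mono_of_kernel_zero hr0
    haveI : IsSplitEpi r := IsSplitEpi.mk' ⟨φ, hr⟩
    haveI : IsIso r := isIso_of_mono_of_epi r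
    exact ⟨asIso r⟩
  by_contra hne
  have hK : Injective (kernel r) := ⟨fun {A B} g f _ =>
    ⟨Injective.factorThru (g ≫ kernel.ι r) f ≫ kernel.lift r (𝟙 J - r ≫ φ)
      (by rw [Preadditive.sub_comp, Category.assoc, hr, Category.comp_id, Category.id_comp, sub_self]), by
      rw [← cancel_mono (kernel.ι r), Category.assoc, Category.assoc, kernel.lift_ι, Preadditive.comp_sub,
        Preadditive.comp_sub, Category.comp_id, Injective.comp_factorThru, ← Category.assoc (Injective.factorThru _ _),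
        ← Category.assoc f, ← Category.assoc f, Injective.comp_factorThru, Category.assoc g, kernel.condition,
        comp_zero, zero_comp, sub_zero]⟩⟩
  obtain ⟨U, g, hg⟩ : ∃ (U : X.affineOpens) (g : Groth.L29.LocNoeth.gen U.1 ⟶ kernel r), g ≫ kernel.ι r ≠ 0 := by
    by_contra h
    push Not at h
    refine hne (Groth.L29.LocNoeth.isSeparating_gen _ _ fun G hG g => ?_)
    obtain ⟨U⟩ := hG
    rw [h U g, comp_zero]
  haveI : IsAffine (U.1 : Scheme.{u}) := U.2
  haveI : IsNoetherianObject (Groth.L29.LocNoeth.gen U.1) :=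
    (isNoetherianObject_iff_monotone_chain_condition _).2 fun c => Groth.Agent.S11158.result U.1.ι c
  haveI := hK
  obtain ⟨E, i, hi, hE, hEi⟩ := Groth.L17.InjUniform.exists_indec.{u} g fun h => hg (by rw [h, zero_comp])
  let s₀ : Subobject J := Subobject.mk (i ≫ kernel.ι r)
  have hs₀r : s₀.arrow ≫ r = 0 := by
    rw [← Subobject.underlyingIso_hom_comp_eq_mk, Category.assoc, Category.assoc, kernel.condition, comp_zero, comp_zero]
  have hs₀ : Injective (s₀ : X.Modules) ∧ IsIndec (s₀ : X.Modules) := by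
    refine ⟨Injective.of_iso (Subobject.underlyingIso _).symm hE, fun h => hEi.1 (h.of_iso (Subobject.underlyingIso _).symm),
      fun P Q ⟨k⟩ => hEi.2 P Q ⟨(Subobject.underlyingIso (i ≫ kernel.ι r)).symm ≪≫ k⟩⟩
  have hs₀S : s₀ ∉ S := fun h => hs₀.2.1 (Groth.L17.InjUniform.isZero_of_mono_zero s₀.arrow (by
    let k : Shrink.{u} S := equivShrink.{u} S ⟨s₀, h⟩
    have hk : (e k).1 = s₀ := congrArg Subtype.val ((equivShrink.{u} S).symm_apply_apply ⟨s₀, h⟩)
    have h1 : (e k).1.arrow ≫ r = Sigma.ι M k := by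
      rw [show (e k).1.arrow = Sigma.ι M k ≫ φ from (hfac k).symm, Category.assoc, hr, Category.comp_id]
    rw [← hk] at hs₀r ⊢
    have h2 : Sigma.ι M k = 0 := h1.symm.trans hs₀r
    rw [show (e k).1.arrow = Sigma.ι M k ≫ φ from (hfac k).symm, h2, zero_comp]))
  refine hs₀S (hSmax.2 (y := insert s₀ S) ⟨?_, fun x T hT v hv hsum => ?_⟩ (Set.subset_insert _ _) (Set.mem_insert _ _))
  · rintro s (rfl | hs)
    · exact hs₀
    · exact hS.1 s hs
  by_cases hmem : s₀ ∈ T
  swap
  · exact hS.2 x T (fun s hs => (hT hs).resolve_left fun h => hmem (h ▸ hs)) v hv hsum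
  have hsub : ∀ s ∈ T.erase s₀, s ∈ S := fun s hs =>
    (hT (Finset.mem_of_mem_erase hs)).resolve_left (Finset.ne_of_mem_erase hs)
  let Fr := (Groth.L00.Stk.F X x).map r
  have hr0 : Fr.hom (v s₀) = 0 := by
    obtain ⟨a, ha⟩ := hv s₀ hmem
    rw [← ha]
    have : (Groth.L00.Stk.F X x).map s₀.arrow ≫ Fr = 0 := by rw [← Functor.map_comp, hs₀r, Functor.map_zero]
    exact LinearMap.congr_fun (congrArg ModuleCat.Hom.hom this) a
  have hfix : ∀ s ∈ T.erase s₀, ((Groth.L00.Stk.F X x).map φ).hom (Fr.hom (v s)) = v s := fun s hs => by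
    obtain ⟨a, ha⟩ := hv s (Finset.mem_of_mem_erase hs)
    rw [← ha]
    let k : Shrink.{u} S := equivShrink.{u} S ⟨s, hsub s hs⟩
    have hk : (e k).1 = s := congrArg Subtype.val ((equivShrink.{u} S).symm_apply_apply ⟨s, hsub s hs⟩)
    have h1 : s.arrow ≫ r ≫ φ = s.arrow := by
      rw [← hk, show (e k).1.arrow = Sigma.ι M k ≫ φ from (hfac k).symm, Category.assoc,
        ← Category.assoc φ r, hr, Category.id_comp]
    have h2 := congrArg (Groth.L00.Stk.F X x).map h1
    rw [Functor.map_comp, Functor.map_comp] at h2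
    exact LinearMap.congr_fun (congrArg ModuleCat.Hom.hom h2) a
  have hrest : ∑ s ∈ T.erase s₀, v s = 0 := by
    have h1 := congrArg (fun z => ((Groth.L00.Stk.F X x).map φ).hom (Fr.hom z)) hsum
    simp only [map_zero] at h1
    rw [← Finset.add_sum_erase T v hmem, map_add, map_add, hr0, map_zero, zero_add, map_sum, map_sum,
      Finset.sum_congr rfl hfix] at h1
    exact h1
  intro s hs
  by_cases hss : s = s₀
  · subst hss
    rwa [← Finset.add_sum_erase T v hs, hrest, add_zero] at hsum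
  · exact hS.2 x (T.erase s₀) (fun s hs => hsub s hs) v (fun s hs => hv s (Finset.mem_of_mem_erase hs)) hrest s
      (Finset.mem_erase.2 ⟨hss, hs⟩)

end Groth.L17.InjDecomp
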