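import Groth.Agent.L04.GabLoc.Envelope
import Mathlib.CategoryTheory.Subobject.NoetherianObject
import Mathlib.CategoryTheory.Preadditive.Biproducts

/-!
Uniform subobjects of Noetherian objects; indecomposable injectives.
-/

set_option autoImplicit false
set_option linter.style.haveILetI false

universe w v u

open CategoryTheory CategoryTheory.Limits

namespace Groth.L17.InjUniform

variable {C : Type u} [Category.{v} C] [Abelian C]

/-- an object whose nonzero subobjects meet -/
def IsUniform (A : C) : Prop :=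
  ∀ ⦃P Q : C⦄ (p : P ⟶ A) (q : Q ⟶ A), Mono p → Mono q → Mono (q ≫ cokernel.π p) → IsZero P ∨ IsZero Q

/-- not decomposable -/
def IsIndec (J : C) : Prop :=
  ¬ IsZero J ∧ ∀ P Q : C, Nonempty (J ≅ P ⊞ Q) → IsZero P ∨ IsZero Q

theorem isZero_of_mono_zero {P Q : C} (f : P ⟶ Q) [Mono f] (h : f = 0) : IsZero P :=
  (IsZero.iff_id_eq_zero _).2 ((cancel_mono f).1 (by simp [h]))

/-- quotients of Noetherian objects are Noetherian -/
theorem isNoetherianObject_of_epi {X Y : C} (e : X ⟶ Y) [Epi e] [IsNoetherianObject X] : IsNoetherianObject Y := by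
  refine isNoetherianObject.is_of_prop ?_
  let k : Subobject Y → Subobject X := fun S => Subobject.mk (kernel.ι (e ≫ cokernel.π S.arrow))
  have hmono : Monotone k := fun S T hST => Subobject.mk_le_mk_of_comm
    (kernel.lift _ (kernel.ι (e ≫ cokernel.π S.arrow)) (by
      have h : cokernel.π S.arrow ≫ cokernel.desc S.arrow (cokernel.π T.arrow)
          (by rw [← Subobject.ofLE_arrow hST, Category.assoc, cokernel.condition, comp_zero]) = cokernel.π T.arrow :=
        cokernel.π_desc _ _ _
      rw [← h, ← Category.assoc e, ← Category.assoc, kernel.condition, zero_comp]))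
    (kernel.lift_ι _ _ _)
  have hinj : StrictMono k := fun S T hST => lt_of_le_of_ne (hmono hST.le) fun h => hST.ne (le_antisymm hST.le ?_)
  swap
  · let f := Subobject.ofMkLEMk _ _ h.ge
    have hf : f ≫ kernel.ι (e ≫ cokernel.π S.arrow) = kernel.ι (e ≫ cokernel.π T.arrow) :=
      Subobject.ofMkLEMk_comp h.ge
    have h0 : kernel.ι (e ≫ cokernel.π T.arrow) ≫ (e ≫ cokernel.π S.arrow) = 0 := by
      rw [← hf, Category.assoc, kernel.condition, comp_zero]
    let d := (Abelian.epiIsCokernelOfKernel (KernelFork.ofι _ (kernel.condition (e ≫ cokernel.π T.arrow)))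
      (kernelIsKernel _)).desc (CokernelCofork.ofπ _ h0)
    have hd : (e ≫ cokernel.π T.arrow) ≫ d = e ≫ cokernel.π S.arrow :=
      (Abelian.epiIsCokernelOfKernel (KernelFork.ofι _ (kernel.condition (e ≫ cokernel.π T.arrow)))
        (kernelIsKernel _)).fac _ WalkingParallelPair.one
    rw [Category.assoc, cancel_epi] at hd
    have h1 : T.arrow ≫ cokernel.π S.arrow = 0 := by
      rw [← hd, ← Category.assoc, cokernel.condition, zero_comp]
    exact Subobject.le_of_comm (Abelian.monoLift S.arrow T.arrow h1) (Abelian.monoLift_comp _ _ _)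
  exact hinj.wellFoundedGT

/-- a nonzero Noetherian object has a uniform nonzero subobject -/
theorem exists_uniform (M : C) [IsNoetherianObject M] (hM : ¬ IsZero M) :
    ∃ (A : C) (a : A ⟶ M), Mono a ∧ ¬ IsZero A ∧ IsUniform A := by
  let Good : Set (Subobject M) := {B | ∃ (A : C) (a : A ⟶ M), Mono a ∧ ¬ IsZero A ∧ Mono (a ≫ cokernel.π B.arrow)}
  have hne : Good.Nonempty := by
    refine ⟨⊥, M, 𝟙 M, inferInstance, hM, ?_⟩
    haveI : IsIso (cokernel.π (⊥ : Subobject M).arrow) := by
      rw [Subobject.bot_arrow]; infer_instance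
    infer_instance
  obtain ⟨B, ⟨A, a, ha, hA0, haB⟩, hmax⟩ := wellFounded_gt.has_min Good hne
  refine ⟨A, a, ha, hA0, fun P Q p q hp hq hpq => ?_⟩
  by_contra h
  rw [not_or] at h
  let a' := a ≫ cokernel.π B.arrow
  let r := cokernel.π B.arrow ≫ cokernel.π (p ≫ a')
  let B' := Subobject.mk (kernel.ι r)
  have hBB : B ≤ B' := Subobject.le_mk_of_comm (kernel.lift r B.arrow (by
    show B.arrow ≫ cokernel.π B.arrow ≫ _ = 0
    exact cokernel.condition_assoc _ _ |>.trans zero_comp)) (kernel.lift_ι _ _ _)
  have hgood : B' ∈ Good := by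
    refine ⟨Q, q ≫ a, inferInstance, h.2, Preadditive.mono_of_cancel_zero _ fun {Z} g hg => ?_⟩
    have hr : cokernel.π B'.arrow ≫ cokernel.desc B'.arrow r (by
        rw [← Subobject.underlyingIso_hom_comp_eq_mk, Category.assoc, kernel.condition, comp_zero]) = r :=
      cokernel.π_desc _ _ _
    have h1 : (g ≫ q ≫ a') ≫ cokernel.π (p ≫ a') = 0 := by
      have := congrArg (· ≫ cokernel.desc B'.arrow r (by
        rw [← Subobject.underlyingIso_hom_comp_eq_mk, Category.assoc, kernel.condition, comp_zero])) hg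
      simp only [Category.assoc, zero_comp] at this
      rw [hr] at this
      simpa [a', r] using this
    have h2 : Abelian.monoLift (p ≫ a') (g ≫ q ≫ a') h1 ≫ p = g ≫ q := by
      rw [← cancel_mono a', Category.assoc, Abelian.monoLift_comp, Category.assoc]
    have h3 : g ≫ (q ≫ cokernel.π p) = 0 := by
      rw [← Category.assoc, ← h2, Category.assoc, cokernel.condition, comp_zero]
    exact zero_of_comp_mono _ h3
  have hEq : B' = B := (eq_of_le_of_not_lt hBB (hmax B' hgood)).symm
  have hpa : (p ≫ a) ≫ r = 0 := by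
    show (p ≫ a) ≫ cokernel.π B.arrow ≫ cokernel.π (p ≫ a') = 0
    have h0 : (p ≫ a) ≫ cokernel.π B.arrow = p ≫ a' := Category.assoc _ _ _
    rw [← Category.assoc (p ≫ a)]
    exact (congrArg (· ≫ cokernel.π (p ≫ a')) h0).trans (cokernel.condition _)
  have h4 : (p ≫ a) ≫ cokernel.π B.arrow = 0 := by
    have hl : B.Factors (p ≫ a) := hEq ▸ (Subobject.mk_factors_iff _ _).2 ⟨kernel.lift r _ hpa, kernel.lift_ι _ _ _⟩
    rw [← B.factorThru_arrow _ hl, Category.assoc, cokernel.condition, comp_zero]
  exact h.1 (isZero_of_mono_zero p (zero_of_comp_mono a' (by rw [← Category.assoc]; exact h4)))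

theorem isIndec_envelope {A E : C} (i : A ⟶ E) [Mono i] (hi : Groth.L04.GabLoc.IsEss i) (hA : IsUniform A)
    (hA0 : ¬ IsZero A) : IsIndec E := by
  refine ⟨fun h => hA0 (IsZero.of_mono i h), fun P Q ⟨e⟩ => ?_⟩
  let f := i ≫ e.hom ≫ biprod.fst
  let g := i ≫ e.hom ≫ biprod.snd
  have hfg : Mono (kernel.ι g ≫ cokernel.π (kernel.ι f)) := by
    refine Preadditive.mono_of_cancel_zero _ fun {Z} z hz => ?_
    rw [← Category.assoc] at hz
    have h1 : (z ≫ kernel.ι g) ≫ f = 0 := by
      rw [← Abelian.monoLift_comp _ _ hz, Category.assoc, kernel.condition, comp_zero]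
    have h2 : (z ≫ kernel.ι g) ≫ g = 0 := by rw [Category.assoc, kernel.condition, comp_zero]
    have h3 : (z ≫ kernel.ι g) ≫ (i ≫ e.hom) = 0 := by
      apply biprod.hom_ext <;> simp only [Category.assoc, zero_comp]
      · simpa [f] using h1
      · simpa [g] using h2
    exact zero_of_comp_mono _ (zero_of_comp_mono _ h3)
  rcases hA (kernel.ι f) (kernel.ι g) inferInstance inferInstance hfg with h | h
  · right
    haveI : Mono f := Preadditive.mono_of_isZero_kernel f h
    haveI : Mono (e.hom ≫ biprod.fst) := hi _ (by simpa [f] using ‹Mono f›)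
    refine isZero_of_mono_zero (biprod.inr ≫ e.inv) ((cancel_mono (e.hom ≫ biprod.fst)).1 ?_)
    simp
  · left
    haveI : Mono g := Preadditive.mono_of_isZero_kernel g h
    haveI : Mono (e.hom ≫ biprod.snd) := hi _ (by simpa [g] using ‹Mono g›)
    refine isZero_of_mono_zero (biprod.inl ≫ e.inv) ((cancel_mono (e.hom ≫ biprod.snd)).1 ?_)
    simp

/-- a nonzero injective receiving a nonzero map from a Noetherian object contains an indecomposable injective -/
theorem exists_indec [IsGrothendieckAbelian.{w} C] {G J : C} [IsNoetherianObject G] [Injective J] (f : G ⟶ J)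
    (hf : f ≠ 0) : ∃ (E : C) (e : E ⟶ J), Mono e ∧ Injective E ∧ IsIndec E := by
  haveI : IsNoetherianObject (Abelian.image f) := isNoetherianObject_of_epi (Abelian.factorThruImage f)
  obtain ⟨A, a, ha, hA0, hA⟩ := exists_uniform (Abelian.image f) fun h => hf (by
    rw [← Abelian.image.fac f, h.eq_of_tgt (Abelian.factorThruImage f) 0, zero_comp])
  obtain ⟨E, i, hi, hE, hess⟩ := Groth.L04.GabLoc.exists_envelope.{w} A
  let e := Injective.factorThru (a ≫ Abelian.image.ι f) i
  haveI : Mono e := hess e (by rw [Injective.comp_factorThru]; infer_instance)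
  exact ⟨E, e, inferInstance, hE, isIndec_envelope i hess hA hA0⟩

end Groth.L17.InjUniform
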