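import Mathlib.AlgebraicGeometry.Morphisms.FiniteType
import Mathlib.AlgebraicGeometry.Morphisms.ClosedImmersion
import Mathlib.AlgebraicGeometry.IdealSheaf.Subscheme
import Mathlib.RingTheory.FiniteType
import Mathlib.RingTheory.Ideal.Operations

/-!
Finite type is detected modulo a finitely generated nilpotent ideal of the source.
-/

set_option autoImplicit false
set_option linter.style.haveILetI false
universe u

open CategoryTheory AlgebraicGeometry
open scoped Pointwise

namespace Groth.L17.LftSource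

theorem finiteType_of_comp {A B B₀ : Type u} [CommRing A] [CommRing B] [CommRing B₀] (φ : A →+* B)
    (π : B →+* B₀) (hπ : Function.Surjective π) (hfg : (RingHom.ker π).FG)
    (hnil : IsNilpotent (RingHom.ker π)) (h : (π.comp φ).FiniteType) : φ.FiniteType := by
  classical
  letI := φ.toAlgebra
  letI := (π.comp φ).toAlgebra
  let P : B →ₐ[A] B₀ := { π with commutes' := fun _ => rfl }
  obtain ⟨s, hs⟩ := (h : Algebra.FiniteType A B₀).1
  obtain ⟨G, hG⟩ := hfg
  choose t ht using hπ
  refine ⟨⟨s.image t ∪ G, ?_⟩⟩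
  set C := Algebra.adjoin A ((s.image t ∪ G : Finset B) : Set B) with hC
  let K : Ideal B := Ideal.span (G : Set B)
  have hK : K = RingHom.ker π := hG
  let S : Submodule A B := Subalgebra.toSubmodule C
  have hsup : ∀ b : B, ∃ c ∈ S, b - c ∈ K := fun b => by
    have h1 : P b ∈ C.map P := by
      have : Algebra.adjoin A ((s.image t : Finset B) : Set B) ≤ C := by
        rw [hC]; exact Algebra.adjoin_mono (by simp)
      refine Subalgebra.map_mono this ?_
      rw [AlgHom.map_adjoin, Finset.coe_image, Set.image_image]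
      have : (fun x => P (t x)) = id := funext ht
      rw [this, Set.image_id, hs]
      exact Algebra.mem_top
    obtain ⟨c, hc, hcb⟩ := h1
    exact ⟨c, hc, by rw [hK, RingHom.mem_ker, map_sub, sub_eq_zero]; exact hcb.symm⟩
  have hn : ∀ n : ℕ, ∀ x ∈ K ^ n, ∃ c ∈ S, x - c ∈ K ^ (n + 1) := fun n x hx => by
    have hpow : K ^ n = Ideal.span ((G : Set B) ^ n) := Submodule.span_pow _ n
    rw [hpow] at hx
    have hsub : (G : Set B) ^ n ⊆ (C : Set B) := by
      clear hx hpow
      induction n with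
      | zero => rw [pow_zero, Set.one_subset]; exact C.one_mem
      | succ n ih =>
        rw [pow_succ]
        rintro _ ⟨a, ha, g, hg, rfl⟩
        exact C.mul_mem (ih ha) (Algebra.subset_adjoin (Finset.mem_union_right _ hg))
    refine Submodule.span_induction (p := fun x _ => ∀ b : B, ∃ c ∈ S, b * x - c ∈ K ^ (n + 1))
      ?_ ?_ ?_ ?_ hx 1 |>.imp fun c hc => ⟨hc.1, by simpa using hc.2⟩
    · intro g hg b
      obtain ⟨c, hc, hbc⟩ := hsup b
      refine ⟨c * g, C.mul_mem hc (hsub hg), ?_⟩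
      rw [← sub_mul, pow_succ']
      exact Ideal.mul_mem_mul hbc (hpow ▸ Ideal.subset_span hg)
    · intro b; exact ⟨0, zero_mem _, by simp⟩
    · intro y z _ _ hy hz b
      obtain ⟨c, hc, h1⟩ := hy b
      obtain ⟨d, hd, h2⟩ := hz b
      exact ⟨c + d, add_mem hc hd, by
        have := add_mem h1 h2; rwa [mul_add, add_sub_add_comm]⟩
    · intro r y _ hy b
      obtain ⟨c, hc, h1⟩ := hy (b * r)
      exact ⟨c, hc, by rwa [smul_eq_mul, ← mul_assoc]⟩
  have hall : ∀ (n : ℕ) (b : B), ∃ c ∈ S, b - c ∈ K ^ n := fun n => by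
    induction n with
    | zero => intro b; exact ⟨0, zero_mem _, by simp⟩
    | succ n ih =>
      intro b
      obtain ⟨c, hc, h1⟩ := ih b
      obtain ⟨d, hd, h2⟩ := hn n _ h1
      exact ⟨c + d, add_mem hc hd, by rwa [← sub_sub]⟩
  obtain ⟨n, hn0⟩ := hnil
  refine top_le_iff.1 fun b _ => ?_
  obtain ⟨c, hc, h1⟩ := hall n b
  rw [hK, hn0, Ideal.zero_eq_bot, Ideal.mem_bot, sub_eq_zero] at h1
  exact h1 ▸ hc

theorem lft_of_comp {Y₀ Y X : Scheme.{u}} (i : Y₀ ⟶ Y) (F : Y ⟶ X) [IsClosedImmersion i]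
    (hnil : ∀ U : Y.affineOpens, IsNilpotent (i.ker.ideal U)) (hfg : ∀ U : Y.affineOpens, (i.ker.ideal U).FG)
    [LocallyOfFiniteType (i ≫ F)] : LocallyOfFiniteType F := by
  refine ⟨fun {V} hV {U} hU e => ?_⟩
  have h := (i ≫ F).finiteType_appLE hV (hU.preimage i) (by
    rw [Scheme.Hom.comp_preimage]; exact i.preimage_mono e)
  refine finiteType_of_comp (F.appLE V U e).hom (i.app U).hom (i.app_surjective U hU)
    (Scheme.Hom.ker_apply i ⟨U, hU⟩ ▸ hfg ⟨U, hU⟩) (Scheme.Hom.ker_apply i ⟨U, hU⟩ ▸ hnil ⟨U, hU⟩) ?_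
  rw [← CommRingCat.hom_comp, Scheme.Hom.app_eq_appLE, Scheme.Hom.appLE_comp_appLE]
  exact h

end Groth.L17.LftSource
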