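import Groth.Agent.L17.CohSections
import Groth.Agent.L17.ToAbRpush
import Groth.Agent.L17.PushQCoh
import Groth.Agent.L17.IdealMulExtend
import Groth.Agent.L17.CohUnion.Extend
import Groth.Agent.L15.Hyper.OmegaVanish
import Groth.Agent.L16.SchSupport
import Groth.Agent.L21.Mod.Locality
import Groth.Agent.L16.CohClosedPush
import Groth.Agent.L19.Approx.Zmt
import Groth.Agent.L29.DCoh.QCohOps
import Mathlib.RingTheory.Ideal.AssociatedPrime.Finiteness
import Mathlib.RingTheory.Regular.IsSMulRegular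
import Mathlib.RingTheory.Support
import Mathlib.LinearAlgebra.Matrix.Charpoly.LinearMap
import Mathlib.AlgebraicGeometry.Noetherian

/-!
# Coherent modules with acyclic push forward along quasi-finite morphisms

An open immersion into an affine Noetherian scheme carrying such a module with full support has closed image.
-/

set_option autoImplicit false
set_option linter.style.haveILetI false
set_option linter.unusedSectionVars false
set_option backward.isDefEq.respectTransparency false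
set_option backward.isDefEq.respectTransparency.types false

universe u

open CategoryTheory CategoryTheory.Limits CategoryTheory.Abelian AlgebraicGeometry TopologicalSpace Opposite
open Groth.L18.Frame (rs)

noncomputable section

namespace Groth.L17.QfAcyclic

section Algebra

variable {R M : Type u} [CommRing R] [AddCommGroup M] [Module R M] [Module.Finite R M]

/-- A prime containing the annihilator and `b` contains every `a` with `a M ⊆ b M`. -/
theorem mem_of_smul_mem_range (p : Ideal R) [p.IsPrime] (hp : Module.annihilator R M ≤ p) {a b : R} (hb : b ∈ p)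
    (h : ∀ m : M, ∃ n : M, a • m = b • n) : a ∈ p := by
  let φ : Module.End R M := a • 1
  obtain ⟨q, hq, -, hc, hq0⟩ := LinearMap.exists_monic_and_natDegree_eq_and_coeff_mem_pow_and_aeval_eq_zero
    R φ (Ideal.span {b}) (by
      rintro _ ⟨m, rfl⟩
      obtain ⟨n, hn⟩ := h m
      show a • m ∈ _
      rw [hn]
      exact Submodule.smul_mem_smul (Ideal.mem_span_singleton_self b) Submodule.mem_top)
  have h1 : q.eval a ∈ p := hp (Module.mem_annihilator.2 fun m => by
    have := LinearMap.congr_fun hq0 m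
    rwa [show φ = algebraMap R (Module.End R M) a from (Algebra.algebraMap_eq_smul_one a).symm,
      Polynomial.aeval_algebraMap_apply_eq_algebraMap_eval] at this)
  rw [Polynomial.eval_eq_sum_range, Finset.sum_range_succ, hq.coeff_natDegree, one_mul] at h1
  refine Ideal.IsPrime.mem_of_pow_mem inferInstance q.natDegree ((Ideal.add_mem_iff_right p ?_).1 h1)
  refine Ideal.sum_mem p fun k hk => Ideal.mul_mem_right _ _ ?_
  have hk' := Finset.mem_range.1 hk
  exact ((Ideal.span_singleton_le_iff_mem p).2 hb) (Ideal.pow_le_self (by omega) (hc k))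

end Algebra

variable {Y : Scheme.{u}}

theorem app_rs {M N : Y.Modules} (φ : M ⟶ N) {U V : Y.Opens} (h : V ≤ U) (s : Γ(M, U)) :
    φ.app V (rs M h s) = rs N h (φ.app U s) :=
  NatTrans.naturality_apply (φ := φ.mapPresheaf) (homOfLE h).op s

/-- The prime of a point of an affine scheme. -/
abbrev pr [IsAffine Y] (y : Y) : PrimeSpectrum Γ(Y, ⊤) := (isAffineOpen_top Y).primeIdealOf ⟨y, trivial⟩

theorem mem_of_pr_le [IsAffine Y] {U : Y.Opens} {x y : Y} (h : (pr x).asIdeal ≤ (pr y).asIdeal) (hy : y ∈ U) :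
    x ∈ U := by
  have hsp : pr x ⤳ pr y := (PrimeSpectrum.le_iff_specializes _ _).1 h
  have h2 := hsp.map (isAffineOpen_top Y).fromSpec.continuous
  rw [(isAffineOpen_top Y).fromSpec_primeIdealOf, (isAffineOpen_top Y).fromSpec_primeIdealOf] at h2
  exact h2.mem_open U.isOpen hy

theorem germ_eq_zero_of_smul [IsAffine Y] {G : Y.Modules} {y : Y} {t : Γ(Y, ⊤)} (ht : t ∉ (pr y).asIdeal)
    {m : Γ(G, ⊤)} (h : t • m = 0) : G.presheaf.germ ⊤ y trivial m = 0 := by
  letI := Y.presheaf.algebra_section_stalk (U := ⊤) ⟨y, trivial⟩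
  haveI := (isAffineOpen_top Y).isLocalization_stalk ⟨y, trivial⟩
  have hu : IsUnit (Y.presheaf.germ ⊤ y trivial t) :=
    IsLocalization.map_units (Y.presheaf.stalk y) (⟨t, ht⟩ : (pr y).asIdeal.primeCompl)
  have h' := congrArg (G.presheaf.germ ⊤ y trivial) h
  rw [Groth.L20.ModStalk.germ_smul, map_zero] at h'
  exact hu.smul_eq_zero.1 h'

variable [IsAffine Y] [IsLocallyNoetherian Y] (U : Y.Opens)

/-- No associated prime of the sections lies outside `U` if restriction to `U` is injective. -/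
theorem mem_of_associatedPrime {G : Y.Modules}
    (hinj : ∀ m : Γ(G, ⊤), rs G (le_top : U ≤ ⊤) m = 0 → m = 0) {P : Ideal Γ(Y, ⊤)}
    (hP : P ∈ associatedPrimes Γ(Y, ⊤) Γ(G, ⊤)) : ∃ x ∈ U, P ≤ (pr x).asIdeal := by
  haveI : IsNoetherianRing Γ(Y, ⊤) := IsLocallyNoetherian.component_noetherian ⟨⊤, isAffineOpen_top Y⟩
  obtain ⟨hPp, m, hm⟩ := isAssociatedPrime_iff.1 hP
  by_contra hne
  push Not at hne
  have hm0 : m = 0 := hinj m (TopCat.Presheaf.section_ext ⟨G.presheaf, Scheme.Modules.isSheaf G⟩ U _ 0 fun y hy => by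
    rw [map_zero]
    refine (Groth.L20.ModStalk.germ_rs G (le_top : U ≤ ⊤) (x := y) hy m).trans ?_
    obtain ⟨t, htP, hty⟩ := SetLike.not_le_iff_exists.1 (hne y hy)
    rw [hm, Submodule.mem_colon_singleton, Submodule.mem_bot] at htP
    exact germ_eq_zero_of_smul hty htP)
  exact hPp.ne_top (by rw [hm, hm0]; exact Ideal.eq_top_iff_one _ |>.2 (by simp [Submodule.mem_colon_singleton]))

/-- The conclusion by induction on annihilators. -/
theorem mem_of_le_annihilator :
    ∀ (I : Ideal Γ(Y, ⊤)) (G : Y.Modules), Module.annihilator Γ(Y, ⊤) Γ(G, ⊤) = I → Coh.IsQCoh G →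
      Module.Finite Γ(Y, ⊤) Γ(G, ⊤) →
      (∀ q : ℕ, Subsingleton (Groth.L17.HU (X := Y.toTopCat) U (Coh.toAb G) (q + 1))) →
      Function.Bijective (fun m : Γ(G, ⊤) => rs G (le_top : U ≤ ⊤) m) →
      ∀ y : Y, I ≤ (pr y).asIdeal → y ∈ U := by
  haveI : IsNoetherianRing Γ(Y, ⊤) := IsLocallyNoetherian.component_noetherian ⟨⊤, isAffineOpen_top Y⟩
  intro I
  induction I using WellFoundedGT.induction with
  | _ I ih =>
  rintro G rfl hG hfin hvan hbij y hy
  haveI := hG
  haveI := hfin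
  by_contra hyU
  have hinj : ∀ m : Γ(G, ⊤), rs G (le_top : U ≤ ⊤) m = 0 → m = 0 := fun m hm =>
    hbij.1 (hm.trans (map_zero _).symm)
  let M := Γ(G, ⊤)
  have hAfin := associatedPrimes.finite Γ(Y, ⊤) M
  obtain ⟨b, hbp, hbP⟩ : ∃ b ∈ (pr y).asIdeal, ∀ P ∈ associatedPrimes Γ(Y, ⊤) M, b ∉ P := by
    by_contra hcon
    push Not at hcon
    have hsub : ((pr y).asIdeal : Set Γ(Y, ⊤)) ⊆ ⋃ P ∈ (hAfin.toFinset : Set (Ideal Γ(Y, ⊤))), (P : Set Γ(Y, ⊤)) :=
      fun b hb => by
        obtain ⟨P, hP, hbP⟩ := hcon b hb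
        exact Set.mem_iUnion₂.2 ⟨P, by simpa using hP, hbP⟩
    obtain ⟨P, hP, hle⟩ := (Ideal.subset_union_prime ⊥ ⊥ fun P hP _ _ =>
      ((hAfin.mem_toFinset.1 hP : IsAssociatedPrime P M)).isPrime).1 hsub
    obtain ⟨x, hx, hPx⟩ := mem_of_associatedPrime U hinj (hAfin.mem_toFinset.1 hP)
    exact hyU (mem_of_pr_le (hle.trans hPx) hx)
  have hreg : IsSMulRegular M b := by
    by_contra hnr
    have hmem : b ∈ ⋃ p ∈ associatedPrimes Γ(Y, ⊤) M, (p : Set Γ(Y, ⊤)) := by
      rw [biUnion_associatedPrimes_eq_compl_regular]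
      exact hnr
    obtain ⟨P, hP, hbP'⟩ := Set.mem_iUnion₂.1 hmem
    exact hbP P hP hbP'
  let β : G ⟶ G := (Groth.L17.CohSections.smulM b).app G
  have hβ : ∀ (V : Y.Opens) (s : Γ(G, V)), β.app V s = Groth.L18.Frame.ro (le_top : V ≤ ⊤) b • s := fun V s =>
    congr($(Groth.L17.CohSections.toAb_smulM b G).hom.app (op V) s)
  have hβtop : ∀ m : Γ(G, ⊤), β.app ⊤ m = b • m := fun m => by rw [hβ, Groth.L18.Frame.ro_self]
  haveI : Mono β := by
    refine Preadditive.mono_of_kernel_zero (IsZero.eq_of_src ?_ _ _)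
    haveI : Coh.IsQCoh (kernel β) := Groth.L18.IdealModule.isQCoh_kernel β
    refine Groth.L15.Hyper.isZero_of_subsingleton_sections _ fun x => ⟨⊤, isAffineOpen_top Y, trivial, ?_⟩
    obtain ⟨hi, he⟩ := Groth.L17.IdealMulSec.kernel_sections β ⊤
    refine ⟨fun s t => hi (hreg ?_)⟩
    show b • _ = b • _
    rw [← hβtop, ← hβtop, (he _).2 ⟨s, rfl⟩, (he _).2 ⟨t, rfl⟩]
  let Q := cokernel β
  haveI hQ : Coh.IsQCoh Q := Groth.L29.DC.isQCoh_cokernel' β hG hG
  have hπs : Function.Surjective ((cokernel.π β).app ⊤) :=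
    Groth.L16.AffineBC.surjective_app_of_epi (cokernel.π β) (isAffineOpen_top Y)
  have hπ0 : ∀ g : Γ(G, ⊤), (cokernel.π β).app ⊤ g = 0 → ∃ n, g = b • n := fun g hg => by
    obtain ⟨n, hn⟩ := Groth.L17.IdealMulExtend.mem_range_of_cokernel β (isAffineOpen_top Y) g hg
    exact ⟨n, hn.symm.trans (hβtop n)⟩
  have hπb : ∀ g : Γ(G, ⊤), (cokernel.π β).app ⊤ (b • g) = 0 := fun g => by
    rw [← hβtop]
    exact congr(($(cokernel.condition β)).app ⊤ g)
  have hle : Module.annihilator Γ(Y, ⊤) Γ(G, ⊤) < Module.annihilator Γ(Y, ⊤) Γ(Q, ⊤) := by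
    refine lt_of_le_of_ne (LinearMap.annihilator_le_of_surjective
      (Groth.L17.IdealMulExtend.lapp (cokernel.π β) ⊤) hπs) fun heq => ?_
    have hb' : b ∈ Module.annihilator Γ(Y, ⊤) Γ(G, ⊤) := by
      rw [heq, Module.mem_annihilator]
      intro q
      obtain ⟨g, rfl⟩ := hπs q
      exact (Scheme.Modules.Hom.app_smul _ b g).symm.trans (hπb g)
    haveI : Subsingleton M := ⟨fun s t => hreg (by
      show b • s = b • t
      rw [Module.mem_annihilator.1 hb', Module.mem_annihilator.1 hb'])⟩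
    exact (pr y).isPrime.ne_top (top_le_iff.1 ((Module.annihilator_eq_top_iff.2 ‹_›).ge.trans hy))
  have hSE : (ShortComplex.mk β (cokernel.π β) (cokernel.condition β)).ShortExact :=
    { exact := ShortComplex.exact_of_g_is_cokernel _ (cokernelIsCokernel β) }
  have hS := hSE.map_of_exact (Groth.L17.toAbShF Y)
  haveI : Subsingleton (Ext (Groth.L10.SiteCoh.fs (Opens.grothendieckTopology Y) U)
      ((ShortComplex.mk β (cokernel.π β) (cokernel.condition β)).map (Groth.L17.toAbShF Y)).X₁ 1) := hvan 0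
  haveI : Module.Finite Γ(Y, ⊤) Γ(Q, ⊤) :=
    Module.Finite.of_surjective (Groth.L17.IdealMulExtend.lapp (cokernel.π β) ⊤) hπs
  refine hyU (ih _ hle Q rfl hQ inferInstance (fun q => ⟨fun x x' => ?_⟩) ⟨?_, fun t => ?_⟩ y ?_)
  · rw [← sub_eq_zero]
    obtain ⟨z, hz⟩ := Ext.covariant_sequence_exact₃ _ hS (x - x') (n₁ := q + 1 + 1) rfl
      (@Subsingleton.elim _ (hvan (q + 1)) _ _)
    rw [← hz, @Subsingleton.elim _ (hvan q) z 0, Ext.zero_comp]
  · refine (injective_iff_map_eq_zero (AddMonoidHom.mk' (fun m : Γ(Q, ⊤) => rs Q (le_top : U ≤ ⊤) m)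
      fun _ _ => map_add _ _ _)).2 fun q hq => ?_
    obtain ⟨g, rfl⟩ := hπs q
    have hq' : (cokernel.π β).app U (rs G (le_top : U ≤ ⊤) g) = 0 :=
      (app_rs _ _ g).trans hq
    obtain ⟨t, ht⟩ := (Groth.L17.CohUnion.mem_range_iff β (rs G (le_top : U ≤ ⊤) g)).1 hq'
    obtain ⟨n, rfl⟩ := hbij.2 t
    have hgn : g = b • n := hbij.1 (ht.symm.trans (by
      rw [← hβtop]; exact app_rs _ _ n))
    rw [hgn]
    exact hπb n
  · obtain ⟨s, rfl⟩ := Groth.L10.SiteCoh.surjective_sections_of_subsingleton hS U t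
    obtain ⟨m, rfl⟩ := hbij.2 s
    exact ⟨(cokernel.π β).app ⊤ m, (app_rs _ _ m).symm⟩
  · intro a ha
    refine mem_of_smul_mem_range (pr y).asIdeal hy hbp fun m => hπ0 _ ?_
    rw [Scheme.Modules.Hom.app_smul]
    exact Module.mem_annihilator.1 ha _

omit [IsAffine Y] [IsLocallyNoetherian Y] in
theorem nontrivial_stalk_push {V : Scheme.{u}} (j : V ⟶ Y) [IsOpenImmersion j] (K : V.Modules) (v : V)
    (h : ¬ Subsingleton (K.presheaf.stalk v)) :
    ¬ Subsingleton (((Scheme.Modules.pushforward j).obj K).presheaf.stalk (j v)) := fun hsub => h ⟨fun a c => by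
  have key : ∀ a : K.presheaf.stalk v, a = 0 := fun a => by
    obtain ⟨O, hO, s, rfl⟩ := TopCat.Presheaf.exists_germ_eq K.presheaf a
    have e : j ⁻¹ᵁ (j ''ᵁ O) = O := j.preimage_image_eq O
    let s' : Γ((Scheme.Modules.pushforward j).obj K, j ''ᵁ O) := rs K e.le s
    obtain ⟨W, hW, i₁, i₂, hWs⟩ := TopCat.Presheaf.germ_eq ((Scheme.Modules.pushforward j).obj K).presheaf (j v)
      (show j v ∈ j ''ᵁ O from ⟨v, hO, rfl⟩) (show j v ∈ j ''ᵁ O from ⟨v, hO, rfl⟩) s' 0 (@Subsingleton.elim _ hsub _ _)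
    have h0 : rs K ((j.preimage_mono i₁.le).trans e.le) s = 0 := by
      rw [← Groth.L18.Frame.rs_rs K e.le (j.preimage_mono i₁.le) s]
      exact hWs.trans (map_zero _)
    rw [← Groth.L20.ModStalk.germ_rs K ((j.preimage_mono i₁.le).trans e.le) (x := v) hW s, h0, map_zero]
  rw [key a, key c]⟩

/-- Over an affine Noetherian base the open immersion of the finite completion has closed image. -/
theorem isFinite_of_affine {V X : Scheme.{u}} [IsAffine X] [IsLocallyNoetherian X] (f : V ⟶ X)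
    [LocallyQuasiFinite f] [LocallyOfFiniteType f] [QuasiCompact f] [IsSeparated f]
    [HasInjectiveResolutions V.Modules] (K : V.Modules) [Coh.IsQCoh K] (hsupp : CohB1.support K = Set.univ)
    (hfin : Module.Finite Γ(X, ⊤) Γ((Scheme.Modules.pushforward f).obj K, ⊤))
    (hvan : ∀ q : ℕ, 0 < q → IsZero ((Coh.Rpush f q).obj K)) : IsFinite f := by
  obtain ⟨T, j, π, hj, hjq, hπ, hf⟩ := Groth.L19.Approx.exists_openImmersion_finite f
  haveI := hj; haveI := hjq; haveI := hπ
  haveI : IsAffine T := isAffine_of_isAffineHom π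
  haveI : IsLocallyNoetherian T := LocallyOfFiniteType.isLocallyNoetherian π
  haveI : IsNoetherianRing Γ(T, ⊤) := IsLocallyNoetherian.component_noetherian ⟨⊤, isAffineOpen_top T⟩
  let G := (Scheme.Modules.pushforward j).obj K
  haveI hG : Coh.IsQCoh G := Groth.L16.QcqsPush.isQCoh_push K j
  have hR : ∀ q : ℕ, IsZero ((Coh.Rpush j (q + 1)).obj K) := fun q => by
    haveI : Coh.IsQCoh ((Coh.Rpush j (q + 1)).obj K) := Groth.L17.PushQCoh.isQCoh_Rpush j K _
    refine Groth.L15.Hyper.isZero_of_subsingleton_sections _ fun x => ⟨⊤, isAffineOpen_top T, trivial, ?_⟩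
    haveI : Subsingleton ((Coh.toAb ((Coh.Rpush f (q + 1)).obj K)).obj.obj (op ⊤)) :=
      AddCommGrpCat.subsingleton_of_isZero (((sheafToPresheaf _ _).map_isZero
        ((Groth.L17.toAbShF X).map_isZero (hvan (q + 1) (by omega)))).obj _)
    haveI : Subsingleton (Ext (Groth.L10.SiteCoh.fs (Opens.grothendieckTopology V) (j ⁻¹ᵁ ⊤))
        (Coh.toAb K) (q + 1)) :=
      (Groth.L17.CohSections.equiv f (isAffineOpen_top X) K (q + 1)).toEquiv.subsingleton
    exact (Groth.L17.CohSections.equiv j (isAffineOpen_top T) K (q + 1)).symm.toEquiv.subsingleton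
  have hloc : Groth.L10.SiteCoh.LocAcyclic (Opens.grothendieckTopology T) (Opens.map j.base) (Coh.toAb K) :=
    (Groth.L10.SiteCoh.isZero_Rpush_succ_iff _ (Opens.map j.base) (Coh.toAb K)).1 fun q => by
      obtain ⟨e⟩ := Groth.L17.nonempty_toAb_Rpush_iso j K (q + 1)
      exact ((Groth.L17.toAbShF T).map_isZero (hR q)).of_iso e.symm
  let U := j.opensRange
  have eU : j ⁻¹ᵁ U = ⊤ := top_le_iff.1 fun x _ => ⟨x, rfl⟩
  have hvan' : ∀ q : ℕ, Subsingleton (Groth.L17.HU (X := T.toTopCat) U (Coh.toAb G) (q + 1)) := fun q => by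
    obtain ⟨e⟩ := Groth.L10.SiteCoh.nonempty_push_compare (Opens.grothendieckTopology T.toTopCat) (Opens.map j.base) U
      (fun I m _ => Groth.L10.TopCoh.subsingleton_ext_of_flasque _
        (@Groth.L10.TopCoh.isFlasque_of_injective _ _ (Groth.L10.TopCoh.push_injective j.base I)) U m)
      (Coh.toAb K) hloc (q + 1)
    haveI : Subsingleton (Ext (Groth.L10.SiteCoh.fs (Opens.grothendieckTopology V) (j ⁻¹ᵁ U))
        (Coh.toAb K) (q + 1)) := by
      rw [eU]
      haveI : Subsingleton ((Coh.toAb ((Coh.Rpush f (q + 1)).obj K)).obj.obj (op ⊤)) :=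
        AddCommGrpCat.subsingleton_of_isZero (((sheafToPresheaf _ _).map_isZero
          ((Groth.L17.toAbShF X).map_isZero (hvan (q + 1) (by omega)))).obj _)
      exact (Groth.L17.CohSections.equiv f (isAffineOpen_top X) K (q + 1)).toEquiv.subsingleton
    exact e.symm.toEquiv.subsingleton
  have hbij : Function.Bijective (fun m : Γ(G, ⊤) => rs G (le_top : U ≤ ⊤) m) := by
    show Function.Bijective (K.presheaf.map (homOfLE (j.preimage_mono (le_top : U ≤ ⊤))).op)
    haveI : IsIso (homOfLE (j.preimage_mono (le_top : U ≤ ⊤))) :=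
      ⟨homOfLE (by rw [eU]; exact le_top), Subsingleton.elim _ _, Subsingleton.elim _ _⟩
    exact ConcreteCategory.bijective_of_isIso _
  haveI hGfin : Module.Finite Γ(T, ⊤) Γ(G, ⊤) := by
    classical
    obtain ⟨S, hS⟩ := hfin.fg_top
    let S' : Finset Γ(G, ⊤) := S.image fun s => (show Γ(G, ⊤) from s)
    refine ⟨⟨S', top_le_iff.1 fun m _ => ?_⟩⟩
    have hm : (show Γ((Scheme.Modules.pushforward f).obj K, ⊤) from m) ∈ Submodule.span Γ(X, ⊤) (S : Set _) :=
      hS.ge Submodule.mem_top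
    have key : ∀ z ∈ Submodule.span Γ(X, ⊤) (S : Set Γ((Scheme.Modules.pushforward f).obj K, ⊤)),
        (show Γ(G, ⊤) from z) ∈ Submodule.span Γ(T, ⊤) (S' : Set Γ(G, ⊤)) := by
      intro z hz
      induction hz using Submodule.span_induction with
      | mem z hz => exact Submodule.subset_span (Finset.mem_coe.2 (Finset.mem_image.2 ⟨z, hz, rfl⟩))
      | zero => exact zero_mem _
      | add a c _ _ ha hc => exact add_mem ha hc
      | smul a z _ hz =>
        have e : (show Γ(G, ⊤) from a • z) = π.appTop a • (show Γ(G, ⊤) from z) := by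
          subst hf
          rfl
        rw [e]
        exact Submodule.smul_mem _ _ hz
    exact key _ hm
  have hcl : IsClosed (Set.range j) := by
    have heq : Set.range j = pr ⁻¹' PrimeSpectrum.zeroLocus (Module.annihilator Γ(T, ⊤) Γ(G, ⊤) : Set Γ(T, ⊤)) := by
      refine subset_antisymm ?_ fun y hy => mem_of_le_annihilator U _ G rfl hG hGfin hvan' hbij y hy
      rintro _ ⟨v, rfl⟩ a ha
      by_contra hna
      refine nontrivial_stalk_push j K v ((Set.eq_univ_iff_forall.1 hsupp) v) ⟨fun z z' => ?_⟩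
      letI := Groth.L20.ModStalk.stalkModule G (V := ⊤) (x := j v) trivial
      haveI := Groth.L20.ModStalk.isLocalizedModule_germ G (isAffineOpen_top T) (x := j v) trivial
      have hz : ∀ z : G.presheaf.stalk (j v), z = 0 := fun z => by
        obtain ⟨⟨m, t⟩, rfl⟩ := IsLocalizedModule.mk'_surjective (pr (j v)).asIdeal.primeCompl
          (Groth.L20.ModStalk.germₗ G (V := ⊤) (x := j v) trivial) z
        rw [Function.uncurry_apply_pair, IsLocalizedModule.mk'_eq_zero]
        exact germ_eq_zero_of_smul hna (Module.mem_annihilator.1 ha m)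
      rw [hz z, hz z']
    rw [heq]
    refine (PrimeSpectrum.isClosed_zeroLocus _).preimage ?_
    exact (isAffineOpen_top T).isoSpec.hom.continuous.comp (continuous_id.subtype_mk _)
  haveI : IsClosedImmersion j := IsClosedImmersion.of_isPreimmersion j hcl
  rw [← hf]
  infer_instance

theorem finite_sections_restrict {V X : Scheme.{u}} [IsLocallyNoetherian X] (f : V ⟶ X) (U : X.Opens)
    [IsAffine (U : Scheme.{u})]
    (K : V.Modules) (hpush : Coh.IsCoh ((Scheme.Modules.pushforward f).obj K))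
    (r : ((Scheme.Modules.pushforward f).obj K).restrict U.ι ≅
      (Scheme.Modules.pushforward (f ∣_ U)).obj (K.restrict (f ⁻¹ᵁ U).ι)) :
    Module.Finite Γ((U : Scheme.{u}), ⊤)
      Γ((Scheme.Modules.pushforward (f ∣_ U)).obj (K.restrict (f ⁻¹ᵁ U).ι), ⊤) := by
  have h1 : Coh.IsCoh (((Scheme.Modules.pushforward f).obj K).restrict U.ι) :=
    ⟨haveI := hpush.1; Scheme.Modules.isQuasicoherent_restrictFunctor _ _,
      Groth.L16.CohKernel.isFT_restrict _ _ hpush.2⟩
  exact Groth.L16.SchSupport.finite_sections _ (Groth.L16.CohSupport.isCoh_of_iso r h1)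
    ⟨⊤, isAffineOpen_top _⟩

/-- Quasi-finite separated morphisms with an acyclic coherent module of full support are finite. -/
theorem isFinite_of_acyclic {V X : Scheme.{u}} [IsNoetherian X] (f : V ⟶ X)
    [LocallyQuasiFinite f] [LocallyOfFiniteType f] [QuasiCompact f] [IsSeparated f]
    [HasInjectiveResolutions V.Modules] (K : V.Modules) (hK : Coh.IsCoh K) (hsupp : CohB1.support K = Set.univ)
    (hpush : Coh.IsCoh ((Coh.push f).obj K))
    (hvan : ∀ q : ℕ, 0 < q → IsZero ((Coh.Rpush f q).obj K)) : IsFinite f := by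
  refine IsZariskiLocalAtTarget.of_iSup_eq_top (P := @IsFinite) (fun W : X.affineOpens => W.1)
    (iSup_affineOpens_eq_top X) fun W => ?_
  haveI : IsAffine (W.1 : Scheme.{u}) := W.2
  haveI := Groth.L17.PushQCoh.hasInjectiveResolutions (f ⁻¹ᵁ W.1 : Scheme.{u})
  haveI : Coh.IsQCoh K := hK.1
  haveI : Coh.IsQCoh (K.restrict (f ⁻¹ᵁ W.1).ι) := Scheme.Modules.isQuasicoherent_restrictFunctor _ _
  have w : (f ∣_ W.1) ≫ W.1.ι = (f ⁻¹ᵁ W.1).ι ≫ f := morphismRestrict_ι f W.1
  have hr : f ⁻¹ᵁ W.1.ι.opensRange ≤ (f ⁻¹ᵁ W.1).ι.opensRange := by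
    rw [Scheme.Opens.opensRange_ι, Scheme.Opens.opensRange_ι]
  let r := (Groth.L17.PushQCoh.pushRestrictIso f W.1.ι (f ⁻¹ᵁ W.1).ι (f ∣_ W.1) hr w).app K
  refine isFinite_of_affine (f ∣_ W.1) (K.restrict (f ⁻¹ᵁ W.1).ι) ?_
    (finite_sections_restrict f W.1 K hpush r) fun q hq => ?_
  · rw [Groth.L21.Mod.support_restrict, hsupp, Set.preimage_univ]
  · obtain ⟨e⟩ := Groth.L17.PushQCoh.nonempty_Rpush_restrict_iso f W.1.ι (f ⁻¹ᵁ W.1).ι (f ∣_ W.1) hr w K q
    exact (((Scheme.Modules.restrictFunctor W.1.ι).map_isZero (hvan q hq))).of_iso e.symm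

end Groth.L17.QfAcyclic
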