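import Groth.Agent.L17.SectSupp

/-! Sections with support and direct images. -/

set_option autoImplicit false

universe u

open CategoryTheory CategoryTheory.Limits Opposite TopologicalSpace

namespace Groth.L17.SectSupp

variable {X Y : TopCat.{u}} (f : X ⟶ Y) (V : Opens Y)

/-- `Γ_{f⁻¹Z}(X, -) = Γ_Z(Y, f_* -)`. -/
theorem exists_gammaZPushIso : Nonempty
    (CohTop.push f ⋙ LocCohZ.gammaZF V ≅ LocCohZ.gammaZF ((Opens.map f).obj V)) := by
  let P := CohTop.push f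
  have hex : ∀ (F : CohTop.Ab X) (s : ((LocCohZ.sectSuppF V).obj (P.obj F)).obj.obj (op ⊤)),
      ∃ t, (incl ((Opens.map f).obj V) F).hom.app (op ⊤) t =
        (incl V (P.obj F)).hom.app (op ⊤) s := fun F s =>
    exists_incl_app_eq _ F ⊤ _ (res_zero (F := F) (A := ⊤ ⊓ (Opens.map f).obj V)
      (B := (Opens.map f).obj (⊤ ⊓ V)) (C := ⊤) (fun x hx => ⟨trivial, hx.2⟩) le_top _ _
      (incl_app_mem V (P.obj F) ⊤ s))
  choose φ hφ using hex
  have hadd : ∀ F a b, φ F (a + b) = φ F a + φ F b := fun F a b =>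
    incl_app_injective _ F ⊤ (by rw [map_add, hφ, hφ, hφ, map_add]; rfl)
  have hbij : ∀ F, Function.Bijective (φ F) := fun F => by
    refine ⟨fun a b h => incl_app_injective V (P.obj F) ⊤ ?_, fun t => ?_⟩
    · rw [← hφ, ← hφ, h]
    · obtain ⟨s, hs⟩ := exists_incl_app_eq V (P.obj F) ⊤
        ((incl ((Opens.map f).obj V) F).hom.app (op ⊤) t)
        (res_zero (F := F) (A := (Opens.map f).obj (⊤ ⊓ V))
          (B := ⊤ ⊓ (Opens.map f).obj V) (C := ⊤) (fun x hx => ⟨trivial, hx.2⟩) inf_le_left _ _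
          (incl_app_mem _ F ⊤ t))
      exact ⟨s, incl_app_injective _ F ⊤ ((hφ F s).trans hs)⟩
  let e : ∀ F : CohTop.Ab X, ((LocCohZ.sectSuppF V).obj (P.obj F)).obj.obj (op ⊤) ≃+
      ((LocCohZ.sectSuppF ((Opens.map f).obj V)).obj F).obj.obj (op ⊤) :=
    fun F => AddEquiv.ofBijective (AddMonoidHom.mk' (φ F) (hadd F)) (hbij F)
  refine ⟨NatIso.ofComponents (F := CohTop.push f ⋙ LocCohZ.gammaZF V)
    (G := LocCohZ.gammaZF ((Opens.map f).obj V)) (fun F => AddEquiv.toAddCommGrpIso (e F))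
    fun {F G} g => ?_⟩
  ext (s : ((LocCohZ.sectSuppF V).obj (P.obj F)).obj.obj (op ⊤))
  apply incl_app_injective _ G ⊤
  change (incl _ G).hom.app (op ⊤) (φ G (((LocCohZ.sectSuppF V).map (P.map g)).hom.app (op ⊤) s)) =
    (incl _ G).hom.app (op ⊤)
      (((LocCohZ.sectSuppF ((Opens.map f).obj V)).map g).hom.app (op ⊤) (φ F s))
  refine (hφ G _).trans ((congrArg (fun a : (LocCohZ.sectSuppF V).obj (P.obj F) ⟶ P.obj G =>
    (a.hom.app (op ⊤)) s) (incl_map V (P.map g))).trans (Eq.trans ?_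
      (congrArg (fun a : (LocCohZ.sectSuppF ((Opens.map f).obj V)).obj F ⟶ G =>
        (a.hom.app (op ⊤)) (φ F s)) (incl_map _ g)).symm))
  change g.hom.app (op ⊤) ((incl V (P.obj F)).hom.app (op ⊤) s) =
    g.hom.app (op ⊤) ((incl _ F).hom.app (op ⊤) (φ F s))
  rw [hφ]

end Groth.L17.SectSupp
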