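import Groth.Agent.L17.LftNil
import Mathlib.AlgebraicGeometry.Morphisms.SmoothFiber
import Mathlib.AlgebraicGeometry.Noetherian

/-!
Smoothness of a flat morphism is detected on a thickening.
-/

set_option autoImplicit false
set_option linter.style.haveILetI false
set_option backward.isDefEq.respectTransparency false
universe u

open CategoryTheory CategoryTheory.Limits AlgebraicGeometry TopologicalSpace

namespace Groth.L17.LftNil

theorem smooth_of_isPullback {X Y X₀ Y₀ : Scheme.{u}} [IsLocallyNoetherian Y] {j : X₀ ⟶ X} {f₀ : X₀ ⟶ Y₀}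
    {f : X ⟶ Y} {i : Y₀ ⟶ Y} [IsClosedImmersion i] (hi : Function.Surjective i.base)
    (h : IsPullback j f₀ f i) [Smooth f₀] [Flat f] : Smooth f := by
  haveI := lft_of_isPullback hi h
  haveI : LocallyOfFinitePresentation f := LocallyOfFinitePresentation.iff_locallyOfFiniteType.2 inferInstance
  refine Smooth.of_smooth_fiberToSpecResidueField f fun y => ?_
  obtain ⟨y₀, rfl⟩ := hi y
  haveI : IsIso (i.residueFieldMap y₀) := by
    rw [ConcreteCategory.isIso_iff_bijective]
    refine ⟨(i.residueFieldMap y₀).hom.injective, fun b => ?_⟩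
    obtain ⟨b, rfl⟩ := Y₀.residue_surjective y₀ b
    obtain ⟨a, rfl⟩ := i.stalkMap_surjective y₀ b
    exact ⟨Y.residue _ a, congr($(Scheme.residue_residueFieldMap i y₀) a)⟩
  have sq := isPullback_fiberToSpecResidueField_of_isPullback h y₀
  haveI := sq.isIso_fst_of_isIso
  haveI : Smooth (f₀.fiberToSpecResidueField y₀) := MorphismProperty.pullback_snd (P := @Smooth) f₀ (Y₀.fromSpecResidueField y₀) ‹Smooth f₀›
  exact (MorphismProperty.arrow_mk_iso_iff @Smooth
    (Arrow.isoMk (asIso (pullback.map _ _ _ _ j (Spec.map (i.residueFieldMap y₀)) i h.w.symm _))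
      (asIso (Spec.map (i.residueFieldMap y₀))) sq.w)).1 ‹Smooth (f₀.fiberToSpecResidueField y₀)›

end Groth.L17.LftNil
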