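import Groth.Prelude.Def_SpSeq
import Mathlib.Algebra.Homology.SpectralObject.FirstPage
import Mathlib.CategoryTheory.Subobject.Limits
import Mathlib.Algebra.Homology.SpectralObject.EpiMono
import Mathlib.Order.Interval.Finset.Defs
import Mathlib.Data.Int.Interval

/-!
Convergence of the `E₂` spectral sequence of a spectral object indexed by `EInt`: if in each degree
the pieces near `⊥` and near `⊤` vanish, the spectral sequence abuts to `H^n(⊥ ≤ ⊤)` with finite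
filtrations.
-/

set_option autoImplicit false

universe v u

open CategoryTheory CategoryTheory.Limits CategoryTheory.Abelian ComposableArrows

namespace Groth.L17.SpecObj

variable {C : Type u} [Category.{v} C] [Abelian C] (Y : SpectralObject C EInt)

/-- `H^n` of the interval `[i, j)`. -/
noncomputable abbrev Hij (n : ℤ) {i j : EInt} (h : i ≤ j) : C := (Y.H n).obj (mk₁ (homOfLE h))

/-- In each degree the pieces `[⊥, b)`, `b ≪ 0`, vanish. -/
def IsLowBounded : Prop :=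
  ∀ n : ℤ, ∃ a : ℤ, ∀ b : ℤ, b ≤ a → IsZero (Hij Y n (bot_le : ⊥ ≤ (b : EInt)))

/-- In each degree the pieces `[b, ⊤)`, `b ≫ 0`, vanish. -/
def IsHighBounded : Prop :=
  ∀ n : ℤ, ∃ a : ℤ, ∀ b : ℤ, a ≤ b → IsZero (Hij Y n (le_top : (b : EInt) ≤ ⊤))

variable {Y}

theorem imgCongr {A B : C} {f g : A ⟶ B} (h : f = g) : imageSubobject f = imageSubobject g := by
  subst h; rfl

theorem coe_le_succ (k : ℤ) : (k : EInt) ≤ ((k + 1 : ℤ) : EInt) := by simp

theorem isZero_low_step (hl : IsLowBounded Y) (n : ℤ) :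
    ∃ a : ℤ, ∀ k : ℤ, k < a → IsZero (Hij Y n (coe_le_succ k)) := by
  obtain ⟨a, ha⟩ := hl n
  obtain ⟨b, hb⟩ := hl (n + 1)
  refine ⟨min a b, fun k hk => ?_⟩
  refine ShortComplex.Exact.isZero_of_both_zeros
    (Y.exact₃ (homOfLE (bot_le : ⊥ ≤ (k : EInt))) (homOfLE (coe_le_succ k)) _ rfl n (n + 1))
    ?_ ?_
  · exact (ha (k + 1) (by omega)).eq_of_src _ _
  · exact (hb k (by omega)).eq_of_tgt _ _

theorem isZero_high_step (hh : IsHighBounded Y) (n : ℤ) :
    ∃ a : ℤ, ∀ k : ℤ, a ≤ k → IsZero (Hij Y n (coe_le_succ k)) := by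
  obtain ⟨a, ha⟩ := hh (n - 1)
  obtain ⟨b, hb⟩ := hh n
  refine ⟨max a b, fun k hk => ?_⟩
  refine ShortComplex.Exact.isZero_of_both_zeros
    (Y.exact₁ (homOfLE (coe_le_succ k)) (homOfLE (le_top : ((k + 1 : ℤ) : EInt) ≤ ⊤)) _ rfl (n - 1) n
      (by omega)) ?_ ?_
  · exact (ha (k + 1) (by omega)).eq_of_src _ _
  · exact (hb k (by omega)).eq_of_tgt _ _

/-- The position term of the second page. -/
noncomputable def pageTwoIso (p q : ℤ) :
    (Y.E₂SpectralSequence.page 2 le_rfl).X (p, q) ≅ Hij Y (p + q) (coe_le_succ q) :=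
  Y.spectralSequenceFirstPageXIso SpectralObject.coreE₂Cohomological (p, q)
    (q : EInt) ((q + 1 : ℤ) : EInt) rfl rfl (p + q) rfl

theorem isBounded (hl : IsLowBounded Y) (hh : IsHighBounded Y) :
    SpSeq.IsBounded Y.E₂SpectralSequence := by
  intro n
  obtain ⟨a, ha⟩ := isZero_low_step hl n
  obtain ⟨b, hb⟩ := isZero_high_step hh n
  refine (Set.finite_Icc (n - b) (n - a)).subset fun p hp => ?_
  by_contra h
  refine hp ?_
  simp only [Set.mem_Icc, not_and_or, not_le] at h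
  have e := pageTwoIso (Y := Y) p (n - p)
  rw [show p + (n - p) = n by omega] at e
  refine IsZero.of_iso ?_ e
  rcases h with h | h
  · exact hb _ (by omega)
  · exact ha _ (by omega)

/-- A page from which `(p, q)` is stationary. -/
theorem exists_rk (hl : IsLowBounded Y) (hh : IsHighBounded Y) (pq : ℤ × ℤ) :
    ∃ r : ℤ, SpSeq.StationaryAt Y.E₂SpectralSequence pq r ∧
      (∀ b : ℤ, b ≤ pq.2 - r + 2 →
        IsZero (Hij Y (pq.1 + pq.2 + 1) (bot_le : ⊥ ≤ (b : EInt)))) ∧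
      (∀ b : ℤ, pq.2 + r - 1 ≤ b →
        IsZero (Hij Y (pq.1 + pq.2 - 1) (le_top : (b : EInt) ≤ ⊤))) := by
  obtain ⟨a, ha⟩ := hl (pq.1 + pq.2 + 1)
  obtain ⟨b, hb⟩ := hh (pq.1 + pq.2 - 1)
  obtain ⟨a', ha'⟩ := isZero_low_step hl (pq.1 + pq.2 + 1)
  obtain ⟨b', hb'⟩ := isZero_high_step hh (pq.1 + pq.2 - 1)
  refine ⟨max (max 2 (pq.2 - a + 2)) (max (max (b - pq.2 + 1) (pq.2 - a' + 2)) (b' - pq.2 + 1)),
    ⟨by omega, fun r' h₀ hr' => ⟨?_, ?_⟩⟩, fun c hc => ha c (by omega),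
    fun c hc => hb c (by omega)⟩
  · refine IsZero.eq_of_src ?_ _ _
    refine SpectralObject.isZero_spectralSequence_page_X_of_isZero_H Y _ r' h₀ _
      (pq.1 + pq.2 - 1) (by simp; omega) ((pq.2 + r' - 1 : ℤ) : EInt)
      ((pq.2 + r' - 1 + 1 : ℤ) : EInt) (by simp; congr 1; omega) (by simp; congr 1; omega) ?_
    exact hb' _ (by omega)
  · refine IsZero.eq_of_tgt ?_ _ _
    refine SpectralObject.isZero_spectralSequence_page_X_of_isZero_H Y _ r' h₀ _
      (pq.1 + pq.2 + 1) (by simp; omega) ((pq.2 - r' + 1 : ℤ) : EInt)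
      ((pq.2 - r' + 1 + 1 : ℤ) : EInt) (by simp; congr 1; omega) (by simp; congr 1; omega) ?_
    exact ha' _ (by omega)

section Filtration

variable {H : ℤ → C} (η : ∀ n, H n ≅ Hij Y n (bot_le : ⊥ ≤ (⊤ : EInt)))

/-- The map `H^n[⊥, j) ⟶ H n`. -/
noncomputable def toH (n : ℤ) (j : EInt) : Hij Y n (bot_le : ⊥ ≤ j) ⟶ H n :=
  (Y.H n).map (homMk₁ (𝟙 _) (homOfLE le_top) (Subsingleton.elim _ _) :
      mk₁ (homOfLE (bot_le : ⊥ ≤ j)) ⟶ mk₁ (homOfLE (bot_le : ⊥ ≤ (⊤ : EInt)))) ≫ (η n).inv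

/-- The image of `H^n[⊥, j)` in `H n`. -/
noncomputable def img (n : ℤ) (j : EInt) : Subobject (H n) := imageSubobject (toH η n j)

theorem toH_fac (n : ℤ) {j k : EInt} (h : j ≤ k) :
    (Y.H n).map (twoδ₂Toδ₁ (homOfLE (bot_le : ⊥ ≤ j)) (homOfLE h) (homOfLE bot_le) rfl) ≫
      toH η n k = toH η n j := by
  rw [toH, toH, ← Category.assoc, ← Functor.map_comp]
  congr 2

theorem img_mono (n : ℤ) {j k : EInt} (h : j ≤ k) : img η n j ≤ img η n k := by
  exact le_of_eq_of_le (imgCongr (toH_fac η n h).symm) (imageSubobject_comp_le _ _)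

theorem img_eq_bot (n : ℤ) (j : EInt) (h : IsZero (Hij Y n (bot_le : ⊥ ≤ j))) :
    img η n j = ⊥ := by
  exact (imgCongr (h.eq_of_src (toH η n j) 0)).trans imageSubobject_zero

theorem img_eq_top (n : ℤ) (j : EInt) (h : IsZero (Hij Y n (le_top : j ≤ ⊤))) :
    img η n j = ⊤ := by
  have he : Epi (toH η n j) := by
    have := (Y.exact₂ (homOfLE (bot_le : ⊥ ≤ j)) (homOfLE (le_top : j ≤ ⊤))
      (homOfLE bot_le) rfl n).epi_f (h.eq_of_tgt _ _)
    exact epi_comp' this inferInstance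
  rw [img]
  have : Epi (imageSubobject (toH η n j)).arrow :=
    epi_of_epi_fac (imageSubobject_arrow_comp (toH η n j))
  have := isIso_of_mono_of_epi (imageSubobject (toH η n j)).arrow
  exact Subobject.eq_top_of_isIso_arrow _

/-- The canonical monomorphism of `opcycles` into `H n`. -/
noncomputable def opcyclesToH (n : ℤ) (k : EInt) :
    Y.opcycles (homOfLE (bot_le : ⊥ ≤ k)) (homOfLE (le_top : k ≤ ⊤)) n ⟶ H n :=
  Y.fromOpcycles _ _ (homOfLE bot_le) rfl n ≫ (η n).inv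

instance (n : ℤ) (k : EInt) : Mono (opcyclesToH η n k) := by
  rw [opcyclesToH]
  infer_instance

theorem p_opcyclesToH (n : ℤ) (k : EInt) :
    Y.pOpcycles (homOfLE (bot_le : ⊥ ≤ k)) (homOfLE (le_top : k ≤ ⊤)) n ≫ opcyclesToH η n k =
      toH η n k := by
  rw [opcyclesToH, SpectralObject.p_fromOpcycles_assoc, toH]
  congr 2

theorem img_eq_mk (n : ℤ) (k : EInt) : img η n k = Subobject.mk (opcyclesToH η n k) := by
  rw [img, imgCongr (p_opcyclesToH η n k).symm, ← imageSubobject_mono]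
  have hle := imageSubobject_comp_le (Y.pOpcycles (homOfLE (bot_le : ⊥ ≤ k))
    (homOfLE (le_top : k ≤ ⊤)) n) (opcyclesToH η n k)
  have := isIso_of_mono_of_epi (Subobject.ofLE _ _ hle)
  exact le_antisymm hle (Subobject.le_of_comm (inv (Subobject.ofLE _ _ hle)) (by simp))

/-- `opcycles` is the image. -/
noncomputable def opcyclesIsoImg (n : ℤ) (k : EInt) :
    Y.opcycles (homOfLE (bot_le : ⊥ ≤ k)) (homOfLE (le_top : k ≤ ⊤)) n ≅ (img η n k : C) :=
  (Subobject.isoOfEqMk _ _ (img_eq_mk η n k)).symm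

theorem opcyclesIsoImg_hom_arrow (n : ℤ) (k : EInt) :
    (opcyclesIsoImg η n k).hom ≫ (img η n k).arrow = opcyclesToH η n k :=
  Subobject.ofMkLE_arrow _

theorem map_opcyclesIsoImg (n : ℤ) {j k : EInt} (h : j ≤ k) :
    ((Y.H n).map (twoδ₂Toδ₁ (homOfLE (bot_le : ⊥ ≤ j)) (homOfLE h) (homOfLE bot_le) rfl) ≫
      Y.pOpcycles (homOfLE (bot_le : ⊥ ≤ k)) (homOfLE (le_top : k ≤ ⊤)) n) ≫
      (opcyclesIsoImg η n k).hom =
    factorThruImageSubobject (toH η n j) ≫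
      Subobject.ofLE (img η n j) (img η n k) (img_mono η n h) := by
  rw [← cancel_mono (img η n k).arrow]
  have hR : (factorThruImageSubobject (toH η n j) ≫
      Subobject.ofLE (img η n j) (img η n k) (img_mono η n h)) ≫ (img η n k).arrow = toH η n j :=
    (Category.assoc _ _ _).trans ((congrArg (fun e => factorThruImageSubobject (toH η n j) ≫ e)
      (Subobject.ofLE_arrow (img_mono η n h))).trans (imageSubobject_arrow_comp (toH η n j)))
  refine Eq.trans ?_ hR.symm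
  simp only [Category.assoc, opcyclesIsoImg_hom_arrow, p_opcyclesToH, toH_fac η n h]

/-- `E^n(⊥ ≤ j ≤ k ≤ ⊤)` is the quotient of the images in `H n`. -/
noncomputable def EIsoQuot (n₀ n n₂ : ℤ) (hn₁ : n₀ + 1 = n) (hn₂ : n + 1 = n₂) {j k : EInt}
    (h : j ≤ k) :
    Y.E (homOfLE (bot_le : ⊥ ≤ j)) (homOfLE h) (homOfLE (le_top : k ≤ ⊤)) n₀ n n₂ hn₁ hn₂ ≅
      cokernel (Subobject.ofLE (img η n j) (img η n k) (img_mono η n h)) :=
  (Y.cokernelSequenceOpcyclesE_exact (homOfLE (bot_le : ⊥ ≤ j)) (homOfLE h)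
    (homOfLE (le_top : k ≤ ⊤)) (homOfLE bot_le) rfl n₀ n n₂ hn₁
      hn₂).gIsCokernel.coconePointUniqueUpToIso (cokernelIsCokernel _) ≪≫
    cokernel.mapIso _ (factorThruImageSubobject (toH η n j) ≫
        Subobject.ofLE (img η n j) (img η n k) (img_mono η n h)) (Iso.refl _)
      (opcyclesIsoImg η n k) ((map_opcyclesIsoImg η n h).trans (Category.id_comp _).symm) ≪≫
    cokernelEpiComp _ _

/-- The filtration of the abutment. -/
noncomputable def fil (n p : ℤ) : Subobject (H n) := img η n ((n - p + 1 : ℤ) : EInt)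

theorem fil_anti (n : ℤ) : Antitone (fil η n) := fun p q h =>
  img_mono η n (by simp; omega)

theorem fil_eq_bot (hl : IsLowBounded Y) (n : ℤ) : ∃ b : ℤ, fil η n b = ⊥ := by
  obtain ⟨a, ha⟩ := hl n
  exact ⟨n + 1 - a, img_eq_bot η n _ (ha _ (by omega))⟩

theorem fil_eq_top (hh : IsHighBounded Y) (n : ℤ) : ∃ a : ℤ, fil η n a = ⊤ := by
  obtain ⟨a, ha⟩ := hh n
  exact ⟨n + 1 - a, img_eq_top η n _ (ha _ (by omega))⟩

/-- The identification of the limit terms with the graded pieces. -/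
noncomputable def pageIsoGr (pq : ℤ × ℤ) (r : ℤ) (hr : 2 ≤ r)
    (h₁ : ∀ b : ℤ, b ≤ pq.2 - r + 2 →
      IsZero (Hij Y (pq.1 + pq.2 + 1) (bot_le : ⊥ ≤ (b : EInt))))
    (h₂ : ∀ b : ℤ, pq.2 + r - 1 ≤ b →
      IsZero (Hij Y (pq.1 + pq.2 - 1) (le_top : (b : EInt) ≤ ⊤))) :
    (Y.E₂SpectralSequence.page r hr).X pq ≅
      SpSeq.grPiece (fil η (pq.1 + pq.2)) (fil_anti η _) pq.1 :=
  Y.spectralSequencePageXIso SpectralObject.coreE₂Cohomological r hr pq
      ((pq.2 - r + 2 : ℤ) : EInt) ((pq.1 + pq.2 - (pq.1 + 1) + 1 : ℤ) : EInt)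
      ((pq.1 + pq.2 - pq.1 + 1 : ℤ) : EInt) ((pq.2 + r - 1 : ℤ) : EInt)
      rfl (by simp) (by simp) rfl
      (pq.1 + pq.2 - 1) (pq.1 + pq.2) (pq.1 + pq.2 + 1) rfl (by omega) rfl ≪≫
    (Y.isoMapFourδ₁Toδ₀' ⊥ _ _ _ _ bot_le _ _ _ _ _ _ (h₁ _ le_rfl) (by omega) rfl).symm ≪≫
    Y.isoMapFourδ₄Toδ₃' ⊥ _ _ _ ⊤ _ _ _ le_top _ _ _ (h₂ _ le_rfl) (by omega) rfl ≪≫
    EIsoQuot η _ _ _ _ _ _

include η in
/-- A spectral object that is bounded below and above has a biregular `E₂` spectral sequence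
abutting to `H^n(⊥ ≤ ⊤)`. -/
theorem exists_abutment (hl : IsLowBounded Y) (hh : IsHighBounded Y) :
    ∃ a : SpSeq.Abutment Y.E₂SpectralSequence H, ∀ n, a.IsFinite n := by
  choose rk hrk using exists_rk hl hh
  exact ⟨⟨fil η, fil_anti η, rk, fun pq => (hrk pq).1,
    fun pq => pageIsoGr η pq (rk pq) (hrk pq).1.1 (hrk pq).2.1 (hrk pq).2.2⟩,
    fun n => ⟨fil_eq_top η hh n, fil_eq_bot η hl n⟩⟩

end Filtration

end Groth.L17.SpecObj
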