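import Groth.Agent.L17.FormalLimit

/-!
# Systems with `f`-shifts
-/

set_option autoImplicit false
set_option backward.isDefEq.respectTransparency false
set_option backward.isDefEq.respectTransparency.types false
set_option linter.style.haveILetI false
set_option linter.unusedSectionVars false

universe u v

open CategoryTheory CategoryTheory.Limits TopologicalSpace Opposite AlgebraicGeometry

noncomputable section

namespace Groth.L17.TorsionFreeSys

section Alg

variable {R : Type u} [CommRing R] (b : R) (M : ℕ → Type v) [∀ n, AddCommGroup (M n)] [∀ n, Module R (M n)]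
  (t : ∀ n, M (n + 1) →ₗ[R] M n) (i : ∀ n, M n →ₗ[R] M (n + 1)) (p : ∀ n, M n →ₗ[R] M 0)
  (hp0 : ∀ x, p 0 x = x) (hp : ∀ n x, p (n + 1) x = p n (t n x)) (hps : ∀ n, Function.Surjective (p n))
  (hi : ∀ n, Function.Injective (i n)) (hit : ∀ n x, i n (t n x) = b • x)
  (hex : ∀ n x, p (n + 1) x = 0 → ∃ z, i n z = x) (hpi : ∀ n z, p (n + 1) (i n z) = 0)

include hp0 hps hit hpi in
theorem pow_smul_eq_zero (n : ℕ) (x : M n) : b ^ (n + 1) • x = 0 := by
  induction n with
  | zero =>
    obtain ⟨y, rfl⟩ := hps 1 x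
    rw [zero_add, pow_one, ← map_smul, ← hit, hpi]
  | succ n ih => rw [pow_succ, mul_smul, ← hit, ← map_smul, ih, map_zero]

include hp0 hp hps hit hex hpi in
theorem t_surjective (n : ℕ) : Function.Surjective (t n) := by
  induction n with
  | zero =>
    intro y
    obtain ⟨x, rfl⟩ := hps 1 y
    exact ⟨x, by rw [hp, hp0]⟩
  | succ m ih =>
    have step : ∀ w : M (m + 1), ∃ x w', w = t (m + 1) x + b • w' := by
      intro w
      obtain ⟨x, hx⟩ := hps (m + 2) (p (m + 1) w)
      obtain ⟨z, hz⟩ := hex m (w - t (m + 1) x) (by rw [map_sub, ← hx, hp (m + 1), sub_self])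
      obtain ⟨v, rfl⟩ := ih z
      exact ⟨x, v, by rw [← hit, hz, add_sub_cancel]⟩
    intro y
    have h : ∀ k, ∃ x w, y = t (m + 1) x + b ^ k • w := by
      intro k
      induction k with
      | zero => exact ⟨0, y, by simp⟩
      | succ k ihk =>
        obtain ⟨x, w, rfl⟩ := ihk
        obtain ⟨x', w', rfl⟩ := step w
        exact ⟨x + b ^ k • x', w', by simp only [smul_add, map_add, map_smul, pow_succ, mul_smul]; abel⟩
    obtain ⟨x, w, rfl⟩ := h (m + 1 + 1)
    exact ⟨x, by rw [pow_smul_eq_zero b M t i p hp0 hps hit hpi, add_zero]⟩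

include hp0 hp hps hi hit hex hpi in
theorem smul_eq_zero_mem (n : ℕ) : ∀ z : M n, b • z = 0 → ∃ w, z = b ^ n • w := by
  induction n with
  | zero => exact fun z _ => ⟨z, by simp⟩
  | succ n ih =>
    intro z hz
    have h0 : t n z = 0 := hi n (by rw [hit, hz, map_zero])
    obtain ⟨z', rfl⟩ := hex n z (by rw [hp, h0, map_zero])
    obtain ⟨w, rfl⟩ := t_surjective b M t i p hp0 hp hps hit hex hpi n z'
    have h1 : b • t n w = 0 := by rw [← map_smul, ← hit]; exact h0
    obtain ⟨u, hu⟩ := ih _ h1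
    obtain ⟨v, rfl⟩ := t_surjective b M t i p hp0 hp hps hit hex hpi n u
    exact ⟨v, by rw [hu, map_smul, hit, ← mul_smul, ← pow_succ]⟩

include hp0 hp hps hi hit hex hpi in
theorem t_ker (n : ℕ) (x : M (n + 1)) : t n x = 0 ↔ ∃ w, x = b ^ (n + 1) • w := by
  constructor
  · intro hx
    obtain ⟨z, rfl⟩ := hex n x (by rw [hp, hx, map_zero])
    obtain ⟨w, rfl⟩ := t_surjective b M t i p hp0 hp hps hit hex hpi n z
    have h1 : b • t n w = 0 := by rw [← map_smul, ← hit]; exact hx
    obtain ⟨u, hu⟩ := smul_eq_zero_mem b M t i p hp0 hp hps hi hit hex hpi n _ h1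
    obtain ⟨v, rfl⟩ := t_surjective b M t i p hp0 hp hps hit hex hpi n u
    exact ⟨v, by rw [hu, map_smul, hit, ← mul_smul, ← pow_succ]⟩
  · rintro ⟨w, rfl⟩
    rw [map_smul, pow_smul_eq_zero b M t i p hp0 hps hit hpi]

end Alg

section Scheme

open Formal (smulMod smulFamily modPow modPowπ modPowTrans modPowπ_trans)
open Groth.L16.AffineBC (scal)
open Groth.L16.HomSh (smulMod_app exists_kernel_lift)
open Groth.L17.FormalLimit

variable {A : Type u} [CommRing A] {X : Scheme.{u}} [X.Over (Spec (CommRingCat.of A))] (f : A)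
  (G : ℕᵒᵖ ⥤ X.Modules) (hqc : ∀ n : ℕᵒᵖ, Coh.IsQCoh (G.obj n))
  (h1 : ∀ n : ℕ, ∃ i : G.obj (op n) ⟶ G.obj (op (n + 1)), Mono i ∧
    G.map (homOfLE (Nat.le_succ n)).op ≫ i = smulMod A (G.obj (op (n + 1))) f ∧
    ∃ w : i ≫ G.map (homOfLE (Nat.zero_le (n + 1))).op = 0,
      (ShortComplex.mk i (G.map (homOfLE (Nat.zero_le (n + 1))).op) w).ShortExact)

theorem injective_app {M N : X.Modules} (φ : M ⟶ N) [Mono φ] (U : X.Opens) {x : Γ(M, U)}
    (hx : φ.app U x = 0) : x = 0 := by
  obtain ⟨k, rfl⟩ := exists_kernel_lift φ x hx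
  rw [show kernel.ι φ = 0 from (cancel_mono φ).1 ((kernel.condition φ).trans zero_comp.symm)]
  rfl

include hqc h1 in
theorem spec (U : X.Opens) (hU : IsAffineOpen U) (n : ℕ) :
    Function.Surjective ((G.map (homOfLE (Nat.le_succ n)).op).app U) ∧
    ∀ x, (G.map (homOfLE (Nat.le_succ n)).op).app U x = 0 ↔
      x ∈ (Ideal.span ({f} : Set A)).map (scal A X U) ^ (n + 1) •
        (⊤ : Submodule Γ(X, U) Γ(G.obj (op (n + 1)), U)) := by
  choose i hm hti w hS using h1
  let M : ℕ → Type u := fun n => Γ(G.obj (op n), U)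
  let t : ∀ n, Γ(G.obj (op (n + 1)), U) →ₗ[Γ(X, U)] Γ(G.obj (op n), U) :=
    fun n => appL (G.map (homOfLE (Nat.le_succ n)).op) U
  let p : ∀ n, Γ(G.obj (op n), U) →ₗ[Γ(X, U)] Γ(G.obj (op 0), U) :=
    fun n => appL (G.map (homOfLE (Nat.zero_le n)).op) U
  let j : ∀ n, Γ(G.obj (op n), U) →ₗ[Γ(X, U)] Γ(G.obj (op (n + 1)), U) := fun n => appL (i n) U
  have hp0 : ∀ x, p 0 x = x := fun x => by
    show (G.map (homOfLE (Nat.zero_le 0)).op).app U x = x
    rw [show (homOfLE (Nat.zero_le 0)).op = 𝟙 (op 0) from rfl, G.map_id]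
    rfl
  have hp : ∀ n x, p (n + 1) x = p n (t n x) := fun n x => by
    refine ConcreteCategory.congr_hom (congrArg (fun t => Scheme.Modules.Hom.app t U)
      (?_ : G.map (homOfLE (Nat.zero_le (n + 1))).op =
        G.map (homOfLE (Nat.le_succ n)).op ≫ G.map (homOfLE (Nat.zero_le n)).op)) x
    rw [← G.map_comp]
    rfl
  have hps : ∀ n, Function.Surjective (p n) := by
    rintro (_ | n)
    · exact fun x => ⟨x, hp0 x⟩
    · haveI : Epi (G.map (homOfLE (Nat.zero_le (n + 1))).op) := (hS n).epi_g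
      haveI := hqc (op 0)
      haveI := hqc (op (n + 1))
      exact Groth.L16.AffineBC.surjective_app_of_epi _ hU
  have hi : ∀ n, Function.Injective (j n) := fun n => (injective_iff_map_eq_zero (j n)).2 fun x hx =>
    haveI := hm n
    injective_app (i n) U hx
  have hit : ∀ n x, j n (t n x) = scal A X U f • x := fun n x =>
    (ConcreteCategory.congr_hom (congrArg (fun t => Scheme.Modules.Hom.app t U) (hti n)) x).trans
      (smulMod_app _ f U x)
  have hex : ∀ n x, p (n + 1) x = 0 → ∃ z, j n z = x := fun n x hx => by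
    haveI : Mono (i n) := hm n
    obtain ⟨k, rfl⟩ := exists_kernel_lift (G.map (homOfLE (Nat.zero_le (n + 1))).op) x hx
    obtain ⟨l, hl⟩ := KernelFork.IsLimit.lift' (hS n).fIsKernel (kernel.ι _)
      (kernel.condition (G.map (homOfLE (Nat.zero_le (n + 1))).op))
    exact ⟨l.app U k, ConcreteCategory.congr_hom (congrArg (fun t => Scheme.Modules.Hom.app t U) hl) k⟩
  have hpi : ∀ n z, p (n + 1) (j n z) = 0 := fun n z =>
    ConcreteCategory.congr_hom (congrArg (fun t => Scheme.Modules.Hom.app t U) (w n)) z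
  refine ⟨t_surjective _ _ t j p hp0 hp hps hit hex hpi n, fun x => ?_⟩
  refine (t_ker _ _ t j p hp0 hp hps hi hit hex hpi n x).trans ?_
  rw [Ideal.map_span, Set.image_singleton, Ideal.span_singleton_pow, Submodule.ideal_span_singleton_smul,
    Submodule.mem_smul_pointwise_iff_exists]
  exact exists_congr fun w => by rw [and_iff_right Submodule.mem_top, eq_comm]

include hqc h1 in
/-- The limit of the system is torsion free with the system as completion. -/
theorem exists_torsionFree : ∃ F : X.Modules, Mono (smulMod A F f) ∧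
    Nonempty (Formal.completion (Ideal.span ({f} : Set A)) F ≅ G) := by
  have hfg : (Ideal.span ({f} : Set A)).FG := ⟨{f}, by simp⟩
  have hred := fun n => isIso_limit_desc G _ hfg (fun U hU n => (spec f G hqc h1 U hU n).1)
    (fun U hU n => (spec f G hqc h1 U hU n).2) n
  choose h0 hiso using hred
  haveI := hiso
  refine ⟨limit G, ⟨fun a b hab => Groth.L16.AffineBC.hom_ext_affine a b fun U hU m => ?_⟩, ⟨?_⟩⟩
  · have h : scal A X U f • (a.app U m - b.app U m) = 0 := by
      rw [smul_sub, sub_eq_zero, ← smulMod_app, ← smulMod_app]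
      exact ConcreteCategory.congr_hom (congrArg (fun t => Scheme.Modules.Hom.app t U) hab) m
    refine sect_inj G U fun n => ?_
    obtain ⟨i, hm, hti, -⟩ := h1 n
    haveI := hm
    rw [← sub_eq_zero, ← map_sub]
    refine injective_app i U ?_
    have h2 := (ConcreteCategory.congr_hom (congrArg (fun t => Scheme.Modules.Hom.app t U) hti)
      ((limit.π G (op (n + 1))).app U (a.app U m - b.app U m))).trans (smulMod_app _ f U _)
    rw [← Scheme.Modules.Hom.app_smul, h, map_zero] at h2
    refine Eq.trans (congrArg (i.app U) ?_) h2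
    exact (ConcreteCategory.congr_hom
      (congrArg (fun t => Scheme.Modules.Hom.app t U) (limit.w G (homOfLE (Nat.le_succ n)).op)) _).symm
  · let δ : ∀ n, modPow (Ideal.span ({f} : Set A)) (n + 1) (limit G) ⟶ G.obj (op n) :=
      fun n => cokernel.desc _ _ (h0 n)
    let τ : Formal.completion (Ideal.span ({f} : Set A)) (limit G) ⟶ G :=
      NatTrans.ofOpSequence (F := Formal.completion (Ideal.span ({f} : Set A)) (limit G)) δ fun n => by
        rw [show (Formal.completion (Ideal.span ({f} : Set A)) (limit G)).map (homOfLE (Nat.le_succ n)).op =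
          modPowTrans (Ideal.span ({f} : Set A)) (n + 1) (limit G) from Functor.ofOpSequence_map_homOfLE_succ _ n]
        refine coequalizer.hom_ext ?_
        show modPowπ _ (n + 1 + 1) (limit G) ≫ modPowTrans _ (n + 1) (limit G) ≫ δ n =
          modPowπ _ (n + 1 + 1) (limit G) ≫ δ (n + 1) ≫ G.map (homOfLE (Nat.le_succ n)).op
        have e : ∀ k, modPowπ (Ideal.span ({f} : Set A)) (k + 1) (limit G) ≫ δ k = limit.π G (op k) :=
          fun k => cokernel.π_desc _ _ _
        rw [← Category.assoc, modPowπ_trans, ← Category.assoc, e, e, limit.w]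
    haveI : ∀ n, IsIso (τ.app n) := fun n => hiso n.unop
    haveI := NatIso.isIso_of_isIso_app τ
    exact asIso τ

end Scheme

end Groth.L17.TorsionFreeSys
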