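import Groth.Agent.L17.SheafExt
import Groth.Prelude.Def_Formal2
import Mathlib.Algebra.Homology.DerivedCategory.Ext.EnoughInjectives
import Mathlib.CategoryTheory.Limits.Preserves.Shapes.Products
import Mathlib.CategoryTheory.Functor.OfSequence
import Mathlib.Topology.Sheaves.SheafCondition.Sites
import Mathlib.GroupTheory.QuotientGroup.Basic

/-!
# Cohomology of products and of inverse limits of towers of sheaves acyclic on a basis

For towers with surjective sections and no higher cohomology on a basis of opens, the Milnor sequence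
`0 → lim¹ H^j → H^{j+1}(lim) → lim H^{j+1} → 0` holds for maps out of any object.
-/

set_option autoImplicit false
set_option backward.isDefEq.respectTransparency false
set_option backward.isDefEq.respectTransparency.types false
set_option linter.style.haveILetI false
set_option linter.unusedSectionVars false

universe u

open CategoryTheory CategoryTheory.Limits TopologicalSpace Opposite Abelian

noncomputable section

namespace Groth.L17.TowerCoh

variable {X : TopCat.{u}} (B : Set (Opens X))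

/-- No higher cohomology on the members of `B`. -/
def Acc (F : AbSheaf X) : Prop := ∀ V ∈ B, ∀ (k : ℕ) (x : Ext.{u} (zFree V) F (k + 1)), x = 0

variable {B} (hB : Opens.IsBasis B)

include hB in
theorem hom_ext_basis {P Q : AbSheaf X} (a b : P ⟶ Q)
    (h : ∀ V ∈ B, ∀ x : zFree V ⟶ P, x ≫ a = x ≫ b) : a = b := by
  apply Sheaf.hom_ext
  refine TopCat.Sheaf.hom_ext (X := X) P.obj Q (B := fun V : B => V.1) (by rwa [Subtype.range_coe]) fun V => ?_
  ext s
  obtain ⟨x, rfl⟩ := (zEquiv V.1 P).surjective s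
  exact (zEquiv_comp V.1 x a).symm.trans ((congrArg (zEquiv V.1 Q) (h V.1 V.2 x)).trans (zEquiv_comp V.1 x b))

theorem acc_injective (I : AbSheaf X) [Injective I] : Acc B I := fun _ _ _ x => x.eq_zero_of_injective

theorem acc_cokernel {S : ShortComplex (AbSheaf X)} (hS : S.ShortExact) (h1 : Acc B S.X₁) (h2 : Acc B S.X₂) :
    Acc B S.X₃ := fun V hV k x => by
  obtain ⟨y, rfl⟩ := Ext.covariant_sequence_exact₃ _ hS x (rfl : k + 1 + 1 = k + 2) (h1 V hV (k + 1) _)
  rw [h2 V hV k y, Ext.zero_comp]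

/-- The components of a class with values in a product. -/
def pr (Z : AbSheaf X) (F : ℕ → AbSheaf X) (i : ℕ) : Ext.{u} Z (∏ᶜ F) i →+ ∀ n, Ext.{u} Z (F n) i :=
  AddMonoidHom.pi fun n => (Ext.mk₀ (Pi.π F n)).postcomp Z (add_zero i)

theorem pr_apply (Z : AbSheaf X) (F : ℕ → AbSheaf X) (i : ℕ) (x : Ext.{u} Z (∏ᶜ F) i) (n : ℕ) :
    pr Z F i x n = x.comp (Ext.mk₀ (Pi.π F n)) (add_zero i) := rfl

theorem pr_bijective_zero (Z : AbSheaf X) (F : ℕ → AbSheaf X) : Function.Bijective (pr Z F 0) := by
  refine ⟨(injective_iff_map_eq_zero _).2 fun x hx => ?_, fun y => ?_⟩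
  · obtain ⟨f, rfl⟩ := (Ext.mk₀_bijective _ _).2 x
    suffices f = 0 by rw [this, Ext.mk₀_zero]
    refine Pi.hom_ext _ _ fun n => ?_
    rw [zero_comp]
    refine (Ext.mk₀_bijective _ _).1 ?_
    rw [← Ext.mk₀_comp_mk₀, Ext.mk₀_zero]
    exact congrFun hx n
  · choose g hg using fun n => (Ext.mk₀_bijective _ _).2 (y n)
    refine ⟨Ext.mk₀ (Pi.lift g), funext fun n => ?_⟩
    rw [pr_apply, Ext.mk₀_comp_mk₀, Pi.lift_π, hg]

section Product

variable (F : ℕ → AbSheaf X)

/-- An injective embedding of each member. -/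
abbrev emb (n : ℕ) : ShortComplex (AbSheaf X) :=
  ShortComplex.mk (Injective.ι (F n)) (cokernel.π (Injective.ι (F n))) (cokernel.condition _)

theorem emb_shortExact (n : ℕ) : (emb F n).ShortExact :=
  { exact := ShortComplex.exact_cokernel (Injective.ι (F n)) }

/-- The product of the embeddings. -/
abbrev embPi : ShortComplex (AbSheaf X) :=
  ShortComplex.mk (Limits.Pi.map fun n => (emb F n).f) (Limits.Pi.map fun n => (emb F n).g)
    (Pi.hom_ext _ _ fun n => by
      rw [Category.assoc, Limits.Pi.map_π, ← Category.assoc, Limits.Pi.map_π, Category.assoc, (emb F n).zero,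
        comp_zero, zero_comp])

include hB in
theorem embPi_shortExact (hF : ∀ n, Acc B (F n)) : (embPi F).ShortExact := by
  haveI : ∀ n, Mono (emb F n).f := fun n => (emb_shortExact F n).mono_f
  haveI : Mono (embPi F).f := by
    constructor
    intro T a b hab
    refine Pi.hom_ext _ _ fun n => ?_
    rw [← cancel_mono (emb F n).f, Category.assoc, Category.assoc, ← Limits.Pi.map_π (fun n => (emb F n).f) n,
      ← Category.assoc, ← Category.assoc]
    exact congrArg (· ≫ Pi.π _ n) hab
  haveI : Epi (embPi F).g := by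
    refine Preadditive.epi_of_cancel_zero _ fun {T} a ha => hom_ext_basis hB a 0 fun V hV x => ?_
    rw [comp_zero]
    choose y hy using fun n => Ext.covariant_sequence_exact₃ (zFree V) (emb_shortExact F n)
      (Ext.mk₀ (x ≫ Pi.π _ n)) (rfl : 0 + 1 = 1) (hF n V hV 0 _)
    choose z hz using fun n => (Ext.mk₀_bijective _ _).2 (y n)
    have : Pi.lift z ≫ (embPi F).g = x := Pi.hom_ext _ _ fun n => by
      refine (Ext.mk₀_bijective _ _).1 ?_
      rw [Category.assoc, Limits.Pi.map_π, Pi.lift_π_assoc, ← Ext.mk₀_comp_mk₀, hz n]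
      exact hy n
    rw [← this, Category.assoc, ha, comp_zero]
  refine { exact := ShortComplex.exact_of_f_is_kernel _ (KernelFork.IsLimit.ofι' _ _ fun {T} g hg => ?_) }
  have hn : ∀ n, (g ≫ Pi.π _ n) ≫ (emb F n).g = 0 := fun n => by
    rw [Category.assoc, ← Limits.Pi.map_π (fun n => (emb F n).g) n, ← Category.assoc]
    refine (congrArg (· ≫ Pi.π _ n) hg).trans zero_comp
  refine ⟨Pi.lift fun n => (emb_shortExact F n).exact.lift (g ≫ Pi.π _ n) (hn n), Pi.hom_ext _ _ fun n => ?_⟩
  rw [Category.assoc, Limits.Pi.map_π, Pi.lift_π_assoc]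
  exact (emb_shortExact F n).exact.lift_f _ _

/-- The projection of the product sequence to a member. -/
abbrev embPiπ (n : ℕ) : embPi F ⟶ emb F n where
  τ₁ := Pi.π _ n
  τ₂ := Pi.π _ n
  τ₃ := Pi.π _ n
  comm₁₂ := (Limits.Pi.map_π (fun n => (emb F n).f) n).symm
  comm₂₃ := (Limits.Pi.map_π (fun n => (emb F n).g) n).symm

theorem comp_extClass_pr {Z : AbSheaf X} (hT : (embPi F).ShortExact) (n i : ℕ)
    (q : Ext.{u} Z (embPi F).X₃ i) :
    (q.comp hT.extClass (rfl : i + 1 = i + 1)).comp (Ext.mk₀ (Pi.π F n)) (add_zero (i + 1)) =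
      (q.comp (Ext.mk₀ (Pi.π (fun n => (emb F n).X₃) n)) (add_zero i)).comp (emb_shortExact F n).extClass
        (rfl : i + 1 = i + 1) := by
  rw [Ext.comp_assoc_of_third_deg_zero, Ext.comp_assoc_of_second_deg_zero]
  exact congrArg (fun z => q.comp z (rfl : i + 1 = i + 1))
    (ShortComplex.ShortExact.extClass_naturality hT (emb_shortExact F n) (embPiπ F n))

end Product

include hB in
/-- Classes with values in a product of sheaves acyclic on a basis are families of classes. -/
theorem pr_bijective (Z : AbSheaf X) : ∀ (i : ℕ) (F : ℕ → AbSheaf X), (∀ n, Acc B (F n)) →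
    Function.Bijective (pr Z F i) := by
  intro i
  induction i with
  | zero => exact fun F _ => pr_bijective_zero Z F
  | succ i ih =>
    intro F hF
    have hT := embPi_shortExact hB F hF
    have hQ : ∀ n, Acc B (emb F n).X₃ := fun n =>
      acc_cokernel (emb_shortExact F n) (hF n) (acc_injective _)
    have hI : ∀ n, Acc B (emb F n).X₂ := fun n => acc_injective _
    refine ⟨(injective_iff_map_eq_zero _).2 fun x hx => ?_, fun y => ?_⟩
    · haveI : Injective (embPi F).X₂ := inferInstanceAs (Injective (∏ᶜ fun n => (emb F n).X₂))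
      obtain ⟨q, rfl⟩ := Ext.covariant_sequence_exact₁ _ hT x (Ext.eq_zero_of_injective _) rfl
      choose w hw using fun n => Ext.covariant_sequence_exact₃ Z (emb_shortExact F n)
        (pr Z (fun n => (emb F n).X₃) i q n) (rfl : i + 1 = i + 1)
        ((comp_extClass_pr F hT n i q).symm.trans (congrFun hx n))
      obtain ⟨v, hv⟩ := (ih _ hI).2 w
      have : v.comp (Ext.mk₀ (embPi F).g) (add_zero i) = q := by
        refine (ih _ hQ).1 (funext fun n => ?_)
        rw [← hw n, ← congrFun hv n, pr_apply, pr_apply, Ext.comp_assoc_of_second_deg_zero,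
          Ext.comp_assoc_of_second_deg_zero, Ext.mk₀_comp_mk₀, Ext.mk₀_comp_mk₀, Limits.Pi.map_π]
      rw [← this, Ext.comp_assoc_of_second_deg_zero, hT.comp_extClass, Ext.comp_zero]
    · choose q hq using fun n => Ext.covariant_sequence_exact₁ _ (emb_shortExact F n) (y n)
        (Ext.eq_zero_of_injective _) (rfl : i + 1 = i + 1)
      obtain ⟨v, hv⟩ := (ih _ hQ).2 q
      refine ⟨v.comp hT.extClass rfl, funext fun n => ?_⟩
      rw [pr_apply, comp_extClass_pr, ← hq n, ← congrFun hv n]
      rfl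

section Tower

variable (F : ℕᵒᵖ ⥤ AbSheaf X)

/-- The members of a tower. -/
abbrev mem (n : ℕ) : AbSheaf X := F.obj (op n)

/-- The transition maps of a tower. -/
abbrev tr (n : ℕ) : mem F (n + 1) ⟶ mem F n := F.map (homOfLE (Nat.le_succ n)).op

/-- The map to the product. -/
abbrev toPi : limit F ⟶ ∏ᶜ mem F := Pi.lift fun n => limit.π F (op n)

/-- `1 - t` on the product. -/
abbrev diff : (∏ᶜ mem F) ⟶ ∏ᶜ mem F := Pi.lift fun n => Pi.π (mem F) n - Pi.π (mem F) (n + 1) ≫ tr F n

theorem toPi_diff : toPi F ≫ diff F = 0 := Pi.hom_ext _ _ fun n => by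
  rw [Category.assoc, Pi.lift_π, Preadditive.comp_sub, Pi.lift_π, ← Category.assoc, Pi.lift_π, limit.w,
    sub_self, zero_comp]

/-- The sequence `lim → ∏ → ∏`. -/
abbrev towerSeq : ShortComplex (AbSheaf X) := ShortComplex.mk (toPi F) (diff F) (toPi_diff F)

variable (hsurj : ∀ V ∈ B, ∀ (n : ℕ) (a : zFree V ⟶ mem F n), ∃ b : zFree V ⟶ mem F (n + 1), b ≫ tr F n = a)

include hB hsurj in
theorem towerSeq_shortExact : (towerSeq F).ShortExact := by
  haveI : Mono (towerSeq F).f := by
    constructor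
    intro T a b hab
    refine limit.hom_ext fun j => ?_
    have h := congrArg (· ≫ Pi.π (mem F) j.unop) hab
    simp only [Category.assoc, Pi.lift_π] at h
    exact h
  haveI : Epi (towerSeq F).g := by
    refine Preadditive.epi_of_cancel_zero _ fun {T} a ha => hom_ext_basis hB a 0 fun V hV x => ?_
    rw [comp_zero]
    choose lift hlift using hsurj V hV
    let z : ∀ n, zFree V ⟶ mem F n := fun n =>
      Nat.rec (motive := fun n => zFree V ⟶ mem F n) 0 (fun n zn => lift n (zn - x ≫ Pi.π (mem F) n)) n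
    have hz : ∀ n, z (n + 1) ≫ tr F n = z n - x ≫ Pi.π (mem F) n := fun n => hlift n _
    have : Pi.lift z ≫ diff F = x := Pi.hom_ext _ _ fun n => by
      rw [Category.assoc, Pi.lift_π, Preadditive.comp_sub, Pi.lift_π, ← Category.assoc, Pi.lift_π, hz,
        sub_sub_cancel]
    rw [← this, Category.assoc]
    exact (congrArg (Pi.lift z ≫ ·) ha).trans comp_zero
  refine { exact := ShortComplex.exact_of_f_is_kernel _ (KernelFork.IsLimit.ofι' _ _ fun {T} g hg => ?_) }
  have hn : ∀ n, g ≫ Pi.π (mem F) n = (g ≫ Pi.π (mem F) (n + 1)) ≫ tr F n := fun n => by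
    have h : (g ≫ diff F) ≫ Pi.π (mem F) n = (0 : T ⟶ ∏ᶜ mem F) ≫ Pi.π (mem F) n :=
      congrArg (· ≫ Pi.π (mem F) n) hg
    rw [zero_comp, Category.assoc, Pi.lift_π, Preadditive.comp_sub, sub_eq_zero] at h
    rw [h, Category.assoc]
  let c : Cone F :=
    { pt := T
      π := NatTrans.ofOpSequence (fun n => g ≫ Pi.π (mem F) n) (fun n => by
        show 𝟙 T ≫ g ≫ Pi.π (mem F) n = (g ≫ Pi.π (mem F) (n + 1)) ≫ tr F n
        rw [Category.id_comp]
        exact hn n) }
  refine ⟨limit.lift F c, Pi.hom_ext _ _ fun n => ?_⟩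
  rw [Category.assoc, Pi.lift_π, limit.lift_π]
  rfl

variable (hacc : ∀ n, Acc B (mem F n)) (Z : AbSheaf X)

theorem pr_diff (i : ℕ) (e : Ext.{u} Z (∏ᶜ mem F) i) (n : ℕ) :
    pr Z (mem F) i (e.comp (Ext.mk₀ (diff F)) (add_zero i)) n =
      pr Z (mem F) i e n - (pr Z (mem F) i e (n + 1)).comp (Ext.mk₀ (tr F n)) (add_zero i) := by
  rw [pr_apply, pr_apply, pr_apply, Ext.comp_assoc_of_second_deg_zero, Ext.mk₀_comp_mk₀,
    Ext.comp_assoc_of_second_deg_zero, Ext.mk₀_comp_mk₀, Pi.lift_π]
  simp [sub_eq_add_neg, Ext.mk₀_add, Ext.mk₀_neg, Ext.comp_add, Ext.comp_neg]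

theorem pr_toPi (i : ℕ) (η : Ext.{u} Z (limit F) i) (n : ℕ) :
    pr Z (mem F) i (η.comp (Ext.mk₀ (toPi F)) (add_zero i)) n = η.comp (Ext.mk₀ (limit.π F (op n))) (add_zero i) := by
  rw [pr_apply, Ext.comp_assoc_of_second_deg_zero, Ext.mk₀_comp_mk₀, Pi.lift_π]

include hB hsurj hacc in
/-- Compatible families of classes lift to the limit. -/
theorem exists_lift (i : ℕ) (ξ : ∀ n, Ext.{u} Z (mem F n) i)
    (hξ : ∀ n, (ξ (n + 1)).comp (Ext.mk₀ (tr F n)) (add_zero i) = ξ n) :
    ∃ η : Ext.{u} Z (limit F) i, ∀ n, η.comp (Ext.mk₀ (limit.π F (op n))) (add_zero i) = ξ n := by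
  obtain ⟨e, he⟩ := (pr_bijective hB Z i (mem F) hacc).2 ξ
  obtain ⟨η, hη⟩ := Ext.covariant_sequence_exact₂ _ (towerSeq_shortExact hB F hsurj) e
    ((pr_bijective hB Z i (mem F) hacc).1 (funext fun n => by
      rw [pr_diff, map_zero, he, hξ, sub_self]; rfl))
  exact ⟨η, fun n => by rw [← pr_toPi, hη, he]⟩

/-- The projections to the classes on the members. -/
def proj (i : ℕ) : Ext.{u} Z (limit F) i →+ ∀ n, Ext.{u} Z (mem F n) i :=
  AddMonoidHom.pi fun n => (Ext.mk₀ (limit.π F (op n))).postcomp Z (add_zero i)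

/-- The transition maps on classes. -/
def trE (i n : ℕ) : Ext.{u} Z (mem F (n + 1)) i →+ Ext.{u} Z (mem F n) i :=
  (Ext.mk₀ (tr F n)).postcomp Z (add_zero i)

include hB hsurj hacc in
/-- Classes on the limit vanishing on all members form `lim¹`. -/
theorem nonempty_ker_equiv (i j : ℕ) (hij : j + 1 = i) :
    Nonempty ((proj F Z i).ker ≃+ Formal2.limOne (fun n => Ext.{u} Z (mem F n) j) (trE F Z j)) := by
  have hS := towerSeq_shortExact hB F hsurj
  have hp := pr_bijective hB Z j (mem F) hacc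
  let P := AddEquiv.ofBijective (pr Z (mem F) j) hp
  let δ : Ext.{u} Z (∏ᶜ mem F) j →+ Ext.{u} Z (limit F) i := hS.extClass.postcomp Z hij
  have hker : ∀ y, δ (P.symm y) ∈ (proj F Z i).ker := fun y => funext fun n => by
    show (δ (P.symm y)).comp (Ext.mk₀ (limit.π F (op n))) (add_zero i) = 0
    rw [← pr_toPi]
    have : (δ (P.symm y)).comp (Ext.mk₀ (towerSeq F).f) (add_zero i) = 0 := by
      show ((P.symm y).comp hS.extClass hij).comp _ _ = 0
      rw [Ext.comp_assoc_of_third_deg_zero, hS.extClass_comp, Ext.comp_zero]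
    exact congrFun ((congrArg (pr Z (mem F) i) this).trans (map_zero _)) n
  let φ : (∀ n, Ext.{u} Z (mem F n) j) →+ (proj F Z i).ker :=
    (δ.comp P.symm.toAddMonoidHom).codRestrict _ hker
  have hφ : Function.Surjective φ := by
    rintro ⟨x, hx⟩
    obtain ⟨e, he⟩ := Ext.covariant_sequence_exact₁ _ hS x ((pr_bijective hB Z i (mem F) hacc).1 (funext fun n =>
      (pr_toPi F Z i x n).trans ((congrFun hx n).trans (congrFun (map_zero (pr Z (mem F) i)) n).symm))) hij
    refine ⟨P e, Subtype.ext ?_⟩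
    show δ (P.symm (P e)) = x
    rw [P.symm_apply_apply]
    exact he
  have hk : φ.ker = (Formal2.towerDiff (fun n => Ext.{u} Z (mem F n) j) (trE F Z j)).range := by
    ext y
    constructor
    · intro hy
      obtain ⟨e, he⟩ := Ext.covariant_sequence_exact₃ _ hS (P.symm y) hij (congrArg Subtype.val hy)
      refine ⟨P e, funext fun n => ?_⟩
      show P e n - (P e (n + 1)).comp (Ext.mk₀ (tr F n)) (add_zero j) = y n
      rw [show y n = P (P.symm y) n by rw [P.apply_symm_apply], ← he]
      exact (pr_diff F Z j e n).symm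
    · rintro ⟨z, rfl⟩
      refine Subtype.ext ?_
      show δ (P.symm _) = 0
      have : P.symm (Formal2.towerDiff (fun n => Ext.{u} Z (mem F n) j) (trE F Z j) z) =
          (P.symm z).comp (Ext.mk₀ (towerSeq F).g) (add_zero j) := by
        refine P.symm_apply_eq.2 (funext fun n => ?_)
        show z n - (z (n + 1)).comp (Ext.mk₀ (tr F n)) (add_zero j) = _
        refine Eq.trans ?_ (pr_diff F Z j (P.symm z) n).symm
        show _ = P (P.symm z) n - (P (P.symm z) (n + 1)).comp _ _
        rw [P.apply_symm_apply]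
      rw [this]
      show ((P.symm z).comp (Ext.mk₀ (towerSeq F).g) (add_zero j)).comp hS.extClass hij = 0
      rw [Ext.comp_assoc_of_second_deg_zero, hS.comp_extClass, Ext.comp_zero]
  exact ⟨(QuotientAddGroup.quotientKerEquivOfSurjective φ hφ).symm.trans
    (QuotientAddGroup.quotientAddEquivOfEq hk)⟩

include hB hsurj hacc in
/-- Without `lim¹`, classes on the limit are determined by their images. -/
theorem proj_injective (i j : ℕ) (hij : j + 1 = i)
    (h : Function.Surjective (Formal2.towerDiff (fun n => Ext.{u} Z (mem F n) j) (trE F Z j))) :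
    Function.Injective (proj F Z i) := by
  obtain ⟨e⟩ := nonempty_ker_equiv hB F hsurj hacc Z i j hij
  haveI : Subsingleton (Formal2.limOne (fun n => Ext.{u} Z (mem F n) j) (trE F Z j)) :=
    QuotientAddGroup.subsingleton_iff.2 (AddMonoidHom.range_eq_top.2 h)
  haveI := e.subsingleton
  exact (injective_iff_map_eq_zero _).2 fun x hx => congrArg Subtype.val (Subsingleton.elim (⟨x, hx⟩ : (proj F Z i).ker) 0)

end Tower

end Groth.L17.TowerCoh
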