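import Groth.Agent.L17.DPlusInj
import Groth.Agent.L17.SpecObjHom
import Mathlib.CategoryTheory.Triangulated.TStructure.SpectralObject

/-!
The spectral object of hyperderived functors attached to the truncations of an object of `D⁺(C)`,
its bounds, and the identification of its second page.
-/

set_option autoImplicit false

universe w v u v' u'

open CategoryTheory CategoryTheory.Limits ComposableArrows CategoryTheory.Triangulated

namespace Groth.L17.GrothSS

variable {C : Type u} [Category.{v} C] [Abelian C] [HasDerivedCategory.{w} C] [EnoughInjectives C]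
  {D : Type u'} [Category.{v'} D] [Abelian D] (S : C ⥤ D) [S.Additive]

local notation "𝐭" => DerivedCategory.Plus.TStructure.t

theorem isZero_HH_of_isGE (X : DerivedCategory.Plus C) (m : ℤ) [X.IsGE m] (n : ℤ) (h : n < m) :
    IsZero ((HH S n).obj X) := by
  obtain ⟨L, hL, ⟨e⟩⟩ := DerivedCategory.Plus.exists_injective_nonempty_iso X m
  refine IsZero.of_iso ?_ ((HH S n).mapIso e.symm ≪≫
    hhInjIso S _ _ (fun k => inferInstanceAs (Injective (L.obj.X k).obj)) n)
  have : CochainComplex.IsStrictlyGE ((S.mapHomologicalComplex (.up ℤ)).obj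
      (((InjectiveObject.ι C).mapHomologicalComplex (.up ℤ)).obj L.obj)) m :=
    inferInstance
  exact (CochainComplex.exactAt_of_isGE ((S.mapHomologicalComplex (.up ℤ)).obj
    (((InjectiveObject.ι C).mapHomologicalComplex (.up ℤ)).obj L.obj)) m n h).isZero_homology

/-- The spectral object `[a, b) ↦ H^n(RS(τ_{[a, b)} X))`. -/
noncomputable def specObj (X : DerivedCategory.Plus C) : Abelian.SpectralObject D EInt :=
  SpecObj.mapHomological (((𝐭).spectralObject X).mapTriangulatedFunctor (RK S))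
    (HomotopyCategory.homologyFunctor D (.up ℤ) 0)

theorem specObj_H_obj (X : DerivedCategory.Plus C) (n : ℤ) (A : ComposableArrows EInt 1) :
    ((specObj S X).H n).obj A =
      (HH S n).obj (((𝐭).eTruncGE.obj (A.obj 0)).obj (((𝐭).eTruncLT.obj (A.obj 1)).obj X)) := rfl

/-- The top piece is `H^n(RS X)`. -/
noncomputable def topIso (X : DerivedCategory.Plus C) (n : ℤ) :
    (HH S n).obj X ≅ SpecObj.Hij (specObj S X) n (bot_le : ⊥ ≤ (⊤ : EInt)) :=
  Iso.refl _

theorem isLowBounded (X : DerivedCategory.Plus C) (m : ℤ) [X.IsGE m] :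
    SpecObj.IsLowBounded (specObj S X) := fun n =>
  ⟨m, fun b hb => by
    change IsZero ((HH S n).obj (((𝐭).eTruncGE.obj ⊥).obj (((𝐭).eTruncLT.obj (b : EInt)).obj X)))
    exact (HH S n).map_isZero (((𝐭).eTruncGE.obj ⊥).map_isZero
      ((𝐭).isZero_eTruncLT_obj_obj X m (b : EInt) (by simpa using hb)))⟩

theorem isHighBounded (X : DerivedCategory.Plus C) :
    SpecObj.IsHighBounded (specObj S X) := fun n =>
  ⟨n + 1, fun b hb => by
    have : (((𝐭).eTruncGE.obj (b : EInt)).obj (((𝐭).eTruncLT.obj ⊤).obj X)).IsGE b :=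
      (𝐭).isGE_eTruncGE_obj_obj b _ le_rfl _
    exact isZero_HH_of_isGE S
      (((𝐭).eTruncGE.obj (b : EInt)).obj (((𝐭).eTruncLT.obj ⊤).obj X)) b n (by omega)⟩

/-- The spectral sequence of `RS` applied to truncations of `X`. -/
theorem exists_abutment (X : DerivedCategory.Plus C) (m : ℤ) [X.IsGE m] :
    ∃ a : SpSeq.Abutment (specObj S X).E₂SpectralSequence (fun n => (HH S n).obj X),
      ∀ n, a.IsFinite n :=
  SpecObj.exists_abutment (topIso S X) (isLowBounded S X m) (isHighBounded S X)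

theorem isBounded (X : DerivedCategory.Plus C) (m : ℤ) [X.IsGE m] :
    SpSeq.IsBounded (specObj S X).E₂SpectralSequence :=
  SpecObj.isBounded (isLowBounded S X m) (isHighBounded S X)

section Slices

variable (X : DerivedCategory.Plus C)

/-- The spectral object of cohomology of truncations. -/
noncomputable def cohObj : Abelian.SpectralObject C EInt :=
  SpecObj.mapHomological ((𝐭).spectralObject X) (DerivedCategory.Plus.homologyFunctor C 0)

omit [EnoughInjectives C] in
theorem isZero_cohObj_of_isLE (n : ℤ) (q : ℤ) (h : q ≤ n) :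
    IsZero (SpecObj.Hij (cohObj X) n (bot_le : ⊥ ≤ (q : EInt))) := by
  change IsZero ((DerivedCategory.Plus.homologyFunctor C n).obj
    (((𝐭).eTruncGE.obj ⊥).obj (((𝐭).eTruncLT.obj (q : EInt)).obj X)))
  have : (((𝐭).eTruncGE.obj ⊥).obj (((𝐭).eTruncLT.obj (q : EInt)).obj X)).IsLE (q - 1) := by
    have := (𝐭).isLE_eTruncLT_obj_obj (q - 1) (q : EInt) (by simp) X
    infer_instance
  exact DerivedCategory.Plus.isZero_homology_of_isLE _ (q - 1) n (by omega)

omit [EnoughInjectives C] in
theorem isZero_cohObj_of_isGE (n : ℤ) (q : ℤ) (h : n < q) :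
    IsZero (SpecObj.Hij (cohObj X) n (le_top : (q : EInt) ≤ ⊤)) := by
  change IsZero ((DerivedCategory.Plus.homologyFunctor C n).obj
    (((𝐭).eTruncGE.obj (q : EInt)).obj (((𝐭).eTruncLT.obj ⊤).obj X)))
  have : (((𝐭).eTruncGE.obj (q : EInt)).obj (((𝐭).eTruncLT.obj ⊤).obj X)).IsGE q :=
    (𝐭).isGE_eTruncGE_obj_obj q _ le_rfl _
  exact DerivedCategory.Plus.isZero_homology_of_isGE _ q n h

/-- The slice `τ_{[q, q+1)} X` has cohomology `H^q(X)` in degree `q`. -/
theorem nonempty_homology_slice (q : ℤ) :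
    Nonempty (SpecObj.Hij (cohObj X) q (SpecObj.coe_le_succ q) ≅
      (DerivedCategory.Plus.homologyFunctor C q).obj X) := by
  have h₁ := (cohObj X).isIso_H_map_twoδ₁Toδ₀' q (q + 1) rfl ⊥ (q : EInt) ((q + 1 : ℤ) : EInt)
    bot_le (SpecObj.coe_le_succ q) (isZero_cohObj_of_isLE X q q le_rfl)
    (isZero_cohObj_of_isLE X (q + 1) q (by omega))
  let φ := ((cohObj X).H q).map (twoδ₂Toδ₁ (homOfLE (bot_le : ⊥ ≤ ((q + 1 : ℤ) : EInt)))
      (homOfLE le_top) (homOfLE (bot_le : ⊥ ≤ (⊤ : EInt))) rfl)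
  have hm : Mono φ := ((cohObj X).exact₁ (homOfLE (bot_le : ⊥ ≤ ((q + 1 : ℤ) : EInt)))
      (homOfLE le_top) (homOfLE bot_le) rfl (q - 1) q (by omega)).mono_g
      ((isZero_cohObj_of_isGE X (q - 1) (q + 1) (by omega)).eq_of_src _ _)
  have he : Epi φ := ((cohObj X).exact₂ (homOfLE (bot_le : ⊥ ≤ ((q + 1 : ℤ) : EInt)))
      (homOfLE le_top) (homOfLE bot_le) rfl q).epi_f
      ((isZero_cohObj_of_isGE X q (q + 1) (by omega)).eq_of_tgt _ _)
  have h₂ : IsIso φ := isIso_of_mono_of_epi φ
  exact ⟨(asIso (((cohObj X).H q).map (twoδ₁Toδ₀' ⊥ (q : EInt) ((q + 1 : ℤ) : EInt)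
    bot_le (SpecObj.coe_le_succ q)))).symm ≪≫ @asIso _ _ _ _ φ h₂⟩

/-- The cohomology of a single object. -/
noncomputable def homologySingleIso (M : C) (q : ℤ) :
    (DerivedCategory.Plus.homologyFunctor C q).obj
      ((DerivedCategory.Plus.singleFunctor C q).obj M) ≅ M :=
  (DerivedCategory.homologyFunctor C q).mapIso
      ((DerivedCategory.singleFunctorIsoCompQ C q).app M) ≪≫
    (DerivedCategory.homologyFunctorFactors C q).app _ ≪≫
    HomologicalComplex.singleObjHomologySelfIso _ q M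

omit [EnoughInjectives C] in
theorem exists_iso_single (Y : DerivedCategory.Plus C) (q : ℤ) [Y.IsGE q] [Y.IsLE q] :
    Nonempty (Y ≅ (DerivedCategory.Plus.singleFunctor C q).obj
      ((DerivedCategory.Plus.homologyFunctor C q).obj Y)) := by
  obtain ⟨M, ⟨e⟩⟩ := DerivedCategory.exists_iso_singleFunctor_obj_of_isGE_of_isLE
    (DerivedCategory.Plus.ι.obj Y) q
  let e' : Y ≅ (DerivedCategory.Plus.singleFunctor C q).obj M :=
    DerivedCategory.Plus.ι.preimageIso e
  exact ⟨e' ≪≫ (DerivedCategory.Plus.singleFunctor C q).mapIso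
    ((DerivedCategory.Plus.homologyFunctor C q).mapIso e' ≪≫ homologySingleIso M q).symm⟩

/-- The slices of the spectral object. -/
theorem nonempty_slice_iso (n q : ℤ) :
    Nonempty (SpecObj.Hij (specObj S X) n (SpecObj.coe_le_succ q) ≅
      (HH S n).obj ((DerivedCategory.Plus.singleFunctor C q).obj
        ((DerivedCategory.Plus.homologyFunctor C q).obj X))) := by
  let Y := ((𝐭).eTruncGE.obj (q : EInt)).obj (((𝐭).eTruncLT.obj ((q + 1 : ℤ) : EInt)).obj X)
  have : Y.IsGE q := (𝐭).isGE_eTruncGE_obj_obj q _ le_rfl _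
  have : Y.IsLE q := by
    have := (𝐭).isLE_eTruncLT_obj_obj q ((q + 1 : ℤ) : EInt) le_rfl X
    dsimp only [Y]
    infer_instance
  obtain ⟨e⟩ := exists_iso_single Y q
  obtain ⟨e'⟩ := nonempty_homology_slice X q
  exact ⟨(HH S n).mapIso (e ≪≫ (DerivedCategory.Plus.singleFunctor C q).mapIso e')⟩

end Slices

end Groth.L17.GrothSS
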